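import Mathlib
import Cfsg.Agent.Lib.Grp.Coprime

/-!
Coprime action of an element of prime order on subgroups of an ambient finite group.
-/

set_option autoImplicit false

namespace Cfsg.Agent.Invol.Shult

open Subgroup
open scoped Pointwise commutatorElement
open Cfsg.Agent.Grp (IsSylowIn)

variable {X : Type*} [Group X] {a : X} {r : ℕ} {G H K N : Subgroup X}

/-- `a` has prime order `r`, normalizes `G` and has order prime to that of `G`. -/
structure Act (a : X) (r : ℕ) (G : Subgroup X) : Prop where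
  prime : r.Prime
  ord : orderOf a = r
  norm : a ∈ normalizer (G : Set X)
  cop : ¬ r ∣ Nat.card G

/-- The commutator part `[H, a]`. -/
def br (H : Subgroup X) (a : X) : Subgroup X := ⁅H, zpowers a⁆

/-- The fixed part `C_H(a)`. -/
def fx (H : Subgroup X) (a : X) : Subgroup X := H ⊓ centralizer ({a} : Set X)

theorem mem_fx {x : X} : x ∈ fx H a ↔ x ∈ H ∧ a * x = x * a := by
  rw [fx, Subgroup.mem_inf, Subgroup.mem_centralizer_singleton_iff]
  exact and_congr_right fun _ => eq_comm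

theorem mem_fx' {x : X} : x ∈ fx H a ↔ x ∈ H ∧ a * x * a⁻¹ = x := by
  rw [mem_fx, mul_inv_eq_iff_eq_mul]

theorem fx_le : fx H a ≤ H := inf_le_left

theorem fx_mono (h : H ≤ K) : fx H a ≤ fx K a := inf_le_inf_right _ h

theorem br_mono (h : H ≤ K) : br H a ≤ br K a := Subgroup.commutator_mono h le_rfl

theorem zpowers_le_norm (ha : a ∈ normalizer (H : Set X)) :
    zpowers a ≤ normalizer (H : Set X) := zpowers_le.mpr ha

theorem conj_mem (ha : a ∈ normalizer (H : Set X)) {x : X} (hx : x ∈ H) : a * x * a⁻¹ ∈ H :=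
  (mem_normalizer_iff.mp ha x).mp hx

theorem br_le (ha : a ∈ normalizer (H : Set X)) : br H a ≤ H :=
  Grp.commutator_le_left_of_le_normalizer (zpowers_le_norm ha)

theorem le_norm_br : H ≤ normalizer ((br H a : Subgroup X) : Set X) :=
  Grp.left_le_normalizer_commutator _ _

theorem norm_br : a ∈ normalizer ((br H a : Subgroup X) : Set X) :=
  Grp.right_le_normalizer_commutator _ _ (mem_zpowers a)

theorem fx_centralizer_eq : fx H a = H ⊓ centralizer ((zpowers a : Subgroup X) : Set X) := by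
  rw [fx, ← Subgroup.centralizer_closure ({a} : Set X), ← Subgroup.zpowers_eq_closure]

theorem br_eq_bot : br H a = ⊥ ↔ ∀ x ∈ H, a * x = x * a := by
  rw [br, Subgroup.commutator_eq_bot_iff_le_centralizer]
  constructor
  · exact fun h x hx => Subgroup.mem_centralizer_iff.mp (h hx) a (mem_zpowers a)
  · intro h x hx
    refine Subgroup.mem_centralizer_iff.mpr fun y hy => ?_
    obtain ⟨i, rfl⟩ := mem_zpowers_iff.mp hy
    exact ((show Commute a x from h x hx).zpow_left i).eq

theorem comm_mem_br {x : X} (hx : x ∈ H) : x * a * x⁻¹ * a⁻¹ ∈ br H a :=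
  Subgroup.commutator_mem_commutator hx (mem_zpowers a)

theorem conj_comm_mem_br {x : X} (hx : x ∈ H) : x⁻¹ * (a * x * a⁻¹) ∈ br H a := by
  have := comm_mem_br (a := a) (H.inv_mem hx)
  simpa [mul_assoc] using this

/-- `[H, a]` centralizes every normalized subgroup of fixed elements. -/
theorem br_le_centralizer (hHN : H ≤ normalizer (N : Set X)) (hN : ∀ x ∈ N, a * x = x * a) :
    br H a ≤ centralizer (N : Set X) := by
  rw [br, Subgroup.commutator_le]
  intro h hh y hy
  obtain ⟨i, rfl⟩ := mem_zpowers_iff.mp hy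
  refine Subgroup.mem_centralizer_iff.mpr fun n hn => ?_
  have hn' : h⁻¹ * n * h ∈ N := Grp.mem_conj_normalizer' (hHN hh) hn
  have h1 : Commute (a ^ i) (h⁻¹ * n * h) := (show Commute a _ from hN _ hn').zpow_left i
  have h2 : Commute (a ^ i) n := (show Commute a _ from hN _ hn).zpow_left i
  have h3 : Commute (h * a ^ i * h⁻¹) n := by
    have := h1.eq
    show h * a ^ i * h⁻¹ * n = n * (h * a ^ i * h⁻¹)
    calc h * a ^ i * h⁻¹ * n = h * (a ^ i * (h⁻¹ * n * h)) * h⁻¹ := by group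
      _ = h * ((h⁻¹ * n * h) * a ^ i) * h⁻¹ := by rw [this]
      _ = n * (h * a ^ i * h⁻¹) := by group
  exact ((h3.mul_left h2.inv_left).symm).eq

/-- A permutation of order dividing a prime fixes a point of a set of prime-to-it cardinality. -/
theorem exists_fixed_perm {α : Type*} [Finite α] {r : ℕ} (hr : r.Prime) (σ : Equiv.Perm α)
    (hσ : σ ^ r = 1) (hd : ¬ r ∣ Nat.card α) : ∃ x, σ x = x := by
  classical
  haveI := Fact.mk hr
  letI := Fintype.ofFinite α
  rw [Nat.card_eq_fintype_card] at hd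
  exact Equiv.Perm.exists_fixed_point_of_prime (n := 1) hd (by rw [pow_one]; exact hσ)

namespace Act

variable (h : Act a r G)
include h

theorem mono (hle : H ≤ G) (ha : a ∈ normalizer (H : Set X)) : Act a r H :=
  ⟨h.prime, h.ord, ha, fun hd => h.cop (hd.trans (Subgroup.card_dvd_of_le hle))⟩

theorem card_zpowers : Nat.card (zpowers a) = r := by rw [Nat.card_zpowers, h.ord]

theorem pow_r : a ^ r = 1 := by rw [← h.ord]; exact pow_orderOf_eq_one a

theorem coprime : (Nat.card (zpowers a)).Coprime (Nat.card G) := by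
  rw [h.card_zpowers]; exact h.prime.coprime_iff_not_dvd.mpr h.cop

theorem solvable : Group.IsSolvable (zpowers a) :=
  Group.isSolvable_of_comm fun x y => Std.Commutative.comm x y

theorem not_dvd_card (hle : H ≤ G) : ¬ r ∣ Nat.card H :=
  fun hd => h.cop (hd.trans (Subgroup.card_dvd_of_le hle))

/-- Every element is a product of a commutator element and a fixed one. -/
theorem exists_br_mul_fx [Finite X] {x : X} (hx : x ∈ G) : ∃ m ∈ br G a, ∃ c ∈ fx G a, x = m * c := by
  obtain ⟨m, hm, c, hc, e⟩ := Grp.exists_commutator_mul_fixed (zpowers a) G (zpowers_le_norm h.norm)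
    h.coprime (Or.inl h.solvable) hx
  exact ⟨m, hm, c, fx_centralizer_eq (H := G) ▸ hc, e⟩

theorem br_sup_fx [Finite X] : br G a ⊔ fx G a = G := by
  refine le_antisymm (sup_le (br_le h.norm) fx_le) fun x hx => ?_
  obtain ⟨m, hm, c, hc, rfl⟩ := h.exists_br_mul_fx hx
  exact Subgroup.mul_mem_sup hm hc

theorem br_br [Finite X] : br (br G a) a = br G a :=
  Grp.commutator_commutator_eq (zpowers a) G (zpowers_le_norm h.norm) h.coprime (Or.inl h.solvable)

/-- An action trivial on a normal fixed subgroup and on the factor is trivial. -/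
theorem br_eq_bot_of_series [Finite X] (h1 : br G a ≤ N) (h2 : ∀ x ∈ N, a * x = x * a) : br G a = ⊥ := by
  refine le_bot_iff.mp ?_
  have := br_mono (a := a) h1
  rwa [h.br_br, br_eq_bot.mpr h2] at this

/-- A subset of prime-to-`r` cardinality stable under `a` contains a fixed element. -/
theorem exists_fixed_mem [Finite X] (T : Set X) (hT : ∀ x ∈ T, a * x * a⁻¹ ∈ T)
    (hd : ¬ r ∣ Nat.card T) : ∃ x ∈ T, a * x = x * a := by
  have hiff : ∀ x, x ∈ T ↔ a * x * a⁻¹ ∈ T := fun x => by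
    refine ⟨hT x, fun hx => ?_⟩
    have key : ∀ n : ℕ, a ^ n * (a * x * a⁻¹) * (a ^ n)⁻¹ ∈ T := by
      intro n
      induction n with
      | zero => simpa using hx
      | succ n ih => convert hT _ ih using 1; rw [pow_succ']; group
    have h1 : a ^ (r - 1) * a = 1 := by
      rw [← pow_succ, Nat.sub_add_cancel h.prime.pos, h.pow_r]
    convert key (r - 1) using 1
    rw [show a ^ (r - 1) * (a * x * a⁻¹) * (a ^ (r - 1))⁻¹ = (a ^ (r - 1) * a) * x * (a ^ (r - 1) * a)⁻¹ by
      group, h1]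
    simp
  let σ : Equiv.Perm T := ((MulAut.conj a).toEquiv).subtypeEquiv fun x => hiff x
  have hpow : ∀ n : ℕ, ∀ x : T, ((σ ^ n) x : X) = a ^ n * x * (a ^ n)⁻¹ := by
    intro n
    induction n with
    | zero => simp
    | succ n ih =>
      intro x
      rw [pow_succ', Equiv.Perm.mul_apply]
      show a * ((σ ^ n) x : X) * a⁻¹ = _
      rw [ih, pow_succ']; group
  obtain ⟨⟨x, hx⟩, hfix⟩ := exists_fixed_perm h.prime σ
    (Equiv.ext fun x => Subtype.ext (by rw [hpow, h.pow_r]; simp)) hd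
  exact ⟨x, hx, mul_inv_eq_iff_eq_mul.mp (congrArg Subtype.val hfix)⟩

/-- Fixed elements conjugate in `G` are conjugate by a fixed element. -/
theorem conj_fixed [Finite X] {x y : X} (hx : a * x = x * a) (hy : a * y = y * a) {g : X} (hg : g ∈ G)
    (e : g * x * g⁻¹ = y) : ∃ c ∈ fx G a, c * x * c⁻¹ = y := by
  let S : Set X := {k | k ∈ G ∧ k * x * k⁻¹ = y}
  have hS : Nat.card S = Nat.card ↥(G ⊓ centralizer ({x} : Set X)) := by
    refine Nat.card_congr ((Equiv.mulLeft g⁻¹).subtypeEquiv fun k => ?_)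
    show k ∈ G ∧ k * x * k⁻¹ = y ↔ g⁻¹ * k ∈ G ⊓ centralizer ({x} : Set X)
    rw [Subgroup.mem_inf, Subgroup.mem_centralizer_singleton_iff]
    constructor
    · rintro ⟨hk, hk'⟩
      refine ⟨G.mul_mem (G.inv_mem hg) hk, ?_⟩
      calc g⁻¹ * k * x = g⁻¹ * (k * x * k⁻¹) * k := by group
        _ = g⁻¹ * (g * x * g⁻¹) * k := by rw [hk', e]
        _ = x * (g⁻¹ * k) := by group
    · rintro ⟨hk, hk'⟩
      refine ⟨by simpa using G.mul_mem hg hk, ?_⟩
      calc k * x * k⁻¹ = g * (g⁻¹ * k * x) * k⁻¹ := by group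
        _ = g * (x * (g⁻¹ * k)) * k⁻¹ := by rw [hk']
        _ = y := by rw [← e]; group
  obtain ⟨c, ⟨hc, hce⟩, hfix⟩ := h.exists_fixed_mem S (fun k hk => by
      refine ⟨conj_mem h.norm hk.1, ?_⟩
      have hx' : a * x * a⁻¹ = x := mul_inv_eq_iff_eq_mul.mpr hx
      have hy' : a * y * a⁻¹ = y := mul_inv_eq_iff_eq_mul.mpr hy
      calc a * k * a⁻¹ * x * (a * k * a⁻¹)⁻¹ = a * k * a⁻¹ * (a * x * a⁻¹) * (a * k * a⁻¹)⁻¹ := by rw [hx']
        _ = a * (k * x * k⁻¹) * a⁻¹ := by group
        _ = y := by rw [hk.2, hy'])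
    (hS ▸ h.not_dvd_card inf_le_left)
  exact ⟨c, mem_fx.mpr ⟨hc, hfix⟩, hce⟩

/-- Fixed representatives of fixed cosets. -/
theorem exists_fixed_coset [Finite X] (hN : N ≤ G) (hNa : a ∈ normalizer (N : Set X)) {x : X}
    (hxG : x ∈ G) (hx : x⁻¹ * (a * x * a⁻¹) ∈ N) : ∃ n ∈ N, a * (x * n) = (x * n) * a := by
  obtain ⟨y, hy, hfix⟩ := h.exists_fixed_mem {y | x⁻¹ * y ∈ N} (fun y hy => by
      show x⁻¹ * (a * y * a⁻¹) ∈ N
      have := N.mul_mem hx (conj_mem hNa hy)
      convert this using 1; group)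
    (by
      rw [show Nat.card {y | x⁻¹ * y ∈ N} = Nat.card N from
        Nat.card_congr ((Equiv.mulLeft x⁻¹).subtypeEquiv fun y => Iff.rfl)]
      exact h.not_dvd_card hN)
  exact ⟨x⁻¹ * y, hy, by rwa [mul_inv_cancel_left]⟩

theorem exists_sylow [Finite X] {q : ℕ} [Fact q.Prime] {U : Subgroup X} (hU : U ≤ G) (hUq : IsPGroup q U)
    (hUa : a ∈ normalizer (U : Set X)) :
    ∃ S, IsSylowIn q S G ∧ a ∈ normalizer (S : Set X) ∧ U ≤ S := by
  obtain ⟨S, h1, h2, h3⟩ := Grp.exists_invariant_sylow_ge (zpowers a) G (zpowers_le_norm h.norm) h.coprime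
    (Or.inl h.solvable) hU hUq (zpowers_le_norm hUa)
  exact ⟨S, h1, h2 (mem_zpowers a), h3⟩

theorem sylow_conj [Finite X] {q : ℕ} [Fact q.Prime] {S T : Subgroup X} (hS : IsSylowIn q S G)
    (hT : IsSylowIn q T G) (hSa : a ∈ normalizer (S : Set X)) (hTa : a ∈ normalizer (T : Set X)) :
    ∃ c ∈ fx G a, MulAut.conj c • S = T := by
  obtain ⟨c, hc, e⟩ := Grp.invariant_sylow_conj (zpowers a) G (zpowers_le_norm h.norm) h.coprime
    (Or.inl h.solvable) hS hT (zpowers_le_norm hSa) (zpowers_le_norm hTa)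
  exact ⟨c, fx_centralizer_eq (H := G) ▸ hc, e⟩

end Act

theorem br_smul_of_fixed {c : X} (hc : a * c = c * a) : MulAut.conj c • br H a = br (MulAut.conj c • H) a := by
  have hz : MulAut.conj c • zpowers a = zpowers a := by
    show (zpowers a).map (MulAut.conj c).toMonoidHom = zpowers a
    rw [MonoidHom.map_zpowers]
    congr 1
    show c * a * c⁻¹ = a
    rw [← hc, mul_inv_cancel_right]
  show ((⁅H, zpowers a⁆ : Subgroup X)).map (MulAut.conj c).toMonoidHom = _
  rw [Subgroup.map_commutator]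
  show ⁅MulAut.conj c • H, MulAut.conj c • zpowers a⁆ = _
  rw [hz]
  rfl

theorem fx_eq_self_iff : fx H a = H ↔ br H a = ⊥ := by
  rw [br_eq_bot]
  exact ⟨fun h x hx => (mem_fx.mp (h.symm ▸ hx)).2, fun h => le_antisymm fx_le fun x hx => mem_fx.mpr ⟨hx, h x hx⟩⟩

end Cfsg.Agent.Invol.Shult
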