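import Mathlib
import Cfsg.Prelude.Def_Transfer
import Cfsg.Agent.Lib.Grp.CoprimeAbelian
import Cfsg.Agent.Lib.Invol.Shult.Basic

/-!
An element of prime order without fixed points on a module: abelian groups of order prime to the
characteristic normalized by it have their commutator part acting trivially.
-/

set_option autoImplicit false

namespace Cfsg.Agent.Invol.Shult

open Subgroup
open scoped Pointwise commutatorElement

variable {X : Type*} [Group X] {a : X} {p r : ℕ} {G H V W : Subgroup X}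

/-- `G` and the element `a` normalize an elementary abelian `p`-group `V` on which `a` fixes only `1`. -/
structure Cfg (p r : ℕ) (a : X) (G V : Subgroup X) : Prop where
  act : Act a r G
  elem : Cfsg.IsElementaryAbelian p V
  normG : G ≤ normalizer (V : Set X)
  norma : a ∈ normalizer (V : Set X)
  fpf : ∀ v ∈ V, a * v = v * a → v = 1

namespace Cfg

variable (h : Cfg p r a G V)
include h

theorem comm {v w : X} (hv : v ∈ V) (hw : w ∈ V) : v * w = w * v :=
  congrArg Subtype.val (h.elem.1.is_comm.comm ⟨v, hv⟩ ⟨w, hw⟩)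

theorem pow_p {v : X} (hv : v ∈ V) : v ^ p = 1 := h.elem.2 v hv

theorem isPGroup : IsPGroup p V := fun v => ⟨1, Subtype.ext (by simpa using h.pow_p v.2)⟩

theorem restrictG (hle : H ≤ G) (ha : a ∈ normalizer (H : Set X)) : Cfg p r a H V :=
  ⟨h.act.mono hle ha, h.elem, hle.trans h.normG, h.norma, h.fpf⟩

theorem restrictV (hle : W ≤ V) (hG : G ≤ normalizer (W : Set X)) (ha : a ∈ normalizer (W : Set X)) :
    Cfg p r a G W :=
  ⟨h.act, ⟨⟨⟨fun x y => Subtype.ext (h.comm (hle x.2) (hle y.2))⟩⟩, fun v hv => h.pow_p (hle hv)⟩,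
    hG, ha, fun v hv => h.fpf v (hle hv)⟩

theorem r_ne_p [Finite X] [hp : Fact p.Prime] (hV : V ≠ ⊥) : r ≠ p := by
  intro e
  subst e
  haveI : Nonempty V := ⟨1⟩
  obtain ⟨n, hn⟩ := IsPGroup.iff_card.mp h.isPGroup
  have hn0 : n ≠ 0 := fun h0 => hV (Subgroup.card_eq_one.mp (by rw [hn, h0, pow_zero]))
  classical
  let σ : Equiv.Perm V := ((MulAut.conj a).toEquiv).subtypeEquiv fun v => Subgroup.mem_normalizer_iff.mp h.norma v
  have hpow : ∀ i : ℕ, ∀ v : V, ((σ ^ i) v : X) = a ^ i * v * (a ^ i)⁻¹ := by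
    intro i
    induction i with
    | zero => simp
    | succ i ih =>
      intro v
      rw [pow_succ', Equiv.Perm.mul_apply]
      show a * ((σ ^ i) v : X) * a⁻¹ = _
      rw [ih, pow_succ']; group
  have hσ : σ ^ r = 1 := Equiv.ext fun v => Subtype.ext (by rw [hpow, h.act.pow_r]; simp)
  letI := Fintype.ofFinite V
  have hd : r ∣ Fintype.card V := by rw [← Nat.card_eq_fintype_card, hn]; exact dvd_pow_self r hn0
  obtain ⟨v, hv, hv1⟩ := Equiv.Perm.exists_fixed_point_of_prime' (p := r) (n := 1) hd (σ := σ)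
    (by rw [pow_one]; exact hσ) (a := (1 : V)) (Subtype.ext (by show a * 1 * a⁻¹ = _; simp))
  exact hv1 (Subtype.ext (h.fpf v v.2 (mul_inv_eq_iff_eq_mul.mp (congrArg Subtype.val hv))))

/-- An abelian subgroup of order prime to `p` has its commutator part centralizing the module. -/
theorem abelian_le_centralizer [Finite X] [hp : Fact p.Prime] (hH : H ≤ G)
    (hHa : a ∈ normalizer (H : Set X)) (hab : ∀ x ∈ H, ∀ y ∈ H, x * y = y * x)
    (hcop : ¬ p ∣ Nat.card H) : br H a ≤ centralizer (V : Set X) := by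
  classical
  haveI := Fact.mk h.act.prime
  set A := br H a with hA
  have hAH : A ≤ H := br_le hHa
  have hAa : a ∈ normalizer (A : Set X) := norm_br
  have hAV : A ≤ normalizer (V : Set X) := (hAH.trans hH).trans h.normG
  haveI : IsMulCommutative H := ⟨⟨fun x y => Subtype.ext (hab x x.2 y y.2)⟩⟩
  have hfree : ∀ i : ℕ, ¬ r ∣ i → ∀ x ∈ A, a ^ i * x * (a ^ i)⁻¹ = x → x = 1 := by
    intro i hi x hx he
    have hz : zpowers (a ^ i) = zpowers a := by
      refine Subgroup.eq_of_le_of_card_ge (zpowers_le.mpr (Subgroup.pow_mem _ (mem_zpowers a) i)) ?_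
      rw [Nat.card_zpowers, Nat.card_zpowers, orderOf_pow, h.act.ord,
        (h.act.prime.coprime_iff_not_dvd.mpr hi).gcd_eq_one, Nat.div_one]
    have hc : a ∈ centralizer ({x} : Set X) := by
      have h1 : a ^ i ∈ centralizer ({x} : Set X) :=
        Subgroup.mem_centralizer_singleton_iff.mpr (mul_inv_eq_iff_eq_mul.mp he)
      exact zpowers_le.mpr h1 (hz ▸ mem_zpowers a)
    have hbot := Grp.abelian_commutator_inf_fixed (zpowers a) H (zpowers_le_norm hHa)
      (by rw [h.act.card_zpowers]; exact h.act.prime.coprime_iff_not_dvd.mpr (h.act.not_dvd_card hH))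
    have hx' : x ∈ (H ⊓ centralizer ((zpowers a : Subgroup X) : Set X)) ⊓ ⁅H, zpowers a⁆ := by
      refine ⟨fx_centralizer_eq (H := H) ▸ mem_fx.mpr ⟨hAH hx, ?_⟩, hx⟩
      exact Subgroup.mem_centralizer_singleton_iff.mp hc
    rw [hbot] at hx'
    exact hx'
  intro y₀ hy₀
  refine Subgroup.mem_centralizer_iff.mpr fun v₀ hv₀ => ?_
  letI := Fintype.ofFinite A
  letI : CommGroup V := { (inferInstance : Group V) with mul_comm := fun x y => Subtype.ext (h.comm x.2 y.2) }
  have hmemN : ∀ z : A, (z : X) ∈ normalizer (V : Set X) := fun z => hAV z.2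
  have hapow : ∀ i : ℕ, a ^ i ∈ normalizer (V : Set X) := fun i => Subgroup.pow_mem _ h.norma i
  let κ : ↥(normalizer (V : Set X)) → V →* V := fun g =>
    { toFun := fun v => ⟨g * v * (g : X)⁻¹, (Subgroup.mem_normalizer_iff.mp g.2 v).mp v.2⟩
      map_one' := Subtype.ext (by simp)
      map_mul' := fun x y => Subtype.ext (by simp [mul_assoc]) }
  have κval : ∀ g v, ((κ g v : V) : X) = g * v * (g : X)⁻¹ := fun g v => rfl
  let cA : A → V →* V := fun z => κ ⟨z, hmemN z⟩
  let ca : ℕ → V →* V := fun i => κ ⟨a ^ i, hapow i⟩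
  have horb : ∀ w : V, ∏ i ∈ Finset.range r, ca i w = 1 := by
    intro w
    refine Subtype.ext (h.fpf _ (∏ i ∈ Finset.range r, ca i w).2 ?_)
    have h1 : κ ⟨a ^ 1, hapow 1⟩ (∏ i ∈ Finset.range r, ca i w) = ∏ i ∈ Finset.range r, ca i w := by
      rw [map_prod]
      have e : ∀ i, κ ⟨a ^ 1, hapow 1⟩ (ca i w) = ca (i + 1) w := fun i =>
        Subtype.ext (by simp only [ca, κval, pow_succ']; group)
      simp only [e]
      obtain ⟨q, hq⟩ : ∃ q, r = q + 1 := ⟨r - 1, (Nat.sub_add_cancel h.act.prime.pos).symm⟩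
      rw [hq, Finset.prod_range_succ, Finset.prod_range_succ' (fun i => ca i w)]
      congr 1
      refine Subtype.ext ?_
      simp only [ca, κval, ← hq, h.act.pow_r, pow_zero]
    have h2 := congrArg Subtype.val h1
    rw [κval] at h2
    simp only [pow_one] at h2
    exact mul_inv_eq_iff_eq_mul.mp h2
  have hT : ∀ v : V, ∏ z : A, cA z v = v ^ Nat.card A := by
    intro v
    have h1 : ∏ i ∈ Finset.range r, ∏ y : A, cA y (ca i (cA y⁻¹ v)) = 1 := by
      rw [Finset.prod_comm]
      refine Finset.prod_eq_one fun y _ => ?_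
      rw [← map_prod, horb, map_one]
    have h2 : ∀ i ∈ Finset.range r, i ≠ 0 →
        ∏ y : A, cA y (ca i (cA y⁻¹ v)) = ∏ z : A, cA z (ca i v) := by
      intro i hi hi0
      have hir : ¬ r ∣ i := fun hd => hi0 (Nat.eq_zero_of_dvd_of_lt hd (Finset.mem_range.mp hi))
      let τ : A → A := fun y => y * ⟨a ^ i * (y : X)⁻¹ * (a ^ i)⁻¹,
        (Subgroup.mem_normalizer_iff.mp (Subgroup.pow_mem _ hAa i) _).mp (A.inv_mem y.2)⟩
      have hτ : Function.Injective τ := by
        intro y z e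
        have e' : (y : X) * (a ^ i * (y : X)⁻¹ * (a ^ i)⁻¹) = (z : X) * (a ^ i * (z : X)⁻¹ * (a ^ i)⁻¹) :=
          congrArg Subtype.val e
        have hfix : a ^ i * ((z : X)⁻¹ * y) * (a ^ i)⁻¹ = (z : X)⁻¹ * y := by
          calc a ^ i * ((z : X)⁻¹ * y) * (a ^ i)⁻¹
              = (z : X)⁻¹ * ((z : X) * (a ^ i * (z : X)⁻¹ * (a ^ i)⁻¹)) * (a ^ i * (y : X) * (a ^ i)⁻¹) := by group
            _ = (z : X)⁻¹ * y := by rw [← e']; group
        exact Subtype.ext (inv_mul_eq_one.mp (hfree i hir _ (A.mul_mem (A.inv_mem z.2) y.2) hfix)).symm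
      refine Fintype.prod_bijective τ ((Finite.injective_iff_bijective).mp hτ) _ _ fun y => Subtype.ext ?_
      simp only [cA, ca, κval, τ, Subgroup.coe_mul, Subgroup.coe_inv]
      group
    rw [← Finset.mul_prod_erase _ _ (Finset.mem_range.mpr h.act.prime.pos),
      Finset.prod_congr rfl fun i hi => h2 i (Finset.mem_of_mem_erase hi) (Finset.ne_of_mem_erase hi),
      Finset.prod_comm] at h1
    have h3 : ∀ z : A, ∏ i ∈ (Finset.range r).erase 0, cA z (ca i v) = (cA z v)⁻¹ := by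
      intro z
      have := horb v
      rw [← Finset.mul_prod_erase _ _ (Finset.mem_range.mpr h.act.prime.pos)] at this
      have h0 : ca 0 v = v := Subtype.ext (by simp [ca, κval])
      rw [h0] at this
      rw [← map_prod, eq_inv_of_mul_eq_one_right this, map_inv]
    have h4 : ∀ y : A, cA y (ca 0 (cA y⁻¹ v)) = v := fun y => Subtype.ext (by
      simp only [cA, ca, κval, pow_zero, Subgroup.coe_inv]; group)
    simp only [h3, h4, Finset.prod_inv_distrib, Finset.prod_const, Finset.card_univ,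
      mul_inv_eq_one] at h1
    rw [← h1, Nat.card_eq_fintype_card]
  have hinv : ∀ v : V, cA ⟨y₀, hy₀⟩ (∏ z : A, cA z v) = ∏ z : A, cA z v := by
    intro v
    rw [map_prod]
    refine Fintype.prod_equiv (Equiv.mulLeft (⟨y₀, hy₀⟩ : A)) _ _ fun z => Subtype.ext ?_
    simp only [cA, κval, Equiv.coe_mulLeft, Subgroup.coe_mul]; group
  have key := hinv ⟨v₀, hv₀⟩
  rw [hT, map_pow] at key
  have hdvd : ¬ p ∣ Nat.card A := fun hd => hcop (hd.trans (Subgroup.card_dvd_of_le hAH))
  have hone : (cA ⟨y₀, hy₀⟩ ⟨v₀, hv₀⟩ * (⟨v₀, hv₀⟩ : V)⁻¹) ^ Nat.card A = 1 := by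
    rw [mul_pow, key, inv_pow, mul_inv_cancel]
  have hpv : (cA ⟨y₀, hy₀⟩ ⟨v₀, hv₀⟩ * (⟨v₀, hv₀⟩ : V)⁻¹) ^ p = 1 :=
    Subtype.ext (by rw [Subgroup.coe_pow]; exact h.pow_p (Subtype.coe_prop _))
  have h5 := pow_gcd_eq_one.mpr ⟨hpv, hone⟩
  rw [(hp.out.coprime_iff_not_dvd.mpr hdvd).gcd_eq_one, pow_one, mul_inv_eq_one] at h5
  have h6 := congrArg Subtype.val h5
  simp only [cA, κval] at h6
  exact (mul_inv_eq_iff_eq_mul.mp h6).symm

end Cfg

end Cfsg.Agent.Invol.Shult
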