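import Mathlib
import Cfsg.Agent.Lib.Grp.Frattini
import Cfsg.Agent.Lib.Invol.Shult.Fpf

/-!
Prime power groups `E = [E, a]` acting faithfully on a module without `a`-fixed points: class two,
`E' = Z(E) = C_E(a)` elementary abelian and `E / E'` elementary abelian.
-/

set_option autoImplicit false

namespace Cfsg.Agent.Invol.Shult

open Subgroup
open scoped Pointwise commutatorElement

variable {X : Type*} [Group X] {a : X} {p q r : ℕ} {G V E : Subgroup X}

/-- Commutator calculus when commutators of `E` are central in `E`. -/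
theorem comm_mul_right_of_central {x y z : X} (h : ⁅x, z⁆ * y = y * ⁅x, z⁆) :
    ⁅x, y * z⁆ = ⁅x, y⁆ * ⁅x, z⁆ := by
  rw [commutatorElement_mul_right_eq_mul_conj, mul_assoc _ y _, ← h, mul_assoc, mul_inv_cancel_right]

theorem comm_mul_left_of_central {x y z : X} (h : ⁅y, z⁆ * x = x * ⁅y, z⁆) :
    ⁅x * y, z⁆ = ⁅y, z⁆ * ⁅x, z⁆ := by
  rw [commutatorElement_mul_left_eq_conj_mul, ← h, mul_inv_cancel_right]

/-- A `q`-group `E = [E, a]` in `G` with `G` faithful on the module. -/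
structure QGrp (p q r : ℕ) (a : X) (G V E : Subgroup X) : Prop where
  cfg : Cfg p r a G V
  faith : G ⊓ centralizer (V : Set X) = ⊥
  le : E ≤ G
  norm : a ∈ normalizer (E : Set X)
  isQ : IsPGroup q E
  ne : q ≠ p
  brE : br E a = E

theorem Cfg.abelian_fixed [Finite X] [Fact p.Prime] (h : Cfg p r a G V)
    (hf : G ⊓ centralizer (V : Set X) = ⊥) {H : Subgroup X} (hH : H ≤ G)
    (hHa : a ∈ normalizer (H : Set X)) (hab : ∀ x ∈ H, ∀ y ∈ H, x * y = y * x)
    (hcop : ¬ p ∣ Nat.card H) : ∀ x ∈ H, a * x = x * a :=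
  br_eq_bot.mp (le_bot_iff.mp (hf ▸ le_inf ((br_le hHa).trans hH) (h.abelian_le_centralizer hH hHa hab hcop)))

theorem not_dvd_card_of_isPGroup [Finite X] [hp : Fact p.Prime] [hq : Fact q.Prime] {H : Subgroup X}
    (hH : IsPGroup q H) (hne : q ≠ p) : ¬ p ∣ Nat.card H := by
  obtain ⟨n, hn⟩ := IsPGroup.iff_card.mp hH
  rw [hn]
  exact fun hd => hne ((Nat.prime_dvd_prime_iff_eq hp.out hq.out).mp (hp.out.dvd_of_dvd_pow hd)).symm

namespace QGrp

variable (h : QGrp p q r a G V E)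
include h

theorem act : Act a r E := h.cfg.act.mono h.le h.norm

/-- A normal abelian `a`-invariant subgroup of `E` is fixed and central. -/
theorem le_fixed_center [Finite X] [Fact p.Prime] [Fact q.Prime] {M : Subgroup X} (hM : M ≤ E)
    (hEM : E ≤ normalizer (M : Set X)) (haM : a ∈ normalizer (M : Set X))
    (hab : ∀ x ∈ M, ∀ y ∈ M, x * y = y * x) : M ≤ fx E a ⊓ centralizer (E : Set X) := by
  have hfix := h.cfg.abelian_fixed h.faith (hM.trans h.le) haM hab
    (not_dvd_card_of_isPGroup (h.isQ.to_le hM) h.ne)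
  have hc : E ≤ centralizer (M : Set X) := h.brE.ge.trans (br_le_centralizer hEM hfix)
  exact le_inf (fun x hx => mem_fx.mpr ⟨hM hx, hfix x hx⟩) (Subgroup.le_centralizer_iff.mp hc)

theorem center_le_fixed [Finite X] [Fact p.Prime] [Fact q.Prime] :
    E ⊓ centralizer (E : Set X) ≤ fx E a := by
  refine (h.le_fixed_center inf_le_left ?_ ?_ ?_).trans inf_le_left
  · intro g hg
    refine Subgroup.mem_normalizer_iff.mpr fun x => ?_
    constructor
    · rintro ⟨hx, hc⟩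
      have e : g * x * g⁻¹ = x := by rw [Subgroup.mem_centralizer_iff.mp hc g hg, mul_inv_cancel_right]
      rw [e]; exact ⟨hx, hc⟩
    · rintro ⟨hx, hc⟩
      have e : g⁻¹ * (g * x * g⁻¹) * g = g * x * g⁻¹ := by
        rw [Subgroup.mem_centralizer_iff.mp hc g⁻¹ (E.inv_mem hg), inv_mul_cancel_right]
      have e' : x = g * x * g⁻¹ := by rw [← e]; group
      rw [e']; exact ⟨hx, hc⟩
  · have hEn := mem_normalizer_iff.mp h.norm
    refine Subgroup.mem_normalizer_iff.mpr fun x => and_congr (hEn x) ?_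
    simp only [SetLike.mem_coe, Subgroup.mem_centralizer_iff]
    constructor
    · intro hx y hy
      have hy' : a⁻¹ * y * a ∈ E := (hEn _).mpr (by simpa [mul_assoc] using hy)
      calc y * (a * x * a⁻¹) = a * ((a⁻¹ * y * a) * x) * a⁻¹ := by group
        _ = a * (x * (a⁻¹ * y * a)) * a⁻¹ := by rw [hx _ hy']
        _ = a * x * a⁻¹ * y := by group
    · intro hx y hy
      calc y * x = a⁻¹ * ((a * y * a⁻¹) * (a * x * a⁻¹)) * a := by group
        _ = a⁻¹ * ((a * x * a⁻¹) * (a * y * a⁻¹)) * a := by rw [hx _ ((hEn y).mp hy)]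
        _ = x * y := by group
  · intro x hx y hy
    exact (Subgroup.mem_centralizer_iff.mp hy.2 x hx.1)

/-- `E` has class at most two. -/
theorem comm_central [Finite X] [Fact p.Prime] [hq : Fact q.Prime] :
    ⁅E, E⁆ ≤ E ⊓ centralizer (E : Set X) := by
  have hle : ⁅E, E⁆ ≤ E := Subgroup.commutator_le_self E
  refine le_inf hle fun d hd => ?_
  haveI : Group.IsNilpotent E := h.isQ.isNilpotent
  set D : Subgroup ↥E := commutator ↥E with hD
  set Z : Subgroup ↥E := Subgroup.center ↥E with hZ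
  by_contra hne
  have hDZ : ¬ D ≤ Z := by
    intro hle'
    refine hne (Subgroup.mem_centralizer_iff.mpr fun y hy => ?_)
    have hmem : (⟨d, hle hd⟩ : ↥E) ∈ D := by
      rw [← Subgroup.map_subtype_commutator E] at hd
      obtain ⟨d', hd', rfl⟩ := hd
      exact hd'
    exact congrArg Subtype.val (Subgroup.mem_center_iff.mp (hle' hmem) ⟨y, hy⟩)
  haveI : (D.map (QuotientGroup.mk' Z)).Normal :=
    Subgroup.Normal.map inferInstance _ (QuotientGroup.mk'_surjective Z)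
  have hne' : D.map (QuotientGroup.mk' Z) ≠ ⊥ := by
    rwa [ne_eq, Subgroup.map_eq_bot_iff, QuotientGroup.ker_mk']
  obtain ⟨xbar, hx, hx1⟩ := Subgroup.bot_or_exists_ne_one _ |>.resolve_left
    (Grp.inf_center_ne_bot (D.map (QuotientGroup.mk' Z)) hne')
  obtain ⟨⟨⟨x, hxE⟩, hxD, rfl⟩, hxc⟩ := hx
  have hZ2 : ∀ y : ↥E, ⁅(⟨x, hxE⟩ : ↥E), y⁆ ∈ Z := by
    intro y
    rw [← QuotientGroup.eq_one_iff (N := Z)]
    show QuotientGroup.mk' Z ⁅(⟨x, hxE⟩ : ↥E), y⁆ = 1
    rw [map_commutatorElement, commutatorElement_eq_one_iff_mul_comm]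
    exact (Subgroup.mem_center_iff.mp hxc _).symm
  let M : Subgroup X :=
    { carrier := {w | ∃ hw : w ∈ E, (⟨w, hw⟩ : ↥E) ∈ D ∧ ∀ y : ↥E, ⁅(⟨w, hw⟩ : ↥E), y⁆ ∈ Z}
      one_mem' := ⟨E.one_mem, D.one_mem, fun y => by
        show ⁅(1 : ↥E), y⁆ ∈ Z
        rw [commutatorElement_one_left]; exact Z.one_mem⟩
      mul_mem' := by
        rintro u w ⟨hu, hu1, hu2⟩ ⟨hw, hw1, hw2⟩
        refine ⟨E.mul_mem hu hw, D.mul_mem hu1 hw1, fun y => ?_⟩
        show ⁅(⟨u, hu⟩ * ⟨w, hw⟩ : ↥E), y⁆ ∈ Z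
        rw [comm_mul_left_of_central (Subgroup.mem_center_iff.mp (hw2 y) _).symm]
        exact Z.mul_mem (hw2 y) (hu2 y)
      inv_mem' := by
        rintro u ⟨hu, hu1, hu2⟩
        refine ⟨E.inv_mem hu, D.inv_mem hu1, fun y => ?_⟩
        show ⁅(⟨u, hu⟩ : ↥E)⁻¹, y⁆ ∈ Z
        rw [commutatorElement_inv_left]
        have h1 : ⁅y, (⟨u, hu⟩ : ↥E)⁆ ∈ Z := by rw [← commutatorElement_inv]; exact Z.inv_mem (hu2 y)
        simpa using Subgroup.Normal.conj_mem inferInstance _ h1 (⟨u, hu⟩ : ↥E)⁻¹ }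
  have hME : M ≤ E := fun w ⟨hw, _⟩ => hw
  have hab : ∀ u ∈ M, ∀ w ∈ M, u * w = w * u := by
    rintro u ⟨hu, -, hu2⟩ w ⟨hw, hw1, -⟩
    have h2 : ∀ y z : ↥E, ⁅(⟨u, hu⟩ : ↥E), y⁆ * z = z * ⁅(⟨u, hu⟩ : ↥E), y⁆ :=
      fun y z => (Subgroup.mem_center_iff.mp (hu2 y) z).symm
    let φ : ↥E →* ↥Z :=
      { toFun := fun y => ⟨⁅(⟨u, hu⟩ : ↥E), y⁆, hu2 y⟩
        map_one' := Subtype.ext (commutatorElement_one_right _)
        map_mul' := fun y z => Subtype.ext (comm_mul_right_of_central (h2 z y)) }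
    have hker : D ≤ φ.ker := by
      rw [hD, _root_.commutator_def, Subgroup.commutator_le]
      intro y _ z _
      rw [MonoidHom.mem_ker, map_commutatorElement, commutatorElement_eq_one_iff_mul_comm]
      exact Subtype.ext ((Subgroup.mem_center_iff.mp (φ z).2 (φ y : ↥E)))
    have := congrArg Subtype.val (MonoidHom.mem_ker.mp (hker hw1))
    exact congrArg Subtype.val (commutatorElement_eq_one_iff_mul_comm.mp this)
  have hconj : ∀ g : X, (∀ y, y ∈ E ↔ g * y * g⁻¹ ∈ E) → g ∈ normalizer (M : Set X) := by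
    intro g hg
    let φ : ↥E ≃* ↥E :=
      { toFun := fun y => ⟨g * y * g⁻¹, (hg y).mp y.2⟩
        invFun := fun y => ⟨g⁻¹ * y * g, (hg _).mpr (by simpa [mul_assoc] using y.2)⟩
        left_inv := fun y => Subtype.ext (by simp [mul_assoc])
        right_inv := fun y => Subtype.ext (by simp [mul_assoc])
        map_mul' := fun y z => Subtype.ext (by simp [mul_assoc]) }
    have hDφ : ∀ y : ↥E, y ∈ D ↔ φ y ∈ D := fun y =>
      Iff.of_eq (congrArg (fun K : Subgroup ↥E => y ∈ K)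
        (show D.comap φ.toMonoidHom = D from Subgroup.characteristic_iff_comap_eq.mp inferInstance φ).symm)
    have hZφ : ∀ y : ↥E, y ∈ Z ↔ φ y ∈ Z := fun y =>
      Iff.of_eq (congrArg (fun K : Subgroup ↥E => y ∈ K)
        (show Z.comap φ.toMonoidHom = Z from Subgroup.characteristic_iff_comap_eq.mp inferInstance φ).symm)
    refine Subgroup.mem_normalizer_iff.mpr fun w => ?_
    constructor
    · rintro ⟨hw, hw1, hw2⟩
      refine ⟨(hg w).mp hw, (hDφ ⟨w, hw⟩).mp hw1, fun y => ?_⟩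
      have := (hZφ _).mp (hw2 (φ.symm y))
      rwa [map_commutatorElement, MulEquiv.apply_symm_apply] at this
    · rintro ⟨hw, hw1, hw2⟩
      refine ⟨(hg w).mpr hw, (hDφ ⟨w, (hg w).mpr hw⟩).mpr hw1, fun y => (hZφ _).mpr ?_⟩
      rw [map_commutatorElement]; exact hw2 (φ y)
  have hM : M ≤ E ⊓ centralizer (E : Set X) := by
    refine le_inf hME ((h.le_fixed_center hME (fun g hg => hconj g fun y => ?_) (hconj a (mem_normalizer_iff.mp h.norm)) hab).trans inf_le_right)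
    exact ⟨fun hy => E.mul_mem (E.mul_mem hg hy) (E.inv_mem hg),
      fun hy => by simpa [mul_assoc] using E.mul_mem (E.mul_mem (E.inv_mem hg) hy) hg⟩
  refine hx1 ((QuotientGroup.eq_one_iff _).mpr (Subgroup.mem_center_iff.mpr fun y => Subtype.ext ?_))
  exact Subgroup.mem_centralizer_iff.mp (hM ⟨hxE, hxD, hZ2⟩).2 y y.2

theorem comm_le_fixed [Finite X] [Fact p.Prime] [Fact q.Prime] : ⁅E, E⁆ ≤ fx E a :=
  h.comm_central.trans h.center_le_fixed

/-- The fixed points lie in the derived subgroup. -/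
theorem fixed_le_comm [Finite X] : fx E a ≤ ⁅E, E⁆ := by
  intro c hc
  rw [mem_fx'] at hc
  obtain ⟨hcE, hca⟩ := hc
  let φ : ↥E ≃* ↥E :=
    { toFun := fun y => ⟨a * y * a⁻¹, conj_mem h.norm y.2⟩
      invFun := fun y => ⟨a⁻¹ * y * a, (Subgroup.mem_normalizer_iff.mp h.norm _).mpr (by simpa [mul_assoc] using y.2)⟩
      left_inv := fun y => Subtype.ext (by simp [mul_assoc])
      right_inv := fun y => Subtype.ext (by simp [mul_assoc])
      map_mul' := fun y z => Subtype.ext (by simp [mul_assoc]) }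
  let π : ↥E →* Abelianization ↥E := Abelianization.of
  let θ : ↥E →* Abelianization ↥E := ∏ i ∈ Finset.range r, π.comp ((φ ^ i : MulAut ↥E).toMonoidHom)
  have hθ : ∀ y, θ y = ∏ i ∈ Finset.range r, π ((φ ^ i : MulAut ↥E) y) := fun y =>
    MonoidHom.finsetProd_apply _ _ y
  have hpow : ∀ i : ℕ, ∀ y : ↥E, (((φ ^ i : MulAut ↥E) y : ↥E) : X) = a ^ i * y * (a ^ i)⁻¹ := by
    intro i
    induction i with
    | zero => intro y; simp
    | succ i ih =>
      intro y
      rw [pow_succ', MulAut.mul_apply]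
      show a * (((φ ^ i : MulAut ↥E) y : ↥E) : X) * a⁻¹ = _
      rw [ih, pow_succ']; group
  have hinv : ∀ y, θ (φ y) = θ y := by
    intro y
    simp only [hθ]
    obtain ⟨s, hs⟩ : ∃ s, r = s + 1 := ⟨r - 1, (Nat.sub_add_cancel h.cfg.act.prime.pos).symm⟩
    have e : ∀ i, (φ ^ i : MulAut ↥E) (φ y) = (φ ^ (i + 1) : MulAut ↥E) y := fun i => by
      rw [pow_succ, MulAut.mul_apply]
    simp only [e]
    rw [hs, Finset.prod_range_succ, Finset.prod_range_succ' (fun i => π ((φ ^ i : MulAut ↥E) y))]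
    congr 2
    refine Subtype.ext ?_
    rw [hpow, hpow, ← hs, h.cfg.act.pow_r]; simp
  have hinv' : ∀ n : ℕ, ∀ y, θ ((φ ^ n : MulAut ↥E) y) = θ y := by
    intro n
    induction n with
    | zero => simp
    | succ n ih => intro y; rw [pow_succ', MulAut.mul_apply, hinv, ih]
  have htriv : ∀ y, θ y = 1 := by
    have hle : E ≤ θ.ker.map E.subtype := by
      conv_lhs => rw [← h.brE]
      rw [br, Subgroup.commutator_le]
      intro y hy b hb
      obtain ⟨n, rfl⟩ : ∃ n : ℕ, a ^ n = b := mem_powers_iff_mem_zpowers.mpr hb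
      refine ⟨⟨y, hy⟩ * ((φ ^ n : MulAut ↥E) ⟨y, hy⟩)⁻¹, ?_, ?_⟩
      · rw [SetLike.mem_coe, MonoidHom.mem_ker, map_mul, map_inv, hinv', mul_inv_cancel]
      · rw [Subgroup.coe_subtype, Subgroup.coe_mul, Subgroup.coe_inv, hpow, commutatorElement_def]; group
    intro y
    obtain ⟨z, hz, e⟩ := hle y.2
    rw [← Subtype.ext (show (z : X) = y from e)]
    exact hz
  have h1 := htriv ⟨c, hcE⟩
  rw [hθ, Finset.prod_congr rfl (g := fun _ => π ⟨c, hcE⟩) (fun i _ => congrArg π (Subtype.ext (by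
    rw [hpow]
    have hcomm : Commute a c := mul_inv_eq_iff_eq_mul.mp hca
    rw [(hcomm.pow_left i).eq, mul_inv_cancel_right]))), Finset.prod_const, Finset.card_range, ← map_pow] at h1
  have hmem : (⟨c, hcE⟩ : ↥E) ^ r ∈ commutator ↥E := by
    rw [← Abelianization.ker_of]; exact h1
  obtain ⟨u, hu⟩ : ∃ u : ℕ, ((⟨c, hcE⟩ : ↥E) ^ r) ^ u = ⟨c, hcE⟩ := by
    have hcop : r.Coprime (Nat.card E) := h.cfg.act.prime.coprime_iff_not_dvd.mpr (h.cfg.act.not_dvd_card h.le)
    obtain ⟨u, hu⟩ := exists_pow_eq_self_of_coprime (hcop.coprime_dvd_right (orderOf_dvd_natCard (⟨c, hcE⟩ : ↥E)))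
    exact ⟨u, hu⟩
  have hm := (commutator ↥E).pow_mem hmem u
  rw [hu] at hm
  rw [← Subgroup.map_subtype_commutator E]
  exact ⟨_, hm, rfl⟩

theorem fixed_eq_comm [Finite X] [Fact p.Prime] [Fact q.Prime] : fx E a = ⁅E, E⁆ :=
  le_antisymm h.fixed_le_comm h.comm_le_fixed

theorem fixed_central [Finite X] [Fact p.Prime] [Fact q.Prime] {z y : X} (hz : z ∈ fx E a) (hy : y ∈ E) :
    z * y = y * z :=
  (Subgroup.mem_centralizer_iff.mp (h.comm_central (h.fixed_le_comm hz)).2 y hy).symm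

theorem comm_mem [Finite X] [Fact p.Prime] [Fact q.Prime] {x y : X} (hx : x ∈ E) (hy : y ∈ E) :
    ⁅x, y⁆ ∈ fx E a :=
  h.comm_le_fixed (Subgroup.commutator_mem_commutator hx hy)

theorem comm_mul_right [Finite X] [Fact p.Prime] [Fact q.Prime] {x y z : X} (hx : x ∈ E) (hy : y ∈ E)
    (hz : z ∈ E) : ⁅x, y * z⁆ = ⁅x, y⁆ * ⁅x, z⁆ :=
  comm_mul_right_of_central (h.fixed_central (h.comm_mem hx hz) hy)

theorem comm_mul_left [Finite X] [Fact p.Prime] [Fact q.Prime] {x y z : X} (hx : x ∈ E) (hy : y ∈ E)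
    (hz : z ∈ E) : ⁅x * y, z⁆ = ⁅x, z⁆ * ⁅y, z⁆ := by
  rw [comm_mul_left_of_central (h.fixed_central (h.comm_mem hy hz) hx)]
  exact h.fixed_central (h.comm_mem hy hz) (fx_le (h.comm_mem hx hz))

theorem comm_pow_right [Finite X] [Fact p.Prime] [Fact q.Prime] {x y : X} (hx : x ∈ E) (hy : y ∈ E) (n : ℕ) :
    ⁅x, y ^ n⁆ = ⁅x, y⁆ ^ n := by
  induction n with
  | zero => simp
  | succ n ih => rw [pow_succ, h.comm_mul_right hx (E.pow_mem hy n) hy, ih, pow_succ]

theorem comm_pow_left [Finite X] [Fact p.Prime] [Fact q.Prime] {x y : X} (hx : x ∈ E) (hy : y ∈ E) (n : ℕ) :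
    ⁅x ^ n, y⁆ = ⁅x, y⁆ ^ n := by
  induction n with
  | zero => simp
  | succ n ih => rw [pow_succ, h.comm_mul_left (E.pow_mem hx n) hx hy, ih, pow_succ]

/-- A power of the exponent of `E'`. -/
theorem fixed_pow_of_comm_pow [Finite X] [Fact p.Prime] [Fact q.Prime] {n : ℕ}
    (hn : ∀ x ∈ E, ∀ y ∈ E, ⁅x, y⁆ ^ n = 1) : ∀ z ∈ fx E a, z ^ n = 1 := by
  intro z hz
  have hz' := h.fixed_le_comm hz
  rw [Subgroup.commutator_def] at hz'
  refine Subgroup.closure_induction (p := fun w _ => w ∈ fx E a ∧ w ^ n = 1) ?_ ⟨one_mem _, one_pow _⟩ ?_ ?_ hz' |>.2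
  · rintro w ⟨x, hx, y, hy, rfl⟩
    exact ⟨h.comm_mem hx hy, hn x hx y hy⟩
  · intro u w _ _ hu hw
    exact ⟨mul_mem hu.1 hw.1, by rw [(show Commute u w from h.fixed_central hu.1 (fx_le hw.1)).mul_pow, hu.2, hw.2, one_mul]⟩
  · intro u _ hu
    exact ⟨inv_mem hu.1, by rw [inv_pow, hu.2, inv_one]⟩

/-- The powers `x ^ n` generate a fixed central subgroup as soon as they commute. -/
theorem pow_mem_fixed [Finite X] [Fact p.Prime] [Fact q.Prime] {n : ℕ}
    (hn : ∀ x ∈ E, ∀ y ∈ E, ⁅x, y⁆ ^ (n * n) = 1) {x : X} (hx : x ∈ E) : x ^ n ∈ fx E a := by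
  set M : Subgroup X := closure ((fun w => w ^ n) '' (E : Set X)) with hMdef
  have hME : M ≤ E := (Subgroup.closure_le E).mpr (by rintro _ ⟨w, hw, rfl⟩; exact E.pow_mem hw n)
  have hnorm : ∀ g : X, g ∈ normalizer (E : Set X) → g ∈ normalizer (M : Set X) := by
    intro g hg
    rw [hMdef]
    refine Subgroup.normalizer_le_normalizer_closure _ (Subgroup.mem_set_normalizer_iff.mpr fun w => ?_)
    constructor
    · rintro ⟨v, hv, rfl⟩
      exact ⟨g * v * g⁻¹, (Subgroup.mem_normalizer_iff.mp hg v).mp hv, by simp⟩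
    · rintro ⟨v, hv, e⟩
      refine ⟨g⁻¹ * v * g, (Subgroup.mem_normalizer_iff.mp hg _).mpr (by simpa [mul_assoc] using hv), ?_⟩
      have : (g⁻¹ * v * g) ^ n = g⁻¹ * v ^ n * g := by simpa using conj_pow (i := n) (a := g⁻¹) (b := v)
      show (g⁻¹ * v * g) ^ n = w
      rw [this, show v ^ n = g * w * g⁻¹ from e]; group
  have hab : ∀ u ∈ M, ∀ w ∈ M, u * w = w * u := by
    intro u hu w hw
    have hle : M ≤ centralizer (M : Set X) := by
      rw [hMdef, Subgroup.centralizer_closure, Subgroup.closure_le]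
      rintro _ ⟨v, hv, rfl⟩
      refine Subgroup.mem_centralizer_iff.mpr ?_
      rintro _ ⟨v', hv', rfl⟩
      refine commutatorElement_eq_one_iff_mul_comm.mp ?_
      rw [h.comm_pow_left hv' (E.pow_mem hv n), h.comm_pow_right hv' hv, ← pow_mul, hn v' hv' v hv]
    exact (Subgroup.mem_centralizer_iff.mp (hle hu) w hw).symm
  exact ((h.le_fixed_center hME (fun g hg => hnorm g (Subgroup.le_normalizer hg)) (hnorm a h.norm) hab).trans
    inf_le_left) (Subgroup.subset_closure ⟨x, hx, rfl⟩)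

/-- `E'` is elementary abelian. -/
theorem fixed_pow_q [Finite X] [Fact p.Prime] [hq : Fact q.Prime] : ∀ z ∈ fx E a, z ^ q = 1 := by
  have key : ∀ s : ℕ, (∀ x ∈ E, ∀ y ∈ E, ⁅x, y⁆ ^ (q ^ s) = 1) → ∀ x ∈ E, ∀ y ∈ E, ⁅x, y⁆ ^ q = 1 := by
    intro s
    induction s using Nat.strong_induction_on with
    | _ s ih =>
    intro hs
    rcases Nat.lt_or_ge s 2 with h2 | h2
    · intro x hx y hy
      interval_cases s
      · have := hs x hx y hy
        rw [pow_zero, pow_one] at this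
        rw [this, one_pow]
      · simpa using hs x hx y hy
    · refine ih ((s + 1) / 2) (by omega) fun x hx y hy => ?_
      rw [← h.comm_pow_left hx hy, commutatorElement_eq_one_iff_mul_comm]
      refine h.fixed_central (h.pow_mem_fixed (fun u hu w hw => ?_) hx) hy
      rw [← pow_add]
      obtain ⟨d, hd⟩ : ∃ d, (s + 1) / 2 + (s + 1) / 2 = s + d := ⟨(s + 1) / 2 + (s + 1) / 2 - s, by omega⟩
      rw [hd, pow_add, pow_mul, hs u hu w hw, one_pow]
  obtain ⟨N, hN⟩ := IsPGroup.iff_card.mp h.isQ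
  refine h.fixed_pow_of_comm_pow (key N fun x hx y hy => ?_)
  have hm : ⁅x, y⁆ ∈ E := Subgroup.commutator_le_self E (Subgroup.commutator_mem_commutator hx hy)
  have := pow_card_eq_one' (x := (⟨⁅x, y⁆, hm⟩ : ↥E))
  rw [hN] at this
  simpa using congrArg Subtype.val this

theorem pow_q_mem [Finite X] [Fact p.Prime] [Fact q.Prime] {x : X} (hx : x ∈ E) : x ^ q ∈ fx E a :=
  h.pow_mem_fixed (fun u hu w hw => by
    rw [pow_mul, h.fixed_pow_q _ (h.comm_mem hu hw), one_pow]) hx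

theorem eq_bot_of_abelian [Finite X] [Fact p.Prime] [Fact q.Prime]
    (hab : ∀ x ∈ E, ∀ y ∈ E, x * y = y * x) : E = ⊥ := by
  rw [← h.brE]
  exact br_eq_bot.mpr (h.cfg.abelian_fixed h.faith h.le h.norm hab (not_dvd_card_of_isPGroup h.isQ h.ne))

end QGrp

end Cfsg.Agent.Invol.Shult
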