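import Mathlib
import Cfsg.Agent.Lib.Grp.ExtraspecialFixed
import Cfsg.Agent.Lib.Grp.Signalizer
import Cfsg.Agent.Lib.Invol.Shult.TwoGroup

/-!
Weights of `E' = C_E(a)` on the module: each gives an extraspecial image of `E` of order `2 ^ (2 m + 1)`,
where `r = 2 ^ m + 1`.
-/

set_option autoImplicit false

namespace Cfsg.Agent.Invol.Shult

open Subgroup
open scoped Pointwise commutatorElement

variable {X : Type*} [Group X] {a : X} {p q r : ℕ} {G V E D : Subgroup X}

/-- The radical of the commutator form of `E` modulo `D`. -/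
def rad (E D : Subgroup X) : Subgroup X := closure {x | x ∈ E ∧ ∀ y ∈ E, ⁅x, y⁆ ∈ D}

theorem normalizer_commutator_of {A B : Subgroup X} {g : X} (hA : g ∈ normalizer (A : Set X))
    (hB : g ∈ normalizer (B : Set X)) : g ∈ normalizer ((⁅A, B⁆ : Subgroup X) : Set X) := by
  rw [Grp.mem_normalizer_iff_smul, ← Grp.map_conj_eq_smul, Subgroup.map_commutator, Grp.map_conj_eq_smul,
    Grp.map_conj_eq_smul, Grp.mem_normalizer_iff_smul.mp hA, Grp.mem_normalizer_iff_smul.mp hB]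

theorem mem_normalizer_centralizer {A : Subgroup X} {g : X} (hA : g ∈ normalizer (A : Set X)) :
    g ∈ normalizer ((centralizer (A : Set X) : Subgroup X) : Set X) := by
  refine Subgroup.mem_normalizer_iff.mpr fun x => ?_
  simp only [Subgroup.mem_centralizer_iff, SetLike.mem_coe]
  constructor
  · intro hx y hy
    have hy' : g⁻¹ * y * g ∈ A := (Subgroup.mem_normalizer_iff.mp hA _).mpr (by simpa [mul_assoc] using hy)
    calc y * (g * x * g⁻¹) = g * ((g⁻¹ * y * g) * x) * g⁻¹ := by group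
      _ = g * (x * (g⁻¹ * y * g)) * g⁻¹ := by rw [hx _ hy']
      _ = g * x * g⁻¹ * y := by group
  · intro hx y hy
    calc y * x = g⁻¹ * ((g * y * g⁻¹) * (g * x * g⁻¹)) * g := by group
      _ = g⁻¹ * ((g * x * g⁻¹) * (g * y * g⁻¹)) * g := by
          rw [hx _ ((Subgroup.mem_normalizer_iff.mp hA y).mp hy)]
      _ = x * y := by group

theorem mem_normalizer_inf {A B : Subgroup X} {g : X} (hA : g ∈ normalizer (A : Set X))
    (hB : g ∈ normalizer (B : Set X)) : g ∈ normalizer ((A ⊓ B : Subgroup X) : Set X) :=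
  Subgroup.mem_normalizer_iff.mpr fun x =>
    and_congr (Subgroup.mem_normalizer_iff.mp hA x) (Subgroup.mem_normalizer_iff.mp hB x)

theorem mem_normalizer_of_centralizes {A : Subgroup X} {g : X} (hA : ∀ x ∈ A, g * x = x * g) :
    g ∈ normalizer (A : Set X) :=
  Subgroup.mem_normalizer_iff.mpr fun x =>
    ⟨fun hx => by rwa [hA x hx, mul_inv_cancel_right], fun hx => by
      have h1 : g * x * g⁻¹ = x := by
        have := hA _ hx
        calc g * x * g⁻¹ = g⁻¹ * (g * (g * x * g⁻¹)) := by group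
          _ = g⁻¹ * ((g * x * g⁻¹) * g) := by rw [this]
          _ = x := by group
      rwa [h1] at hx⟩

namespace QGrp

variable (h : QGrp p q r a G V E)
include h

theorem mem_rad [Finite X] [Fact p.Prime] [Fact q.Prime] {x : X} :
    x ∈ rad E D ↔ x ∈ E ∧ ∀ y ∈ E, ⁅x, y⁆ ∈ D := by
  refine ⟨fun hx => ?_, fun hx => Subgroup.subset_closure hx⟩
  refine Subgroup.closure_induction (p := fun w _ => w ∈ E ∧ ∀ y ∈ E, ⁅w, y⁆ ∈ D)
    (fun w hw => hw) ⟨E.one_mem, fun y _ => by simp⟩ ?_ ?_ hx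
  · rintro u w - - ⟨hu, hu'⟩ ⟨hw, hw'⟩
    exact ⟨E.mul_mem hu hw, fun y hy => by rw [h.comm_mul_left hu hw hy]; exact D.mul_mem (hu' y hy) (hw' y hy)⟩
  · rintro u - ⟨hu, hu'⟩
    refine ⟨E.inv_mem hu, fun y hy => ?_⟩
    have h1 : ⁅u⁻¹, y⁆ = ⁅u, y⁆⁻¹ := eq_inv_of_mul_eq_one_left (by
      rw [← h.comm_mul_left (E.inv_mem hu) hu hy, inv_mul_cancel, commutatorElement_one_left])
    rw [h1]; exact D.inv_mem (hu' y hy)

theorem rad_le [Finite X] [Fact p.Prime] [Fact q.Prime] : rad E D ≤ E := fun _ hx => (h.mem_rad.mp hx).1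

theorem fixed_le_rad [Finite X] [Fact p.Prime] [Fact q.Prime] : fx E a ≤ rad E D := fun x hx =>
  h.mem_rad.mpr ⟨fx_le hx, fun y hy => by
    rw [commutatorElement_eq_one_iff_mul_comm.mpr (h.fixed_central hx hy)]; exact D.one_mem⟩

theorem elem_fixed [Finite X] [Fact p.Prime] [Fact q.Prime] : Cfsg.IsElementaryAbelian q (fx E a) :=
  ⟨⟨⟨fun x y => Subtype.ext (h.fixed_central x.2 (fx_le y.2))⟩⟩, h.fixed_pow_q⟩

/-- A nontrivial `E` has a weight. -/
theorem exists_weight [Finite X] [hp : Fact p.Prime] [hq : Fact q.Prime] (hE : E ≠ ⊥) :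
    ∃ D ≤ fx E a, D.relIndex (fx E a) = q ∧
      ¬ V ⊓ centralizer (D : Set X) ≤ centralizer ((fx E a : Subgroup X) : Set X) := by
  have hne : fx E a ≠ ⊥ := fun e => hE (h.eq_bot_of_abelian fun x hx y hy =>
    commutatorElement_eq_one_iff_mul_comm.mp (Subgroup.mem_bot.mp (e ▸ h.comm_mem hx hy)))
  by_contra hc
  push Not at hc
  have hcopV : ¬ q ∣ Nat.card V := not_dvd_card_of_isPGroup h.cfg.isPGroup h.ne.symm
  have hle := Grp.le_of_hyperplanes h.elem_fixed hne V hcopV ((fx_le.trans h.le).trans h.cfg.normG)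
    (T := centralizer ((fx E a : Subgroup X) : Set X)) hc
  refine hne (le_bot_iff.mp fun z hz => ?_)
  have : z ∈ G ⊓ centralizer (V : Set X) := ⟨h.le (fx_le hz), Subgroup.le_centralizer_iff.mp hle hz⟩
  rwa [h.faith] at this

/-- The constituent at a weight. -/
theorem weight_facts [Finite X] [hp : Fact p.Prime] [hq : Fact q.Prime] (hD : D ≤ fx E a)
    (hDi : D.relIndex (fx E a) = q)
    (hV : ¬ V ⊓ centralizer (D : Set X) ≤ centralizer ((fx E a : Subgroup X) : Set X)) :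
    q = 2 ∧ ∃ m : ℕ, r = 2 ^ m + 1 ∧ Nat.card E = 2 ^ (2 * m) * Nat.card (rad E D) := by
  classical
  set Φ := fx E a with hΦ
  set V0 := V ⊓ centralizer (D : Set X) with hV0
  set L := ⁅V0, Φ⁆ with hLdef
  have hDfix : ∀ g ∈ E, ∀ x ∈ D, g * x = x * g := fun g hg x hx => (h.fixed_central (hD hx) hg).symm
  have hEV0 : E ≤ normalizer (V0 : Set X) := fun g hg =>
    mem_normalizer_inf (h.cfg.normG (h.le hg))
      (mem_normalizer_centralizer (mem_normalizer_of_centralizes (hDfix g hg)))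
  have haV0 : a ∈ normalizer (V0 : Set X) :=
    mem_normalizer_inf h.cfg.norma
      (mem_normalizer_centralizer (mem_normalizer_of_centralizes fun x hx => (mem_fx.mp (hD hx)).2))
  have hΦV0 : Φ ≤ normalizer (V0 : Set X) := fx_le.trans hEV0
  have hLV0 : L ≤ V0 := Grp.commutator_le_left_of_le_normalizer hΦV0
  have hEL : E ≤ normalizer (L : Set X) := fun g hg => normalizer_commutator_of (hEV0 hg)
    (mem_normalizer_of_centralizes fun x hx => (h.fixed_central hx hg).symm)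
  have haL : a ∈ normalizer (L : Set X) := normalizer_commutator_of haV0
    (mem_normalizer_of_centralizes fun x hx => (mem_fx.mp hx).2)
  have hcopV : ¬ q ∣ Nat.card V := not_dvd_card_of_isPGroup h.cfg.isPGroup h.ne.symm
  have hinf : (V0 ⊓ centralizer (Φ : Set X)) ⊓ L = ⊥ := by
    haveI : IsMulCommutative V0 := ⟨⟨fun x y => Subtype.ext (h.cfg.comm x.2.1 y.2.1)⟩⟩
    refine Grp.abelian_commutator_inf_fixed Φ V0 hΦV0 ?_
    obtain ⟨n, hn⟩ := IsPGroup.iff_card.mp (h.isQ.to_le (fx_le (H := E) (a := a)))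
    rw [hn]
    exact Nat.Coprime.pow_left _ (hq.out.coprime_iff_not_dvd.mpr fun hd =>
      hcopV (hd.trans (Subgroup.card_dvd_of_le inf_le_left)))
  have hLne : L ≠ ⊥ := fun e =>
    hV (Subgroup.le_centralizer_iff.mpr (le_of_eq_of_le rfl
      (Subgroup.le_centralizer_iff.mp (Subgroup.commutator_eq_bot_iff_le_centralizer.mp e))))
  have hker : ∀ z ∈ Φ, z ∉ D → ∀ v ∈ L, z * v = v * z → v = 1 := by
    intro z hz hzD v hv hzv
    have hmax : Φ ≤ centralizer ({v} : Set X) := by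
      have hle : D ⊔ zpowers z ≤ Φ := sup_le hD (zpowers_le.mpr hz)
      have hcard : (D ⊔ zpowers z).relIndex Φ = 1 := by
        have h1 := Subgroup.relIndex_mul_relIndex D (D ⊔ zpowers z) Φ le_sup_left hle
        rw [hDi] at h1
        rcases hq.out.eq_one_or_self_of_dvd _ ⟨_, h1.symm⟩ with h2 | h2
        · exact absurd (Subgroup.relIndex_eq_one.mp h2 (mem_sup_right (mem_zpowers z))) hzD
        · rw [h2] at h1
          exact Nat.eq_of_mul_eq_mul_left hq.out.pos (h1.trans (mul_one q).symm)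
      refine (Subgroup.relIndex_eq_one.mp hcard).trans (sup_le (fun x hx => ?_) (zpowers_le.mpr ?_))
      · exact Subgroup.mem_centralizer_singleton_iff.mpr (Subgroup.mem_centralizer_iff.mp (hLV0 hv).2 x hx)
      · exact Subgroup.mem_centralizer_singleton_iff.mpr hzv
    have : v ∈ (V0 ⊓ centralizer (Φ : Set X)) ⊓ L :=
      ⟨⟨hLV0 hv, Subgroup.mem_centralizer_iff.mpr fun x hx => Subgroup.mem_centralizer_singleton_iff.mp (hmax hx)⟩, hv⟩
    rwa [hinf] at this
  -- the image of `E` on `L`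
  let N := normalizer (L : Set X)
  let f : ↥N →* MulAut ↥L :=
    { toFun := fun g =>
        { toFun := fun v => ⟨g * v * (g : X)⁻¹, (Subgroup.mem_normalizer_iff.mp g.2 v).mp v.2⟩
          invFun := fun v => ⟨(g : X)⁻¹ * v * g, (Subgroup.mem_normalizer_iff.mp g.2 _).mpr (by simpa [mul_assoc] using v.2)⟩
          left_inv := fun v => Subtype.ext (by simp [mul_assoc])
          right_inv := fun v => Subtype.ext (by simp [mul_assoc])
          map_mul' := fun u v => Subtype.ext (by simp [mul_assoc]) }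
      map_one' := MulEquiv.ext fun v => Subtype.ext (by simp)
      map_mul' := fun g k => MulEquiv.ext fun v => Subtype.ext (by simp [mul_assoc]) }
  have hfone : ∀ g : ↥N, f g = 1 ↔ ∀ v ∈ L, (g : X) * v = v * g := by
    intro g
    constructor
    · intro hg v hv
      have := congrArg (fun e : MulAut ↥L => ((e ⟨v, hv⟩ : ↥L) : X)) hg
      exact mul_inv_eq_iff_eq_mul.mp this
    · intro hg
      refine MulEquiv.ext fun v => Subtype.ext ?_
      show (g : X) * v * (g : X)⁻¹ = v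
      rw [hg v v.2, mul_inv_cancel_right]
  let Γ := ↥L ⋊[MonoidHom.id (MulAut ↥L)] MulAut ↥L
  haveI : Finite Γ := Finite.of_equiv _ SemidirectProduct.equivProd.symm
  let ι : ↥E →* Γ := SemidirectProduct.inr.comp (f.comp (Subgroup.inclusion hEL))
  let α : Γ := SemidirectProduct.inr (f ⟨a, haL⟩)
  let VΓ : Subgroup Γ := (SemidirectProduct.inl : ↥L →* Γ).range
  let Q : Subgroup Γ := ι.range
  have hinr : Function.Injective (SemidirectProduct.inr : MulAut ↥L →* Γ) := SemidirectProduct.inr_injective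
  have hinl : Function.Injective (SemidirectProduct.inl : ↥L →* Γ) := SemidirectProduct.inl_injective
  have hconj : ∀ (g : MulAut ↥L) (v : ↥L), (SemidirectProduct.inr g : Γ) * SemidirectProduct.inl v *
      (SemidirectProduct.inr g)⁻¹ = SemidirectProduct.inl (g v) := fun g v => by
    rw [← map_inv]
    exact (SemidirectProduct.inl_aut (φ := MonoidHom.id (MulAut ↥L)) g v).symm
  have hnormV : ∀ g : MulAut ↥L, (SemidirectProduct.inr g : Γ) ∈ normalizer (VΓ : Set Γ) := by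
    intro g
    refine Subgroup.mem_normalizer_iff.mpr fun x => ⟨?_, ?_⟩
    · rintro ⟨v, rfl⟩; exact ⟨g v, (hconj g v).symm⟩
    · rintro ⟨v, e⟩
      refine ⟨g⁻¹ v, ?_⟩
      have := hconj g (g⁻¹ v)
      rw [MulAut.apply_inv_self, e] at this
      exact mul_left_cancel (mul_right_cancel this)
  have hιone : ∀ x : ↥E, ι x = 1 ↔ ∀ v ∈ L, (x : X) * v = v * x := fun x =>
    (map_eq_one_iff SemidirectProduct.inr hinr).trans (hfone ⟨x, hEL x.2⟩)
  have hια : ∀ x : ↥E, α * ι x * α⁻¹ = ι ⟨a * x * a⁻¹, conj_mem h.norm x.2⟩ := by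
    intro x
    show SemidirectProduct.inr _ * SemidirectProduct.inr _ * (SemidirectProduct.inr _)⁻¹ = SemidirectProduct.inr _
    simp only [MonoidHom.comp_apply, ← map_inv, ← map_mul]
    rfl
  -- kernel inside the centre
  have hkerD : ∀ x : ↥E, (x : X) ∈ Φ → (ι x = 1 ↔ (x : X) ∈ D) := by
    intro x hx
    rw [hιone]
    refine ⟨fun hall => ?_, fun hxD v hv => Subgroup.mem_centralizer_iff.mp (hLV0 hv).2 x hxD⟩
    by_contra hxD
    exact hLne (le_bot_iff.mp fun v hv => Subgroup.mem_bot.mpr (hker x hx hxD v hv (hall v hv)))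
  obtain ⟨z, hz, hzD⟩ : ∃ z ∈ Φ, z ∉ D := by
    by_contra hc; push Not at hc
    rw [Subgroup.relIndex_eq_one.mpr hc] at hDi
    exact hq.out.one_lt.ne hDi
  have hαV : α ∈ normalizer (VΓ : Set Γ) := hnormV _
  have hfpfV : ∀ v ∈ VΓ, α * v = v * α → v = 1 := by
    rintro _ ⟨v, rfl⟩ e
    rw [← mul_inv_eq_iff_eq_mul, hconj] at e
    have e' := congrArg Subtype.val (hinl e)
    rw [show v = 1 from Subtype.ext (h.cfg.fpf v (hLV0 v.2).1 (mul_inv_eq_iff_eq_mul.mp e')), map_one]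
  have hαne : α ≠ 1 := by
    intro e
    refine hLne (le_bot_iff.mp fun v hv => Subgroup.mem_bot.mpr ?_)
    exact h.cfg.fpf v (hLV0 hv).1 ((hfone _).mp ((map_eq_one_iff _ hinr).mp e) v hv)
  have hαr : α ^ r = 1 := by
    show (SemidirectProduct.inr _ : Γ) ^ r = 1
    rw [← map_pow, ← map_pow, show (⟨a, haL⟩ : ↥N) ^ r = 1 from Subtype.ext (by simpa using h.cfg.act.pow_r),
      map_one, map_one]
  haveI := Fact.mk h.cfg.act.prime
  have hαord : orderOf α = r := orderOf_eq_prime hαr hαne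
  have hαQ : α ∈ normalizer (Q : Set Γ) := by
    refine Subgroup.mem_normalizer_iff.mpr fun w => ⟨?_, ?_⟩
    · rintro ⟨x, rfl⟩; exact ⟨_, (hια x).symm⟩
    · rintro ⟨x, e⟩
      refine ⟨⟨a⁻¹ * x * a, (Subgroup.mem_normalizer_iff.mp h.norm _).mpr (by simpa [mul_assoc] using x.2)⟩, ?_⟩
      have h1 := hια ⟨a⁻¹ * x * a, (Subgroup.mem_normalizer_iff.mp h.norm _).mpr (by simpa [mul_assoc] using x.2)⟩
      rw [show (⟨a * (a⁻¹ * x * a) * a⁻¹, _⟩ : ↥E) = x from Subtype.ext (by group), e] at h1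
      exact mul_left_cancel (mul_right_cancel h1)
  have hQp : IsPGroup q Q := h.isQ.of_surjective ι.rangeRestrict ι.rangeRestrict_surjective
  have hQV : Q ≤ normalizer (VΓ : Set Γ) := by rintro _ ⟨x, rfl⟩; exact hnormV _
  have hrQ : ¬ r ∣ Nat.card Q := fun hd => h.cfg.act.not_dvd_card h.le (hd.trans (Subgroup.card_range_dvd ι))
  have hVelem : Cfsg.IsElementaryAbelian p VΓ := by
    refine ⟨⟨⟨?_⟩⟩, ?_⟩
    · rintro ⟨_, u, rfl⟩ ⟨_, w, rfl⟩
      exact Subtype.ext (by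
        show SemidirectProduct.inl u * SemidirectProduct.inl w = SemidirectProduct.inl w * SemidirectProduct.inl u
        rw [← map_mul, ← map_mul, show u * w = w * u from Subtype.ext (h.cfg.comm (hLV0 u.2).1 (hLV0 w.2).1)])
    · rintro _ ⟨u, rfl⟩
      rw [← map_pow, show u ^ p = 1 from Subtype.ext (by simpa using h.cfg.pow_p (hLV0 u.2).1), map_one]
  have hcfgΓ : Cfg p r α Q VΓ := ⟨⟨h.cfg.act.prime, hαord, hαQ, hrQ⟩, hVelem, hQV, hαV, hfpfV⟩
  -- the centre of the image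
  have hcentral : ∀ x : ↥E, (∀ y : ↥E, ι x * ι y = ι y * ι x) ↔ (x : X) ∈ rad E D := by
    intro x
    rw [h.mem_rad]
    refine ⟨fun hx => ⟨x.2, fun y hy => ?_⟩, fun hx y => ?_⟩
    · refine (hkerD ⟨⁅(x : X), y⁆, fx_le (h.comm_mem x.2 hy)⟩ (h.comm_mem x.2 hy)).mp ?_
      rw [show (⟨⁅(x : X), y⁆, _⟩ : ↥E) = ⁅x, ⟨y, hy⟩⁆ from Subtype.ext rfl, map_commutatorElement,
        commutatorElement_eq_one_iff_mul_comm]
      exact hx _
    · have := (hkerD ⁅x, y⁆ (h.comm_mem x.2 y.2)).mpr (hx.2 y y.2)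
      rwa [map_commutatorElement, commutatorElement_eq_one_iff_mul_comm] at this
  have hrada : a ∈ normalizer ((rad E D : Subgroup X) : Set X) := by
    refine Subgroup.mem_normalizer_iff.mpr fun x => ?_
    rw [h.mem_rad, h.mem_rad]
    refine and_congr (Subgroup.mem_normalizer_iff.mp h.norm x) ⟨fun hx y hy => ?_, fun hx y hy => ?_⟩
    · have hy' : a⁻¹ * y * a ∈ E := (Subgroup.mem_normalizer_iff.mp h.norm _).mpr (by simpa [mul_assoc] using hy)
      have e : ⁅a * x * a⁻¹, y⁆ = a * ⁅x, a⁻¹ * y * a⁆ * a⁻¹ := by simp only [commutatorElement_def]; group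
      have hd := hx _ hy'
      rw [e, (mem_fx.mp (hD hd)).2, mul_inv_cancel_right]
      exact hd
    · have e : a * ⁅x, y⁆ * a⁻¹ = ⁅a * x * a⁻¹, a * y * a⁻¹⁆ := by simp only [commutatorElement_def]; group
      have hd := hx _ ((Subgroup.mem_normalizer_iff.mp h.norm y).mp hy)
      rw [← e] at hd
      have hfix := (mem_fx'.mp (hD hd)).2
      rw [show a * (a * ⁅x, y⁆ * a⁻¹) * a⁻¹ = a * ⁅x, y⁆ * a⁻¹ ↔ a * ⁅x, y⁆ * a⁻¹ = ⁅x, y⁆ from
        ⟨fun e1 => mul_left_cancel (mul_right_cancel e1), fun e1 => by rw [e1, e1]⟩] at hfix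
      rwa [hfix] at hd
  let Z : Subgroup Γ := (((rad E D).subgroupOf E).map ι)
  have hZmem : ∀ x : ↥E, (x : X) ∈ rad E D → ι x ∈ Z := fun x hx => ⟨x, hx, rfl⟩
  have hαZ : α ∈ normalizer (Z : Set Γ) := by
    refine Subgroup.mem_normalizer_iff.mpr fun w => ⟨?_, ?_⟩
    · rintro ⟨x, hx, rfl⟩
      rw [hια]; exact hZmem _ (conj_mem hrada hx)
    · rintro ⟨x, hx, e⟩
      refine ⟨⟨a⁻¹ * x * a, (Subgroup.mem_normalizer_iff.mp h.norm _).mpr (by simpa [mul_assoc] using x.2)⟩,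
        (Subgroup.mem_normalizer_iff.mp hrada _).mpr (by simpa [mul_assoc, Subgroup.mem_subgroupOf] using hx), ?_⟩
      have h1 := hια ⟨a⁻¹ * x * a, (Subgroup.mem_normalizer_iff.mp h.norm _).mpr (by simpa [mul_assoc] using x.2)⟩
      rw [show (⟨a * (a⁻¹ * x * a) * a⁻¹, _⟩ : ↥E) = x from Subtype.ext (by group), e] at h1
      exact mul_left_cancel (mul_right_cancel h1)
  have hZQ : Z ≤ Q := by rintro _ ⟨x, -, rfl⟩; exact ⟨x, rfl⟩
  have hZfix : ∀ w ∈ Z, α * w = w * α := by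
    have hbr := hcfgΓ.abelian_le_centralizer hZQ hαZ (by
      rintro _ ⟨x, hx, rfl⟩ _ ⟨y, -, rfl⟩
      exact (hcentral x).mpr hx y) (not_dvd_card_of_isPGroup (hQp.to_le hZQ) h.ne)
    refine br_eq_bot.mp (le_bot_iff.mp fun w hw => Subgroup.mem_bot.mpr ?_)
    obtain ⟨x, rfl⟩ := hZQ (br_le hαZ hw)
    refine (hιone x).mpr fun v hv => ?_
    have hcomm := Subgroup.mem_centralizer_iff.mp (hbr hw) (SemidirectProduct.inl ⟨v, hv⟩) ⟨⟨v, hv⟩, rfl⟩
    have := hconj (f (Subgroup.inclusion hEL x)) ⟨v, hv⟩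
    rw [show (SemidirectProduct.inr (f (Subgroup.inclusion hEL x)) : Γ) = ι x from rfl, ← hcomm,
      mul_inv_cancel_right] at this
    exact mul_inv_eq_iff_eq_mul.mp (congrArg Subtype.val (hinl this).symm)
  -- fixed elements of the image come from `Φ`
  have hlift : ∀ x : ↥E, α * ι x = ι x * α → ∃ y : ↥E, (y : X) ∈ Φ ∧ ι y = ι x := by
    intro x hx
    let K : Subgroup X := ι.ker.map E.subtype
    have hK : ∀ {g : X}, g ∈ K ↔ ∃ hg : g ∈ E, ι ⟨g, hg⟩ = 1 := fun {g} =>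
      ⟨by rintro ⟨y, hy, rfl⟩; exact ⟨y.2, hy⟩, fun ⟨hg, e⟩ => ⟨⟨g, hg⟩, e, rfl⟩⟩
    obtain ⟨n, hn, hfix⟩ := h.act.exists_fixed_coset (N := K) (x := (x : X))
      (fun g hg => (hK.mp hg).1) (by
        refine Subgroup.mem_normalizer_iff.mpr fun g => ?_
        rw [hK, hK]
        refine ⟨fun ⟨hg, e⟩ => ⟨conj_mem h.norm hg, by rw [← hια ⟨g, hg⟩, e, mul_one, mul_inv_cancel]⟩, ?_⟩
        rintro ⟨hg, e⟩
        refine ⟨(Subgroup.mem_normalizer_iff.mp h.norm g).mpr hg, ?_⟩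
        rw [← hια ⟨g, (Subgroup.mem_normalizer_iff.mp h.norm g).mpr hg⟩] at e
        exact conj_eq_one_iff.mp e) x.2 (by
        refine hK.mpr ⟨E.mul_mem (E.inv_mem x.2) (conj_mem h.norm x.2), ?_⟩
        rw [show (⟨(x : X)⁻¹ * (a * x * a⁻¹), _⟩ : ↥E) = x⁻¹ * ⟨a * x * a⁻¹, conj_mem h.norm x.2⟩ from rfl,
          map_mul, map_inv, ← hια x, hx, mul_inv_cancel_right, inv_mul_cancel])
    obtain ⟨hnE, hn1⟩ := hK.mp hn
    exact ⟨x * ⟨n, hnE⟩, mem_fx.mpr ⟨E.mul_mem x.2 hnE, hfix⟩, by rw [map_mul, hn1, mul_one]⟩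
  have hcenQ : (Subgroup.center ↥Q).map Q.subtype = Z := by
    refine le_antisymm ?_ ?_
    · rintro _ ⟨⟨_, x, rfl⟩, hw, rfl⟩
      exact hZmem x ((hcentral x).mp fun y =>
        (congrArg Subtype.val (Subgroup.mem_center_iff.mp hw ⟨ι y, y, rfl⟩)).symm)
    · rintro _ ⟨x, hx, rfl⟩
      exact ⟨⟨ι x, x, rfl⟩, Subgroup.mem_center_iff.mpr fun ⟨_, y, e⟩ => Subtype.ext (e ▸ ((hcentral x).mpr hx y).symm), rfl⟩
  have hZΦ : Z = ((Φ).subgroupOf E).map ι := by
    refine le_antisymm ?_ (Subgroup.map_mono fun x hx => h.fixed_le_rad hx)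
    rintro _ ⟨x, hx, rfl⟩
    obtain ⟨y, hy, e⟩ := hlift x (hZfix _ (hZmem x hx))
    exact ⟨y, hy, e⟩
  have hZcard : Nat.card Z = q := by
    let g : ↥Φ →* Γ := ι.comp (Subgroup.inclusion fx_le)
    have hg : g.ker = D.subgroupOf Φ := by
      ext x
      exact (hkerD (Subgroup.inclusion fx_le x) x.2).trans Subgroup.mem_subgroupOf.symm
    have hrange : g.range = Z := by
      rw [hZΦ]
      ext w
      constructor
      · rintro ⟨x, rfl⟩; exact ⟨_, x.2, rfl⟩
      · rintro ⟨x, hx, rfl⟩; exact ⟨⟨x, hx⟩, rfl⟩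
    rw [← hrange, ← Subgroup.index_ker, hg]
    exact hDi
  have hne : (⊥ : Subgroup Γ) < Z := bot_lt_iff_ne_bot.mpr fun e => by
    rw [e, Subgroup.card_bot] at hZcard; exact hq.out.one_lt.ne hZcard
  have hcard : Nat.card (Subgroup.center ↥Q) = q := by
    rw [← Subgroup.card_map_of_injective (K := Subgroup.center ↥Q) Q.subtype_injective, hcenQ, hZcard]
  have hcomZ : commutator ↥Q = Subgroup.center ↥Q := by
    have hle : commutator ↥Q ≤ Subgroup.center ↥Q := by
      rw [_root_.commutator_def, Subgroup.commutator_le]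
      rintro ⟨_, x, rfl⟩ - ⟨_, y, rfl⟩ -
      refine Subgroup.mem_center_iff.mpr fun ⟨_, w, e⟩ => Subtype.ext ?_
      subst e
      show ι w * ⁅ι x, ι y⁆ = ⁅ι x, ι y⁆ * ι w
      rw [← map_commutatorElement, ← map_mul, ← map_mul]
      congr 1
      exact Subtype.ext (h.fixed_central (h.comm_mem x.2 y.2) w.2).symm
    rcases (Subgroup.card_dvd_of_le hle).trans hcard.dvd |> hq.out.eq_one_or_self_of_dvd _ with h1 | h1
    · exfalso
      have hall : ∀ x : ↥E, (x : X) ∈ rad E D := fun x => (hcentral x).mp fun y => by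
        have hm : ⁅(⟨ι x, x, rfl⟩ : ↥Q), (⟨ι y, y, rfl⟩ : ↥Q)⁆ ∈ commutator ↥Q :=
          Subgroup.commutator_mem_commutator (mem_top _) (mem_top _)
        rw [Subgroup.card_eq_one.mp h1, Subgroup.mem_bot] at hm
        exact congrArg Subtype.val (commutatorElement_eq_one_iff_mul_comm.mp hm)
      have hΦD : Φ ≤ D := by
        rw [hΦ, h.fixed_eq_comm, Subgroup.commutator_le]
        exact fun x hx y hy => (h.mem_rad.mp (hall ⟨x, hx⟩)).2 y hy
      exact hzD (hΦD hz)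
    · exact Subgroup.eq_of_le_of_card_ge hle (by rw [h1, hcard])
  have hQext : Cfsg.IsExtraspecial q ↥Q := by
    refine ⟨⟨hQp, le_antisymm ?_ (hcomZ ▸ Grp.pGroup_commutator_le_frattini hQp), hcomZ⟩, hcard⟩
    refine Grp.frattini_le_of_elementary hq.out hcomZ.le fun ⟨_, x, e⟩ => ?_
    subst e
    refine Subgroup.mem_center_iff.mpr fun ⟨_, y, e'⟩ => Subtype.ext ?_
    subst e'
    show ι y * ι x ^ q = ι x ^ q * ι y
    rw [← map_pow, ← map_mul, ← map_mul]
    congr 1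
    exact Subtype.ext (h.fixed_central (h.pow_q_mem x.2) y.2).symm
  have hCQ : Q ⊓ centralizer ((zpowers α : Subgroup Γ) : Set Γ) = Z := by
    refine le_antisymm ?_ (fun w hw => ⟨hZQ hw, ?_⟩)
    · rintro _ ⟨⟨x, rfl⟩, hx⟩
      obtain ⟨y, hy, e⟩ := hlift x (Subgroup.mem_centralizer_iff.mp hx α (mem_zpowers α))
      rw [← e, hZΦ]; exact ⟨y, hy, rfl⟩
    · refine Subgroup.mem_centralizer_iff.mpr fun u hu => ?_
      obtain ⟨i, rfl⟩ := mem_zpowers_iff.mp hu
      exact ((show Commute α w from hZfix w hw).zpow_left i).eq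
  have hqr : q ≠ r := fun e => hrQ (e ▸ (hZcard ▸ Subgroup.card_dvd_of_le hZQ))
  obtain ⟨v₀, hv₀, hv₀1⟩ := L.bot_or_exists_ne_one.resolve_left hLne
  obtain ⟨hq2, m, hm, hQc⟩ := Grp.extraspecial_fixed hp.out hq.out h.cfg.act.prime h.ne.symm
    (h.cfg.r_ne_p (fun e => hv₀1 (by simpa [e] using (hLV0 hv₀).1))).symm hqr (zpowers α) Q VΓ
    (by rw [Nat.card_zpowers, hαord]) hQext (zpowers_le.mpr hαQ) (by rw [hcenQ]; exact hCQ) hVelem
    (zpowers_le.mpr hαV) hQV
    (by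
      rw [hcenQ, hZΦ]
      refine ⟨ι ⟨z, fx_le hz⟩, ⟨_, hz, rfl⟩, SemidirectProduct.inl ⟨v₀, hv₀⟩, ⟨_, rfl⟩, fun e => ?_⟩
      have h1 := hconj (f (Subgroup.inclusion hEL ⟨z, fx_le hz⟩)) ⟨v₀, hv₀⟩
      rw [show (SemidirectProduct.inr (f (Subgroup.inclusion hEL ⟨z, fx_le hz⟩)) : Γ) = ι ⟨z, fx_le hz⟩ from rfl,
        e, mul_inv_cancel_right] at h1
      exact hv₀1 (hker z hz hzD v₀ hv₀ (mul_inv_eq_iff_eq_mul.mp (congrArg Subtype.val (hinl h1).symm))))
    (le_bot_iff.mp fun v hv => Subgroup.mem_bot.mpr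
      (hfpfV v hv.1 (Subgroup.mem_centralizer_iff.mp hv.2 α (mem_zpowers α))))
  refine ⟨hq2, m, hm, ?_⟩
  have hrestrict : Nat.card (rad E D) = Nat.card ι.ker * Nat.card Z := by
    let g : ↥((rad E D).subgroupOf E) →* Γ := ι.comp ((rad E D).subgroupOf E).subtype
    have hr : g.range = Z := by rw [MonoidHom.range_comp, Subgroup.range_subtype]
    have hk : Nat.card g.ker = Nat.card ι.ker := by
      refine Nat.card_congr
        { toFun := fun x => ⟨x.1.1, x.2⟩
          invFun := fun x => ⟨⟨x.1, (hcentral x.1).mp fun y => by rw [show ι x.1 = 1 from x.2]; simp⟩, x.2⟩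
          left_inv := fun x => rfl
          right_inv := fun x => rfl }
    rw [← Nat.card_congr (Subgroup.subgroupOfEquivOfLe h.rad_le).toEquiv, ← g.ker.card_mul_index,
      Subgroup.index_ker, hr, hk]
  have hE : Nat.card E = Nat.card ι.ker * Nat.card Q := by
    rw [← ι.ker.card_mul_index, Subgroup.index_ker]
  rw [hE, hrestrict, hQc, hZcard, hq2, pow_succ]
  ring

theorem exists_m [Finite X] [Fact p.Prime] [Fact q.Prime] (hE : E ≠ ⊥) :
    q = 2 ∧ ∃ m : ℕ, r = 2 ^ m + 1 := by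
  obtain ⟨D, h1, h2, h3⟩ := h.exists_weight hE
  obtain ⟨h4, m, h5, -⟩ := h.weight_facts h1 h2 h3
  exact ⟨h4, m, h5⟩

end QGrp

end Cfsg.Agent.Invol.Shult
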