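import Mathlib
import Cfsg.Agent.Lib.Invol.Shult.Extraspecial

/-!
The unit lemma: elements commuting with `a` and normalizing a weight act trivially on `E / R`.
-/

set_option autoImplicit false

namespace Cfsg.Agent.Invol.Shult

open Subgroup
open scoped Pointwise commutatorElement

section EndAlg

variable {M : Type*} [AddCommGroup M]

theorem two_eq_zero_end (h2 : ∀ x : M, x + x = 0) (P : AddMonoid.End M) : P + P = 0 :=
  AddMonoidHom.ext fun x => h2 (P x)

theorem add_pow_two_pow (h2 : ∀ x : M, x + x = 0) {P Q : AddMonoid.End M} (hc : P * Q = Q * P) (n : ℕ) :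
    (P + Q) ^ (2 ^ n) = P ^ (2 ^ n) + Q ^ (2 ^ n) := by
  induction n with
  | zero => simp
  | succ n ih =>
    have hc' : P ^ (2 ^ n) * Q ^ (2 ^ n) = Q ^ (2 ^ n) * P ^ (2 ^ n) :=
      ((show Commute P Q from hc).pow_pow _ _).eq
    rw [pow_succ 2 n, pow_mul, pow_mul, pow_mul, ih, sq, add_mul, mul_add, mul_add, ← sq, ← sq, hc']
    rw [add_assoc, ← add_assoc (Q ^ 2 ^ n * P ^ 2 ^ n), two_eq_zero_end h2, zero_add]

/-- A map commuting with an irreducible operator and preserving a form fixed by it. -/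
theorem pow_eq_one_of_form (h2 : ∀ x : M, x + x = 0) (m : ℕ) (A C : AddMonoid.End M)
    (hAC : A * C = C * A) (hA : A ^ (2 ^ m + 1) = 1)
    (β : M → M → ZMod 2) (hl : ∀ x y z, β (x + y) z = β x z + β y z)
    (hr : ∀ x y z, β x (y + z) = β x y + β x z)
    (hnd : ∀ y, (∀ x, β x y = 0) → y = 0)
    (hβA : ∀ x y, β (A x) (A y) = β x y) (hβC : ∀ x y, β (C x) (C y) = β x y)
    (hirr : ∀ S : AddSubgroup M, (∀ x ∈ S, A x ∈ S) → S = ⊥ ∨ S = ⊤) :
    C ^ (2 ^ m + 1) = 1 := by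
  by_cases hM : ∀ x : M, x = 0
  · exact AddMonoidHom.ext fun x => (hM _).trans (hM _).symm
  push Not at hM
  obtain ⟨v, hv⟩ := hM
  let T : AddSubgroup (AddMonoid.End M) := AddSubgroup.closure (Set.range fun i : ℕ => A ^ i)
  let ev : AddMonoid.End M →+ M :=
    { toFun := fun P => P v, map_zero' := rfl, map_add' := fun _ _ => rfl }
  have hcomm : ∀ P ∈ T, P * A = A * P := by
    intro P hP
    induction hP using AddSubgroup.closure_induction with
    | mem P hP => obtain ⟨i, rfl⟩ := hP; exact ((Commute.refl A).pow_left i).eq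
    | zero => simp
    | add P Q _ _ hP hQ => rw [add_mul, mul_add, hP, hQ]
    | neg P _ hP => rw [neg_mul, mul_neg, hP]
  have hcomm2 : ∀ P ∈ T, ∀ Q ∈ T, P * Q = Q * P := by
    intro P hP Q hQ
    induction hQ using AddSubgroup.closure_induction with
    | mem Q hQ => obtain ⟨i, rfl⟩ := hQ; exact ((show Commute P A from hcomm P hP).pow_right i).eq
    | zero => simp
    | add R Q _ _ hR hQ => rw [add_mul, mul_add, hR, hQ]
    | neg Q _ hQ => rw [neg_mul, mul_neg, hQ]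
  have htop : T.map ev = ⊤ := by
    refine (hirr _ ?_).resolve_left fun e => hv ?_
    · rintro _ ⟨P, hP, rfl⟩
      refine ⟨A * P, ?_, rfl⟩
      induction hP using AddSubgroup.closure_induction with
      | mem P hP => obtain ⟨i, rfl⟩ := hP; exact AddSubgroup.subset_closure ⟨i + 1, pow_succ' A i⟩
      | zero => rw [mul_zero]; exact T.zero_mem
      | add R Q _ _ hR hQ => rw [mul_add]; exact T.add_mem hR hQ
      | neg Q _ hQ => rw [mul_neg]; exact T.neg_mem hQ
    · have : v ∈ T.map ev := ⟨A ^ 0, AddSubgroup.subset_closure ⟨0, rfl⟩, by show (A ^ 0 : AddMonoid.End M) v = v; rw [pow_zero]; rfl⟩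
      rwa [e, AddSubgroup.mem_bot] at this
  obtain ⟨P, hP, hPv⟩ : C v ∈ T.map ev := htop ▸ AddSubgroup.mem_top _
  have hPC : P = C := by
    refine AddMonoidHom.ext fun x => ?_
    obtain ⟨Q, hQ, rfl⟩ : x ∈ T.map ev := htop ▸ AddSubgroup.mem_top _
    show (P * Q) v = (C * Q) v
    have hCQ : C * Q = Q * C := by
      clear hPv
      induction hQ using AddSubgroup.closure_induction with
      | mem Q hQ => obtain ⟨i, rfl⟩ := hQ; exact ((show Commute C A from hAC.symm).pow_right i).eq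
      | zero => simp
      | add R Q _ _ hR hQ => rw [add_mul, mul_add, hR, hQ]
      | neg Q _ hQ => rw [neg_mul, mul_neg, hQ]
    rw [hCQ, hcomm2 P hP Q hQ]
    exact congrArg Q hPv
  have hApow : ∀ i x y, β ((A ^ i) x) ((A ^ i) y) = β x y := by
    intro i
    induction i with
    | zero => simp
    | succ i ih => intro x y; rw [pow_succ']; exact (hβA _ _).trans (ih x y)
  have hadj : ∀ Q ∈ T, ∀ x y, β (Q x) y = β x ((Q ^ (2 ^ m)) y) := by
    intro Q hQ
    induction hQ using AddSubgroup.closure_induction with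
    | mem Q hQ =>
      obtain ⟨i, rfl⟩ := hQ
      intro x y
      rw [← hApow (i * 2 ^ m) (((A ^ i) : AddMonoid.End M) x) y, ← pow_mul]
      have : (A ^ (i * 2 ^ m)) ((A ^ i) x) = x := by
        show (A ^ (i * 2 ^ m) * A ^ i) x = x
        rw [← pow_add, show i * 2 ^ m + i = (2 ^ m + 1) * i by ring, pow_mul, hA, one_pow]; rfl
      rw [this]
    | zero =>
      intro x y
      have h0 : ∀ z, β 0 z = 0 := fun z => by simpa using hl 0 0 z
      have h0' : ∀ z, β z 0 = 0 := fun z => by simpa using hr z 0 0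
      rw [zero_pow (Nat.two_pow_pos m).ne']
      exact (h0 y).trans (h0' x).symm
    | add R Q hR hQ ihR ihQ =>
      intro x y
      rw [add_pow_two_pow h2 (hcomm2 R hR Q hQ)]
      exact (hl _ _ _).trans ((congrArg₂ (· + ·) (ihR x y) (ihQ x y)).trans (hr _ _ _).symm)
    | neg Q _ ihQ =>
      rw [show -Q = Q from (eq_neg_of_add_eq_zero_left (two_eq_zero_end h2 Q)).symm]
      exact ihQ
  subst hPC
  refine AddMonoidHom.ext fun y => sub_eq_zero.mp (hnd _ fun x => ?_)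
  have h1 : β x ((P ^ (2 ^ m + 1)) y) = β x y := by
    rw [pow_succ]
    exact (hadj P hP x (P y)).symm.trans (hβC x y)
  have h3 := hr x ((P ^ (2 ^ m + 1)) y - y) y
  rw [sub_add_cancel, h1] at h3
  exact right_eq_add.mp h3

end EndAlg

theorem two_pow_arith {m j : ℕ} (hj : j ≤ 2 * m) (hd : 2 ^ m + 1 ∣ 2 ^ j - 1) : j = 0 ∨ j = 2 * m := by
  rcases Nat.eq_zero_or_pos j with h0 | hpos
  · exact Or.inl h0
  refine Or.inr ?_
  by_contra hne
  rcases Nat.lt_or_ge m j with hmj | hmj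
  · obtain ⟨i, rfl⟩ : ∃ i, j = m + i := ⟨j - m, by omega⟩
    have him : i < m := by omega
    have h1 : 2 ^ m + 1 ∣ 2 ^ i * (2 ^ m + 1) := ⟨2 ^ i, by ring⟩
    have h2 := Nat.dvd_sub h1 hd
    have e : 2 ^ i * (2 ^ m + 1) - (2 ^ (m + i) - 1) = 2 ^ i + 1 := by
      have h0 : 1 ≤ 2 ^ m * 2 ^ i := Nat.one_le_iff_ne_zero.mpr (by positivity)
      rw [show 2 ^ i * (2 ^ m + 1) = 2 ^ m * 2 ^ i + 2 ^ i by ring, pow_add]
      generalize 2 ^ m * 2 ^ i = t at h0 ⊢
      generalize 2 ^ i = s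
      omega
    rw [e] at h2
    have h3 := Nat.le_of_dvd (Nat.succ_pos _) h2
    have : 2 ^ i < 2 ^ m := Nat.pow_lt_pow_right (by norm_num) him
    omega
  · have h2 : 0 < 2 ^ j - 1 := Nat.sub_pos_of_lt (Nat.one_lt_two_pow hpos.ne')
    have h3 := Nat.le_of_dvd h2 hd
    have : 2 ^ j ≤ 2 ^ m := Nat.pow_le_pow_right (by norm_num) hmj
    omega

variable {X : Type*} [Group X] {a : X} {p r m : ℕ} {G V E D : Subgroup X}

namespace QGrp

variable (h : QGrp p 2 r a G V E)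
include h

theorem fixed_le_of_rad [Finite X] [Fact p.Prime] {x : X} (hx : x ∈ E) (hfix : a * x = x * a) :
    x ∈ rad E D := h.fixed_le_rad (mem_fx.mpr ⟨hx, hfix⟩)

/-- An `a`-invariant subgroup above the radical of a weight is the radical or everything. -/
theorem eq_of_rad_le [Finite X] [Fact p.Prime] (hrm : r = 2 ^ m + 1)
    (hcard : Nat.card E = 2 ^ (2 * m) * Nat.card (rad E D)) {W : Subgroup X} (h1 : rad E D ≤ W) (h2 : W ≤ E)
    (hWa : a ∈ normalizer (W : Set X)) : W = rad E D ∨ W = E := by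
  obtain ⟨d, hd⟩ := Subgroup.card_dvd_of_le h1
  have hdd : d ∣ 2 ^ (2 * m) := by
    have := Subgroup.card_dvd_of_le h2
    rw [hd, hcard, mul_comm _ d] at this
    exact Nat.dvd_of_mul_dvd_mul_right Nat.card_pos this
  obtain ⟨j, hj, rfl⟩ := (Nat.dvd_prime_pow Nat.prime_two).mp hdd
  rcases two_pow_arith hj (m := m) (by
    rw [← hrm]
    by_contra hnd
    have hT : Nat.card ((W : Set X) \ (rad E D : Set X) : Set X) = Nat.card (rad E D) * (2 ^ j - 1) := by
      rw [Nat.card_coe_set_eq, Set.ncard_sdiff h1, ← Nat.card_coe_set_eq, ← Nat.card_coe_set_eq,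
        Nat.mul_sub_one]
      show Nat.card W - Nat.card (rad E D) = _
      rw [hd]
    have hra : ∀ x, x ∈ rad E D → a⁻¹ * x * a ∈ rad E D := by
      intro x hx
      rw [h.mem_rad] at hx ⊢
      have hE' := (Subgroup.mem_normalizer_iff.mp h.norm (a⁻¹ * x * a)).mpr (by simpa [mul_assoc] using hx.1)
      refine ⟨hE', fun y hy => ?_⟩
      have hc := h.comm_mem hE' hy
      have e : a * ⁅a⁻¹ * x * a, y⁆ * a⁻¹ = ⁅x, a * y * a⁻¹⁆ := by simp only [commutatorElement_def]; group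
      rw [(mem_fx'.mp hc).2] at e
      exact e ▸ hx.2 _ (conj_mem h.norm hy)
    obtain ⟨x, hx, hfix⟩ := h.act.exists_fixed_mem ((W : Set X) \ (rad E D : Set X) : Set X)
      (fun x hx => ⟨conj_mem hWa hx.1, fun hc => hx.2 (by
        have := hra _ hc; simpa [mul_assoc] using this)⟩) (by
        rw [hT]
        intro hdvd
        rcases h.cfg.act.prime.dvd_mul.mp hdvd with h3 | h3
        · exact h.act.not_dvd_card h.rad_le h3
        · exact hnd h3)
    exact hx.2 (h.fixed_le_of_rad (h2 hx.1) hfix)) with rfl | rfl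
  · exact Or.inl (Subgroup.eq_of_le_of_card_ge h1 (by rw [hd, pow_zero, mul_one])).symm
  · exact Or.inr (Subgroup.eq_of_le_of_card_ge h2 (by rw [hd, hcard, mul_comm]))

/-- An element of `G` commuting with `a` and normalizing a weight acts trivially modulo its radical. -/
theorem unit_lemma [Finite X] [hp : Fact p.Prime] (hD : D ≤ fx E a) (hDi : D.relIndex (fx E a) = 2)
    (hrm : r = 2 ^ m + 1) (hcard : Nat.card E = 2 ^ (2 * m) * Nat.card (rad E D))
    {c : X} (hcG : c ∈ G) (hca : a * c = c * a) (hcE : c ∈ normalizer (E : Set X))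
    (hcD : c ∈ normalizer (D : Set X)) {x : X} (hx : x ∈ E) : x⁻¹ * (c * x * c⁻¹) ∈ rad E D := by
  classical
  set R := rad E D
  let R' : Subgroup ↥E := R.subgroupOf E
  have hR'c : ∀ u w : ↥E, ⁅u, w⁆ ∈ R' := fun u w => h.fixed_le_rad (h.comm_mem u.2 w.2)
  haveI : R'.Normal := ⟨fun n hn g => by
    have : ⁅g, n⁆ * n ∈ R' := R'.mul_mem (hR'c g n) hn
    simpa [commutatorElement_def, mul_assoc] using this⟩
  let Q := ↥E ⧸ R'
  letI : CommGroup Q :=
    { (inferInstance : Group Q) with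
      mul_comm := by
        rintro ⟨u⟩ ⟨w⟩
        refine commutatorElement_eq_one_iff_mul_comm.mp ?_
        show ⁅QuotientGroup.mk' R' u, QuotientGroup.mk' R' w⁆ = 1
        rw [← map_commutatorElement]
        exact (QuotientGroup.eq_one_iff _).mpr (hR'c u w) }
  let π : ↥E →* Q := QuotientGroup.mk' R'
  have hD2 : ∀ u ∈ fx E a, ∀ w ∈ fx E a, (u * w ∈ D ↔ (u ∈ D ↔ w ∈ D)) := fun u hu w hw =>
    Subgroup.mul_mem_iff_of_index_two (H := D.subgroupOf (fx E a)) hDi (a := ⟨u, hu⟩) (b := ⟨w, hw⟩)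
  have hconjR : ∀ g : X, g ∈ normalizer (E : Set X) → g ∈ normalizer (D : Set X) → ∀ u ∈ R, g * u * g⁻¹ ∈ R := by
    intro g hgE hgD u hu
    rw [h.mem_rad] at hu ⊢
    refine ⟨conj_mem hgE hu.1, fun y hy => ?_⟩
    have hy' : g⁻¹ * y * g ∈ E := (Subgroup.mem_normalizer_iff.mp hgE _).mpr (by simpa [mul_assoc] using hy)
    have e : ⁅g * u * g⁻¹, y⁆ = g * ⁅u, g⁻¹ * y * g⁆ * g⁻¹ := by simp only [commutatorElement_def]; group
    rw [e]
    exact conj_mem hgD (hu.2 _ hy')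
  let act : ∀ g : X, g ∈ normalizer (E : Set X) → g ∈ normalizer (D : Set X) → AddMonoid.End (Additive Q) :=
    fun g hgE hgD => MonoidHom.toAdditive (QuotientGroup.map R' R'
      { toFun := fun u : ↥E => (⟨g * u * g⁻¹, conj_mem hgE u.2⟩ : ↥E)
        map_one' := Subtype.ext (by simp)
        map_mul' := fun u w => Subtype.ext (by simp [mul_assoc]) }
      (fun u hu => hconjR g hgE hgD u hu))
  have act_apply : ∀ g hE hD' (u : ↥E), act g hE hD' (Additive.ofMul (π u)) =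
      Additive.ofMul (π ⟨g * u * g⁻¹, conj_mem hE u.2⟩) := fun g hE hD' u => rfl
  have hsurj : ∀ y : Additive Q, ∃ u : ↥E, Additive.ofMul (π u) = y := fun y =>
    (QuotientGroup.mk'_surjective R' y.toMul).imp fun u hu => hu
  have hpow : ∀ g hE hD' (n : ℕ), (act g hE hD') ^ n =
      act (g ^ n) (Subgroup.pow_mem _ hE n) (Subgroup.pow_mem _ hD' n) := by
    intro g hE hD' n
    induction n with
    | zero =>
      refine AddMonoidHom.ext fun y => ?_
      obtain ⟨u, rfl⟩ := hsurj y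
      rw [pow_zero]
      refine Eq.trans ?_ (act_apply (g ^ 0) (Subgroup.pow_mem _ hE 0) (Subgroup.pow_mem _ hD' 0) u).symm
      exact congrArg (fun w => Additive.ofMul (π w)) (Subtype.ext (by simp : (u : X) = g ^ 0 * u * (g ^ 0)⁻¹))
    | succ n ih =>
      refine AddMonoidHom.ext fun y => ?_
      obtain ⟨u, rfl⟩ := hsurj y
      rw [pow_succ', ih]
      show Additive.ofMul (π ⟨g * (g ^ n * u * (g ^ n)⁻¹) * g⁻¹,
          conj_mem hE (conj_mem (Subgroup.pow_mem _ hE n) u.2)⟩) =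
        Additive.ofMul (π ⟨g ^ (n + 1) * u * (g ^ (n + 1))⁻¹, conj_mem (Subgroup.pow_mem _ hE (n + 1)) u.2⟩)
      exact congrArg (fun w => Additive.ofMul (π w)) (Subtype.ext (by simp [pow_succ', mul_assoc]))
  have haD : a ∈ normalizer (D : Set X) := mem_normalizer_of_centralizes fun z hz => (mem_fx.mp (hD hz)).2
  have h2 : ∀ y : Additive Q, y + y = 0 := by
    intro y
    obtain ⟨u, rfl⟩ := hsurj y
    show Additive.ofMul (π u * π u) = Additive.ofMul 1
    rw [← map_mul]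
    refine congrArg _ ((QuotientGroup.eq_one_iff _).mpr (show ((u * u : ↥E) : X) ∈ R from ?_))
    rw [Subgroup.coe_mul, ← sq]
    exact h.fixed_le_rad (h.pow_q_mem u.2)
  let b : ↥E → ↥E → ZMod 2 := fun u w => if ⁅(u : X), (w : X)⁆ ∈ D then 0 else 1
  have hb_r : ∀ u w w' : ↥E, w⁻¹ * w' ∈ R' → b u w = b u w' := by
    intro u w w' hw
    have h1 : ⁅(u : X), ((w⁻¹ * w' : ↥E) : X)⁆ ∈ D := by
      rw [← commutatorElement_inv]; exact D.inv_mem ((h.mem_rad.mp hw).2 u u.2)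
    have h3 : ⁅(u : X), (w' : X)⁆ = ⁅(u : X), (w : X)⁆ * ⁅(u : X), ((w⁻¹ * w' : ↥E) : X)⁆ := by
      rw [← h.comm_mul_right u.2 w.2 (w⁻¹ * w' : ↥E).2, Subgroup.coe_mul, Subgroup.coe_inv, mul_inv_cancel_left]
    show (if _ then (0 : ZMod 2) else 1) = if _ then 0 else 1
    rw [h3]
    simp only [D.mul_mem_cancel_right h1]
  have hb_symm : ∀ u w : ↥E, b u w = b w u := by
    intro u w
    show (if _ then (0 : ZMod 2) else 1) = if _ then 0 else 1
    rw [← commutatorElement_inv (u : X) w]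
    simp only [D.inv_mem_iff]
  let β : Additive Q → Additive Q → ZMod 2 := fun x y =>
    Quotient.liftOn₂' x.toMul y.toMul b fun u w u' w' hu hw => by
      rw [hb_r u w w' (QuotientGroup.leftRel_apply.mp hw), hb_symm u w', hb_r w' u u' (QuotientGroup.leftRel_apply.mp hu),
        hb_symm w' u']
  have β_apply : ∀ u w : ↥E, β (Additive.ofMul (π u)) (Additive.ofMul (π w)) = b u w := fun u w => rfl
  have hβr : ∀ x y z, β x (y + z) = β x y + β x z := by
    intro x y z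
    obtain ⟨u, rfl⟩ := hsurj x
    obtain ⟨w, rfl⟩ := hsurj y
    obtain ⟨w', rfl⟩ := hsurj z
    rw [← ofMul_mul, ← map_mul, β_apply, β_apply, β_apply]
    simp only [b]
    rw [Subgroup.coe_mul, h.comm_mul_right u.2 w.2 w'.2]
    have e := hD2 _ (h.comm_mem u.2 w.2) _ (h.comm_mem u.2 w'.2)
    by_cases h1 : ⁅(u : X), (w : X)⁆ ∈ D <;> by_cases h3 : ⁅(u : X), (w' : X)⁆ ∈ D <;>
      simp [e, h1, h3] <;> decide
  have hβsymm : ∀ x y, β x y = β y x := by
    intro x y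
    obtain ⟨u, rfl⟩ := hsurj x
    obtain ⟨w, rfl⟩ := hsurj y
    exact hb_symm u w
  have hinv : ∀ g hE hD', (∀ z ∈ fx E a, g * z * g⁻¹ ∈ D ↔ z ∈ D) →
      ∀ x y, β (act g hE hD' x) (act g hE hD' y) = β x y := by
    intro g hE hD' hg x y
    obtain ⟨u, rfl⟩ := hsurj x
    obtain ⟨w, rfl⟩ := hsurj y
    show b ⟨g * u * g⁻¹, conj_mem hE u.2⟩ ⟨g * w * g⁻¹, conj_mem hE w.2⟩ = b u w
    simp only [b]
    rw [show ⁅g * (u : X) * g⁻¹, g * (w : X) * g⁻¹⁆ = g * ⁅(u : X), (w : X)⁆ * g⁻¹ by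
      simp only [commutatorElement_def]; group]
    simp only [hg _ (h.comm_mem u.2 w.2)]
  have hirr : ∀ S : AddSubgroup (Additive Q), (∀ y ∈ S, act a h.norm haD y ∈ S) → S = ⊥ ∨ S = ⊤ := by
    intro S hS
    let S' : Subgroup ↥E := (AddSubgroup.toSubgroup' S).comap π
    have hS' : ∀ u : ↥E, u ∈ S' ↔ Additive.ofMul (π u) ∈ S := fun u => Iff.rfl
    let W : Subgroup X := S'.map E.subtype
    have hWa : a ∈ normalizer (W : Set X) := by
      have hfwd : ∀ w ∈ W, a * w * a⁻¹ ∈ W := by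
        rintro _ ⟨u, hu, rfl⟩
        exact ⟨⟨a * u * a⁻¹, conj_mem h.norm u.2⟩, hS _ hu, rfl⟩
      refine Subgroup.mem_normalizer_iff.mpr fun w => ⟨hfwd w, fun hw => ?_⟩
      have key : ∀ n : ℕ, a ^ n * (a * w * a⁻¹) * (a ^ n)⁻¹ ∈ W := by
        intro n
        induction n with
        | zero => simpa using hw
        | succ n ih => convert hfwd _ ih using 1; rw [pow_succ']; group
      have h1 : a ^ (r - 1) * a = 1 := by rw [← pow_succ, Nat.sub_add_cancel h.cfg.act.prime.pos, h.cfg.act.pow_r]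
      convert key (r - 1) using 1
      rw [show a ^ (r - 1) * (a * w * a⁻¹) * (a ^ (r - 1))⁻¹ = (a ^ (r - 1) * a) * w * (a ^ (r - 1) * a)⁻¹ by
        group, h1]
      simp
    have hRW : R ≤ W := fun u hu => ⟨⟨u, h.rad_le hu⟩, by
      rw [SetLike.mem_coe, hS', show π ⟨u, h.rad_le hu⟩ = 1 from (QuotientGroup.eq_one_iff _).mpr hu, ofMul_one]
      exact S.zero_mem, rfl⟩
    rcases h.eq_of_rad_le hrm hcard hRW (Subgroup.map_subtype_le _) hWa with hW | hW
    · refine Or.inl ((AddSubgroup.eq_bot_iff_forall _).mpr fun y hy => ?_)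
      obtain ⟨u, rfl⟩ := hsurj y
      have : (u : X) ∈ R := by rw [show R = W from hW.symm]; exact ⟨u, hy, rfl⟩
      rw [show π u = 1 from (QuotientGroup.eq_one_iff _).mpr this, ofMul_one]
    · refine Or.inr ((AddSubgroup.eq_top_iff' _).mpr fun y => ?_)
      obtain ⟨u, rfl⟩ := hsurj y
      obtain ⟨u', hu', e⟩ : (u : X) ∈ W := hW.ge u.2
      rwa [Subtype.ext e] at hu'
  have haFix : ∀ z ∈ fx E a, a * z * a⁻¹ ∈ D ↔ z ∈ D := fun z hz => by rw [(mem_fx'.mp hz).2]
  have hcFix : ∀ z ∈ fx E a, c * z * c⁻¹ ∈ D ↔ z ∈ D := fun z _ => (Subgroup.mem_normalizer_iff.mp hcD z).symm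
  have hA : (act a h.norm haD) ^ (2 ^ m + 1) = 1 := by
    rw [hpow a h.norm haD]
    refine AddMonoidHom.ext fun y => ?_
    obtain ⟨u, rfl⟩ := hsurj y
    refine (act_apply (a ^ (2 ^ m + 1)) (Subgroup.pow_mem _ h.norm _) (Subgroup.pow_mem _ haD _) u).trans ?_
    exact congrArg (fun w => Additive.ofMul (π w)) (Subtype.ext (by simp [← hrm, h.cfg.act.pow_r] :
      a ^ (2 ^ m + 1) * u * (a ^ (2 ^ m + 1))⁻¹ = u))
  have hC := pow_eq_one_of_form h2 m (act a h.norm haD) (act c hcE hcD) (by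
      refine AddMonoidHom.ext fun y => ?_
      obtain ⟨u, rfl⟩ := hsurj y
      show Additive.ofMul (π ⟨a * (c * u * c⁻¹) * a⁻¹, conj_mem h.norm (conj_mem hcE u.2)⟩) =
        Additive.ofMul (π ⟨c * (a * u * a⁻¹) * c⁻¹, conj_mem hcE (conj_mem h.norm u.2)⟩)
      refine congrArg (fun w => Additive.ofMul (π w)) (Subtype.ext ?_)
      show a * (c * u * c⁻¹) * a⁻¹ = c * (a * u * a⁻¹) * c⁻¹
      calc a * (c * u * c⁻¹) * a⁻¹ = (a * c) * u * (a * c)⁻¹ := by group
        _ = (c * a) * u * (c * a)⁻¹ := by rw [hca]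
        _ = _ := by group)
    hA β (fun x y z => by rw [hβsymm, hβr, hβsymm z x, hβsymm z y]) hβr
    (fun y hy => by
      obtain ⟨w, rfl⟩ := hsurj y
      rw [show π w = 1 from (QuotientGroup.eq_one_iff _).mpr (h.mem_rad.mpr ⟨w.2, fun u hu => ?_⟩), ofMul_one]
      have hb0 := hy (Additive.ofMul (π ⟨u, hu⟩))
      rw [β_apply, hb_symm] at hb0
      by_contra hne
      rw [show b w ⟨u, hu⟩ = 1 from if_neg hne] at hb0
      exact one_ne_zero hb0)
    (hinv a h.norm haD haFix) (hinv c hcE hcD hcFix) hirr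
  -- `c` is a power of `c ^ r`
  obtain ⟨n, hn⟩ := exists_pow_eq_self_of_coprime (x := c) (n := r)
    ((h.cfg.act.prime.coprime_iff_not_dvd.mpr h.cfg.act.cop).coprime_dvd_right (Subgroup.orderOf_dvd_natCard G hcG))
  have hC1 : act c hcE hcD = 1 := by
    have e := hpow c hcE hcD ((2 ^ m + 1) * n)
    rw [pow_mul, hC, one_pow] at e
    have hsub : ∀ (g : X) (_ : g = c) (h1 : g ∈ normalizer (E : Set X)) (h3 : g ∈ normalizer (D : Set X)),
        act g h1 h3 = act c hcE hcD := by rintro g rfl _ _; rfl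
    rw [hsub (c ^ ((2 ^ m + 1) * n)) (by rw [← hrm, pow_mul]; exact hn) (Subgroup.pow_mem _ hcE _) (Subgroup.pow_mem _ hcD _)] at e
    exact e.symm
  have hfin := congrArg (fun F : AddMonoid.End (Additive Q) => F (Additive.ofMul (π ⟨x, hx⟩))) hC1
  have hfin' : π ⟨c * x * c⁻¹, conj_mem hcE hx⟩ = π ⟨x, hx⟩ :=
    (act_apply c hcE hcD ⟨x, hx⟩).symm.trans hfin
  have hfin2 : ((⟨x, hx⟩ : ↥E) : ↥E ⧸ R') = ((⟨c * x * c⁻¹, conj_mem hcE hx⟩ : ↥E) : ↥E ⧸ R') := hfin'.symm
  have hfin3 := QuotientGroup.eq.mp hfin2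
  exact hfin3

/-- An element commuting with `a` and trivial on `W / E'` centralizes `[W, a]`. -/
theorem centralizes_br [Finite X] [Fact p.Prime] {W : Subgroup X} (hW : W ≤ E)
    (hWa : a ∈ normalizer (W : Set X)) {c : X} (hca : a * c = c * a)
    (htriv : ∀ x ∈ W, x⁻¹ * (c * x * c⁻¹) ∈ fx E a) : ∀ x ∈ br W a, c * x = x * c := by
  let δ : ↥W →* ↥(fx E a) :=
    { toFun := fun x => ⟨_, htriv x x.2⟩
      map_one' := Subtype.ext (by simp)
      map_mul' := fun x y => Subtype.ext (by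
        show ((x : X) * y)⁻¹ * (c * ((x : X) * y) * c⁻¹) = ((x : X)⁻¹ * (c * x * c⁻¹)) * ((y : X)⁻¹ * (c * y * c⁻¹))
        have hcen := h.fixed_central (htriv x x.2) (E.inv_mem (hW y.2))
        calc ((x : X) * y)⁻¹ * (c * ((x : X) * y) * c⁻¹)
            = (y : X)⁻¹ * ((x : X)⁻¹ * (c * x * c⁻¹)) * (c * y * c⁻¹) := by group
          _ = ((x : X)⁻¹ * (c * x * c⁻¹)) * (y : X)⁻¹ * (c * y * c⁻¹) := by rw [← hcen]
          _ = _ := by group) }
  have hδ : ∀ x : ↥W, δ ⟨a * x * a⁻¹, conj_mem hWa x.2⟩ = δ x := fun x => Subtype.ext (by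
    show (a * (x : X) * a⁻¹)⁻¹ * (c * (a * x * a⁻¹) * c⁻¹) = (x : X)⁻¹ * (c * x * c⁻¹)
    calc (a * (x : X) * a⁻¹)⁻¹ * (c * (a * x * a⁻¹) * c⁻¹)
        = a * (x : X)⁻¹ * a⁻¹ * ((c * a) * x * (c * a)⁻¹) := by group
      _ = a * (x : X)⁻¹ * a⁻¹ * ((a * c) * x * (a * c)⁻¹) := by rw [hca]
      _ = a * ((x : X)⁻¹ * (c * x * c⁻¹)) * a⁻¹ := by group
      _ = _ := (mem_fx'.mp (htriv x x.2)).2)
  have hle : br W a ≤ δ.ker.map W.subtype := by
    rw [br, Subgroup.commutator_le]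
    intro x hx b hb
    obtain ⟨n, rfl⟩ : ∃ n : ℕ, a ^ n = b := mem_powers_iff_mem_zpowers.mpr hb
    have hmem : ∀ n : ℕ, ∀ y : ↥W, a ^ n * y * (a ^ n)⁻¹ ∈ W := fun n y =>
      conj_mem (Subgroup.pow_mem _ hWa n) y.2
    have hδn : ∀ n : ℕ, ∀ y : ↥W, δ ⟨a ^ n * y * (a ^ n)⁻¹, hmem n y⟩ = δ y := by
      intro n
      induction n with
      | zero => intro y; exact congrArg δ (Subtype.ext (by simp))
      | succ n ih =>
        intro y
        refine Eq.trans (congrArg δ (Subtype.ext ?_)) ((hδ ⟨_, hmem n y⟩).trans (ih y))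
        simp [pow_succ', mul_assoc]
    refine ⟨⟨x, hx⟩ * (⟨a ^ n * x * (a ^ n)⁻¹, hmem n ⟨x, hx⟩⟩ : ↥W)⁻¹, ?_, ?_⟩
    · rw [SetLike.mem_coe, MonoidHom.mem_ker, map_mul, map_inv, hδn n ⟨x, hx⟩, mul_inv_cancel]
    · simp [commutatorElement_def, mul_assoc]
  intro x hx
  obtain ⟨y, hy, rfl⟩ := hle hx
  have := congrArg Subtype.val (MonoidHom.mem_ker.mp hy)
  exact mul_inv_eq_iff_eq_mul.mp (inv_mul_eq_one.mp this).symm

end QGrp

end Cfsg.Agent.Invol.Shult
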