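import Mathlib
import Cfsg.Agent.Lib.Invol.Shult.UnitLemma

/-!
The conclusion `Good` of the fixed-point-free module theorem and the configuration of a minimal
counterexample to it.
-/

set_option autoImplicit false

namespace Cfsg.Agent.Invol.Shult

open Subgroup
open scoped Pointwise commutatorElement
open Cfsg.Agent.Grp (IsSylowIn)

variable {X : Type*} [Group X]

/-- `[G, a]` is a `2`-group modulo a normal subgroup inducing a `p`-group on the module. -/
def Good (p : ℕ) (a : X) (G V : Subgroup X) : Prop :=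
  ∃ N : Subgroup X, N ≤ br G a ∧ br G a ≤ normalizer (N : Set X) ∧
    (∀ n ∈ N, ∃ j : ℕ, n ^ p ^ j ∈ centralizer (V : Set X)) ∧ ∀ d ∈ br G a, ∃ k : ℕ, d ^ 2 ^ k ∈ N

/-- A minimal counterexample: `G = [G, a]` is perfect, acts faithfully and irreducibly with `a`, its
proper normal `a`-invariant subgroups are central, and proper `a`-invariant subgroups satisfy the theorem. -/
structure Setup (p r m : ℕ) (a : X) (G V E : Subgroup X) : Prop where
  cfg : Cfg p r a G V
  faith : G ⊓ centralizer (V : Set X) = ⊥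
  podd : p ≠ 2
  irred : ∀ W : Subgroup X, W ≤ V → G ≤ normalizer (W : Set X) → a ∈ normalizer (W : Set X) → W = ⊥ ∨ W = V
  brG : br G a = G
  perfect : ⁅G, G⁆ = G
  hrm : r = 2 ^ m + 1
  small : ∀ N : Subgroup X, N ≤ G → G ≤ normalizer (N : Set X) → a ∈ normalizer (N : Set X) → N ≠ G →
    N ≤ centralizer (G : Set X)
  sylow : ∃ S : Subgroup X, IsSylowIn 2 S G ∧ a ∈ normalizer (S : Set X) ∧ E = br S a
  neE : E ≠ ⊥
  ind : ∀ H : Subgroup X, H ≤ G → a ∈ normalizer (H : Set X) → H ≠ G →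
    ∃ N : Subgroup X, N ≤ br H a ∧ br H a ≤ normalizer (N : Set X) ∧ IsPGroup p N ∧
      ∀ d ∈ br H a, ∃ k : ℕ, d ^ 2 ^ k ∈ N

end Cfsg.Agent.Invol.Shult
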