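import Mathlib
import Cfsg.Agent.Lib.Invol.Shult.Setup

/-!
Local structure inside a minimal counterexample: frames, weights, proper `a`-invariant subgroups.
-/

set_option autoImplicit false

namespace Cfsg.Agent.Invol.Shult

open Subgroup
open scoped Pointwise commutatorElement
open Cfsg.Agent.Grp (IsSylowIn)

variable {X : Type*} [Group X] {a : X} {p r m : ℕ} {G V E H T : Subgroup X}

/-- A frame: a conjugate of `E` by a fixed element. -/
def Frame (a : X) (G E E' : Subgroup X) : Prop := ∃ c ∈ fx G a, E' = MulAut.conj c • E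

/-- The central part of `E'`. -/
def cen (a : X) (G E : Subgroup X) : Subgroup X := fx E a ⊓ centralizer (G : Set X)

/-- A weight: a hyperplane of `E'` with fixed vectors not fixed by `E'`. -/
def IsWeight (a : X) (V E D : Subgroup X) : Prop :=
  D ≤ fx E a ∧ D.relIndex (fx E a) = 2 ∧
    ¬ V ⊓ centralizer (D : Set X) ≤ centralizer ((fx E a : Subgroup X) : Set X)

theorem smul_isPGroup {q : ℕ} {g : X} (hT : IsPGroup q T) : IsPGroup q (MulAut.conj g • T : Subgroup X) :=
  hT.map _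

theorem mem_smul_iff' {g x : X} {K : Subgroup X} : x ∈ MulAut.conj g • K ↔ g⁻¹ * x * g ∈ K := by
  rw [Subgroup.mem_pointwise_smul_iff_inv_smul_mem]
  simp [MulAut.smul_def, ← map_inv]

theorem conj_mem_smul {g x : X} {K : Subgroup X} (hx : x ∈ K) : g * x * g⁻¹ ∈ MulAut.conj g • K :=
  mem_smul_iff'.mpr (by simpa [mul_assoc] using hx)

theorem smul_eq_of_le_norm {g : X} {K : Subgroup X} (hg : g ∈ normalizer (K : Set X)) :
    MulAut.conj g • K = K := Grp.mem_normalizer_iff_smul.mp hg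

namespace Setup

variable [Finite X] [Fact p.Prime] (h : Setup p r m a G V E)
include h

theorem act : Act a r G := h.cfg.act

theorem two_ne : (2 : ℕ) ≠ p := fun e => h.podd e.symm

theorem E_le : E ≤ G := by
  obtain ⟨S, hS, hSa, rfl⟩ := h.sylow
  exact (br_le hSa).trans hS.1

theorem norm_E : a ∈ normalizer (E : Set X) := by
  obtain ⟨S, -, -, rfl⟩ := h.sylow
  exact norm_br

theorem qgrp : QGrp p 2 r a G V E := by
  refine ⟨h.cfg, h.faith, h.E_le, h.norm_E, ?_, h.two_ne, ?_⟩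
  · obtain ⟨S, hS, hSa, rfl⟩ := h.sylow
    exact hS.2.1.to_le (br_le hSa)
  · obtain ⟨S, hS, hSa, rfl⟩ := h.sylow
    exact (h.act.mono hS.1 hSa).br_br

theorem isTwo_E : IsPGroup 2 E := h.qgrp.isQ

theorem fx_le_G : fx E a ≤ G := fx_le.trans h.E_le

theorem fixed_invol {z : X} (hz : z ∈ fx E a) : z * z = 1 := by rw [← sq]; exact h.qgrp.fixed_pow_q z hz

theorem cen_central {z x : X} (hz : z ∈ cen a G E) (hx : x ∈ G) : z * x = x * z :=
  (Subgroup.mem_centralizer_iff.mp hz.2 x hx).symm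

/-- Nontrivial central elements of `E'` invert the module. -/
theorem cen_inverts {z v : X} (hz : z ∈ cen a G E) (hz1 : z ≠ 1) (hv : v ∈ V) : z * v * z⁻¹ = v⁻¹ := by
  have hzV : z ∈ normalizer (V : Set X) := h.cfg.normG (h.fx_le_G hz.1)
  set W := V ⊓ centralizer ({z} : Set X) with hW
  have hW1 : W = ⊥ := by
    have hzc : ∀ g : X, g * z = z * g → g ∈ normalizer ((centralizer ({z} : Set X) : Subgroup X) : Set X) := by
      intro g hg
      have : centralizer ({z} : Set X) = centralizer ((zpowers z : Subgroup X) : Set X) :=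
        Grp.centralizer_singleton_zpowers z
      rw [this]
      refine mem_normalizer_centralizer (mem_normalizer_of_centralizes fun x hx => ?_)
      obtain ⟨i, rfl⟩ := mem_zpowers_iff.mp hx
      exact ((show Commute g z from hg).zpow_right i).eq
    refine (h.irred W inf_le_left (fun g hg => mem_normalizer_inf (h.cfg.normG hg) (hzc g (h.cen_central hz hg).symm))
      (mem_normalizer_inf h.cfg.norma (hzc a (mem_fx.mp hz.1).2))).resolve_right fun e => hz1 ?_
    have hzm : z ∈ G ⊓ centralizer (V : Set X) := ⟨h.fx_le_G hz.1, Subgroup.mem_centralizer_iff.mpr fun u hu => by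
      have : u ∈ W := e.symm ▸ hu
      exact Subgroup.mem_centralizer_singleton_iff.mp this.2⟩
    rwa [h.faith] at hzm
  have hv' : z * v * z⁻¹ ∈ V := conj_mem hzV hv
  have hinv : z⁻¹ = z := (eq_inv_of_mul_eq_one_left (h.fixed_invol hz.1)).symm
  have hmem : v * (z * v * z⁻¹) ∈ W := by
    refine ⟨V.mul_mem hv hv', Subgroup.mem_centralizer_singleton_iff.mpr ?_⟩
    calc v * (z * v * z⁻¹) * z = v * z * v := by group
      _ = z * (z⁻¹ * v * z * v) := by group
      _ = z * (v * (z * v * z⁻¹)) := by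
          rw [show z⁻¹ * v * z = z * v * z⁻¹ by rw [hinv], h.cfg.comm hv' hv]
  rw [hW1, Subgroup.mem_bot] at hmem
  exact eq_inv_of_mul_eq_one_right hmem

theorem cen_eq_of_ne_one {z w : X} (hz : z ∈ cen a G E) (hz1 : z ≠ 1) (hw : w ∈ cen a G E) (hw1 : w ≠ 1) :
    z = w := by
  have hmem : z⁻¹ * w ∈ G ⊓ centralizer (V : Set X) := by
    refine ⟨G.mul_mem (G.inv_mem (h.fx_le_G hz.1)) (h.fx_le_G hw.1), Subgroup.mem_centralizer_iff.mpr fun v hv => ?_⟩
    have e1 := h.cen_inverts hz hz1 hv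
    have e2 := h.cen_inverts hw hw1 hv
    calc v * (z⁻¹ * w) = z⁻¹ * ((z * v * z⁻¹) * w) := by group
      _ = z⁻¹ * ((w * v * w⁻¹) * w) := by rw [e1, e2]
      _ = z⁻¹ * w * v := by group
  rw [h.faith, Subgroup.mem_bot] at hmem
  exact inv_mul_eq_one.mp hmem

/-- Weights separate `E'`. -/
theorem weights_sep {z : X} (hz : z ∈ fx E a) (hall : ∀ D, IsWeight a V E D → z ∈ D) : z = 1 := by
  have hne : fx E a ≠ ⊥ := fun e => h.neE (h.qgrp.eq_bot_of_abelian fun x hx y hy =>
    commutatorElement_eq_one_iff_mul_comm.mp (Subgroup.mem_bot.mp (e ▸ h.qgrp.comm_mem hx hy)))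
  have hcop : ¬ 2 ∣ Nat.card V := not_dvd_card_of_isPGroup h.cfg.isPGroup h.podd
  have hle := Grp.le_of_hyperplanes (p := 2) h.qgrp.elem_fixed hne V hcop (h.fx_le_G.trans h.cfg.normG)
    (T := centralizer ({z} : Set X)) (fun D hD hi => by
      by_cases hw : V ⊓ centralizer (D : Set X) ≤ centralizer ((fx E a : Subgroup X) : Set X)
      · exact hw.trans (Subgroup.centralizer_le (Set.singleton_subset_iff.mpr hz))
      · exact fun v hv => Subgroup.mem_centralizer_singleton_iff.mpr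
          ((Subgroup.mem_centralizer_iff.mp hv.2 z (hall D ⟨hD, hi, hw⟩)).symm))
  have hm : z ∈ G ⊓ centralizer (V : Set X) := ⟨h.fx_le_G hz, Subgroup.mem_centralizer_iff.mpr fun v hv =>
    Subgroup.mem_centralizer_singleton_iff.mp (hle hv)⟩
  rwa [h.faith] at hm

theorem mem_fixed_of_rad {x : X} (hx : x ∈ E) (hall : ∀ D, IsWeight a V E D → x ∈ rad E D) : x ∈ fx E a := by
  refine h.qgrp.center_le_fixed ⟨hx, Subgroup.mem_centralizer_iff.mpr fun y hy => ?_⟩
  refine (commutatorElement_eq_one_iff_mul_comm.mp (h.weights_sep (h.qgrp.comm_mem hx hy) fun D hD => ?_)).symm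
  exact (h.qgrp.mem_rad.mp (hall D hD)).2 y hy

theorem weight_card {D : Subgroup X} (hD : IsWeight a V E D) :
    Nat.card E = 2 ^ (2 * m) * Nat.card (rad E D) := by
  obtain ⟨-, m', hm', hc⟩ := h.qgrp.weight_facts hD.1 hD.2.1 hD.2.2
  have : m' = m := Nat.pow_right_injective le_rfl (Nat.add_right_cancel (hm'.symm.trans h.hrm))
  rwa [this] at hc

theorem exists_isWeight : ∃ D, IsWeight a V E D := by
  obtain ⟨D, h1, h2, h3⟩ := h.qgrp.exists_weight h.neE
  exact ⟨D, h1, h2, h3⟩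

/-- An element commuting with `a`, normalizing `E` and fixing `E'` pointwise centralizes `E`. -/
theorem centralizes_E {c : X} (hcG : c ∈ G) (hca : a * c = c * a) (hcE : c ∈ normalizer (E : Set X))
    (hcΦ : ∀ z ∈ fx E a, c * z = z * c) : ∀ x ∈ E, c * x = x * c := by
  have htriv : ∀ x ∈ E, x⁻¹ * (c * x * c⁻¹) ∈ fx E a := fun x hx =>
    h.mem_fixed_of_rad (E.mul_mem (E.inv_mem hx) (conj_mem hcE hx)) fun D hD =>
      h.qgrp.unit_lemma hD.1 hD.2.1 h.hrm (h.weight_card hD) hcG hca hcE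
        (mem_normalizer_of_centralizes fun z hz => hcΦ z (hD.1 hz)) hx
  intro x hx
  exact h.qgrp.centralizes_br le_rfl h.norm_E hca htriv x (h.qgrp.brE.ge hx)

/-- A normal `p`-subgroup of `G` normalized by `a` is trivial. -/
theorem pnormal_eq_bot {N : Subgroup X} (hN : N ≤ G) (hGN : G ≤ normalizer (N : Set X))
    (haN : a ∈ normalizer (N : Set X)) (hp : IsPGroup p N) : N = ⊥ := by
  classical
  have hV : V ≠ ⊥ := fun e => h.neE (le_bot_iff.mp fun x hx => by
    have : x ∈ G ⊓ centralizer (V : Set X) := ⟨h.E_le hx, Subgroup.mem_centralizer_iff.mpr fun v hv => by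
      rw [e, SetLike.mem_coe, Subgroup.mem_bot] at hv; simp [hv]⟩
    rwa [h.faith] at this)
  set W := V ⊓ centralizer (N : Set X) with hW
  rcases h.irred W inf_le_left
      (fun g hg => mem_normalizer_inf (h.cfg.normG hg) (mem_normalizer_centralizer (hGN hg)))
      (mem_normalizer_inf h.cfg.norma (mem_normalizer_centralizer haN)) with e | e
  · exfalso
    obtain ⟨n, hn⟩ := IsPGroup.iff_card.mp h.cfg.isPGroup
    have hn0 : n ≠ 0 := fun h0 => hV (Subgroup.card_eq_one.mp (by rw [hn, h0, pow_zero]))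
    have hmem : ∀ (x : ↥N) (v : ↥V), (x : X) * v * (x : X)⁻¹ ∈ V := fun x v => conj_mem (h.cfg.normG (hN x.2)) v.2
    let _ : MulAction ↥N ↥V :=
      { smul := fun x v => ⟨_, hmem x v⟩
        one_smul := fun v => Subtype.ext (show ((1 : ↥N) : X) * v * _ = v by simp)
        mul_smul := fun x y v => Subtype.ext (show ((x * y : ↥N) : X) * v * _ = _ by
          simp [HSMul.hSMul, SMul.smul, mul_assoc]) }
    obtain ⟨w, hw, hw1⟩ := hp.exists_fixed_point_of_prime_dvd_card_of_fixed_point ↥V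
      (hn ▸ dvd_pow_self p hn0) (a := (1 : ↥V))
      (fun x => Subtype.ext (show (x : X) * ((1 : ↥V) : X) * _ = ((1 : ↥V) : X) by simp))
    have : (w : X) ∈ W := ⟨w.2, Subgroup.mem_centralizer_iff.mpr fun x hx =>
      mul_inv_eq_iff_eq_mul.mp (congrArg Subtype.val (hw ⟨x, hx⟩))⟩
    rw [e, Subgroup.mem_bot] at this
    exact hw1 (Subtype.ext this).symm
  · refine le_bot_iff.mp fun x hx => ?_
    have : x ∈ G ⊓ centralizer (V : Set X) :=
      ⟨hN hx, Subgroup.mem_centralizer_iff.mpr fun v hv => by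
        have hv' : v ∈ W := e.symm ▸ hv
        exact (Subgroup.mem_centralizer_iff.mp hv'.2 x hx).symm⟩
    rwa [h.faith] at this

/-! ### Frames and proper invariant subgroups -/

theorem frame_self : Frame a G E E := ⟨1, one_mem _, by simp⟩

theorem frame_card {E' : Subgroup X} (hE' : Frame a G E E') : Nat.card E' = Nat.card E := by
  obtain ⟨c, -, rfl⟩ := hE'
  exact Grp.card_conj_smul c E

/-- The commutator part of an invariant `2`-subgroup lies in a frame. -/
theorem moved_le_frame (hT : T ≤ G) (hT2 : IsPGroup 2 T) (hTa : a ∈ normalizer (T : Set X)) :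
    ∃ E', Frame a G E E' ∧ br T a ≤ E' := by
  haveI := Fact.mk Nat.prime_two
  obtain ⟨S, hS, hSa, hE⟩ := h.sylow
  obtain ⟨S', hS', hS'a, hTS⟩ := h.act.exists_sylow hT hT2 hTa
  obtain ⟨c, hc, e⟩ := h.act.sylow_conj hS hS' hSa hS'a
  refine ⟨_, ⟨c, hc, rfl⟩, (br_mono hTS).trans ?_⟩
  rw [hE, br_smul_of_fixed (mem_fx.mp hc).2, e]

/-- Proper invariant subgroups: `[H, a]` is a normal `p`-group times a moved `2`-group inside a frame. -/
theorem local_struct' (hH : H ≤ G) (hHa : a ∈ normalizer (H : Set X)) (hne : H ≠ G)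
    (hT : T ≤ br H a) (hT2 : IsPGroup 2 T) (hTa : a ∈ normalizer (T : Set X)) :
    ∃ Xp Y E' : Subgroup X, IsPGroup p Xp ∧ Xp ≤ br H a ∧ H ≤ normalizer (Xp : Set X) ∧
      a ∈ normalizer (Xp : Set X) ∧ Frame a G E E' ∧ Y ≤ E' ∧ T ≤ Y ∧ IsSylowIn 2 Y (br H a) ∧
      a ∈ normalizer (Y : Set X) ∧ br Y a = Y ∧ (∀ g ∈ br H a, ∃ x ∈ Xp, ∃ y ∈ Y, g = x * y) := by
  classical
  haveI := Fact.mk Nat.prime_two
  obtain ⟨N, hNle, hNn, hNp, hN2⟩ := h.ind H hH hHa hne
  set B := br H a with hB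
  have hBG : B ≤ G := (br_le hHa).trans hH
  have hmax : ∀ P : Subgroup X, P ≤ B → IsPGroup p P → P ≤ N := by
    intro P hP hPp x hx
    obtain ⟨k, hk⟩ := hN2 x (hP hx)
    obtain ⟨j, hj⟩ := hPp ⟨x, hx⟩
    have hj' : x ^ p ^ j = 1 := by simpa using congrArg Subtype.val hj
    have hcop : (2 ^ k).Coprime (orderOf x) :=
      ((Nat.coprime_primes Nat.prime_two (Fact.out : p.Prime)).mpr h.two_ne).pow k j |>.coprime_dvd_right
        (orderOf_dvd_of_pow_eq_one hj')
    obtain ⟨i, hi⟩ := exists_pow_eq_self_of_coprime (x := x) (n := 2 ^ k) hcop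
    rw [← hi]
    exact N.pow_mem hk i
  have hchar : ∀ g, g ∈ normalizer (B : Set X) → g ∈ normalizer (N : Set X) := by
    intro g hg
    have hle : MulAut.conj g • N ≤ N := hmax _ (by
      intro x hx
      have := hNle (mem_smul_iff'.mp hx)
      exact (Subgroup.mem_normalizer_iff''.mp hg x).mpr this) (smul_isPGroup hNp)
    exact Grp.mem_normalizer_iff_smul.mpr (Subgroup.eq_of_le_of_card_ge hle (Grp.card_conj_smul g N).ge)
  have hactB : Act a r B := h.act.mono hBG norm_br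
  obtain ⟨Y, hY, hYa, hTY⟩ := hactB.exists_sylow hT hT2 hTa
  have hdec : ∀ g ∈ B, ∃ x ∈ N, ∃ y ∈ Y, g = x * y := by
    have hcard : Nat.card B ≤ Nat.card (N ⊔ Y : Subgroup X) := by
      refine Nat.le_of_dvd Nat.card_pos ?_
      have hrel : (N ⊔ Y).relIndex B = 1 := by
        by_contra hne'
        obtain ⟨q, hq, hqd⟩ := Nat.exists_prime_and_dvd hne'
        haveI := Fact.mk hq
        by_cases hq2 : q = 2
        · subst hq2
          exact hY.2.2 (hqd.trans (Subgroup.relIndex_dvd_of_le_left B le_sup_right))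
        · obtain ⟨P, hP⟩ := Grp.exists_isSylowIn (G := X) q B
          have hPN : P ≤ N := by
            intro x hx
            obtain ⟨k, hk⟩ := hN2 x (hP.1 hx)
            obtain ⟨j, hj⟩ := hP.2.1 ⟨x, hx⟩
            have hj' : x ^ q ^ j = 1 := by simpa using congrArg Subtype.val hj
            obtain ⟨i, hi⟩ := exists_pow_eq_self_of_coprime (x := x) (n := 2 ^ k)
              (((Nat.coprime_primes Nat.prime_two hq).mpr (Ne.symm hq2)).pow k j |>.coprime_dvd_right
                (orderOf_dvd_of_pow_eq_one hj'))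
            rw [← hi]
            exact N.pow_mem hk i
          exact hP.2.2 (hqd.trans (Subgroup.relIndex_dvd_of_le_left B (hPN.trans le_sup_left)))
      rw [← Grp.card_mul_relIndex (sup_le hNle hY.1), hrel, mul_one]
    intro g hg
    have hgs : g ∈ N ⊔ Y := (Subgroup.eq_of_le_of_card_ge (sup_le hNle hY.1) hcard).ge hg
    rw [← SetLike.mem_coe, Subgroup.coe_mul_of_right_le_normalizer_left N Y (hY.1.trans hNn)] at hgs
    obtain ⟨x, hx, y, hy, e⟩ := hgs
    exact ⟨x, hx, y, hy, e.symm⟩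
  have hYbr : br Y a = Y := by
    refine le_antisymm (br_le hYa) ?_
    have hdisj : ∀ x ∈ N, x ∈ Y → x = 1 := fun x hxN hxY => by
      have hm : x ∈ N ⊓ Y := ⟨hxN, hxY⟩
      rw [disjoint_iff.mp (IsPGroup.disjoint_of_ne p 2 h.podd N Y hNp hY.2.1)] at hm
      exact hm
    have hK : br B a ≤ N ⊔ br Y a := by
      rw [br, Subgroup.commutator_le]
      intro g hg b hb
      obtain ⟨x, hx, y, hy, rfl⟩ := hdec g hg
      have hbN : b ∈ normalizer (N : Set X) :=
        zpowers_le_norm (hchar a norm_br) hb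
      have h1 : ⁅x, b⁆ ∈ N := by
        rw [commutatorElement_def, mul_assoc, mul_assoc]
        exact N.mul_mem hx (by simpa [mul_assoc] using conj_mem hbN (N.inv_mem hx))
      have h2 : ⁅y, b⁆ ∈ br Y a := Subgroup.commutator_mem_commutator hy hb
      rw [commutatorElement_mul_left_eq_conj_mul]
      refine Subgroup.mul_mem _ ?_ (mem_sup_left h1)
      exact Subgroup.mul_mem _ (Subgroup.mul_mem _ (mem_sup_left hx) (mem_sup_right h2))
        (mem_sup_left (N.inv_mem hx))
    intro y hy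
    have hm : y ∈ N ⊔ br Y a := hK ((h.act.mono hH hHa).br_br.ge (hY.1 hy))
    have hle : br Y a ≤ normalizer (N : Set X) := ((br_le hYa).trans hY.1).trans hNn
    rw [← SetLike.mem_coe, Subgroup.coe_mul_of_right_le_normalizer_left N (br Y a) hle] at hm
    obtain ⟨x, hx, y', hy', e⟩ := hm
    have hxY : x ∈ Y := by
      rw [show x = y * y'⁻¹ from eq_mul_inv_of_mul_eq e]
      exact Y.mul_mem hy (Y.inv_mem (br_le hYa hy'))
    have e' : x * y' = y := e
    rw [← e', hdisj x hx hxY, one_mul]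
    exact hy'
  obtain ⟨E', hE', hle⟩ := h.moved_le_frame (hY.1.trans hBG) hY.2.1 hYa
  rw [hYbr] at hle
  refine ⟨N, Y, E', hNp, hNle, fun g hg => hchar g (le_norm_br hg), hchar a norm_br, hE', hle, hTY, hY, hYa, hYbr, hdec⟩

/-- Proper invariant subgroups containing `E`. -/
theorem local_struct (hH : H ≤ G) (hHa : a ∈ normalizer (H : Set X)) (hne : H ≠ G) (hEH : E ≤ H) :
    ∃ Xp : Subgroup X, IsPGroup p Xp ∧ Xp ≤ br H a ∧ H ≤ normalizer (Xp : Set X) ∧
      a ∈ normalizer (Xp : Set X) ∧ IsSylowIn 2 E (br H a) ∧ (∀ g ∈ br H a, ∃ x ∈ Xp, ∃ e ∈ E, g = x * e) := by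
  obtain ⟨Xp, Y, E', h1, h2, h3, h4, hE', hY, hEY, hYS, -, -, hdec⟩ :=
    h.local_struct' hH hHa hne (h.qgrp.brE.ge.trans (br_mono hEH)) h.isTwo_E h.norm_E
  have e : E = E' := Subgroup.eq_of_le_of_card_ge (hEY.trans hY) (h.frame_card hE').le
  have e2 : Y = E := le_antisymm (e ▸ hY) hEY
  exact ⟨Xp, h1, h2, h3, h4, e2 ▸ hYS, e2 ▸ hdec⟩

/-- A `2`-subgroup normalizing `E` is conjugate under `N(E)` into an invariant Sylow subgroup above `E`. -/
theorem exists_conj_into (hT : T ≤ G ⊓ normalizer (E : Set X)) (hT2 : IsPGroup 2 T) :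
    ∃ g ∈ G ⊓ normalizer (E : Set X), ∀ x ∈ T, ∃ e ∈ E, ∃ t ∈ fx G a,
      t ∈ normalizer (E : Set X) ∧ (∃ k : ℕ, t ^ 2 ^ k = 1) ∧ g * x * g⁻¹ = e * t := by
  haveI := Fact.mk Nat.prime_two
  obtain ⟨S, hS, hSa, hE⟩ := h.sylow
  have hSN : S ≤ G ⊓ normalizer (E : Set X) := le_inf hS.1 (hE ▸ le_norm_br)
  have hS' : IsSylowIn 2 S (G ⊓ normalizer (E : Set X)) := ⟨hSN, hS.2.1, fun hd => hS.2.2 (by
    have := Subgroup.relIndex_mul_relIndex S (G ⊓ normalizer (E : Set X)) G hSN inf_le_left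
    exact hd.trans ⟨_, this.symm⟩)⟩
  obtain ⟨S'', hS'', hTS⟩ : ∃ S'' : Subgroup X, IsSylowIn 2 S'' (G ⊓ normalizer (E : Set X)) ∧ T ≤ S'' := by
    obtain ⟨P, hP⟩ := (hT2.comap_subtype (K := G ⊓ normalizer (E : Set X))).exists_le_sylow
    refine ⟨(P : Subgroup _).map (G ⊓ normalizer (E : Set X)).subtype, Grp.isSylowIn_iff.mpr ⟨P, rfl⟩, fun x hx => ?_⟩
    exact ⟨⟨x, hT hx⟩, hP hx, rfl⟩
  obtain ⟨g, hg, e⟩ := hS''.conj hS'
  refine ⟨g, hg, fun x hx => ?_⟩
  have hx' : g * x * g⁻¹ ∈ S := e ▸ conj_mem_smul (hTS hx)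
  obtain ⟨y, hy, t, ht, he⟩ := (h.act.mono hS.1 hSa).exists_br_mul_fx hx'
  obtain ⟨k, hk⟩ := hS.2.1 ⟨t, fx_le ht⟩
  exact ⟨y, hE ▸ hy, t, fx_mono hS.1 ht, hE ▸ le_norm_br (fx_le ht), ⟨k, by simpa using congrArg Subtype.val hk⟩, he⟩

/-- Conjugate configurations. -/
theorem conj {g : X} (hg : g ∈ G) : Setup p r m (g * a * g⁻¹) G V (MulAut.conj g • E) := by
  have hgG : g ∈ normalizer (G : Set X) := Subgroup.le_normalizer hg
  have hgV : g ∈ normalizer (V : Set X) := h.cfg.normG hg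
  have hmap : ∀ K : Subgroup X, br (MulAut.conj g • K) (g * a * g⁻¹) = MulAut.conj g • br K a := by
    intro K
    have hz : zpowers (g * a * g⁻¹) = MulAut.conj g • zpowers a := by
      show _ = (zpowers a).map (MulAut.conj g).toMonoidHom
      rw [MonoidHom.map_zpowers]; rfl
    rw [br, hz]
    exact (Subgroup.map_commutator _ _ (MulAut.conj g).toMonoidHom).symm
  have hnorm : ∀ {K : Subgroup X} {x : X}, x ∈ normalizer (K : Set X) →
      g * x * g⁻¹ ∈ normalizer ((MulAut.conj g • K : Subgroup X) : Set X) := by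
    intro K x hx
    refine Grp.mem_normalizer_iff_smul.mpr ?_
    rw [← mul_smul, ← map_mul, show g * x * g⁻¹ * g = g * x by group, map_mul, mul_smul,
      Grp.mem_normalizer_iff_smul.mp hx]
  have hinv : ∀ {K : Subgroup X}, g * a * g⁻¹ ∈ normalizer (K : Set X) →
      a ∈ normalizer ((MulAut.conj g⁻¹ • K : Subgroup X) : Set X) := by
    intro K hK
    refine Grp.mem_normalizer_iff_smul.mpr ?_
    rw [← mul_smul, ← map_mul, show a * g⁻¹ = g⁻¹ * (g * a * g⁻¹) by group, map_mul, mul_smul,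
      Grp.mem_normalizer_iff_smul.mp hK]
  have hVg : MulAut.conj g • V = V := smul_eq_of_le_norm hgV
  have hGg : MulAut.conj g • G = G := smul_eq_of_le_norm hgG
  have hGg' : MulAut.conj g⁻¹ • G = G := smul_eq_of_le_norm (Subgroup.le_normalizer (G.inv_mem hg))
  have hcancel : ∀ K : Subgroup X, MulAut.conj g • (MulAut.conj g⁻¹ • K) = K := fun K => by
    rw [← mul_smul, ← map_mul, mul_inv_cancel, map_one, one_smul]
  refine ⟨⟨⟨h.cfg.act.prime, ?_, ?_, h.cfg.act.cop⟩, h.cfg.elem, h.cfg.normG, ?_, ?_⟩, h.faith, h.podd, ?_, ?_,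
    h.perfect, h.hrm, ?_, ?_, ?_, ?_⟩
  · rw [← MulAut.conj_apply, MulEquiv.orderOf_eq, h.cfg.act.ord]
  · exact mul_mem (mul_mem hgG h.cfg.act.norm) (inv_mem hgG)
  · exact mul_mem (mul_mem hgV h.cfg.norma) (inv_mem hgV)
  · intro v hv e
    have h1 : g⁻¹ * v * g = 1 := h.cfg.fpf _ (by simpa [hVg] using (mem_smul_iff' (g := g)).mp (hVg.symm ▸ hv)) (by
      calc a * (g⁻¹ * v * g) = g⁻¹ * ((g * a * g⁻¹) * v) * g := by group
        _ = g⁻¹ * (v * (g * a * g⁻¹)) * g := by rw [e]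
        _ = g⁻¹ * v * g * a := by group)
    calc v = g * (g⁻¹ * v * g) * g⁻¹ := by group
      _ = 1 := by rw [h1]; group
  · intro W hW hGW haW
    exact h.irred W hW hGW (by
      have := mul_mem (mul_mem (inv_mem (hGW hg)) haW) (hGW hg)
      simpa [mul_assoc] using this)
  · have := hmap G
    rwa [hGg, h.brG, hGg] at this
  · intro N hN hGN haN hne
    exact h.small N hN hGN (by
      have := mul_mem (mul_mem (inv_mem (hGN hg)) haN) (hGN hg)
      simpa [mul_assoc] using this) hne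
  · obtain ⟨S, hS, hSa, rfl⟩ := h.sylow
    exact ⟨MulAut.conj g • S, by simpa [hGg] using hS.smul (g := g), hnorm hSa, (hmap S).symm⟩
  · intro e
    exact h.neE (by
      have := congrArg (fun K : Subgroup X => MulAut.conj g⁻¹ • K) e
      simpa [← mul_smul, ← map_mul] using this)
  · intro H hH hHa hne
    obtain ⟨N, hN1, hN2, hN3, hN4⟩ := h.ind (MulAut.conj g⁻¹ • H)
      (hGg' ▸ Subgroup.pointwise_smul_le_pointwise_smul_iff.mpr hH) (hinv hHa)
      (fun e => hne (by rw [← hcancel H, e, hGg]))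
    refine ⟨MulAut.conj g • N, ?_, ?_, smul_isPGroup hN3, ?_⟩
    · rw [← hcancel H, hmap]; exact Subgroup.pointwise_smul_le_pointwise_smul_iff.mpr hN1
    · rw [← hcancel H, hmap]
      intro x hx
      have := hnorm (hN2 (mem_smul_iff'.mp hx))
      simpa [mul_assoc] using this
    · intro d hd
      rw [← hcancel H, hmap] at hd
      obtain ⟨k, hk⟩ := hN4 _ (mem_smul_iff'.mp hd)
      refine ⟨k, mem_smul_iff'.mpr ?_⟩
      have e := conj_pow (i := 2 ^ k) (a := g⁻¹) (b := d)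
      rw [inv_inv] at e
      rwa [← e]

end Setup

end Cfsg.Agent.Invol.Shult
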