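import Mathlib
import Cfsg.Agent.Lib.Invol.Shult.Local

/-!
Centralizers modulo `Z₀` of noncentral elements of `E'` and their frames (points).
-/

set_option autoImplicit false

namespace Cfsg.Agent.Invol.Shult

open Subgroup
open scoped Pointwise commutatorElement
open Cfsg.Agent.Grp (IsSylowIn)

variable {X : Type*} [Group X] {a : X} {p r m : ℕ} {G V E T : Subgroup X}

/-- The centralizer of `f` modulo the central part of `E'`. -/
def cst (a : X) (G E : Subgroup X) (f : X) : Subgroup X :=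
  G ⊓ normalizer ({x : X | f⁻¹ * x ∈ cen a G E} : Set X)

/-- A noncentral element of `E'`. -/
def InJ (a : X) (G E : Subgroup X) (f : X) : Prop := f ∈ fx E a ∧ f ∉ cen a G E

/-- A conjugate in `G` of a noncentral element of `E'`. -/
def JG (a : X) (G E : Subgroup X) (u : X) : Prop := ∃ g ∈ G, InJ a G E (g⁻¹ * u * g)

theorem fx_smul (g : X) : fx (MulAut.conj g • E) (g * a * g⁻¹) = MulAut.conj g • fx E a := by
  ext x
  rw [mem_fx, mem_smul_iff', mem_smul_iff', mem_fx]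
  refine and_congr_right fun _ => ?_
  constructor
  · intro e
    calc a * (g⁻¹ * x * g) = g⁻¹ * ((g * a * g⁻¹) * x) * g := by group
      _ = g⁻¹ * (x * (g * a * g⁻¹)) * g := by rw [e]
      _ = g⁻¹ * x * g * a := by group
  · intro e
    calc g * a * g⁻¹ * x = g * (a * (g⁻¹ * x * g)) * g⁻¹ := by group
      _ = g * (g⁻¹ * x * g * a) * g⁻¹ := by rw [e]
      _ = x * (g * a * g⁻¹) := by group

namespace Setup

variable [Finite X] [Fact p.Prime] (h : Setup p r m a G V E)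
include h

theorem cen_conj_eq {z g : X} (hz : z ∈ cen a G E) (hg : g ∈ G) : g * z * g⁻¹ = z := by
  rw [← h.cen_central hz hg, mul_inv_cancel_right]

theorem cen_smul {g : X} (hg : g ∈ G) :
    cen (g * a * g⁻¹) G (MulAut.conj g • E) = cen a G E := by
  unfold cen
  rw [fx_smul]
  ext z
  simp only [Subgroup.mem_inf, mem_smul_iff']
  refine and_congr_left fun hz => ?_
  rw [show g⁻¹ * z * g = z by
    rw [mul_assoc, ← Subgroup.mem_centralizer_iff.mp hz g hg, inv_mul_cancel_left]]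

theorem mem_cst {g f : X} (hf : f ∈ G) : g ∈ cst a G E f ↔ g ∈ G ∧ ⁅g, f⁆ ∈ cen a G E := by
  constructor
  · rintro ⟨hg, hn⟩
    refine ⟨hg, ?_⟩
    have h1 : f⁻¹ * (g * f * g⁻¹) ∈ cen a G E :=
      (Subgroup.mem_set_normalizer_iff.mp hn f).mp (show f⁻¹ * f ∈ cen a G E by rw [inv_mul_cancel]; exact one_mem _)
    have h2 := h.cen_conj_eq h1 hf
    have e : f * (f⁻¹ * (g * f * g⁻¹)) * f⁻¹ = ⁅g, f⁆ := by rw [commutatorElement_def]; group
    rw [e] at h2
    rwa [h2]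
  · rintro ⟨hg, hz⟩
    refine ⟨hg, Subgroup.mem_set_normalizer_iff.mpr fun x => ?_⟩
    simp only [Set.mem_ofPred_eq]
    have e1 : f⁻¹ * (g * x * g⁻¹) = f⁻¹ * ⁅g, f⁆ * f * (g * (f⁻¹ * x) * g⁻¹) := by
      rw [commutatorElement_def]; group
    have e2 : f⁻¹ * ⁅g, f⁆ * f = ⁅g, f⁆ := by
      rw [mul_assoc, h.cen_central hz hf, inv_mul_cancel_left]
    rw [e1, e2]
    constructor
    · intro hx
      rw [h.cen_conj_eq hx hg]
      exact mul_mem hz hx
    · intro hx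
      have h3 : g * (f⁻¹ * x) * g⁻¹ ∈ cen a G E := (mul_mem_cancel_left hz).mp hx
      have h4 := h.cen_conj_eq h3 (G.inv_mem hg)
      have e : g⁻¹ * (g * (f⁻¹ * x) * g⁻¹) * g⁻¹⁻¹ = f⁻¹ * x := by group
      rw [e] at h4
      rw [h4]; exact h3

theorem cst_le {f : X} : cst a G E f ≤ G := inf_le_left

theorem InJ_mem {f : X} (hf : InJ a G E f) : f ∈ G := h.fx_le_G hf.1

theorem E_le_cst {f : X} (hf : f ∈ fx E a) : E ≤ cst a G E f := fun e he =>
  (h.mem_cst (h.fx_le_G hf)).mpr ⟨h.E_le he, by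
    rw [commutatorElement_eq_one_iff_mul_comm.mpr (h.qgrp.fixed_central hf he).symm]; exact one_mem _⟩

theorem norm_cst {f : X} (hf : f ∈ fx E a) : a ∈ normalizer ((cst a G E f : Subgroup X) : Set X) := by
  refine Subgroup.mem_normalizer_iff.mpr fun g => ?_
  rw [h.mem_cst (h.fx_le_G hf), h.mem_cst (h.fx_le_G hf)]
  refine and_congr (Subgroup.mem_normalizer_iff.mp h.act.norm g) ?_
  have e : ⁅a * g * a⁻¹, f⁆ = a * ⁅g, f⁆ * a⁻¹ := by
    have hc : a⁻¹ * f * a = f := by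
      rw [mul_assoc, ← (mem_fx.mp hf).2, inv_mul_cancel_left]
    simp only [commutatorElement_def]
    calc a * g * a⁻¹ * f * (a * g * a⁻¹)⁻¹ * f⁻¹ = a * g * (a⁻¹ * f * a) * g⁻¹ * a⁻¹ * f⁻¹ := by group
      _ = a * g * f * g⁻¹ * (a⁻¹ * f⁻¹ * a) * a⁻¹ := by rw [hc]; group
      _ = a * (g * f * g⁻¹ * f⁻¹) * a⁻¹ := by
          rw [show a⁻¹ * f⁻¹ * a = (a⁻¹ * f * a)⁻¹ by group, hc]; group
  rw [e]
  constructor
  · intro hz; rwa [(mem_fx'.mp hz.1).2]
  · intro hz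
    have h2 := (mem_fx'.mp hz.1).2
    have h3 : a * ⁅g, f⁆ * a⁻¹ = ⁅g, f⁆ := mul_left_cancel (mul_right_cancel h2)
    rwa [h3] at hz

theorem cst_ne {f : X} (hf : InJ a G E f) : cst a G E f ≠ G := by
  intro e
  have hall : ∀ g ∈ G, ⁅g, f⁆ ∈ cen a G E := fun g hg => ((h.mem_cst (h.InJ_mem hf)).mp (e.symm ▸ hg)).2
  let δ : ↥G →* ↥(cen a G E) :=
    { toFun := fun g => ⟨_, hall g g.2⟩
      map_one' := Subtype.ext (commutatorElement_one_left _)
      map_mul' := fun g k => Subtype.ext (by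
        show ⁅(g : X) * k, f⁆ = ⁅(g : X), f⁆ * ⁅(k : X), f⁆
        rw [comm_mul_left_of_central (h.cen_central (hall k k.2) g.2),
          h.cen_central (hall k k.2) (h.fx_le_G (hall g g.2).1)]) }
  have hker : G ≤ δ.ker.map G.subtype := by
    conv_lhs => rw [← h.perfect]
    rw [Subgroup.commutator_le]
    intro g hg k hk
    refine ⟨⁅(⟨g, hg⟩ : ↥G), ⟨k, hk⟩⁆, ?_, rfl⟩
    rw [SetLike.mem_coe, MonoidHom.mem_ker, map_commutatorElement, commutatorElement_eq_one_iff_mul_comm]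
    exact Subtype.ext (h.cen_central (δ _).2 (h.fx_le_G (δ _).2.1))
  refine hf.2 ⟨hf.1, Subgroup.mem_centralizer_iff.mpr fun g hg => ?_⟩
  obtain ⟨k, hk, rfl⟩ := hker hg
  exact commutatorElement_eq_one_iff_mul_comm.mp (congrArg Subtype.val (MonoidHom.mem_ker.mp hk))

/-- Elements of odd order centralizing `f` modulo `Z₀` centralize it. -/
theorem comm_of_mem_cst {x f : X} {j : ℕ} (hf : f ∈ G) (hx : x ∈ cst a G E f) (hj : x ^ p ^ j = 1) :
    x * f = f * x := by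
  obtain ⟨hxG, hz⟩ := (h.mem_cst hf).mp hx
  have hpow : ∀ n : ℕ, ⁅x ^ n, f⁆ = ⁅x, f⁆ ^ n := by
    intro n
    induction n with
    | zero => simp
    | succ n ih =>
      rw [pow_succ, comm_mul_left_of_central (h.cen_central hz (G.pow_mem hxG n)), ih, pow_succ' ⁅x, f⁆]
  have h1 := hpow (p ^ j)
  rw [hj, commutatorElement_one_left] at h1
  obtain ⟨t, ht⟩ : Odd (p ^ j) := ((Fact.out : p.Prime).odd_of_ne_two h.podd).pow
  rw [ht, pow_add, pow_mul, h.qgrp.fixed_pow_q _ hz.1, one_pow, one_mul, pow_one] at h1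
  exact commutatorElement_eq_one_iff_mul_comm.mp h1.symm

/-- The `p`-core part of `[C*(f), a]`. -/
theorem exists_core {f : X} (hf : InJ a G E f) :
    ∃ Xp : Subgroup X, IsPGroup p Xp ∧ Xp ≤ cst a G E f ∧ (∀ x ∈ Xp, x * f = f * x) ∧
      cst a G E f ≤ normalizer (Xp : Set X) ∧ a ∈ normalizer (Xp : Set X) ∧
      IsSylowIn 2 E (br (cst a G E f) a) ∧
      (∀ g ∈ br (cst a G E f) a, ∃ x ∈ Xp, ∃ e ∈ E, g = x * e) := by
  obtain ⟨Xp, h1, h2, h3, h4, h5, h6⟩ :=
    h.local_struct h.cst_le (h.norm_cst hf.1) (h.cst_ne hf) (h.E_le_cst hf.1)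
  have hle : Xp ≤ cst a G E f := h2.trans (br_le (h.norm_cst hf.1))
  refine ⟨Xp, h1, hle, fun x hx => ?_, h3, h4, h5, h6⟩
  obtain ⟨j, hj⟩ := h1 ⟨x, hx⟩
  exact h.comm_of_mem_cst (h.InJ_mem hf) (hle hx) (j := j) (by simpa using congrArg Subtype.val hj)

theorem inf_eq_bot_of_p {Xp : Subgroup X} (hX : IsPGroup p Xp) {x : X} (h1 : x ∈ Xp) (h2 : x ∈ E) : x = 1 := by
  haveI := Fact.mk Nat.prime_two
  have hm : x ∈ Xp ⊓ E := ⟨h1, h2⟩
  rw [disjoint_iff.mp (IsPGroup.disjoint_of_ne p 2 h.podd Xp E hX h.isTwo_E)] at hm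
  exact hm

/-- A conjugate of `E` whose derived group contains `f` lies in `[C*(f), a]`. -/
theorem smul_le_br_cst {f g : X} (hf : InJ a G E f) (hg : g ∈ G) (hgf : g⁻¹ * f * g ∈ fx E a) :
    MulAut.conj g • E ≤ br (cst a G E f) a := by
  obtain ⟨c, hc, e⟩ := h.act.conj_fixed (mem_fx.mp hgf).2 (mem_fx.mp hf.1).2 hg (by group)
  have hcE : MulAut.conj c • E ≤ cst a G E f := by
    intro x hx
    have hx' := mem_smul_iff'.mp hx
    refine (h.mem_cst (h.InJ_mem hf)).mpr ⟨?_, ?_⟩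
    · have := G.mul_mem (G.mul_mem (fx_le hc) (h.E_le hx')) (G.inv_mem (fx_le hc))
      simpa [mul_assoc] using this
    · have hcomm := h.qgrp.fixed_central hgf hx'
      have : x * f = f * x := by
        calc x * f = x * (c * (g⁻¹ * f * g) * c⁻¹) := by rw [e]
          _ = c * ((c⁻¹ * x * c) * (g⁻¹ * f * g)) * c⁻¹ := by group
          _ = c * ((g⁻¹ * f * g) * (c⁻¹ * x * c)) * c⁻¹ := by rw [hcomm]
          _ = (c * (g⁻¹ * f * g) * c⁻¹) * x := by group
          _ = f * x := by rw [e]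
      rw [commutatorElement_eq_one_iff_mul_comm.mpr this]
      exact one_mem _
  have hk : g * c⁻¹ ∈ cst a G E f := by
    refine (h.mem_cst (h.InJ_mem hf)).mpr ⟨G.mul_mem hg (G.inv_mem (fx_le hc)), ?_⟩
    have : (g * c⁻¹) * f = f * (g * c⁻¹) := by
      calc (g * c⁻¹) * f = (g * c⁻¹) * (c * (g⁻¹ * f * g) * c⁻¹) := by rw [e]
        _ = f * (g * c⁻¹) := by group
    rw [commutatorElement_eq_one_iff_mul_comm.mpr this]
    exact one_mem _
  have hbr : MulAut.conj c • E ≤ br (cst a G E f) a := by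
    conv_lhs => rw [← h.qgrp.brE]
    rw [br_smul_of_fixed (mem_fx.mp hc).2]
    exact br_mono hcE
  intro x hx
  have h1 : (g * c⁻¹)⁻¹ * x * (g * c⁻¹) ∈ MulAut.conj c • E := by
    have := conj_mem_smul (g := c) (mem_smul_iff'.mp hx)
    simpa [mul_assoc] using this
  have h2 := conj_mem (le_norm_br hk) (hbr h1)
  simpa [mul_assoc] using h2

/-- Elements of two frames of `f`. -/
theorem point_common {f d g : X} (hf : InJ a G E f) (hg : g ∈ G) (hgf : g⁻¹ * f * g ∈ fx E a)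
    (hgd : g⁻¹ * d * g ∈ fx E a) (hdE : d ∈ normalizer (E : Set X)) : d ∈ fx E a := by
  haveI := Fact.mk Nat.prime_two
  obtain ⟨Xp, hXp, -, -, hXn, -, hsyl, hdec⟩ := h.exists_core hf
  have hK := h.smul_le_br_cst hf hg hgf
  have hsK : IsSylowIn 2 (MulAut.conj g • E) (br (cst a G E f) a) := by
    refine ⟨hK, smul_isPGroup h.isTwo_E, fun hd => hsyl.2.2 ?_⟩
    have h1 := Grp.card_mul_relIndex hsyl.1
    have h2 := Grp.card_mul_relIndex hK
    rw [Grp.card_conj_smul, ← h1] at h2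
    rwa [← Nat.eq_of_mul_eq_mul_left Nat.card_pos h2]
  obtain ⟨b, hb, e⟩ := hsyl.conj hsK
  obtain ⟨x, hx, e₁, he₁, rfl⟩ := hdec b hb
  have hK' : MulAut.conj g • E = MulAut.conj x • E := by
    rw [← e, map_mul, mul_smul, smul_eq_of_le_norm (Subgroup.le_normalizer he₁)]
  have hd1 : d ∈ MulAut.conj x • fx E a := by
    have h1 : d ∈ MulAut.conj g • fx E a := mem_smul_iff'.mpr hgd
    have hmap : ∀ y : X, MulAut.conj y • fx E a = ⁅MulAut.conj y • E, MulAut.conj y • E⁆ := fun y => by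
      rw [h.qgrp.fixed_eq_comm]
      exact Subgroup.map_commutator _ _ (MulAut.conj y).toMonoidHom
    rw [hmap g, hK', ← hmap x] at h1
    exact h1
  obtain ⟨z, hz, rfl⟩ : ∃ z ∈ fx E a, x * z * x⁻¹ = d := ⟨_, mem_smul_iff'.mp hd1, by group⟩
  have hzX : z ∈ normalizer (Xp : Set X) := hXn (h.E_le_cst hf.1 (fx_le hz))
  have hy : z⁻¹ * (x * z * x⁻¹) ∈ Xp := by
    have := Xp.mul_mem (conj_mem (inv_mem hzX) hx) (Xp.inv_mem hx)
    simpa [mul_assoc] using this
  set y := z⁻¹ * (x * z * x⁻¹) with hydef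
  have hyd : x * z * x⁻¹ = z * y := by rw [hydef]; group
  have hyE : y ∈ normalizer (E : Set X) := mul_mem (inv_mem (Subgroup.le_normalizer (fx_le hz))) hdE
  have hyc : ∀ η ∈ E, y * η = η * y := by
    intro η hη
    refine commutatorElement_eq_one_iff_mul_comm.mp (h.inf_eq_bot_of_p hXp ?_ ?_)
    · have hηX : η ∈ normalizer (Xp : Set X) := hXn (h.E_le_cst hf.1 hη)
      have := Xp.mul_mem hy (conj_mem hηX (Xp.inv_mem hy))
      simpa [commutatorElement_def, mul_assoc] using this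
    · have := E.mul_mem (conj_mem hyE hη) (E.inv_mem hη)
      simpa [commutatorElement_def] using this
  have h2 : (x * z * x⁻¹) ^ 2 = 1 := by
    rw [conj_pow, h.qgrp.fixed_pow_q z hz, mul_one, mul_inv_cancel]
  rw [hyd, (show Commute z y from (hyc z (fx_le hz)).symm).mul_pow, h.qgrp.fixed_pow_q z hz, one_mul] at h2
  have hy1 : y = 1 := by
    obtain ⟨j, hj⟩ := hXp ⟨y, hy⟩
    obtain ⟨t, ht⟩ : Odd (p ^ j) := ((Fact.out : p.Prime).odd_of_ne_two h.podd).pow
    have := congrArg Subtype.val hj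
    simp only [SubmonoidClass.coe_pow, OneMemClass.coe_one] at this
    rwa [ht, pow_add, pow_mul, h2, one_pow, one_mul, pow_one] at this
  rw [hyd, hy1, mul_one]
  exact hz

/-- An invariant `2`-subgroup of `C*(f)` normalizes a fixed frame of `f` containing its moved part. -/
theorem exists_point {f : X} (hf : InJ a G E f) (hT : T ≤ cst a G E f) (hT2 : IsPGroup 2 T)
    (hTa : a ∈ normalizer (T : Set X)) :
    ∃ x ∈ fx G a, x * f = f * x ∧ T ≤ normalizer ((MulAut.conj x • E : Subgroup X) : Set X) ∧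
      br T a ≤ MulAut.conj x • E := by
  haveI := Fact.mk Nat.prime_two
  obtain ⟨Xp, hXp, hXle, hXf, hXn, hXa, hsyl, hdec⟩ := h.exists_core hf
  have hact := h.act.mono h.cst_le (h.norm_cst hf.1)
  obtain ⟨S, hS, hSa, hTS⟩ := hact.exists_sylow hT hT2 hTa
  obtain ⟨S₀, hS₀, hS₀a, hES₀⟩ := hact.exists_sylow (h.E_le_cst hf.1) h.isTwo_E h.norm_E
  obtain ⟨c, hc, e⟩ := hact.sylow_conj hS₀ hS hS₀a hSa
  have hbr0 : br S₀ a = E :=
    (hsyl.eq_of_le (h.qgrp.brE.ge.trans (br_mono hES₀)) (br_mono hS₀.1) (hS₀.2.1.to_le (br_le hS₀a))).symm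
  have hbrS : br S a = MulAut.conj c • E := by
    rw [← e, ← br_smul_of_fixed (mem_fx.mp hc).2, hbr0]
  have hES : MulAut.conj c • E ≤ br (cst a G E f) a := hbrS ▸ br_mono hS.1
  have hsK : IsSylowIn 2 (MulAut.conj c • E) (br (cst a G E f) a) := by
    refine ⟨hES, smul_isPGroup h.isTwo_E, fun hd => hsyl.2.2 ?_⟩
    have h1 := Grp.card_mul_relIndex hsyl.1
    have h2 := Grp.card_mul_relIndex hES
    rw [Grp.card_conj_smul, ← h1] at h2
    rwa [← Nat.eq_of_mul_eq_mul_left Nat.card_pos h2]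
  obtain ⟨b, hb, e'⟩ := (h.act.mono ((br_le (h.norm_cst hf.1)).trans h.cst_le) norm_br).sylow_conj hsyl hsK
    h.norm_E (by rw [← hbrS]; exact norm_br)
  obtain ⟨hbB, hba⟩ := mem_fx'.mp hb
  obtain ⟨x, hx, e₁, he₁, rfl⟩ := hdec b hbB
  have hfix : a * x * a⁻¹ = x := by
    have h1 : (a * x * a⁻¹) * (a * e₁ * a⁻¹) = x * e₁ := by
      rw [← hba]; group
    have h2 : x⁻¹ * (a * x * a⁻¹) = e₁ * (a * e₁ * a⁻¹)⁻¹ := by
      rw [eq_mul_inv_iff_mul_eq, mul_assoc, h1]; group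
    have h3 := h.inf_eq_bot_of_p hXp (Xp.mul_mem (Xp.inv_mem hx) (conj_mem hXa hx))
      (h2 ▸ E.mul_mem he₁ (E.inv_mem (conj_mem h.norm_E he₁)))
    exact (inv_mul_eq_one.mp h3).symm
  have hK : MulAut.conj c • E = MulAut.conj x • E := by
    rw [← e', map_mul, mul_smul, smul_eq_of_le_norm (Subgroup.le_normalizer he₁)]
  refine ⟨x, mem_fx'.mpr ⟨h.cst_le (hXle hx), hfix⟩, hXf x hx, ?_, ?_⟩
  · rw [← hK, ← hbrS]
    exact hTS.trans le_norm_br
  · rw [← hK, ← hbrS]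
    exact br_mono hTS

/-- A `2`-subgroup of `C*(f)` normalizes a frame of `f`. -/
theorem exists_point' {f : X} (hf : InJ a G E f) (hT : T ≤ cst a G E f) (hT2 : IsPGroup 2 T) :
    ∃ x ∈ G, x * f = f * x ∧ T ≤ normalizer ((MulAut.conj x • E : Subgroup X) : Set X) := by
  haveI := Fact.mk Nat.prime_two
  obtain ⟨Xp, hXp, hXle, hXf, hXn, -, hsyl, hdec⟩ := h.exists_core hf
  have hact := h.act.mono h.cst_le (h.norm_cst hf.1)
  obtain ⟨S₀, hS₀, hS₀a, hES₀⟩ := hact.exists_sylow (h.E_le_cst hf.1) h.isTwo_E h.norm_E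
  have hbr0 : br S₀ a = E :=
    (hsyl.eq_of_le (h.qgrp.brE.ge.trans (br_mono hES₀)) (br_mono hS₀.1) (hS₀.2.1.to_le (br_le hS₀a))).symm
  obtain ⟨S, hS, hTS⟩ : ∃ S : Subgroup X, IsSylowIn 2 S (cst a G E f) ∧ T ≤ S := by
    obtain ⟨P, hP⟩ := (hT2.comap_subtype (K := cst a G E f)).exists_le_sylow
    exact ⟨(P : Subgroup _).map (cst a G E f).subtype, Grp.isSylowIn_iff.mpr ⟨P, rfl⟩,
      fun x hx => ⟨⟨x, hT hx⟩, hP hx, rfl⟩⟩
  obtain ⟨g, hg, e⟩ := hS₀.conj hS
  have hgB : MulAut.conj g • E ≤ br (cst a G E f) a := by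
    intro y hy
    have h1 := conj_mem (le_norm_br hg) (hsyl.1 (mem_smul_iff'.mp hy))
    simpa [mul_assoc] using h1
  have hsK : IsSylowIn 2 (MulAut.conj g • E) (br (cst a G E f) a) := by
    refine ⟨hgB, smul_isPGroup h.isTwo_E, fun hd => hsyl.2.2 ?_⟩
    have h1 := Grp.card_mul_relIndex hsyl.1
    have h2 := Grp.card_mul_relIndex hgB
    rw [Grp.card_conj_smul, ← h1] at h2
    rwa [← Nat.eq_of_mul_eq_mul_left Nat.card_pos h2]
  obtain ⟨b, hb, e'⟩ := hsyl.conj hsK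
  obtain ⟨x, hx, e₁, he₁, rfl⟩ := hdec b hb
  refine ⟨x, h.cst_le (hXle hx), hXf x hx, fun t ht => ?_⟩
  have ht' : g⁻¹ * t * g ∈ S₀ := mem_smul_iff'.mp (e.symm ▸ hTS ht)
  have h1 : g⁻¹ * t * g ∈ normalizer (E : Set X) := hbr0 ▸ le_norm_br ht'
  rw [map_mul, mul_smul, smul_eq_of_le_norm (Subgroup.le_normalizer he₁)] at e'
  refine Grp.mem_normalizer_iff_smul.mpr ?_
  rw [e', ← mul_smul, ← map_mul, show t * g = g * (g⁻¹ * t * g) by group, map_mul, mul_smul,
    smul_eq_of_le_norm h1]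

/-- A conjugate of a `J`-element centralizing `E` lies in `E'`. -/
theorem mem_of_centralizes {d : X} (hd : JG a G E d) (hdE : ∀ η ∈ E, d * η = η * d) : d ∈ fx E a := by
  haveI := Fact.mk Nat.prime_two
  obtain ⟨g, hg, hgd⟩ := hd
  set H := G ⊓ centralizer (E : Set X) with hH
  have hHa : a ∈ normalizer (H : Set X) :=
    mem_normalizer_inf h.act.norm (mem_normalizer_centralizer h.norm_E)
  have hHne : H ≠ G := fun e => h.neE (h.qgrp.eq_bot_of_abelian fun u hu w hw =>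
    ((Subgroup.mem_centralizer_iff.mp ((e.symm ▸ h.E_le hu : u ∈ H)).2) w hw).symm)
  obtain ⟨Xp, Y, E', hXp, hXle, hHX, hXa, hE', hYE', -, hY, hYa, hYbr, hdec⟩ :=
    h.local_struct' (T := ⊥) inf_le_left hHa hHne bot_le IsPGroup.of_bot (mem_normalizer_of_centralizes fun x hx => by rw [Subgroup.mem_bot] at hx; simp [hx])
  have hYc : Y ≤ centralizer (E : Set X) := (hY.1.trans (br_le hHa)).trans inf_le_right
  have hYG : Y ≤ G := (hY.1.trans (br_le hHa)).trans inf_le_left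
  have hY1 : Y = ⊥ := by
    have hEY : E ≤ normalizer (Y : Set X) := fun η hη => mem_normalizer_of_centralizes fun y hy =>
      Subgroup.mem_centralizer_iff.mp (hYc hy) η hη
    have hT2 : IsPGroup 2 (E ⊔ Y : Subgroup X) := IsPGroup.to_sup_of_normal_right' h.isTwo_E hY.2.1 hEY
    have hTa : a ∈ normalizer ((E ⊔ Y : Subgroup X) : Set X) :=
      Grp.mem_normalizer_iff_smul.mpr (by
        rw [Subgroup.smul_sup, Grp.mem_normalizer_iff_smul.mp h.norm_E, Grp.mem_normalizer_iff_smul.mp hYa])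
    obtain ⟨E₂, hE₂, hle⟩ := h.moved_le_frame (sup_le h.E_le hYG) hT2 hTa
    have e : E = E₂ := Subgroup.eq_of_le_of_card_ge (h.qgrp.brE.ge.trans ((br_mono le_sup_left).trans hle))
      (h.frame_card hE₂).le
    have hYE : Y ≤ E := e.symm ▸ hYbr.ge.trans ((br_mono le_sup_right).trans hle)
    have hYf : ∀ y ∈ Y, a * y = y * a := fun y hy =>
      (mem_fx.mp (h.qgrp.center_le_fixed ⟨hYE hy, hYc hy⟩)).2
    rw [← hYbr]; exact br_eq_bot.mpr hYf
  have hbrH : br H a ≤ Xp := fun x hx => by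
    obtain ⟨x', hx', y, hy, rfl⟩ := hdec x hx
    rw [hY1, Subgroup.mem_bot] at hy
    rwa [hy, mul_one]
  have hdG : d ∈ G := by
    have := G.mul_mem (G.mul_mem hg (h.InJ_mem hgd)) (G.inv_mem hg)
    simpa [mul_assoc] using this
  have hdH : d ∈ H := ⟨hdG, Subgroup.mem_centralizer_iff.mpr fun η hη => (hdE η hη).symm⟩
  have hd2 : d * d = 1 := by
    calc d * d = g * ((g⁻¹ * d * g) * (g⁻¹ * d * g)) * g⁻¹ := by group
      _ = 1 := by rw [h.fixed_invol hgd.1]; group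
  obtain ⟨n, hn, hfix⟩ := (h.act.mono inf_le_left hHa).exists_fixed_coset (N := Xp)
    (hXle.trans (br_le hHa)) hXa hdH (hbrH (conj_comm_mem_br hdH))
  have hs : (d * n) ^ 2 ∈ Xp := by
    have h1 : d * n * d⁻¹ * n ∈ Xp := Xp.mul_mem (conj_mem (hHX hdH) hn) hn
    rwa [show (d * n) ^ 2 = d * n * d⁻¹ * n by
      rw [sq, show d⁻¹ = d from inv_eq_of_mul_eq_one_right hd2]; group]
  obtain ⟨j, hj⟩ := hXp ⟨_, hs⟩
  have hj' : ((d * n) ^ 2) ^ p ^ j = 1 := by simpa using congrArg Subtype.val hj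
  obtain ⟨i, hi⟩ : Odd (p ^ j) := ((Fact.out : p.Prime).odd_of_ne_two h.podd).pow
  set t := (d * n) ^ p ^ j with ht
  have ht2 : t * t = 1 := by rw [ht, ← pow_add, ← two_mul, pow_mul]; exact hj'
  have htX : d * t ∈ Xp := by
    rw [ht, hi, pow_succ', pow_mul, ← mul_assoc, ← mul_assoc, hd2, one_mul]
    exact Xp.mul_mem hn (Xp.pow_mem hs i)
  have hta : a * t = t * a := ((show Commute a (d * n) from hfix).pow_right _).eq
  obtain ⟨k, hk⟩ := hXp ⟨_, htX⟩
  have hk' : (d * t) ^ p ^ k = 1 := by simpa using congrArg Subtype.val hk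
  obtain ⟨i', hi'⟩ : Odd (p ^ k) := ((Fact.out : p.Prime).odd_of_ne_two h.podd).pow
  set y := (d * t) ^ (i' + 1) with hy
  have hyy : y * y = d * t := by
    rw [hy, ← pow_add, show i' + 1 + (i' + 1) = p ^ k + 1 by omega, pow_succ, hk', one_mul]
  have hinv : d * y * d = y⁻¹ := by
    have hdi : d⁻¹ = d := inv_eq_of_mul_eq_one_right hd2
    have hti : t⁻¹ = t := inv_eq_of_mul_eq_one_right ht2
    have h1 : d * (d * t) * d⁻¹ = (d * t)⁻¹ := by rw [mul_inv_rev, hdi, hti, ← mul_assoc, hd2, one_mul]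
    have h2 := (conj_pow (i := i' + 1) (a := d) (b := d * t)).symm
    rw [h1, inv_pow, hdi] at h2
    rw [hy]; exact h2
  have hty : y⁻¹ * d * y = t := by
    calc y⁻¹ * d * y = d * y * (d * d) * y := by rw [← hinv]; group
      _ = d * (y * y) := by rw [hd2, mul_one, mul_assoc]
      _ = t := by rw [hyy, ← mul_assoc, hd2, one_mul]
  have hyX : y ∈ Xp := Xp.pow_mem htX _
  have hyc : ∀ η ∈ E, y * η = η * y := fun η hη =>
    (Subgroup.mem_centralizer_iff.mp (Subgroup.mem_inf.mp (br_le hHa (hXle hyX))).2 η hη).symm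
  have htc : ∀ η ∈ E, t * η = η * t := by
    intro η hη
    have c1 : Commute y η := hyc η hη
    rw [← hty]
    exact ((c1.inv_left.mul_left (hdE η hη)).mul_left c1).eq
  have hyG : y ∈ G := ((hXle.trans (br_le hHa)).trans inf_le_left) hyX
  obtain ⟨c, hc, ec⟩ := h.act.conj_fixed (mem_fx.mp hgd.1).2 hta (G.mul_mem (G.inv_mem hyG) hg)
    (by rw [← hty]; group)
  have hca : c * a * c⁻¹ = a := by rw [← (mem_fx.mp hc).2, mul_inv_cancel_right]
  have h' : Setup p r m a G V (MulAut.conj c • E) := by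
    have := h.conj (fx_le hc)
    rwa [hca] at this
  have hfx : fx (MulAut.conj c • E) a = MulAut.conj c • fx E a := by
    have := fx_smul (a := a) (E := E) c
    rwa [hca] at this
  have hcen : cen a G (MulAut.conj c • E) = cen a G E := by
    have := h.cen_smul (fx_le hc)
    rwa [hca] at this
  have hJ : InJ a G (MulAut.conj c • E) t := by
    refine ⟨by rw [hfx, ← ec]; exact conj_mem_smul hgd.1, ?_⟩
    rw [hcen, ← ec]
    intro hz
    apply hgd.2
    have := h.cen_conj_eq hz (G.inv_mem (fx_le hc))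
    simp only [inv_inv] at this
    rw [show c⁻¹ * (c * (g⁻¹ * d * g) * c⁻¹) * c = g⁻¹ * d * g by group] at this
    rw [this]; exact hz
  have hEc : E ≤ cst a G (MulAut.conj c • E) t := fun η hη => (h'.mem_cst (h'.InJ_mem hJ)).mpr
    ⟨h.E_le hη, by rw [commutatorElement_eq_one_iff_mul_comm.mpr (htc η hη).symm]; exact one_mem _⟩
  obtain ⟨x, hx, hxt, -, hle⟩ := h'.exists_point hJ hEc h.isTwo_E h.norm_E
  rw [h.qgrp.brE] at hle
  have e : E = MulAut.conj x • (MulAut.conj c • E) :=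
    Subgroup.eq_of_le_of_card_ge hle (by rw [Grp.card_conj_smul, Grp.card_conj_smul])
  have htΦ : t ∈ fx E a := by
    have hx1 : x * a * x⁻¹ = a := by rw [← (mem_fx.mp hx).2, mul_inv_cancel_right]
    have h3 := fx_smul (a := a) (E := MulAut.conj c • E) x
    rw [hx1, ← e] at h3
    rw [h3, mem_smul_iff', mul_assoc, ← hxt, inv_mul_cancel_left]
    exact hJ.1
  have hd' : d = t := by
    have c2 : Commute y t := hyc t (fx_le htΦ)
    calc d = y * (y⁻¹ * d * y) * y⁻¹ := by group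
      _ = y * t * y⁻¹ := by rw [hty]
      _ = t := by rw [c2.eq, mul_inv_cancel_right]
  rwa [hd']

end Setup

end Cfsg.Agent.Invol.Shult
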