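import Mathlib
import Cfsg.Agent.Lib.Invol.Shult.Points
import Cfsg.Agent.Lib.Invol.StrongAlperin

/-!
The derived group of `E` is not central in a minimal counterexample: fusion and transfer.
-/

set_option autoImplicit false

namespace Cfsg.Agent.Invol.Shult

open Subgroup
open scoped Pointwise commutatorElement
open Cfsg.Agent.Grp (IsSylowIn)

universe u

variable {X : Type u} [Group X] [Finite X] {a : X} {p r m : ℕ} [Fact p.Prime] {G V E : Subgroup X}

namespace Setup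

variable (h : Setup p r m a G V E)
include h

/-- When `E'` is central a conjugation inside an overgroup of `E` moves elements by fixed ones. -/
theorem central_step (hΦ : ∀ f ∈ fx E a, ∀ g ∈ G, f * g = g * f) {S D : Subgroup X}
    (hS : IsSylowIn 2 S G) (hSa : a ∈ normalizer (S : Set X)) (hE : E = br S a) (hED : E ≤ D)
    (hDS : D ≤ S) {g d : X} (hg : g ∈ G) (hgD : g ∈ normalizer (D : Set X)) (hd : d ∈ D) :
    d⁻¹ * (g * d * g⁻¹) ∈ fx S a := by
  haveI := Fact.mk Nat.prime_two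
  have hDG : D ≤ G := hDS.trans hS.1
  have hcE : ∀ c ∈ G, a * c = c * a → c ∈ normalizer (E : Set X) → ∀ x ∈ E, c * x = x * c :=
    fun c hc hca hcn => h.centralizes_E hc hca hcn fun z hz => (hΦ z hz c hc).symm
  have hSn : S ≤ normalizer (E : Set X) := hE ▸ le_norm_br
  have hTE : ∀ t ∈ fx S a, ∀ e ∈ E, t * e = e * t := fun t ht =>
    hcE t (hS.1 (fx_le ht)) (mem_fx.mp ht).2 (hSn (fx_le ht))
  have hdec : ∀ x ∈ D, ∃ e ∈ E, ∃ t ∈ fx S a, t ∈ D ∧ x = e * t := by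
    intro x hx
    obtain ⟨e, he, t, ht, rfl⟩ := (h.act.mono hS.1 hSa).exists_br_mul_fx (hDS hx)
    have he' : e ∈ E := hE ▸ he
    refine ⟨e, he', t, ht, ?_, rfl⟩
    simpa using D.mul_mem (D.inv_mem (hED he')) hx
  have haD : a ∈ normalizer (D : Set X) := by
    refine Subgroup.mem_normalizer_fintype fun x hx => ?_
    obtain ⟨e, he, t, ht, htD, rfl⟩ := hdec x hx
    have h1 : a * (e * t) * a⁻¹ = a * e * a⁻¹ * (a * t * a⁻¹) := by group
    show a * (e * t) * a⁻¹ ∈ D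
    rw [h1, (mem_fx'.mp ht).2]
    exact D.mul_mem (hED (conj_mem h.norm_E he)) htD
  set N := G ⊓ normalizer (D : Set X) with hN
  have haN : a ∈ normalizer (N : Set X) := mem_normalizer_inf h.act.norm (Subgroup.le_normalizer haD)
  have hne : N ≠ G := by
    intro e
    have hGD : G ≤ normalizer (D : Set X) := fun x hx => (e.symm ▸ hx : x ∈ N).2
    by_cases hDeq : D = G
    · have hGE : G ≤ normalizer (E : Set X) := fun x hx => hSn (hDS (hDeq.symm ▸ hx))
      by_cases hEeq : E = G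
      · refine h.neE (h.qgrp.brE ▸ br_eq_bot.mpr fun x hx => ?_)
        have hx' : x ∈ ⁅E, E⁆ := by rw [hEeq, h.perfect, ← hEeq]; exact hx
        exact (mem_fx.mp (h.qgrp.comm_le_fixed hx')).2
      · exact h.neE (h.qgrp.eq_bot_of_abelian fun x hx y hy =>
          (Subgroup.mem_centralizer_iff.mp (h.small E h.E_le hGE h.norm_E hEeq hx) y (h.E_le hy)).symm)
    · exact h.neE (h.qgrp.eq_bot_of_abelian fun x hx y hy =>
        (Subgroup.mem_centralizer_iff.mp (h.small D hDG hGD haD hDeq (hED hx)) y (h.E_le hy)).symm)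
  have hEN : E ≤ N := le_inf h.E_le (hED.trans Subgroup.le_normalizer)
  obtain ⟨Xp, hXp, hXle, hXn, -, hsyl, hdecN⟩ := h.local_struct inf_le_left haN hne hEN
  have hXN : Xp ≤ N := hXle.trans (br_le haN)
  have hdisj : ∀ x ∈ Xp, x ∈ D → x = 1 := fun x h1 h2 => by
    have hm : x ∈ Xp ⊓ D := ⟨h1, h2⟩
    rw [disjoint_iff.mp (IsPGroup.disjoint_of_ne p 2 h.podd Xp D hXp (hS.2.1.to_le hDS))] at hm
    exact hm
  have hXD : ∀ x ∈ Xp, ∀ y ∈ D, x * y = y * x := fun x hx y hy => by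
    refine commutatorElement_eq_one_iff_mul_comm.mp (hdisj _ ?_ ?_)
    · have := Xp.mul_mem hx (conj_mem (hXn ⟨hDG hy, Subgroup.le_normalizer hy⟩) (Xp.inv_mem hx))
      simpa [commutatorElement_def, mul_assoc] using this
    · have := D.mul_mem (conj_mem (hXN hx).2 hy) (D.inv_mem hy)
      simpa [commutatorElement_def] using this
  obtain ⟨m', hm', c, hc, rfl⟩ := (h.act.mono inf_le_left haN).exists_br_mul_fx (⟨hg, hgD⟩ : g ∈ N)
  obtain ⟨x, hx, e, he, rfl⟩ := hdecN m' hm'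
  obtain ⟨⟨hcG, hcD⟩, hca⟩ := mem_fx.mp hc
  have hcn : c ∈ normalizer (E : Set X) := by
    refine Subgroup.mem_normalizer_fintype fun e₀ he₀ => ?_
    show c * e₀ * c⁻¹ ∈ E
    obtain ⟨x₁, hx₁, e₁, he₁, h1⟩ := hdecN _ (conj_mem (le_norm_br (fx_le hc)) (hsyl.1 he₀))
    have hxD : x₁ ∈ D := by
      have := D.mul_mem (conj_mem hcD (hED he₀)) (D.inv_mem (hED he₁))
      rwa [h1, mul_inv_cancel_right] at this
    rw [h1, hdisj x₁ hx₁ hxD, one_mul]
    exact he₁
  obtain ⟨e', he', t, ht, htD, rfl⟩ := hdec d hd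
  have hce : c * e' = e' * c := hcE c hcG hca hcn e' he'
  set t' := c * t * c⁻¹ with ht'def
  have ht'D : t' ∈ D := conj_mem hcD htD
  have ht' : t' ∈ fx S a := mem_fx.mpr ⟨hDS ht'D,
    (((show Commute a c from hca).mul_right (mem_fx.mp ht).2).mul_right
      (show Commute a c from hca).inv_right).eq⟩
  have hinD : e * e' * e⁻¹ * t' ∈ D :=
    D.mul_mem (D.mul_mem (D.mul_mem (hED he) (hED he')) (D.inv_mem (hED he))) ht'D
  have hconj : x * e * c * (e' * t) * (x * e * c)⁻¹ = e * e' * e⁻¹ * t' := by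
    calc x * e * c * (e' * t) * (x * e * c)⁻¹ = x * (e * ((c * e') * t * c⁻¹) * e⁻¹) * x⁻¹ := by group
      _ = x * (e * (e' * t') * e⁻¹) * x⁻¹ := by rw [hce, ht'def]; group
      _ = x * (e * e' * (t' * e⁻¹)) * x⁻¹ := by group
      _ = x * (e * e' * (e⁻¹ * t')) * x⁻¹ := by rw [hTE t' ht' _ (E.inv_mem he)]
      _ = x * (e * e' * e⁻¹ * t') * x⁻¹ := by group
      _ = e * e' * e⁻¹ * t' := by rw [hXD x hx _ hinD, mul_inv_cancel_right]
  rw [hconj, show (e' * t)⁻¹ * (e * e' * e⁻¹ * t') = t⁻¹ * ⁅e'⁻¹, e⁆ * t' by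
    rw [commutatorElement_def]; group]
  exact Subgroup.mul_mem _ (Subgroup.mul_mem _ (Subgroup.inv_mem _ ht)
    (fx_mono (hE ▸ br_le hSa) (h.qgrp.comm_mem (E.inv_mem he') he))) ht'

/-- When `E'` is central a radical centric subgroup contains `E`. -/
theorem le_of_good (hΦ : ∀ f ∈ fx E a, ∀ g ∈ G, f * g = g * f) {S : Subgroup X}
    (hS : IsSylowIn 2 S G) (hSa : a ∈ normalizer (S : Set X)) (hE : E = br S a) (P : Sylow 2 ↥G)
    (hP : (P : Subgroup ↥G).map G.subtype = S) {H : Subgroup ↥G}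
    (hH : StrongAlperin.Good P H) : E.subgroupOf G ≤ H := by
  haveI := Fact.mk Nat.prime_two
  have hmem : ∀ x : ↥G, x ∈ (P : Subgroup ↥G) ↔ (x : X) ∈ S := fun x => by
    rw [← hP]
    exact (Subgroup.mem_map_iff_mem G.subtype_injective).symm
  have hSn : S ≤ normalizer (E : Set X) := hE ▸ le_norm_br
  have hTE : ∀ t ∈ fx S a, ∀ e ∈ E, t * e = e * t := fun t ht =>
    h.centralizes_E (hS.1 (fx_le ht)) (mem_fx.mp ht).2 (hSn (fx_le ht))
      fun z hz => (hΦ z hz t (hS.1 (fx_le ht))).symm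
  obtain ⟨Z, hZdef⟩ : ∃ Z, Z = (fx E a).subgroupOf G := ⟨_, rfl⟩
  have hZ : ∀ z ∈ Z, ∀ g : ↥G, z * g = g * z := fun z hz g =>
    Subtype.ext (hΦ z (hZdef ▸ hz : z ∈ (fx E a).subgroupOf G) g g.2)
  have hZ2 : ∀ z ∈ Z, z * z = 1 := fun z hz =>
    Subtype.ext (h.fixed_invol (hZdef ▸ hz : z ∈ (fx E a).subgroupOf G))
  have hES : E ≤ S := hE ▸ br_le hSa
  have hZH : Z ≤ H := fun z hz => hH.centric
    ⟨(hmem z).mpr (hES (fx_le (hZdef ▸ hz : z ∈ (fx E a).subgroupOf G))),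
      Subgroup.mem_centralizer_iff.mpr fun d _ => (hZ z hz d).symm⟩
  obtain ⟨W, hW⟩ : ∃ W : Subgroup ↥G, ∀ x, x ∈ W ↔
      x ∈ normalizer (H : Set ↥G) ∧ ∀ d ∈ H, ⁅x, d⁆ ∈ Z := by
    refine ⟨{ carrier := {x | x ∈ normalizer (H : Set ↥G) ∧ ∀ d ∈ H, ⁅x, d⁆ ∈ Z}
              one_mem' := ⟨one_mem _, fun d _ => by rw [commutatorElement_one_left]; exact one_mem _⟩
              mul_mem' := fun {x y} hx hy => ⟨mul_mem hx.1 hy.1, fun d hd => by
                rw [comm_mul_left_of_central (hZ _ (hy.2 d hd) x)]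
                exact mul_mem (hy.2 d hd) (hx.2 d hd)⟩
              inv_mem' := fun {x} hx => ⟨inv_mem hx.1, fun d hd => by
                have h1 := comm_mul_left_of_central (x := x⁻¹) (hZ _ (hx.2 d hd) x⁻¹)
                rw [inv_mul_cancel, commutatorElement_one_left] at h1
                rw [eq_inv_of_mul_eq_one_right h1.symm]
                exact inv_mem (hx.2 d hd)⟩ }, fun _ => Iff.rfl⟩
  have hWn : W ≤ normalizer (H : Set ↥G) := fun x hx => ((hW x).mp hx).1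
  have hnW : normalizer (H : Set ↥G) ≤ normalizer (W : Set ↥G) := fun g hg =>
    Subgroup.mem_normalizer_fintype fun x hx => by
      obtain ⟨hx1, hx2⟩ := (hW x).mp hx
      refine (hW _).mpr ⟨mul_mem (mul_mem hg hx1) (inv_mem hg), fun d hd => ?_⟩
      have h1 := hx2 _ ((Subgroup.mem_normalizer_iff''.mp hg d).mp hd)
      have e : ⁅g * x * g⁻¹, d⁆ = g * ⁅x, g⁻¹ * d * g⁆ * g⁻¹ := by
        simp only [commutatorElement_def]; group
      rw [e, ← hZ _ h1 g, mul_inv_cancel_right]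
      exact h1
  have hle := hH.radical W hWn hnW fun x hx => ⟨1, Subgroup.mem_centralizer_iff.mpr fun d hd => by
    have h1 := comm_mul_left_of_central (hZ _ (((hW x).mp hx).2 d hd) x)
    rw [hZ2 _ (((hW x).mp hx).2 d hd)] at h1
    rw [pow_one, sq]
    exact (commutatorElement_eq_one_iff_mul_comm.mp h1).symm⟩
  intro e he
  have heE : (e : X) ∈ E := he
  have hcom : ∀ d ∈ H, ⁅e, d⁆ ∈ Z := by
    intro d hd
    obtain ⟨e', he', t, ht, hd'⟩ :=
      (h.act.mono hS.1 hSa).exists_br_mul_fx ((hmem d).mp (hH.le hd))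
    have he'E : e' ∈ E := hE ▸ he'
    rw [hZdef]
    show ((⁅e, d⁆ : ↥G) : X) ∈ fx E a
    have h2 : ((⁅e, d⁆ : ↥G) : X) = ⁅(e : X), e'⁆ := by
      simp only [commutatorElement_def, Subgroup.coe_mul, Subgroup.coe_inv, hd']
      calc (e : X) * (e' * t) * (e : X)⁻¹ * (e' * t)⁻¹
          = (e : X) * e' * (t * (e : X)⁻¹) * t⁻¹ * e'⁻¹ := by group
        _ = (e : X) * e' * ((e : X)⁻¹ * t) * t⁻¹ * e'⁻¹ := by rw [hTE t ht _ (E.inv_mem heE)]
        _ = _ := by group
    rw [h2]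
    exact h.qgrp.comm_mem heE he'E
  have heN : e ∈ normalizer (H : Set ↥G) := Subgroup.mem_normalizer_fintype fun d hd => by
    have := H.mul_mem (hZH (hcom d hd)) hd
    simpa [commutatorElement_def] using this
  have hm := hle ((hW e).mpr ⟨heN, hcom⟩)
  rw [← SetLike.mem_coe, Subgroup.coe_mul_of_left_le_normalizer_right H _
    (fun d hd => mem_normalizer_centralizer (Subgroup.le_normalizer hd))] at hm
  obtain ⟨d, hd, c, hc, rfl⟩ := hm
  refine H.mul_mem hd (hH.centric ⟨?_, hc⟩)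
  have := (P : Subgroup ↥G).mul_mem ((P : Subgroup ↥G).inv_mem (hH.le hd))
    ((hmem (d * c)).mpr (hES heE))
  rwa [inv_mul_cancel_left] at this

/-- Some element of `E'` is not central in `G`. -/
theorem exists_inJ : ∃ f, InJ a G E f := by
  haveI := Fact.mk Nat.prime_two
  by_contra hno
  have hΦ : ∀ f ∈ fx E a, ∀ g ∈ G, f * g = g * f := fun f hf g hg =>
    h.cen_central (not_not.mp fun hc => hno ⟨f, hf, hc⟩) hg
  obtain ⟨S, hS, hSa, hE⟩ := h.sylow
  obtain ⟨P, hP⟩ := Grp.isSylowIn_iff.mp hS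
  have hmem : ∀ x : ↥G, x ∈ (P : Subgroup ↥G) ↔ (x : X) ∈ S := fun x => by
    rw [← hP]
    exact (Subgroup.mem_map_iff_mem G.subtype_injective).symm
  obtain ⟨K, hKdef⟩ : ∃ K, K = (fx S a).subgroupOf G := ⟨_, rfl⟩
  have hstep : ∀ H : Subgroup ↥G, StrongAlperin.Good P H → ∀ g ∈ normalizer (H : Set ↥G), ∀ d ∈ H,
      d⁻¹ * (g⁻¹ * d * g) ∈ K := by
    intro H hH g hg d hd
    rw [hKdef]
    have hED : E ≤ H.map G.subtype := fun x hx =>
      ⟨⟨x, h.E_le hx⟩, h.le_of_good hΦ hS hSa hE P hP hH hx, rfl⟩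
    have hDS : H.map G.subtype ≤ S := hP ▸ Subgroup.map_mono hH.le
    have hgD : ((g⁻¹ : ↥G) : X) ∈ normalizer ((H.map G.subtype : Subgroup X) : Set X) :=
      Subgroup.mem_normalizer_fintype fun y hy => by
        obtain ⟨y, hy', rfl⟩ := hy
        exact ⟨g⁻¹ * y * g⁻¹⁻¹, (Subgroup.mem_normalizer_iff.mp (inv_mem hg) y).mp hy', rfl⟩
    have hmain := h.central_step hΦ hS hSa hE hED hDS (g⁻¹ : ↥G).2 hgD (d := (d : X)) ⟨d, hd, rfl⟩
    show ((d⁻¹ * (g⁻¹ * d * g) : ↥G) : X) ∈ fx S a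
    simpa using hmain
  have hchain : ∀ (A : Set ↥G) (x : ↥G), StrongAlperin.Chain P A x →
      (∀ s ∈ A, s ∈ (P : Subgroup ↥G)) →
      ∀ s ∈ A, x⁻¹ * s * x ∈ (P : Subgroup ↥G) ∧ s⁻¹ * (x⁻¹ * s * x) ∈ K := by
    intro A x hx
    induction hx with
    | nil A => exact fun hA s hs => ⟨by simpa using hA s hs, by simp⟩
    | @cons A H y z hs' hA' _ ih =>
      intro _ s hs
      have h1 : y⁻¹ * s * y ∈ H := by
        simpa using (Subgroup.mem_normalizer_iff.mp (inv_mem hs'.mem_normalizer) s).mp (hA' hs)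
      have h2 := hstep H hs'.1 y hs'.mem_normalizer s (hA' hs)
      obtain ⟨h3, h4⟩ := ih (fun u hu => by
        obtain ⟨v, hv, rfl⟩ := hu
        exact hs'.1.le (by simpa using
          (Subgroup.mem_normalizer_iff.mp (inv_mem hs'.mem_normalizer) v).mp (hA' hv)))
        _ ⟨s, hs, rfl⟩
      refine ⟨by simpa [mul_assoc] using h3, ?_⟩
      simpa [mul_assoc] using K.mul_mem h2 h4
  have hfus : ∀ (s g : ↥G), s ∈ (P : Subgroup ↥G) → g⁻¹ * s * g ∈ (P : Subgroup ↥G) →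
      s⁻¹ * (g⁻¹ * s * g) ∈ K := by
    intro s g hs hg
    obtain ⟨c, x, y, hc, hx, hy, rfl⟩ := StrongAlperin.dec P (A := {s})
      (Set.singleton_subset_iff.mpr hs) (g := g) (by
        rintro _ ⟨u, rfl, rfl⟩
        exact hg)
    obtain ⟨h3, h4⟩ := hchain _ _ hx (fun u hu => by rw [Set.mem_singleton_iff.mp hu]; exact hs) s rfl
    have h5 := hstep _ (StrongAlperin.good_sylow P) y hy _ h3
    have e : (c * x * y)⁻¹ * s * (c * x * y) = y⁻¹ * (x⁻¹ * s * x) * y := by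
      have hcs : s * c = c * s := Subgroup.mem_centralizer_iff.mp hc s rfl
      calc (c * x * y)⁻¹ * s * (c * x * y) = y⁻¹ * x⁻¹ * c⁻¹ * (s * c) * x * y := by group
        _ = _ := by rw [hcs]; group
    rw [e]
    simpa [mul_assoc] using K.mul_mem h4 h5
  have hfocal : Subgroup.focalSubgroup (P : Subgroup ↥G) ≤ K := by
    rw [Subgroup.focalSubgroup_def, Subgroup.closure_le]
    rintro _ ⟨hgP, x, hx, v, rfl⟩
    have h1 : v⁻¹⁻¹ * x⁻¹ * v⁻¹ ∈ (P : Subgroup ↥G) := by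
      have := (P : Subgroup ↥G).mul_mem ((P : Subgroup ↥G).inv_mem hx) hgP
      simpa [commutatorElement_def, mul_assoc] using this
    have h2 := hfus x⁻¹ v⁻¹ ((P : Subgroup ↥G).inv_mem hx) h1
    simpa [commutatorElement_def, mul_assoc] using h2
  have hperf : _root_.commutator ↥G = ⊤ := by
    refine Subgroup.map_injective G.subtype_injective ?_
    rw [Subgroup.map_subtype_commutator, h.perfect, ← MonoidHom.range_eq_map, Subgroup.range_subtype]
  have hPK : (P : Subgroup ↥G) ≤ K := by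
    have h1 := Subgroup.commutator_inf_eq_focalSubgroup P
    rw [hperf, top_inf_eq] at h1
    exact h1.le.trans hfocal
  refine h.neE (h.qgrp.brE ▸ br_eq_bot.mpr fun e he => ?_)
  have h1 : (⟨e, h.E_le he⟩ : ↥G) ∈ K := hPK ((hmem _).mpr (hE ▸ br_le hSa <| hE ▸ he))
  rw [hKdef] at h1
  exact (mem_fx.mp (show e ∈ fx S a from h1)).2

end Setup

end Cfsg.Agent.Invol.Shult
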