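import Mathlib
import Cfsg.Agent.Lib.Char.CycModular

/-!
Traces on simple modules in characteristic `p` separate the classes of `p`-regular elements.
-/

set_option autoImplicit false

namespace Cfsg.Agent.Invol.Shult

open Module

section trace

variable {K V : Type*} [Field K] [AddCommGroup V] [Module K V] [FiniteDimensional K V]

/-- The trace of an endomorphism preserving a subspace splits. -/
theorem trace_eq_restrict_add_quotient (f : Module.End K V) (W : Submodule K V) (hf : W ≤ W.comap f) :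
    LinearMap.trace K V f = LinearMap.trace K W (f.restrict hf) +
      LinearMap.trace K (V ⧸ W) (W.mapQ W f hf) := by
  obtain ⟨π, hπ⟩ := LinearMap.exists_leftInverse_of_injective W.subtype W.ker_subtype
  have hπ' : ∀ w : W, π (w : V) = w := fun w => LinearMap.congr_fun hπ w
  have hs0 : W ≤ LinearMap.ker (LinearMap.id - W.subtype.comp π) := fun w hw => by
    rw [LinearMap.mem_ker, LinearMap.sub_apply, LinearMap.id_apply, LinearMap.comp_apply,
      Submodule.subtype_apply]
    have h1 := hπ' ⟨w, hw⟩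
    change π w = ⟨w, hw⟩ at h1
    rw [h1, sub_self]
  have hsplit : f = (f.comp W.subtype).comp π +
      (f.comp (W.liftQ _ hs0)).comp W.mkQ := by
    ext v
    simp [map_sub]
  conv_lhs => rw [hsplit, map_add]
  congr 1
  · rw [LinearMap.trace_comp_comm' (f := π) (g := f.comp W.subtype)]
    refine congrArg _ (LinearMap.ext fun w => ?_)
    have h1 := hπ' ⟨f w, hf w.2⟩
    simp only [LinearMap.comp_apply, Submodule.subtype_apply]
    exact h1
  · rw [LinearMap.trace_comp_comm' (f := W.mkQ) (g := f.comp (W.liftQ _ hs0))]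
    refine congrArg _ (Submodule.linearMap_qext _ (LinearMap.ext fun v => ?_))
    simp only [LinearMap.comp_apply, Submodule.mkQ_apply, Submodule.liftQ_apply, LinearMap.sub_apply,
      LinearMap.id_apply, Submodule.mapQ_apply, Submodule.subtype_apply]
    rw [map_sub, Submodule.Quotient.mk_sub]
    rw [(Submodule.Quotient.mk_eq_zero W).mpr (hf (π v).2), sub_zero]

end trace

universe u v

variable {K : Type v} [Field K] {H : Type u} [Group H] [Finite H]

/-- If all irreducible representations agree on two elements, all representations do. -/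
theorem trace_eq_of_irr {u v : H}
    (h : ∀ (L : Type (max u v)) [AddCommGroup L] [Module K L] [FiniteDimensional K L]
      (ρ : H →* Module.End K L), Char.CycMod.Irr ρ → LinearMap.trace K L (ρ u) = LinearMap.trace K L (ρ v)) :
    ∀ (n : ℕ) (V : Type (max u v)) [AddCommGroup V] [Module K V] [FiniteDimensional K V]
      (ρ : H →* Module.End K V), finrank K V ≤ n →
      LinearMap.trace K V (ρ u) = LinearMap.trace K V (ρ v) := by
  intro n
  induction n with
  | zero =>
    intro V _ _ _ ρ hn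
    haveI : Subsingleton V := Module.finrank_zero_iff.mp (Nat.le_zero.mp hn)
    rw [Subsingleton.elim (ρ u) (ρ v)]
  | succ n ih =>
    intro V _ _ _ ρ hn
    rcases subsingleton_or_nontrivial V with hV | hV
    · rw [Subsingleton.elim (ρ u) (ρ v)]
    by_cases hirr : ∀ W : Submodule K V, (∀ g, ∀ x ∈ W, ρ g x ∈ W) → W = ⊥ ∨ W = ⊤
    · exact h V ρ ⟨hV, hirr⟩
    push Not at hirr
    obtain ⟨W, hW, hW0, hW1⟩ := hirr
    have hinv : ∀ g, W ≤ W.comap (ρ g) := fun g x hx => hW g x hx
    let σ : H →* Module.End K W :=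
      { toFun := fun g => (ρ g).restrict (hinv g)
        map_one' := LinearMap.ext fun w => Subtype.ext (by simp)
        map_mul' := fun g g' => LinearMap.ext fun w => Subtype.ext (by simp) }
    let τ : H →* Module.End K (V ⧸ W) :=
      { toFun := fun g => W.mapQ W (ρ g) (hinv g)
        map_one' := Submodule.linearMap_qext _ (LinearMap.ext fun w => by simp)
        map_mul' := fun g g' => Submodule.linearMap_qext _ (LinearMap.ext fun w => by simp) }
    have h1 : finrank K W < finrank K V := Submodule.finrank_lt hW1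
    have h2 : finrank K (V ⧸ W) < finrank K V := by
      have := Submodule.finrank_quotient_add_finrank W
      have h3 : 0 < finrank K W := Nat.pos_of_ne_zero fun e => hW0 (Submodule.finrank_eq_zero.mp e)
      omega
    rw [trace_eq_restrict_add_quotient (ρ u) W (hinv u), trace_eq_restrict_add_quotient (ρ v) W (hinv v)]
    exact congrArg₂ (· + ·) (ih W σ (by omega)) (ih (V ⧸ W) τ (by omega))

/-- Traces on irreducible representations separate classes of `p`-regular elements. -/
theorem isConj_of_trace_eq {p : ℕ} [Fact p.Prime] [CharP K p] [IsAlgClosed K] {u v : H}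
    (hu : ¬ p ∣ orderOf u) (hv : ¬ p ∣ orderOf v)
    (h : ∀ (L : Type (max u v)) [AddCommGroup L] [Module K L] [FiniteDimensional K L]
      (ρ : H →* Module.End K L), Char.CycMod.Irr ρ → LinearMap.trace K L (ρ u) = LinearMap.trace K L (ρ v)) :
    IsConj u v := by
  classical
  cases nonempty_fintype H
  by_contra hne
  obtain ⟨S⟩ : Nonempty (Sylow p ↥(Subgroup.centralizer ({u} : Set H))) := inferInstance
  obtain ⟨P, hP⟩ : ∃ P, P = (S : Subgroup _).map (Subgroup.centralizer ({u} : Set H)).subtype := ⟨_, rfl⟩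
  have hPC : P ≤ Subgroup.centralizer ({u} : Set H) := hP ▸ Subgroup.map_subtype_le _
  have hcomm : ∀ w ∈ P, Commute w u := fun w hw => Subgroup.mem_centralizer_singleton_iff.mp (hPC hw)
  -- right translation by a power of `u` on the cosets of `P`
  let R : ℕ → H ⧸ P → H ⧸ P := fun i => Quotient.map' (fun x : H => x * u ^ i) fun x y hxy => by
    rw [QuotientGroup.leftRel_apply] at hxy ⊢
    rw [show (x * u ^ i)⁻¹ * (y * u ^ i) = (u ^ i)⁻¹ * ((x⁻¹ * y) * u ^ i) by group,
      ((hcomm _ hxy).pow_right i).eq, inv_mul_cancel_left]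
    exact hxy
  have hR : ∀ (i : ℕ) (x : H), R i (x : H ⧸ P) = ((x * u ^ i : H) : H ⧸ P) := fun i x => rfl
  let ρ : H →* Module.End K (H ⧸ P → K) :=
    { toFun := fun g => LinearMap.funLeft K K (fun q => g⁻¹ • q)
      map_one' := LinearMap.ext fun f => funext fun q => by simp [LinearMap.funLeft_apply]
      map_mul' := fun g g' => LinearMap.ext fun f => funext fun q => by
        simp [LinearMap.funLeft_apply, mul_smul] }
  let T : ℕ → Module.End K (H ⧸ P → K) := fun i => LinearMap.funLeft K K (R i)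
  have hTρ : ∀ i g, T i * ρ g = ρ g * T i := fun i g => LinearMap.ext fun f => funext fun q => by
    induction q using QuotientGroup.induction_on with
    | H x =>
      show f (g⁻¹ • R i (x : H ⧸ P)) = f (R i (g⁻¹ • (x : H ⧸ P)))
      rw [hR, MulAction.Quotient.smul_mk, MulAction.Quotient.smul_mk, smul_eq_mul, smul_eq_mul, hR,
        mul_assoc]
  have hT : ∀ i, T i = T 1 ^ i := by
    intro i
    induction i with
    | zero =>
      refine LinearMap.ext fun f => funext fun q => ?_
      induction q using QuotientGroup.induction_on with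
      | H x => show f (R 0 (x : H ⧸ P)) = f x; rw [hR, pow_zero, mul_one]
    | succ i ih =>
      rw [pow_succ, ← ih]
      refine LinearMap.ext fun f => funext fun q => ?_
      induction q using QuotientGroup.induction_on with
      | H x =>
        show f (R (i + 1) (x : H ⧸ P)) = f (R 1 (R i (x : H ⧸ P)))
        rw [hR, hR, hR, pow_one, pow_succ, mul_assoc]
  obtain ⟨n, hn⟩ : ∃ n, n = orderOf u := ⟨_, rfl⟩
  have hn0 : 0 < n := hn ▸ orderOf_pos u
  have hTn : T 1 ^ n = 1 := by
    rw [← hT]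
    refine LinearMap.ext fun f => funext fun q => ?_
    induction q using QuotientGroup.induction_on with
    | H x => show f (R n (x : H ⧸ P)) = f x; rw [hR, hn, pow_orderOf_eq_one, mul_one]
  -- traces of `ρ g * T j`
  have hcount : ∀ g j, LinearMap.trace K _ (ρ g * T j) =
      ((Finset.univ.filter fun q : H ⧸ P => R j (g⁻¹ • q) = q).card : K) := fun g j => by
    rw [LinearMap.trace_eq_matrix_trace K (Pi.basisFun K _), Matrix.trace, Finset.natCast_card_filter]
    refine Finset.sum_congr rfl fun q _ => ?_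
    rw [Matrix.diag_apply, LinearMap.toMatrix_apply]
    simp [ρ, T, Pi.single_apply]
  -- these agree for the two elements
  haveI : NeZero (n : K) := ⟨fun e => hu (hn ▸ (CharP.cast_eq_zero_iff K p n).mp e)⟩
  obtain ⟨ζ, hζ⟩ := HasEnoughRootsOfUnity.exists_primitiveRoot K n
  obtain ⟨e, hedef⟩ : ∃ e : ℕ → Module.End K (H ⧸ P → K), ∀ l,
      e l = (n : K)⁻¹ • ∑ i ∈ Finset.range n, ((ζ ^ l)⁻¹) ^ i • T i := ⟨_, fun l => rfl⟩
  have he : ∀ l, IsIdempotentElem (e l) ∧ ∀ g, e l * ρ g = ρ g * e l := fun l => by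
    refine ⟨?_, fun g => ?_⟩
    · obtain ⟨A, hA⟩ : ∃ A : Module.End K (H ⧸ P → K), A = ((ζ ^ l)⁻¹) • T 1 := ⟨_, rfl⟩
      have hA' : e l = (n : K)⁻¹ • ∑ i ∈ Finset.range n, A ^ i := by
        rw [hedef]
        refine congrArg _ (Finset.sum_congr rfl fun i _ => ?_)
        rw [hA, smul_pow, ← hT]
      have hAn : A ^ n = 1 := by
        rw [hA, smul_pow, hTn, inv_pow, ← pow_mul, mul_comm, pow_mul, hζ.pow_eq_one, one_pow, inv_one, one_smul]
      have hmul : A * ∑ i ∈ Finset.range n, A ^ i = ∑ i ∈ Finset.range n, A ^ i := by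
        have h1 := mul_geom_sum A n
        rw [hAn, sub_self, sub_mul, one_mul, sub_eq_zero] at h1
        exact h1
      have hpow : ∀ j, A ^ j * ∑ i ∈ Finset.range n, A ^ i = ∑ i ∈ Finset.range n, A ^ i := by
        intro j
        induction j with
        | zero => rw [pow_zero, one_mul]
        | succ j ih => rw [pow_succ, mul_assoc, hmul, ih]
      rw [IsIdempotentElem, hA', smul_mul_smul_comm, Finset.sum_mul, Finset.sum_congr rfl fun j _ => hpow j,
        Finset.sum_const, Finset.card_range, ← Nat.cast_smul_eq_nsmul K n, smul_smul]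
      congr 1
      field_simp
    · simp only [hedef, smul_mul_assoc, mul_smul_comm, Finset.sum_mul, Finset.mul_sum, hTρ]
  have htr : ∀ l, LinearMap.trace K _ (ρ u * e l) = LinearMap.trace K _ (ρ v * e l) := by
    intro l
    obtain ⟨W, hW⟩ : ∃ W, W = LinearMap.range (e l) := ⟨_, rfl⟩
    have hinv : ∀ g, ∀ x ∈ W, ρ g x ∈ W := fun g x hx => by
      rw [hW] at hx ⊢
      obtain ⟨y, rfl⟩ := hx
      exact ⟨ρ g y, LinearMap.congr_fun ((he l).2 g) y⟩
    let σ : H →* Module.End K W :=
      { toFun := fun g => (ρ g).restrict (hinv g)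
        map_one' := LinearMap.ext fun w => Subtype.ext (by simp)
        map_mul' := fun g g' => LinearMap.ext fun w => Subtype.ext (by simp) }
    obtain ⟨π, hπ⟩ : ∃ π : (H ⧸ P → K) →ₗ[K] W, ∀ x, (π x : H ⧸ P → K) = e l x :=
      ⟨(e l).codRestrict W fun x => hW ▸ LinearMap.mem_range_self _ x, fun x => rfl⟩
    have key : ∀ g, LinearMap.trace K _ (ρ g * e l) = LinearMap.trace K W (σ g) := fun g => by
      have h1 : ρ g * e l = (W.subtype.comp (σ g)).comp π := LinearMap.ext fun x => by
        show ρ g (e l x) = ρ g (π x : H ⧸ P → K)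
        rw [hπ]
      rw [h1, LinearMap.trace_comp_comm' (f := π) (g := W.subtype.comp (σ g))]
      refine congrArg _ (LinearMap.ext fun w => Subtype.ext ?_)
      show (π (ρ g (w : H ⧸ P → K)) : H ⧸ P → K) = ρ g (w : H ⧸ P → K)
      obtain ⟨y, hy⟩ : ρ g (w : H ⧸ P → K) ∈ LinearMap.range (e l) := hW.le (hinv g w w.2)
      rw [hπ, ← hy, ← Module.End.mul_apply, (he l).1.eq]
    rw [key, key]
    exact trace_eq_of_irr h _ W σ le_rfl
  -- inversion
  obtain ⟨j, hj⟩ : ∃ j, j = 1 % n := ⟨_, rfl⟩
  have hjn : j < n := hj ▸ Nat.mod_lt _ hn0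
  have hju : u ^ j = u := by rw [hj, hn, pow_mod_orderOf, pow_one]
  have hinvert : T j = ∑ l ∈ Finset.range n, (ζ ^ l) ^ j • e l := by
    simp only [hedef, Finset.smul_sum, smul_smul]
    rw [Finset.sum_comm, Finset.sum_eq_single j]
    · rw [← Finset.sum_smul]
      have : ∀ l ∈ Finset.range n, (ζ ^ l) ^ j * ((n : K)⁻¹ * (ζ ^ l)⁻¹ ^ j) = (n : K)⁻¹ := fun l _ => by
        have hz : (ζ ^ l) ^ j ≠ 0 := pow_ne_zero _ (pow_ne_zero _ (hζ.ne_zero hn0.ne'))
        rw [inv_pow]; field_simp
      rw [Finset.sum_congr rfl this, Finset.sum_const, Finset.card_range, nsmul_eq_mul,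
        mul_inv_cancel₀ (NeZero.ne _), one_smul]
    · intro i hi hij
      rw [← Finset.sum_smul]
      have h1 : ∀ l ∈ Finset.range n, (ζ ^ l) ^ j * ((n : K)⁻¹ * (ζ ^ l)⁻¹ ^ i) =
          (n : K)⁻¹ * (ζ ^ j * (ζ ^ i)⁻¹) ^ l := fun l _ => by
        rw [mul_pow, inv_pow, inv_pow, ← pow_mul, ← pow_mul, ← pow_mul, ← pow_mul, mul_comm l j, mul_comm l i]
        ring
      rw [Finset.sum_congr rfl h1, ← Finset.mul_sum]
      have hx : ζ ^ j * (ζ ^ i)⁻¹ ≠ 1 := fun e => hij (hζ.pow_inj (Finset.mem_range.mp hi) hjn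
        (mul_inv_eq_one₀ (pow_ne_zero _ (hζ.ne_zero hn0.ne')) |>.mp e).symm)
      rw [geom_sum_eq hx, mul_pow, inv_pow, ← pow_mul, ← pow_mul, mul_comm j n, mul_comm i n, pow_mul, pow_mul,
        hζ.pow_eq_one, one_pow, one_pow, inv_one, mul_one, sub_self, zero_div, mul_zero, zero_smul]
    · exact fun hh => absurd (Finset.mem_range.mpr hjn) hh
  have hagree : LinearMap.trace K _ (ρ u * T j) = LinearMap.trace K _ (ρ v * T j) := by
    rw [hinvert, Finset.mul_sum, Finset.mul_sum, map_sum, map_sum]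
    refine Finset.sum_congr rfl fun l _ => ?_
    rw [mul_smul_comm, mul_smul_comm, map_smul, map_smul, htr]
  -- evaluate both sides
  have hmem : ∀ (g x : H), R j (g⁻¹ • (x : H ⧸ P)) = x ↔ u⁻¹ * (x⁻¹ * g * x) ∈ P := fun g x => by
    rw [MulAction.Quotient.smul_mk, smul_eq_mul, hR, hju, QuotientGroup.eq]
    rw [show (g⁻¹ * x * u)⁻¹ * x = u⁻¹ * (x⁻¹ * g * x) by group]
  rw [hcount, hcount] at hagree
  have hPp : ∀ w ∈ P, ∃ a, w ^ p ^ a = 1 := fun w hw => by
    rw [hP] at hw
    obtain ⟨z, hz, rfl⟩ := hw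
    obtain ⟨a, ha⟩ := S.isPGroup' ⟨z, hz⟩
    exact ⟨a, congrArg (fun t : ↥(Subgroup.centralizer ({u} : Set H)) => (t : H)) (congrArg Subtype.val ha)⟩
  have hreg : ∀ g : H, ¬ p ∣ orderOf g → ∀ x : H, R j (g⁻¹ • (x : H ⧸ P)) = x → x⁻¹ * g * x = u := by
    intro g hg x hx
    obtain ⟨w, hw⟩ : ∃ w, w = u⁻¹ * (x⁻¹ * g * x) := ⟨_, rfl⟩
    have hwP : w ∈ P := hw ▸ (hmem g x).mp hx
    obtain ⟨a, ha⟩ := hPp w hwP
    have hy : x⁻¹ * g * x = u * w := by rw [hw, mul_inv_cancel_left]
    have hord : orderOf (x⁻¹ * g * x) = orderOf g := by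
      rw [show x⁻¹ * g * x = MulAut.conj x⁻¹ g by simp]
      exact MulEquiv.orderOf_eq _ g
    have h1 : w ^ (orderOf g * n) = 1 := by
      have h2 : (u * w) ^ (orderOf g * n) = 1 := by
        rw [← hy, pow_mul, ← hord, pow_orderOf_eq_one, one_pow]
      rw [(hcomm w hwP).symm.mul_pow, pow_mul', hn, pow_orderOf_eq_one, one_pow, one_mul, ← hn] at h2
      exact h2
    have hco : (p ^ a).Coprime (orderOf g * n) :=
      Nat.Coprime.pow_left a (((Fact.out : p.Prime).coprime_iff_not_dvd.mpr hg).mul_right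
        ((Fact.out : p.Prime).coprime_iff_not_dvd.mpr (hn ▸ hu)))
    have hw1 : w = 1 := orderOf_eq_one_iff.mp (Nat.eq_one_of_dvd_coprimes hco
      (orderOf_dvd_of_pow_eq_one ha) (orderOf_dvd_of_pow_eq_one h1))
    rw [hy, hw1, mul_one]
  have hv0 : (Finset.univ.filter fun q : H ⧸ P => R j (v⁻¹ • q) = q) = ∅ := by
    refine Finset.filter_eq_empty_iff.mpr fun q _ hq => hne ?_
    induction q using QuotientGroup.induction_on with
    | H x => exact (isConj_iff.mpr ⟨x⁻¹, by rw [inv_inv]; exact hreg v hv x hq⟩).symm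
  obtain ⟨C, hC⟩ : ∃ C, C = Subgroup.centralizer ({u} : Set H) := ⟨_, rfl⟩
  have hu1 : (Finset.univ.filter fun q : H ⧸ P => R j (u⁻¹ • q) = q).card = P.relIndex C := by
    rw [Subgroup.relIndex, Subgroup.index, Nat.card_eq_fintype_card, ← Finset.card_univ]
    have hwd : ∀ c d : C, (c : C ⧸ P.subgroupOf C) = d ↔ ((c : H) : H ⧸ P) = ((d : H) : H ⧸ P) := fun c d => by
      rw [QuotientGroup.eq, QuotientGroup.eq, Subgroup.mem_subgroupOf, Subgroup.coe_mul, Subgroup.coe_inv]
    refine (Finset.card_bij (fun q _ => ((q.out : H) : H ⧸ P)) (fun q _ => ?_) (fun q _ q' _ hqq => ?_)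
      fun q hq => ?_).symm
    · refine Finset.mem_filter.mpr ⟨Finset.mem_univ _, (hmem u _).mpr ?_⟩
      have hc : (q.out : H) * u = u * (q.out : H) :=
        Subgroup.mem_centralizer_singleton_iff.mp (hC.le q.out.2)
      rw [mul_assoc _ u, ← hc, inv_mul_cancel_left, inv_mul_cancel]
      exact one_mem _
    · rw [← q.out_eq', ← q'.out_eq']
      exact (hwd _ _).mpr hqq
    · induction q using QuotientGroup.induction_on with
      | H x =>
        have hx : x ∈ C := hC.ge (Subgroup.mem_centralizer_singleton_iff.mpr (by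
          have h1 := hreg u hu x (Finset.mem_filter.mp hq).2
          rw [mul_assoc, inv_mul_eq_iff_eq_mul] at h1
          exact h1.symm))
        exact ⟨((⟨x, hx⟩ : C) : C ⧸ P.subgroupOf C), Finset.mem_univ _,
          (hwd _ ⟨x, hx⟩).mp (Quotient.out_eq' _)⟩
  rw [hv0, hu1, Finset.card_empty, Nat.cast_zero, CharP.cast_eq_zero_iff K p] at hagree
  refine S.not_dvd_index (p := p) ?_
  rwa [Subgroup.relIndex, hC, hP, Subgroup.subgroupOf, Subgroup.comap_map_eq_self_of_injective
    (Subgroup.subtype_injective _)] at hagree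

end Cfsg.Agent.Invol.Shult
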