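import Mathlib
import Cfsg.Agent.Lib.Char.CycModular
import Cfsg.Agent.Lib.Grp.EndAlgebra

/-!
Irreducible representations of a group with flipped non-central elements, twisted by an automorphism,
and subdirect products of pairwise non-isomorphic irreducible representations.
-/

set_option autoImplicit false

namespace Cfsg.Agent.Invol.Shult

open Module
open Cfsg.Agent.Char.CycMod (Irr Intw)

variable {E : Type*} [Group E] [Finite E] {K : Type*} [Field K] [IsAlgClosed K]
  {L : Type*} [AddCommGroup L] [Module K L] [FiniteDimensional K L]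

/-- A power of an intertwiner of a twist intertwines with the power of the twist. -/
theorem twist_pow (ρ : E →* Module.End K L) (τ : MulAut E) {s : Module.End K L}
    (hs : ∀ x, s * ρ x = ρ (τ x) * s) (n : ℕ) (x : E) : s ^ n * ρ x = ρ ((τ ^ n) x) * s ^ n := by
  induction n generalizing x with
  | zero => simp
  | succ n ih => rw [pow_succ, mul_assoc, hs, ← mul_assoc, ih, mul_assoc, pow_succ]; rfl

/-- The degree of an irreducible representation is prime to the characteristic when the group order is. -/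
theorem finrank_cast_ne_zero (ρ : E →* Module.End K L) (hirr : Irr ρ) (hE : (Nat.card E : K) ≠ 0) :
    (finrank K L : K) ≠ 0 := by
  classical
  haveI := Fintype.ofFinite E
  haveI := hirr.1
  intro h0
  let b := Module.finBasis K L
  have i : Fin (finrank K L) := ⟨0, Module.finrank_pos⟩
  obtain ⟨T, hT⟩ : ∃ T : Module.End K L, T = (b.coord i).smulRight (b i) := ⟨_, rfl⟩
  have htrT : LinearMap.trace K L T = 1 := by
    rw [hT, LinearMap.trace_smulRight]; simp
  obtain ⟨A, hA⟩ : ∃ A : Module.End K L, A = ∑ g : E, ρ g * T * ρ g⁻¹ := ⟨_, rfl⟩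
  have hint : Intw ρ ρ A := fun g v => by
    have : A * ρ g = ρ g * A := by
      rw [hA, Finset.sum_mul, Finset.mul_sum]
      refine Fintype.sum_equiv (Equiv.mulLeft g⁻¹) _ _ fun x => ?_
      simp only [Equiv.coe_mulLeft]
      rw [← mul_assoc (ρ g), ← mul_assoc (ρ g), ← map_mul, mul_inv_cancel_left, mul_inv_rev, inv_inv,
        map_mul, ← mul_assoc]
    exact LinearMap.congr_fun this v
  obtain ⟨c, hc⟩ := Char.CycMod.schur ρ hirr hint
  have h1 : LinearMap.trace K L A = c * finrank K L := by
    rw [show A = c • (1 : Module.End K L) from LinearMap.ext fun v => by simpa using hc v, map_smul,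
      LinearMap.trace_one, smul_eq_mul]
  have h2 : LinearMap.trace K L A = (Nat.card E : K) := by
    rw [hA, map_sum, Finset.sum_congr rfl fun g _ => show LinearMap.trace K L (ρ g * T * ρ g⁻¹) = 1 by
      rw [LinearMap.trace_mul_comm, ← mul_assoc, ← map_mul, inv_mul_cancel, map_one, one_mul, htrT],
      Finset.sum_const, Finset.card_univ, nsmul_eq_mul, mul_one, Nat.card_eq_fintype_card]
  rw [h0, mul_zero] at h1
  exact hE (h2.symm.trans h1)

/-- Irreducible representations in which every element outside a scalar subgroup is flipped. -/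
theorem flipped (ρ : E →* Module.End K L) (hirr : Irr ρ) (hE : (Nat.card E : K) ≠ 0) (Z : Subgroup E)
    (hZ : ∀ z ∈ Z, ∃ c : K, ρ z = c • 1)
    (hflip : ∀ e, e ∉ Z → ∃ η : E, ∃ c : K, c ≠ 1 ∧ ρ (η * e * η⁻¹) = c • ρ e) :
    finrank K L * finrank K L ≤ Z.index ∧
      ∀ τ : MulAut E, (∀ z ∈ Z, τ z = z) → ∃ s : Module.End K L, IsUnit s ∧ ∀ x, s * ρ x = ρ (τ x) * s := by
  classical
  haveI := Fintype.ofFinite E
  haveI := hirr.1
  have hd := finrank_cast_ne_zero ρ hirr hE
  have htr : ∀ e, e ∉ Z → LinearMap.trace K L (ρ e) = 0 := fun e he => by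
    obtain ⟨η, c, hc, h⟩ := hflip e he
    have h1 : LinearMap.trace K L (ρ (η * e * η⁻¹)) = LinearMap.trace K L (ρ e) := by
      rw [map_mul, LinearMap.trace_mul_comm, ← map_mul, ← mul_assoc, inv_mul_cancel, one_mul]
    rw [h, map_smul, smul_eq_mul] at h1
    exact (mul_left_eq_self₀.mp h1).resolve_left hc
  refine ⟨?_, fun τ hτ => ?_⟩
  · haveI := Fintype.ofFinite (E ⧸ Z)
    let f : E ⧸ Z → Module.End K L := fun q => ρ q.out
    have htop : Submodule.span K (Set.range f) = ⊤ := by
      rw [eq_top_iff, ← Grp.span_eq_top_of_irreducible ρ hirr.2, Submodule.span_le]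
      rintro _ ⟨x, rfl⟩
      obtain ⟨z, hz⟩ := QuotientGroup.mk_out_eq_mul Z x
      obtain ⟨c, hc⟩ := hZ (z : E)⁻¹ (inv_mem z.2)
      have : ρ x = c • f (x : E ⧸ Z) := by
        show ρ x = c • ρ (x : E ⧸ Z).out
        rw [hz, ← mul_one (ρ (x * z)), ← mul_smul_comm, ← hc, ← map_mul, mul_inv_cancel_right]
      rw [SetLike.mem_coe, this]
      exact Submodule.smul_mem _ _ (Submodule.subset_span ⟨_, rfl⟩)
    have h1 := finrank_range_le_card (R := K) f
    rw [Set.finrank, htop, finrank_top, Module.finrank_linearMap] at h1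
    rwa [Subgroup.index, Nat.card_eq_fintype_card]
  · let b := Module.finBasis K L
    obtain ⟨i, j, hne⟩ : ∃ i j, (∑ x : E, ρ (τ x) * (b.coord j).smulRight (b i) * ρ x⁻¹) ≠ 0 := by
      by_contra hall
      push Not at hall
      have h0 : ∑ x : E, LinearMap.trace K L (ρ (τ x)) * LinearMap.trace K L (ρ x⁻¹) = 0 := by
        simp only [LinearMap.trace_eq_matrix_trace K b, Matrix.trace, Matrix.diag_apply, LinearMap.toMatrix_apply]
        simp only [Finset.sum_mul_sum]
        rw [Finset.sum_comm]
        refine Finset.sum_eq_zero fun i _ => ?_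
        rw [Finset.sum_comm]
        refine Finset.sum_eq_zero fun j _ => ?_
        have h1 := congrArg (fun f : Module.End K L => b.repr (f (b j)) i) (hall i j)
        simpa [mul_comm] using h1
      have h1 : ∀ x : E, LinearMap.trace K L (ρ (τ x)) * LinearMap.trace K L (ρ x⁻¹) =
          if x ∈ Z then (finrank K L : K) * finrank K L else 0 := fun x => by
        split
        · next hx =>
          obtain ⟨c, hc⟩ := hZ x hx
          obtain ⟨c', hc'⟩ := hZ x⁻¹ (inv_mem hx)
          have hcc : c * c' = 1 := by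
            have : ρ (x * x⁻¹) = (c * c') • (1 : Module.End K L) := by
              rw [map_mul, hc, hc', smul_mul_smul_comm, one_mul]
            rw [mul_inv_cancel, map_one] at this
            obtain ⟨v, hv⟩ := exists_ne (0 : L)
            have h2 := LinearMap.congr_fun this v
            rw [Module.End.one_apply, LinearMap.smul_apply, Module.End.one_apply] at h2
            exact (smul_left_injective K hv (by simpa using h2)).symm
          rw [hτ x hx, hc, hc', map_smul, map_smul, LinearMap.trace_one, smul_eq_mul, smul_eq_mul,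
            mul_mul_mul_comm, hcc, one_mul]
        · next hx => rw [htr x⁻¹ (fun h => hx (by simpa using inv_mem h)), mul_zero]
      rw [Finset.sum_congr rfl fun x _ => h1 x, ← Finset.sum_filter, Finset.sum_const, nsmul_eq_mul,
        mul_eq_zero, or_iff_left (mul_ne_zero hd hd), ← Fintype.card_subtype, ← Nat.card_eq_fintype_card] at h0
      apply hE
      rw [← Z.card_mul_index, Nat.cast_mul]
      exact mul_eq_zero_of_left h0 _
    obtain ⟨s, hs⟩ : ∃ s, s = ∑ x : E, ρ (τ x) * (b.coord j).smulRight (b i) * ρ x⁻¹ := ⟨_, rfl⟩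
    have hint : ∀ x, s * ρ x = ρ (τ x) * s := fun g => by
      rw [hs, Finset.sum_mul, Finset.mul_sum]
      refine Fintype.sum_equiv (Equiv.mulLeft g⁻¹) _ _ fun x => ?_
      simp only [Equiv.coe_mulLeft]
      rw [← mul_assoc (ρ (τ g)), ← mul_assoc (ρ (τ g)), ← map_mul ρ, ← map_mul τ, mul_inv_cancel_left,
        mul_inv_rev, inv_inv, map_mul ρ x⁻¹, ← mul_assoc]
    refine ⟨s, ?_, hint⟩
    rw [LinearMap.isUnit_iff_ker_eq_bot]
    refine (hirr.2 (LinearMap.ker s) fun g v hv => ?_).resolve_right fun h => hne (hs ▸ LinearMap.ker_eq_top.mp h)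
    rw [LinearMap.mem_ker] at hv ⊢
    rw [← Module.End.mul_apply, hint, Module.End.mul_apply, hv, map_zero]

omit [IsAlgClosed K]

/-- A subspace of a product of pairwise non-isomorphic irreducibles onto each factor is everything. -/
theorem eq_top_of_projections {H : Type*} [Group H] [Finite H] {ι : Type*} [Finite ι] {W : ι → Type*}
    [∀ i, AddCommGroup (W i)] [∀ i, Module K (W i)] (σ : ∀ i, H →* Module.End K (W i))
    (hirr : ∀ i, Irr (σ i))
    (hno : ∀ i j, i ≠ j → ∀ f : W i →ₗ[K] W j, Intw (σ i) (σ j) f → ¬ Function.Bijective f)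
    (S : Submodule K (∀ i, W i)) (hS : ∀ g, ∀ y ∈ S, (fun i => σ i g (y i)) ∈ S)
    (hproj : ∀ i, ∃ y ∈ S, y i ≠ 0) : S = ⊤ := by
  classical
  cases nonempty_fintype H
  haveI := Fintype.ofFinite ι
  suffices key : ∀ (J : Finset ι) (x : ∀ i, W i), ∃ y ∈ S, ∀ j ∈ J, y j = x j by
    refine top_le_iff.mp fun x _ => ?_
    obtain ⟨y, hy, hyx⟩ := key Finset.univ x
    rwa [← funext fun i => hyx i (Finset.mem_univ i)]
  intro J
  induction J using Finset.induction with
  | empty => exact fun x => ⟨0, S.zero_mem, fun j hj => by simp at hj⟩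
  | insert n J hn ih =>
    intro x
    let T : Submodule K (W n) :=
      { carrier := {v | ∃ y ∈ S, (∀ j ∈ J, y j = 0) ∧ y n = v}
        zero_mem' := ⟨0, S.zero_mem, fun _ _ => rfl, rfl⟩
        add_mem' := by
          rintro v w ⟨y, hy, hy0, rfl⟩ ⟨z, hz, hz0, rfl⟩
          exact ⟨y + z, S.add_mem hy hz, fun j hj => by simp [hy0 j hj, hz0 j hj], rfl⟩
        smul_mem' := by
          rintro c v ⟨y, hy, hy0, rfl⟩
          exact ⟨c • y, S.smul_mem c hy, fun j hj => by simp [hy0 j hj], rfl⟩ }
    have hT : ∀ g, ∀ v ∈ T, σ n g v ∈ T := by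
      rintro g v ⟨y, hy, hy0, rfl⟩
      exact ⟨_, hS g y hy, fun j hj => by simp [hy0 j hj], rfl⟩
    rcases (hirr n).2 T hT with hT0 | hT1
    · exfalso
      have hwd : ∀ y z : ∀ i, W i, y ∈ S → z ∈ S → (∀ j ∈ J, y j = z j) → y n = z n := fun y z hy hz h => by
        have : (y - z) n ∈ T := ⟨y - z, S.sub_mem hy hz, fun j hj => by simp [h j hj], rfl⟩
        rw [hT0, Submodule.mem_bot, Pi.sub_apply, sub_eq_zero] at this
        exact this
      choose Y hYS hY using fun (j : ι) (v : W j) => ih (Pi.single j v)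
      have hzero : ∀ j ∈ J, ∀ v, Y j v n = 0 := by
        intro j hj
        let f : W j →ₗ[K] W n :=
          { toFun := fun v => Y j v n
            map_add' := fun v w => hwd _ (Y j v + Y j w) (hYS _ _) (S.add_mem (hYS _ _) (hYS _ _))
              fun l hl => by rw [Pi.add_apply, hY _ _ l hl, hY _ _ l hl, hY _ _ l hl, Pi.single_add, Pi.add_apply]
            map_smul' := fun c v => hwd _ (c • Y j v) (hYS _ _) (S.smul_mem _ (hYS _ _))
              fun l hl => by rw [Pi.smul_apply, hY _ _ l hl, hY _ _ l hl, Pi.single_smul, Pi.smul_apply] }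
        have hf : Intw (σ j) (σ n) f := fun g v =>
          hwd _ _ (hYS _ _) (hS g _ (hYS j v)) fun l hl => by
            rw [hY _ _ l hl, hY _ _ l hl]
            by_cases h : l = j
            · subst h; simp
            · simp [Pi.single_eq_of_ne h]
        rcases Char.CycMod.zero_or_bijective (σ j) (σ n) (hirr j) (hirr n) hf with h | h
        · exact fun v => LinearMap.congr_fun h v
        · exact absurd h (hno j n (fun e => hn (e ▸ hj)) f hf)
      obtain ⟨y, hy, hyn⟩ := hproj n
      refine hyn ?_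
      have := hwd y (∑ j ∈ J, Y j (y j)) hy (S.sum_mem fun j _ => hYS _ _) fun l hl => by
        rw [Finset.sum_apply, Finset.sum_congr rfl fun j _ => hY j (y j) l hl, Finset.sum_pi_single,
          if_pos hl]
      rw [this, Finset.sum_apply, Finset.sum_eq_zero fun j hj => hzero j hj _]
    · obtain ⟨y, hy, hyx⟩ := ih x
      obtain ⟨z, hz, hz0, hzn⟩ : x n - y n ∈ T := hT1 ▸ Submodule.mem_top
      refine ⟨y + z, S.add_mem hy hz, fun j hj => ?_⟩
      rcases Finset.mem_insert.mp hj with rfl | hj
      · rw [Pi.add_apply, hzn, add_sub_cancel]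
      · rw [Pi.add_apply, hyx j hj, hz0 j hj, add_zero]

end Cfsg.Agent.Invol.Shult
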