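import Cfsg.Agent.Lib.Invol.Shult.Basic
import Cfsg.Agent.Lib.Invol.Shult.SimpleTrace
import Cfsg.Agent.Lib.Invol.Shult.Twist
import Cfsg.Agent.Lib.Block.GreenIntersection

/-!
When the quotient of an extraspecial-type subgroup has dimension below the prime, the operator
preserves the classes of its elements.
-/

set_option autoImplicit false

namespace Cfsg.Agent.Invol.Shult

open Subgroup
open Cfsg.Agent.Grp (IsSylowIn)
open Cfsg.Agent.Char.CycMod (Irr Intw)

theorem conj_smul_of_nondegenerate {X : Type*} [Group X] [Finite X] {a : X} {r p m : ℕ} [Fact p.Prime] (hp : p ≠ 2) (hrp : r ≠ p)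
    {G E P : Subgroup X} (h : Act a r G) (hm : 2 ^ m < r)
    (hEG : E ≤ G) (hE : IsPGroup 2 E) (hEa : a ∈ normalizer (E : Set X))
    (hcard : Nat.card E = 2 ^ (2 * m) * Nat.card (fx E a))
    (hcen : ∀ z ∈ fx E a, ∀ e ∈ E, z * e = e * z) (hsq : ∀ e ∈ E, e ^ 2 ∈ fx E a)
    (helem : ∀ z ∈ fx E a, z ^ 2 = 1)
    (hnd : ∀ e ∈ E, e ∉ fx E a → ∀ z ∈ fx E a, ∃ η ∈ E, e * η * e⁻¹ * η⁻¹ = z)
    (hP : IsSylowIn p P G) (hPa : a ∈ normalizer (P : Set X))
    (hECP : ∀ g ∈ G, ∃ e ∈ E, ∃ c ∈ fx G a, ∃ π ∈ P, g = e * c * π)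
    (hgen : ∀ N : Subgroup X, N ≤ G → G ≤ normalizer (N : Set X) → fx E a ≤ N → N = G)
    {e : X} (he : e ∈ E) : ∃ g ∈ G, g * e * g⁻¹ = a * e * a⁻¹ := by
  classical
  obtain ⟨σ, hσ⟩ : ∃ σ : MulAut G, ∀ g : G, (σ g : X) = a * g * a⁻¹ :=
    ⟨G.normalizerMonoidHom ⟨a, h.norm⟩, fun g => rfl⟩
  have hσn : ∀ (n : ℕ) (g : G), ((σ ^ n) g : X) = a ^ n * g * (a ^ n)⁻¹ := by
    intro n
    induction n with
    | zero => simp
    | succ n ih =>
      intro g
      rw [pow_succ' σ, MulAut.mul_apply, hσ, ih, pow_succ']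
      group
  have hσr : σ ^ r = 1 := MulEquiv.ext fun g => Subtype.ext (by rw [hσn, h.pow_r]; simp)
  obtain ⟨θ, hθ⟩ : ∃ θ : MulAut G, θ = σ ^ (r - 1) := ⟨_, rfl⟩
  have hθn : ∀ (n : ℕ) (g : G), ((θ ^ n) g : X) = a ^ ((r - 1) * n) * g * (a ^ ((r - 1) * n))⁻¹ :=
    fun n g => by rw [hθ, ← pow_mul, hσn]
  have hEn : ∀ n : ℕ, a ^ n ∈ normalizer (E : Set X) := fun n => pow_mem hEa n
  have hPn : ∀ n : ℕ, a ^ n ∈ normalizer (P : Set X) := fun n => pow_mem hPa n
  obtain ⟨u, hu⟩ : ∃ u : G, (u : X) = e := ⟨⟨e, hEG he⟩, rfl⟩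
  suffices hconj : IsConj u (σ u) by
    obtain ⟨c, hc⟩ := isConj_iff.mp hconj
    exact ⟨c, c.2, by rw [← hu, ← hσ u, ← hc]; simp⟩
  have hord2 : ¬ p ∣ orderOf u := by
    obtain ⟨k, hk⟩ := hE ⟨e, he⟩
    intro hd
    have h1 : orderOf u ∣ 2 ^ k := orderOf_dvd_of_pow_eq_one (Subtype.ext (by
      rw [SubgroupClass.coe_pow, hu]; exact congrArg Subtype.val hk))
    exact hp ((Nat.prime_dvd_prime_iff_eq Fact.out Nat.prime_two).mp ((Fact.out : p.Prime).dvd_of_dvd_pow (hd.trans h1)))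
  refine isConj_of_trace_eq (K := AlgebraicClosure (ZMod p)) (p := p) hord2
    (by rwa [MulEquiv.orderOf_eq]) ?_
  intro L _ _ _ ρ hirr
  haveI := hirr.1
  obtain ⟨E', hE'⟩ : ∃ E', E' = E.subgroupOf G := ⟨_, rfl⟩
  have hmemE : ∀ g : G, g ∈ E' ↔ (g : X) ∈ E := fun g => by rw [hE', mem_subgroupOf]
  -- the trivial case
  by_cases hall : ∀ z : G, (z : X) ∈ fx E a → ρ z = 1
  · have hN := hgen (ρ.ker.map G.subtype) (map_subtype_le _) (fun g hg => by
      have := Subgroup.le_normalizer_map G.subtype (H := ρ.ker)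
      refine this ⟨⟨g, hg⟩, ?_, rfl⟩
      rw [Subgroup.normalizer_eq_top]
      trivial) (fun z hz => ⟨⟨z, hEG (fx_le hz)⟩, hall ⟨z, hEG (fx_le hz)⟩ hz, rfl⟩)
    have htriv : ∀ g : G, ρ g = 1 := fun g => by
      obtain ⟨g', hg', e'⟩ := (hN.ge g.2 : (g : X) ∈ ρ.ker.map G.subtype)
      rw [← Subtype.ext e']
      exact hg'
    rw [htriv, htriv]
  push Not at hall
  obtain ⟨z₀, hz₀, hz₀1⟩ := hall
  have hz₀sq : z₀ * z₀ = 1 := Subtype.ext (by
    have := helem _ hz₀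
    rwa [pow_two] at this)
  have hz₀c : ∀ g ∈ E', z₀ * g = g * z₀ := fun g hg => Subtype.ext (hcen _ hz₀ _ ((hmemE g).mp hg))
  -- an irreducible subspace for `E` on which `z₀` is `-1`
  let Inv : Submodule (AlgebraicClosure (ZMod p)) L → Prop := fun W =>
    W ≠ ⊥ ∧ (∀ g ∈ E', ∀ x ∈ W, ρ g x ∈ W) ∧ ∀ x ∈ W, ρ z₀ x = -x
  have hex : ∃ n, ∃ W, Inv W ∧ Module.finrank (AlgebraicClosure (ZMod p)) W = n := by
    refine ⟨_, LinearMap.ker (ρ z₀ + 1), ⟨?_, fun g hg x hx => ?_, fun x hx => ?_⟩, rfl⟩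
    · intro h0
      refine hz₀1 (LinearMap.ext fun x => ?_)
      have hy : ρ z₀ x - x ∈ LinearMap.ker (ρ z₀ + 1) := by
        rw [LinearMap.mem_ker, LinearMap.add_apply, Module.End.one_apply, map_sub, ← Module.End.mul_apply,
          ← map_mul, hz₀sq, map_one, Module.End.one_apply]
        abel
      rw [h0, Submodule.mem_bot, sub_eq_zero] at hy
      exact hy
    · rw [LinearMap.mem_ker, LinearMap.add_apply, Module.End.one_apply] at hx ⊢
      rw [← Module.End.mul_apply, ← map_mul, hz₀c g hg, map_mul, Module.End.mul_apply, ← map_add, hx, map_zero]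
    · rw [LinearMap.mem_ker, LinearMap.add_apply, Module.End.one_apply] at hx
      exact eq_neg_of_add_eq_zero_left hx
  obtain ⟨L₀, ⟨hL₀, hL₀i, hL₀z⟩, hL₀n⟩ := Nat.find_spec hex
  let ρ₀ : E' →* Module.End (AlgebraicClosure (ZMod p)) L₀ :=
    { toFun := fun g => (ρ g).restrict (hL₀i g g.2)
      map_one' := LinearMap.ext fun x => Subtype.ext (by simp)
      map_mul' := fun g g' => LinearMap.ext fun x => Subtype.ext (by simp) }
  have hirr₀ : Irr ρ₀ := by
    refine ⟨Submodule.nontrivial_iff_ne_bot.mpr hL₀, fun W hW => ?_⟩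
    by_contra hne
    push Not at hne
    have hinj := Submodule.map_injective_of_injective (Submodule.subtype_injective L₀)
    have hlt : Module.finrank (AlgebraicClosure (ZMod p)) (W.map L₀.subtype) < Nat.find hex := by
      rw [Submodule.finrank_map_subtype_eq, ← hL₀n]
      exact Submodule.finrank_lt hne.2
    refine Nat.find_min hex hlt ⟨_, ⟨fun h0 => hne.1 (hinj (by rw [h0, Submodule.map_bot])), ?_, ?_⟩, rfl⟩
    · rintro g hg _ ⟨x, hx, rfl⟩
      exact ⟨_, hW ⟨g, hg⟩ x hx, rfl⟩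
    · rintro _ ⟨x, -, rfl⟩
      exact hL₀z _ x.2
  haveI := hirr₀.1
  obtain ⟨Z, hZ⟩ : ∃ Z : Subgroup E', ∀ g, g ∈ Z ↔ ((g : G) : X) ∈ fx E a :=
    ⟨((fx E a).subgroupOf G).subgroupOf E', fun g => by simp [mem_subgroupOf]⟩
  have hcardE : (Nat.card E' : AlgebraicClosure (ZMod p)) ≠ 0 := by
    obtain ⟨k, hk⟩ := IsPGroup.iff_card.mp hE
    rw [hE', Nat.card_congr (subgroupOfEquivOfLe hEG).toEquiv, hk, Ne,
      CharP.cast_eq_zero_iff (AlgebraicClosure (ZMod p)) p]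
    exact fun hd => hp ((Nat.prime_dvd_prime_iff_eq Fact.out Nat.prime_two).mp ((Fact.out : p.Prime).dvd_of_dvd_pow hd))
  have hz₀E : z₀ ∈ E' := (hmemE z₀).mpr (fx_le hz₀)
  have hρz₀ : ρ₀ ⟨z₀, hz₀E⟩ = (-1 : AlgebraicClosure (ZMod p)) • 1 :=
    LinearMap.ext fun x => Subtype.ext (by simpa [ρ₀] using hL₀z x x.2)
  have h2 : (-1 : AlgebraicClosure (ZMod p)) ≠ 1 := by
    intro h'
    have : ((2 : ℕ) : AlgebraicClosure (ZMod p)) = 0 := by
      push_cast
      rw [← one_add_one_eq_two]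
      nth_rw 2 [← h']
      rw [add_neg_cancel]
    exact hp ((Nat.prime_dvd_prime_iff_eq Fact.out Nat.prime_two).mp
      ((CharP.cast_eq_zero_iff (AlgebraicClosure (ZMod p)) p 2).mp this))
  haveI : Fintype ↥E' := Fintype.ofFinite _
  obtain ⟨hdim, htw⟩ := flipped ρ₀ hirr₀ hcardE Z (fun z hz => by
      obtain ⟨c, hc⟩ := Char.CycMod.schur ρ₀ hirr₀ (f := ρ₀ z) (fun g x => by
        rw [← Module.End.mul_apply, ← map_mul, show z * g = g * z from
          Subtype.ext (Subtype.ext (hcen _ ((hZ z).mp hz) _ ((hmemE g).mp g.2))), map_mul, Module.End.mul_apply])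
      exact ⟨c, LinearMap.ext fun x => by simpa using hc x⟩)
    (fun g hg => by
      obtain ⟨η, hη, heq⟩ := hnd _ ((hmemE g).mp g.2) (fun hh => hg ((hZ g).mpr hh)) _ hz₀
      refine ⟨⟨⟨η, hEG hη⟩, (hmemE _).mpr hη⟩, -1, h2, ?_⟩
      rw [show (⟨⟨η, hEG hη⟩, (hmemE _).mpr hη⟩ : E') * g * (⟨⟨η, hEG hη⟩, (hmemE _).mpr hη⟩ : E')⁻¹ =
          ⟨z₀, hz₀E⟩ * g from Subtype.ext (Subtype.ext (by
          push_cast
          have hzi : (z₀ : X)⁻¹ = z₀ := inv_eq_of_mul_eq_one_right (congrArg Subtype.val hz₀sq)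
          rw [← hzi, ← heq]
          group)), map_mul, hρz₀, smul_mul_assoc, one_mul])
  -- the dimension
  have hd : Module.finrank (AlgebraicClosure (ZMod p)) L₀ < r := by
    have hidx : Z.index * Nat.card (fx E a) = 2 ^ (2 * m) * Nat.card (fx E a) := by
      rw [← hcard, show Nat.card (fx E a) = Nat.card Z from Nat.card_congr
        { toFun := fun z => ⟨⟨⟨z, hEG (fx_le z.2)⟩, (hmemE _).mpr (fx_le z.2)⟩, (hZ _).mpr z.2⟩
          invFun := fun z => ⟨((z : E') : G), (hZ z).mp z.2⟩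
          left_inv := fun z => rfl
          right_inv := fun z => rfl }, mul_comm, Z.card_mul_index, hE',
        Nat.card_congr (subgroupOfEquivOfLe hEG).toEquiv]
    have hidx' := Nat.eq_of_mul_eq_mul_right Nat.card_pos hidx
    rw [hidx', mul_comm 2 m, pow_mul, pow_two] at hdim
    exact lt_of_le_of_lt (Nat.mul_self_le_mul_self_iff.mp hdim) hm
  -- the twists of `E`
  have hres : ∀ n : ℕ, ∀ g : E', (σ ^ n) (g : G) ∈ E' := fun n g => by
    rw [hmemE, hσn]
    exact (mem_normalizer_iff.mp (hEn n) _).mp ((hmemE g).mp g.2)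
  have hres' : ∀ (n : ℕ) (g : G), g ∈ E' → (θ ^ n) g ∈ E' := fun n g hg => by
    rw [hθ, ← pow_mul]; exact hres _ ⟨g, hg⟩
  let τh : E' →* E' :=
    { toFun := fun g => ⟨σ (g : G), by simpa using hres 1 g⟩
      map_one' := Subtype.ext (map_one σ)
      map_mul' := fun x y => Subtype.ext (map_mul σ _ _) }
  let τ : MulAut E' := MulEquiv.ofBijective τh
    (Finite.injective_iff_bijective.mp fun x y hxy => Subtype.ext (σ.injective (congrArg Subtype.val hxy)))
  have hτn : ∀ (n : ℕ) (g : E'), (((τ ^ n) g : E') : G) = (σ ^ n) (g : G) := by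
    intro n
    induction n with
    | zero => exact fun g => rfl
    | succ n ih =>
      intro g
      rw [pow_succ' τ, pow_succ' σ, MulAut.mul_apply, MulAut.mul_apply]
      show σ (((τ ^ n) g : E') : G) = _
      rw [ih]
  have hτ : ∀ z ∈ Z, τ z = z := fun z hz => Subtype.ext (Subtype.ext (by
    show (σ (z : G) : X) = _
    rw [hσ]
    exact (mem_fx'.mp ((hZ z).mp hz)).2))
  obtain ⟨s₀, hs₀u, hs₀⟩ := htw τ hτ
  obtain ⟨c, hc⟩ := Char.CycMod.schur ρ₀ hirr₀ (f := s₀ ^ r) (fun g x => by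
    rw [← Module.End.mul_apply, twist_pow ρ₀ τ hs₀,
      show (τ ^ r) g = g from Subtype.ext (by rw [hτn, hσr]; rfl), Module.End.mul_apply])
  have hc0 : c ≠ 0 := fun h0 => by
    obtain ⟨x, hx⟩ := exists_ne (0 : L₀)
    have hinj : Function.Injective (s₀ ^ r) :=
      LinearMap.ker_eq_bot.mp (LinearMap.isUnit_iff_ker_eq_bot _ |>.mp (hs₀u.pow r))
    exact hx (hinj (by rw [hc, h0, zero_smul, map_zero]))
  obtain ⟨β, hβ⟩ := IsAlgClosed.exists_pow_nat_eq c h.prime.pos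
  have hβ0 : β ≠ 0 := fun h0 => hc0 (by rw [← hβ, h0, zero_pow h.prime.pos.ne'])
  haveI : NeZero (r : AlgebraicClosure (ZMod p)) := ⟨fun e' => hrp
    (((Nat.prime_dvd_prime_iff_eq Fact.out h.prime).mp
      ((CharP.cast_eq_zero_iff (AlgebraicClosure (ZMod p)) p r).mp e')).symm)⟩
  obtain ⟨ζ, hζ⟩ := HasEnoughRootsOfUnity.exists_primitiveRoot (AlgebraicClosure (ZMod p)) r
  have hζ0 := hζ.ne_zero h.prime.pos.ne'
  obtain ⟨k, hk⟩ : ∃ k : Fin r, ¬ Module.End.HasEigenvalue s₀ (β * ζ ^ (k : ℕ)) := by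
    by_contra hcon
    push Not at hcon
    choose v hv using fun k => (hcon k).exists_hasEigenvector
    have hli := Module.End.eigenvectors_linearIndependent' s₀ (fun k : Fin r => β * ζ ^ (k : ℕ))
      (fun i j hij => Fin.ext (hζ.pow_inj i.2 j.2 (mul_left_cancel₀ hβ0 hij))) v hv
    have := hli.fintype_card_le_finrank
    rw [Fintype.card_fin] at this
    omega
  obtain ⟨μ, hμ⟩ : ∃ μ, μ = β * ζ ^ (k : ℕ) := ⟨_, rfl⟩
  have hμ0 : μ ≠ 0 := hμ ▸ mul_ne_zero hβ0 (pow_ne_zero _ hζ0)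
  obtain ⟨s, hs⟩ : ∃ s, s = μ⁻¹ • s₀ := ⟨_, rfl⟩
  have hsint : ∀ x, s * ρ₀ x = ρ₀ (τ x) * s := fun x => by rw [hs, smul_mul_assoc, hs₀, mul_smul_comm]
  have hsum : ∑ i ∈ Finset.range r, s ^ i = 0 := by
    have hsr : s ^ r = 1 := by
      rw [hs, smul_pow, inv_pow, hμ, mul_pow, hβ, ← pow_mul, mul_comm (k : ℕ), pow_mul, hζ.pow_eq_one,
        one_pow, mul_one]
      exact LinearMap.ext fun x => by simp [hc, smul_smul, inv_mul_cancel₀ hc0]
    have h1 : (s - 1) * ∑ i ∈ Finset.range r, s ^ i = 0 := by rw [mul_geom_sum, hsr, sub_self]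
    refine LinearMap.ext fun x => ?_
    have h3 := LinearMap.congr_fun h1 x
    rw [Module.End.mul_apply, LinearMap.sub_apply, Module.End.one_apply, LinearMap.zero_apply, sub_eq_zero] at h3
    by_contra hne
    refine hk (hμ ▸ Module.End.hasEigenvalue_of_hasEigenvector ⟨Module.End.mem_eigenspace_iff.mpr ?_, hne⟩)
    calc s₀ _ = μ • s _ := by rw [hs, LinearMap.smul_apply, smul_smul, mul_inv_cancel₀ hμ0, one_smul]
      _ = μ • _ := congrArg (μ • ·) h3
  -- the projection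
  obtain ⟨π₀, hπ₀⟩ := LinearMap.exists_leftInverse_of_injective L₀.subtype L₀.ker_subtype
  obtain ⟨ψ, hψ⟩ : ∃ ψ : L →ₗ[AlgebraicClosure (ZMod p)] L₀,
      ψ = (Nat.card E' : AlgebraicClosure (ZMod p))⁻¹ • ∑ η : E', (ρ₀ η).comp (π₀.comp (ρ ((η⁻¹ : E') : G))) :=
    ⟨_, rfl⟩
  have hψeq : ∀ (g : E') x, ψ (ρ (g : G) x) = ρ₀ g (ψ x) := fun g x => by
    simp only [hψ, LinearMap.smul_apply, LinearMap.sum_apply, LinearMap.comp_apply, map_smul, map_sum]
    congr 1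
    refine Fintype.sum_equiv (Equiv.mulLeft g⁻¹) _ _ fun η => ?_
    simp only [Equiv.coe_mulLeft]
    rw [← Module.End.mul_apply (ρ₀ g), ← map_mul ρ₀, mul_inv_cancel_left, ← Module.End.mul_apply (f := ρ _),
      ← map_mul ρ]
    simp
  have hψid : ∀ x : L₀, ψ (x : L) = x := fun x => by
    have hterm : ∀ η : E', ρ₀ η (π₀ (ρ ((η⁻¹ : E') : G) (x : L))) = x := fun η => by
      rw [show ρ ((η⁻¹ : E') : G) (x : L) = L₀.subtype (ρ₀ η⁻¹ x) from rfl, ← LinearMap.comp_apply π₀, hπ₀,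
        LinearMap.id_apply, ← Module.End.mul_apply, ← map_mul, mul_inv_cancel, map_one, Module.End.one_apply]
    simp only [hψ, LinearMap.smul_apply, LinearMap.sum_apply, LinearMap.comp_apply]
    rw [Finset.sum_congr rfl fun η _ => hterm η, Finset.sum_const, Finset.card_univ,
      ← Nat.cast_smul_eq_nsmul (AlgebraicClosure (ZMod p)), smul_smul, ← Nat.card_eq_fintype_card,
      inv_mul_cancel₀ hcardE, one_smul]
  -- the twists of `L`
  let W : Fin r → G →* Module.End (AlgebraicClosure (ZMod p)) L := fun i => ρ.comp (θ ^ (i : ℕ)).toMonoidHom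
  have hW : ∀ i g, W i g = ρ ((θ ^ (i : ℕ)) g) := fun i g => rfl
  have hWirr : ∀ i, Irr (W i) := fun i => ⟨hirr.1, fun S hS => hirr.2 S fun g x hx => by
    have := hS ((θ ^ (i : ℕ))⁻¹ g) x hx
    rwa [hW, ← MulAut.mul_apply, mul_inv_cancel, MulAut.one_apply] at this⟩
  obtain ⟨Φm, hΦm⟩ : ∃ Φm : (Fin r → L) →ₗ[AlgebraicClosure (ZMod p)] L₀,
      Φm = ∑ i : Fin r, (s ^ (i : ℕ)).comp (ψ.comp (LinearMap.proj i)) := ⟨_, rfl⟩
  have hΦeq : ∀ g : E', ∀ l : Fin r → L, Φm (fun i => W i (g : G) (l i)) = ρ₀ g (Φm l) := fun g l => by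
    simp only [hΦm, LinearMap.sum_apply, LinearMap.comp_apply, LinearMap.proj_apply, map_sum, hW]
    refine Finset.sum_congr rfl fun i _ => ?_
    rw [hψeq ⟨_, hres' i g g.2⟩, ← Module.End.mul_apply, twist_pow ρ₀ τ hsint, Module.End.mul_apply]
    congr 2
    refine Subtype.ext ?_
    rw [hτn]
    show (σ ^ (i : ℕ)) ((θ ^ (i : ℕ)) (g : G)) = g
    rw [hθ, ← pow_mul, ← MulAut.mul_apply, ← pow_add,
      show (i : ℕ) + (r - 1) * i = r * i by rw [add_comm, ← Nat.succ_mul, Nat.succ_eq_add_one, Nat.sub_add_cancel h.prime.pos],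
      pow_mul, hσr, one_pow, MulAut.one_apply]
  have hΦdiag : ∀ x : L, Φm (fun _ => x) = 0 := fun x => by
    simp only [hΦm, LinearMap.sum_apply, LinearMap.comp_apply, LinearMap.proj_apply]
    rw [Fin.sum_univ_eq_sum_range (fun i => (s ^ i) (ψ x)) r, ← LinearMap.sum_apply, hsum, LinearMap.zero_apply]
  -- a vector fixed by the Sylow subgroup
  obtain ⟨v, hv0, hvP⟩ := Cfsg.Agent.Block.exists_fixed_vector (p := p) (Q := P.subgroupOf G)
    (hP.2.1.comap_subtype) (ρ.comp (P.subgroupOf G).subtype) (exists_ne (0 : L)).choose_spec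
  obtain ⟨S, hS⟩ : ∃ S, S = Submodule.span (AlgebraicClosure (ZMod p))
      (Set.range fun g : G => fun i : Fin r => W i g v) := ⟨_, rfl⟩
  have hSle : S ≤ LinearMap.ker Φm := by
    rw [hS, Submodule.span_le]
    rintro _ ⟨g, rfl⟩
    obtain ⟨e₁, he₁, c₁, hc₁, π₁, hπ₁, hg⟩ := hECP g g.2
    rw [SetLike.mem_coe, LinearMap.mem_ker]
    have hsplit : ∀ i : Fin r, W i g v = W i ⟨e₁, hEG he₁⟩ (ρ ⟨c₁, fx_le hc₁⟩ v) := fun i => by
      rw [show g = ⟨e₁, hEG he₁⟩ * ⟨c₁, fx_le hc₁⟩ * ⟨π₁, hP.1 hπ₁⟩ from Subtype.ext hg, map_mul, map_mul,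
        Module.End.mul_apply, Module.End.mul_apply]
      refine congrArg _ ?_
      have hfixc : (θ ^ (i : ℕ)) ⟨c₁, fx_le hc₁⟩ = ⟨c₁, fx_le hc₁⟩ := Subtype.ext (by
        rw [hθn]
        have hcm : Commute (a ^ ((r - 1) * (i : ℕ))) c₁ := (show Commute a c₁ from (mem_fx.mp hc₁).2).pow_left _
        show a ^ ((r - 1) * (i : ℕ)) * c₁ * _ = c₁
        rw [hcm.eq, mul_inv_cancel_right])
      have hmemP : (θ ^ (i : ℕ)) ⟨π₁, hP.1 hπ₁⟩ ∈ P.subgroupOf G := by
        rw [mem_subgroupOf, hθn]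
        exact (mem_normalizer_iff.mp (hPn _) _).mp hπ₁
      rw [hW, hW, hfixc]
      exact congrArg _ (hvP ⟨_, hmemP⟩)
    show Φm (fun i : Fin r => W i g v) = 0
    rw [show (fun i : Fin r => W i g v) = fun i => W i ⟨e₁, hEG he₁⟩ (ρ ⟨c₁, fx_le hc₁⟩ v) from funext hsplit,
      hΦeq ⟨⟨e₁, hEG he₁⟩, (hmemE _).mpr he₁⟩ (fun _ => ρ ⟨c₁, fx_le hc₁⟩ v), hΦdiag, map_zero]
  obtain ⟨i, j, hij, f, hf, hfb⟩ : ∃ i j, i ≠ j ∧ ∃ f : L →ₗ[AlgebraicClosure (ZMod p)] L,
      Intw (W i) (W j) f ∧ Function.Bijective f := by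
    by_contra hno
    push Not at hno
    have htop := eq_top_of_projections W hWirr (fun i j hij f hf => hno i j hij f hf) S
      (fun g y hy => by
        rw [hS] at hy ⊢
        induction hy using Submodule.span_induction with
        | mem x hx =>
          obtain ⟨g', rfl⟩ := hx
          refine Submodule.subset_span ⟨g * g', funext fun i => ?_⟩
          simp [map_mul]
        | zero => simp only [Pi.zero_apply, map_zero]; exact Submodule.zero_mem _
        | add x y _ _ hx hy => simp only [Pi.add_apply, map_add]; exact Submodule.add_mem _ hx hy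
        | smul c x _ hx => simp only [Pi.smul_apply, map_smul]; exact Submodule.smul_mem _ c hx)
      (fun i => ⟨fun k => W k 1 v, hS.ge (Submodule.subset_span ⟨1, rfl⟩), by simpa [hW] using hv0⟩)
    obtain ⟨x, hx⟩ := exists_ne (0 : L₀)
    haveI : NeZero r := ⟨h.prime.pos.ne'⟩
    have h0 := hSle (htop.ge (Submodule.mem_top (x := Pi.single (0 : Fin r) (x : L))))
    refine hx ?_
    rw [LinearMap.mem_ker, hΦm] at h0
    simp only [LinearMap.sum_apply, LinearMap.comp_apply, LinearMap.proj_apply] at h0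
    rw [Finset.sum_eq_single (0 : Fin r) (fun b _ hb => by rw [Pi.single_eq_of_ne hb, map_zero, map_zero])
      (fun hh => absurd (Finset.mem_univ _) hh), Pi.single_eq_same, hψid] at h0
    simpa using h0
  have heq : ∀ g, LinearMap.trace _ L (W i g) = LinearMap.trace _ L (W j g) := fun g => by
    have h1 : W j g = (LinearEquiv.ofBijective f hfb).conj (W i g) := LinearMap.ext fun y => by
      obtain ⟨x, rfl⟩ := hfb.2 y
      rw [LinearEquiv.conj_apply_apply, ← hf g x]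
      have : (LinearEquiv.ofBijective f hfb).symm (f x) = x :=
        (LinearEquiv.ofBijective f hfb).symm_apply_apply x
      rw [this]
      rfl
    rw [h1, LinearMap.trace_conj']
  -- one step suffices
  obtain ⟨d, hd0, hdr, hper⟩ : ∃ d, d ≠ 0 ∧ d < r ∧
      ∀ g : G, LinearMap.trace _ L (ρ ((θ ^ d) g)) = LinearMap.trace _ L (ρ g) := by
    have aux : ∀ i j : Fin r, (i : ℕ) < (j : ℕ) →
        (∀ g, LinearMap.trace _ L (W i g) = LinearMap.trace _ L (W j g)) →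
        ∀ g : G, LinearMap.trace _ L (ρ ((θ ^ ((j : ℕ) - (i : ℕ))) g)) = LinearMap.trace _ L (ρ g) := by
      intro i j hlt heq g
      have := heq ((θ ^ (i : ℕ))⁻¹ g)
      rw [hW, hW, ← MulAut.mul_apply, ← MulAut.mul_apply, mul_inv_cancel, MulAut.one_apply,
        ← pow_sub θ hlt.le] at this
      exact this.symm
    rcases lt_or_gt_of_ne (fun e' => hij (Fin.ext e')) with hlt | hlt
    · exact ⟨_, by omega, by omega, aux i j hlt heq⟩
    · exact ⟨_, by omega, by omega, aux j i hlt fun g => (heq g).symm⟩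
  have hit : ∀ n g, LinearMap.trace _ L (ρ ((θ ^ (d * n)) g)) = LinearMap.trace _ L (ρ g) := by
    intro n
    induction n with
    | zero => simp
    | succ n ih => intro g; rw [Nat.mul_succ, pow_add, MulAut.mul_apply, ih, hper]
  obtain ⟨n, hn⟩ := Nat.exists_mul_mod_eq_one_of_coprime
    ((h.prime.coprime_iff_not_dvd.mpr fun hd' => hd0 (Nat.eq_zero_of_dvd_of_lt hd' hdr)).symm) h.prime.one_lt
  have hθr : θ ^ r = 1 := by rw [hθ, ← pow_mul, mul_comm, pow_mul, hσr, one_pow]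
  have h1 := hit n (σ u)
  rw [pow_eq_pow_mod (d * n) hθr, hn.2, pow_one, hθ, ← MulAut.mul_apply, ← pow_succ,
    Nat.sub_add_cancel h.prime.pos, hσr, MulAut.one_apply] at h1
  exact h1

end Cfsg.Agent.Invol.Shult
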