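import Mathlib
import Cfsg.Agent.Lib.Grp.Basic
import Cfsg.Agent.Lib.Invol.Shult.Points

/-!
Subgroups of `E` with commutators in `Z₀` (null subgroups), fixed parts of elements normalizing `E`.
-/

set_option autoImplicit false

namespace Cfsg.Agent.Invol.Shult

open Subgroup
open scoped Pointwise commutatorElement
open Cfsg.Agent.Grp (IsSylowIn)

variable {X : Type*} [Group X] {a : X} {p r m : ℕ} {G V E W K M : Subgroup X}

/-- An `a`-invariant subgroup between `E'` and `E` with commutators in `Z₀`. -/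
structure Null (a : X) (G E W : Subgroup X) : Prop where
  ge : fx E a ≤ W
  le : W ≤ E
  norm : a ∈ normalizer (W : Set X)
  comm : ∀ x ∈ W, ∀ y ∈ W, ⁅x, y⁆ ∈ cen a G E

/-- The subgroup of `E` fixed by `t` modulo `E'`. -/
def fixd (a : X) (E : Subgroup X) (t : X) : Subgroup X :=
  closure {x | x ∈ E ∧ x⁻¹ * (t * x * t⁻¹) ∈ fx E a}

theorem mem_sup_of_normalizes {x : X} (hKM : K ≤ normalizer (M : Set X)) (hx : x ∈ M ⊔ K) :
    ∃ u ∈ M, ∃ k ∈ K, x = u * k := by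
  rw [← SetLike.mem_coe, Subgroup.coe_mul_of_right_le_normalizer_left M K hKM] at hx
  obtain ⟨u, hu, k, hk, e⟩ := hx
  exact ⟨u, hu, k, hk, e.symm⟩

theorem conj_le_of_norm {g : X} (hg : g ∈ normalizer (K : Set X)) {x : X} (hx : x ∈ K) : g⁻¹ * x * g ∈ K :=
  (Subgroup.mem_normalizer_iff''.mp hg x).mp hx

theorem mem_normalizer_of_conj_le [Finite X] {g : X} (hg : ∀ x ∈ K, g * x * g⁻¹ ∈ K) :
    g ∈ normalizer (K : Set X) := by
  refine Grp.mem_normalizer_iff_smul.mpr (Subgroup.eq_of_le_of_card_ge ?_ (Grp.card_conj_smul g K).ge)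
  intro x hx
  have := hg _ (mem_smul_iff'.mp hx)
  simpa [mul_assoc] using this

theorem mem_normalizer_sup {g : X} (hK : g ∈ normalizer (K : Set X)) (hM : g ∈ normalizer (M : Set X)) :
    g ∈ normalizer ((K ⊔ M : Subgroup X) : Set X) :=
  Grp.mem_normalizer_iff_smul.mpr (by
    rw [Subgroup.smul_sup, Grp.mem_normalizer_iff_smul.mp hK, Grp.mem_normalizer_iff_smul.mp hM])

theorem smul_involution {g z : X} (hz : z * z = 1) : (g * z * g⁻¹) * (g * z * g⁻¹) = 1 := by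
  rw [show g * z * g⁻¹ * (g * z * g⁻¹) = g * (z * z) * g⁻¹ by group, hz]; group

namespace Setup

variable [Finite X] [Fact p.Prime] (h : Setup p r m a G V E)
include h

theorem JG.mem {u : X} (hu : JG a G E u) : u ∈ G := by
  obtain ⟨g, hg, hu⟩ := hu
  have := G.mul_mem (G.mul_mem hg (h.InJ_mem hu)) (G.inv_mem hg)
  simpa [mul_assoc] using this

theorem JG_mem_G {u : X} (hu : JG a G E u) : u ∈ G := JG.mem h hu

theorem JG_invol {u : X} (hu : JG a G E u) : u * u = 1 := by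
  obtain ⟨g, -, hu⟩ := hu
  have e : u = g * (g⁻¹ * u * g) * g⁻¹ := by group
  rw [e]
  exact smul_involution (h.fixed_invol hu.1)

theorem JG_not_cen {u : X} (hu : JG a G E u) : u ∉ cen a G E := by
  obtain ⟨g, hg, hu⟩ := hu
  intro hz
  have := h.cen_conj_eq hz (G.inv_mem hg)
  rw [inv_inv] at this
  exact hu.2 (this.symm ▸ hz)

theorem JG_of_InJ {f : X} (hf : InJ a G E f) : JG a G E f := ⟨1, G.one_mem, by simpa using hf⟩

theorem InJ_of_JG {u : X} (hu : JG a G E u) (hΦ : u ∈ fx E a) : InJ a G E u := ⟨hΦ, h.JG_not_cen hu⟩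

theorem cen_notMem_weight {z D : _} (hD : IsWeight a V E D) (hz : z ∈ cen a G E) (hzD : z ∈ D) : z = 1 := by
  by_contra hz1
  refine hD.2.2 fun v hv => ?_
  have hvz : z * v = v * z := Subgroup.mem_centralizer_iff.mp hv.2 z hzD
  have h1 := h.cen_inverts hz hz1 hv.1
  rw [hvz, mul_inv_cancel_right] at h1
  have hv2 : v ^ 2 = 1 := by rw [sq]; exact mul_eq_one_iff_eq_inv.mpr h1
  have h3 := pow_gcd_eq_one.mpr ⟨hv2, h.cfg.pow_p hv.1⟩
  rw [((Nat.coprime_primes Nat.prime_two (Fact.out : p.Prime)).mpr h.two_ne).gcd_eq_one, pow_one] at h3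
  rw [h3]
  exact one_mem _

theorem mem_fixd {t x : X} (ht : t ∈ normalizer (E : Set X)) :
    x ∈ fixd a E t ↔ x ∈ E ∧ x⁻¹ * (t * x * t⁻¹) ∈ fx E a := by
  refine ⟨fun hx => ?_, fun hx => Subgroup.subset_closure hx⟩
  refine Subgroup.closure_induction (p := fun w _ => w ∈ E ∧ w⁻¹ * (t * w * t⁻¹) ∈ fx E a)
    (fun w hw => hw) ⟨E.one_mem, by simp⟩ ?_ ?_ hx
  · rintro u w - - ⟨hu, hu'⟩ ⟨hw, hw'⟩
    refine ⟨E.mul_mem hu hw, ?_⟩
    have hc := h.qgrp.fixed_central hu' (E.inv_mem hw)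
    have e : (u * w)⁻¹ * (t * (u * w) * t⁻¹) = (u⁻¹ * (t * u * t⁻¹)) * (w⁻¹ * (t * w * t⁻¹)) := by
      calc (u * w)⁻¹ * (t * (u * w) * t⁻¹) = w⁻¹ * (u⁻¹ * (t * u * t⁻¹)) * (t * w * t⁻¹) := by group
        _ = (u⁻¹ * (t * u * t⁻¹)) * w⁻¹ * (t * w * t⁻¹) := by rw [← hc]
        _ = _ := by group
    rw [e]; exact mul_mem hu' hw'
  · rintro u - ⟨hu, hu'⟩
    refine ⟨E.inv_mem hu, ?_⟩
    have hc := h.qgrp.fixed_central (inv_mem hu') (conj_mem ht hu)
    have hc' := h.qgrp.fixed_central hu' hu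
    have e : u⁻¹⁻¹ * (t * u⁻¹ * t⁻¹) = (u⁻¹ * (t * u * t⁻¹))⁻¹ := by
      have h1 : (u⁻¹ * (t * u * t⁻¹))⁻¹ * u = u * (u⁻¹ * (t * u * t⁻¹))⁻¹ :=
        ((show Commute _ _ from hc').inv_left).eq
      calc u⁻¹⁻¹ * (t * u⁻¹ * t⁻¹) = u * (u⁻¹ * (t * u * t⁻¹))⁻¹ * u⁻¹ := by group
        _ = (u⁻¹ * (t * u * t⁻¹))⁻¹ := by rw [← h1]; group
    rw [e]; exact inv_mem hu'

theorem fixd_le {t : X} (ht : t ∈ normalizer (E : Set X)) : fixd a E t ≤ E := fun _ hx => ((h.mem_fixd ht).mp hx).1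

theorem fixed_le_fixd {t : X} (ht : t ∈ normalizer (E : Set X)) (hta : a * t = t * a) : fx E a ≤ fixd a E t := by
  intro x hx
  refine (h.mem_fixd ht).mpr ⟨fx_le hx, mem_fx.mpr ⟨E.mul_mem (E.inv_mem (fx_le hx)) (conj_mem ht (fx_le hx)), ?_⟩⟩
  have c1 : Commute a x := (mem_fx.mp hx).2
  have c2 : Commute a t := hta
  exact (c1.inv_right.mul_right ((c2.mul_right c1).mul_right c2.inv_right)).eq

theorem fixed_norm {t : X} (ht : t ∈ normalizer (E : Set X)) (hta : a * t = t * a) :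
    t ∈ normalizer ((fx E a : Subgroup X) : Set X) :=
  mem_normalizer_of_conj_le fun x hx => by
    have := (h.mem_fixd ht).mp (h.fixed_le_fixd ht hta hx)
    simpa [mul_assoc] using mul_mem hx this.2

theorem norm_fixd {t : X} (ht : t ∈ normalizer (E : Set X)) (hta : a * t = t * a) :
    a ∈ normalizer ((fixd a E t : Subgroup X) : Set X) := by
  refine mem_normalizer_of_conj_le fun x hx => ?_
  obtain ⟨hxE, hx'⟩ := (h.mem_fixd ht).mp hx
  refine (h.mem_fixd ht).mpr ⟨conj_mem h.norm_E hxE, ?_⟩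
  have e : (a * x * a⁻¹)⁻¹ * (t * (a * x * a⁻¹) * t⁻¹) = a * (x⁻¹ * (t * x * t⁻¹)) * a⁻¹ := by
    calc (a * x * a⁻¹)⁻¹ * (t * (a * x * a⁻¹) * t⁻¹) = a * x⁻¹ * a⁻¹ * ((t * a) * x * (t * a)⁻¹) := by group
      _ = a * x⁻¹ * a⁻¹ * ((a * t) * x * (a * t)⁻¹) := by rw [hta]
      _ = _ := by group
  rw [e, (mem_fx'.mp hx').2]
  exact hx'

/-- `W = [W, a] E'` for invariant `W` above `E'`. -/
theorem eq_br_sup (hge : fx E a ≤ W) (hle : W ≤ E) (hWa : a ∈ normalizer (W : Set X)) :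
    W = br W a ⊔ fx E a := by
  refine le_antisymm (fun x hx => ?_) (sup_le (br_le hWa) hge)
  obtain ⟨u, hu, c, hc, rfl⟩ := (h.act.mono (hle.trans h.E_le) hWa).exists_br_mul_fx hx
  exact mul_mem (mem_sup_left hu) (mem_sup_right (fx_mono hle hc))

theorem exists_br_mul (hge : fx E a ≤ W) (hle : W ≤ E) (hWa : a ∈ normalizer (W : Set X)) {x : X} (hx : x ∈ W) :
    ∃ u ∈ br W a, ∃ z ∈ fx E a, x = u * z := by
  obtain ⟨u, hu, c, hc, rfl⟩ := (h.act.mono (hle.trans h.E_le) hWa).exists_br_mul_fx hx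
  exact ⟨u, hu, c, fx_mono hle hc, rfl⟩

/-- Elements commuting with `a` centralize the moved part of their fixed part. -/
theorem centralizes_br_fixd {t : X} (ht : t ∈ normalizer (E : Set X)) (hta : a * t = t * a) :
    ∀ x ∈ br (fixd a E t) a, t * x = x * t :=
  h.qgrp.centralizes_br (h.fixd_le ht) (h.norm_fixd ht hta) hta fun _ hx => ((h.mem_fixd ht).mp hx).2

theorem eq_fixed_of_null_rad {D : Subgroup X} (hW : Null a G E W) (hD : IsWeight a V E D) :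
    W ⊓ rad E D ≤ fx E a := by
  have hra : a ∈ normalizer ((rad E D : Subgroup X) : Set X) := by
    refine mem_normalizer_of_conj_le fun x hx => ?_
    rw [h.qgrp.mem_rad] at hx ⊢
    refine ⟨conj_mem h.norm_E hx.1, fun y hy => ?_⟩
    have hy' : a⁻¹ * y * a ∈ E := conj_le_of_norm h.norm_E hy
    have e : ⁅a * x * a⁻¹, y⁆ = a * ⁅x, a⁻¹ * y * a⁆ * a⁻¹ := by simp only [commutatorElement_def]; group
    rw [e, (mem_fx'.mp (hD.1 (hx.2 _ hy'))).2]
    exact hx.2 _ hy'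
  intro x hx
  refine mem_fx.mpr ⟨hW.le hx.1, ?_⟩
  refine h.cfg.abelian_fixed h.faith ((inf_le_left.trans hW.le).trans h.E_le) (mem_normalizer_inf hW.norm hra)
    (fun u hu w hw => ?_) (not_dvd_card_of_isPGroup (h.isTwo_E.to_le (inf_le_left.trans hW.le)) h.two_ne) x hx
  exact commutatorElement_eq_one_iff_mul_comm.mp
    (h.cen_notMem_weight hD (hW.comm u hu.1 w hw.1) ((h.qgrp.mem_rad.mp hu.2).2 w (hW.le hw.1)))

theorem rad_normal {D : Subgroup X} : E ≤ normalizer ((rad E D : Subgroup X) : Set X) := fun η hη =>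
  mem_normalizer_of_conj_le fun x hx => by
    have hxE := h.qgrp.rad_le hx
    have hc := h.qgrp.comm_mem hη hxE
    have e : η * x * η⁻¹ = ⁅η, x⁆ * x := by rw [commutatorElement_def]; group
    rw [e]
    exact mul_mem (h.qgrp.fixed_le_rad hc) hx

theorem null_decomp {D : Subgroup X} (hW : Null a G E W) (hne : W ≠ fx E a) (hD : IsWeight a V E D) {x : X}
    (hx : x ∈ E) : ∃ u ∈ W, ∃ z ∈ rad E D, x = u * z := by
  have hn : W ≤ normalizer ((rad E D : Subgroup X) : Set X) := hW.le.trans h.rad_normal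
  have hWR : a ∈ normalizer ((W ⊔ rad E D : Subgroup X) : Set X) := by
    refine mem_normalizer_sup hW.norm (mem_normalizer_of_conj_le fun x hx => ?_)
    rw [h.qgrp.mem_rad] at hx ⊢
    refine ⟨conj_mem h.norm_E hx.1, fun y hy => ?_⟩
    have hy' : a⁻¹ * y * a ∈ E := conj_le_of_norm h.norm_E hy
    have e : ⁅a * x * a⁻¹, y⁆ = a * ⁅x, a⁻¹ * y * a⁆ * a⁻¹ := by simp only [commutatorElement_def]; group
    rw [e, (mem_fx'.mp (hD.1 (hx.2 _ hy'))).2]
    exact hx.2 _ hy'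
  rcases h.qgrp.eq_of_rad_le h.hrm (h.weight_card hD) le_sup_right (sup_le hW.le h.qgrp.rad_le) hWR with e | e
  · exact absurd (le_antisymm (fun w hw => h.eq_fixed_of_null_rad hW hD ⟨hw, e ▸ mem_sup_left hw⟩) hW.ge) hne
  · have hx' : x ∈ rad E D ⊔ W := by rw [sup_comm, e]; exact hx
    obtain ⟨z, hz, u, hu, rfl⟩ := mem_sup_of_normalizes hn hx'
    exact ⟨u, hu, u⁻¹ * z * u, conj_le_of_norm (hn hu) hz, by group⟩

theorem null_card (hW : Null a G E W) (hne : W ≠ fx E a) : Nat.card W = 2 ^ (2 * m) * Nat.card (fx E a) := by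
  obtain ⟨D, hD⟩ := h.exists_isWeight
  set R := rad E D
  have hle : fx E a ≤ W ⊓ R := le_inf hW.ge h.qgrp.fixed_le_rad
  have hinf : W ⊓ R = fx E a := le_antisymm (h.eq_fixed_of_null_rad hW hD) hle
  have hsup : R ⊔ W = E := by
    refine le_antisymm (sup_le h.qgrp.rad_le hW.le) fun x hx => ?_
    obtain ⟨u, hu, z, hz, rfl⟩ := h.null_decomp hW hne hD hx
    exact mul_mem (mem_sup_right hu) (mem_sup_left hz)
  have h1 := Grp.card_sup_mul_card_inf (H := W) (N := R) (hW.le.trans h.rad_normal)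
  rw [sup_comm, hsup, hinf, h.weight_card hD] at h1
  have h2 : Nat.card W * Nat.card R = 2 ^ (2 * m) * Nat.card (fx E a) * Nat.card R := by rw [← h1]; ring
  exact Nat.eq_of_mul_eq_mul_right Nat.card_pos h2

theorem null_perp (hW : Null a G E W) (hne : W ≠ fx E a) {x : X} (hx : x ∈ E)
    (hperp : ∀ w ∈ W, ⁅x, w⁆ ∈ cen a G E) : x ∈ W := by
  obtain ⟨D, hD⟩ := h.exists_isWeight
  obtain ⟨u, hu, z, hz, rfl⟩ := h.null_decomp hW hne hD hx
  refine mul_mem hu (hW.ge (h.mem_fixed_of_rad (h.qgrp.rad_le hz) fun D' hD' => ?_))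
  have hzE := h.qgrp.rad_le hz
  have hzw : ∀ w ∈ W, ⁅z, w⁆ = 1 := by
    intro w hw
    refine h.cen_notMem_weight hD ?_ ((h.qgrp.mem_rad.mp hz).2 w (hW.le hw))
    have := mul_mem (inv_mem (hW.comm u hu w hw)) (hperp w hw)
    rwa [h.qgrp.comm_mul_left (hW.le hu) hzE (hW.le hw), inv_mul_cancel_left] at this
  obtain ⟨u', hu', z', hz', rfl⟩ := h.null_decomp hW hne hD' hzE
  have hu'R : u' ∈ rad E D' := by
    refine h.qgrp.mem_rad.mpr ⟨hW.le hu', fun y hy => ?_⟩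
    obtain ⟨w, hw, z'', hz'', rfl⟩ := h.null_decomp hW hne hD' hy
    have hw' : ⁅u', w⁆ ∈ D' := by
      have h1 := hzw w hw
      rw [h.qgrp.comm_mul_left (hW.le hu') (h.qgrp.rad_le hz') (hW.le hw)] at h1
      rw [mul_eq_one_iff_eq_inv.mp h1]
      exact inv_mem ((h.qgrp.mem_rad.mp hz').2 w (hW.le hw))
    rw [h.qgrp.comm_mul_right (hW.le hu') (hW.le hw) (h.qgrp.rad_le hz''), ← commutatorElement_inv z'' u']
    exact mul_mem hw' (inv_mem ((h.qgrp.mem_rad.mp hz'').2 u' (hW.le hu')))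
  exact mul_mem hu'R hz'

theorem null_eq_of_le (hW : Null a G E W) (hne : W ≠ fx E a) (hM : Null a G E M) (hle : W ≤ M) : W = M := by
  have hMne : M ≠ fx E a := fun e => hne (le_antisymm (e ▸ hle) hW.ge)
  exact Subgroup.eq_of_le_of_card_ge hle (by rw [h.null_card hW hne, h.null_card hM hMne])

theorem not_null_self (hk : Nat.card E ≠ 2 ^ (2 * m) * Nat.card (fx E a)) : ¬ Null a G E E := fun hN =>
  hk (h.null_card hN fun e => h.neE (h.qgrp.eq_bot_of_abelian fun _ hx _ hy =>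
    h.qgrp.fixed_central (e.le hx) hy))

/-- A null subgroup has a commutator outside `Z₀` with `E`. -/
theorem exists_comm_notMem (hk : Nat.card E ≠ 2 ^ (2 * m) * Nat.card (fx E a)) (hW : Null a G E W)
    (hne : W ≠ fx E a) : ∃ x ∈ E, ∃ w ∈ br W a, ⁅x, w⁆ ∉ cen a G E := by
  by_contra hc
  push Not at hc
  have hle : E ≤ W := fun x hx => h.null_perp hW hne hx fun w hw => by
    obtain ⟨u, hu, z, hz, rfl⟩ := h.exists_br_mul hW.ge hW.le hW.norm hw
    rw [h.qgrp.comm_mul_right hx (hW.le (br_le hW.norm hu)) (fx_le hz),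
      commutatorElement_eq_one_iff_mul_comm.mpr (h.qgrp.fixed_central hz hx).symm, mul_one]
    exact hc x hx u hu
  exact h.not_null_self hk (le_antisymm hW.le hle ▸ hW)

/-- A crossed homomorphism of `E` into a quotient fixed by `a` is trivial. -/
theorem crossed_mem {t : X} (ht : t ∈ normalizer (E : Set X)) (hta : a * t = t * a)
    (hEK : E ≤ normalizer (K : Set X))
    (hin : ∀ x ∈ E, x⁻¹ * (t * x * t⁻¹) ∈ M)
    (htriv : ∀ x ∈ E, ∀ u ∈ M, u⁻¹ * (x * u * x⁻¹) ∈ K) (hMa : ∀ u ∈ M, u⁻¹ * (a * u * a⁻¹) ∈ K) :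
    ∀ x ∈ E, x⁻¹ * (t * x * t⁻¹) ∈ K := by
  have hMK : ∀ u ∈ M, u⁻¹ * (a * u * a⁻¹) ∈ K := hMa
  let L : Subgroup X :=
    { carrier := {x | x ∈ E ∧ x⁻¹ * (t * x * t⁻¹) ∈ K}
      one_mem' := ⟨E.one_mem, by simp⟩
      mul_mem' := by
        rintro x y ⟨hx, hx'⟩ ⟨hy, hy'⟩
        refine ⟨E.mul_mem hx hy, ?_⟩
        rw [show (x * y)⁻¹ * (t * (x * y) * t⁻¹) = (y⁻¹ * (x⁻¹ * (t * x * t⁻¹)) * y) * (y⁻¹ * (t * y * t⁻¹)) by group]
        exact K.mul_mem (conj_le_of_norm (hEK hy) hx') hy'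
      inv_mem' := by
        rintro x ⟨hx, hx'⟩
        refine ⟨E.inv_mem hx, ?_⟩
        rw [show x⁻¹⁻¹ * (t * x⁻¹ * t⁻¹) = x * (x⁻¹ * (t * x * t⁻¹))⁻¹ * x⁻¹ by group]
        exact conj_mem (hEK hx) (K.inv_mem hx') }
  have hKa : ∀ n : ℕ, ∀ u ∈ M, (∀ k ≤ n, a ^ k * u * (a ^ k)⁻¹ ∈ M) → u⁻¹ * (a ^ n * u * (a ^ n)⁻¹) ∈ K := by
    intro n
    induction n with
    | zero => intro u _ _; simp
    | succ n ih =>
      intro u hu hk
      have h1 := ih u hu fun k hk' => hk k (by omega)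
      have h2 := hMK _ (hk n (by omega))
      have := K.mul_mem h1 h2
      convert this using 1
      rw [pow_succ']; group
  have hgen : E ≤ L := by
    conv_lhs => rw [← h.qgrp.brE]
    rw [br, Subgroup.commutator_le]
    intro x hx b hb
    obtain ⟨n, rfl⟩ : ∃ n : ℕ, a ^ n = b := mem_powers_iff_mem_zpowers.mpr hb
    set u := x⁻¹ * (t * x * t⁻¹) with hu
    set u' := x⁻¹⁻¹ * (t * x⁻¹ * t⁻¹) with hu'
    set y := a ^ n * x⁻¹ * (a ^ n)⁻¹ with hy
    have hpowE : ∀ k : ℕ, a ^ k ∈ normalizer (E : Set X) := fun k => Subgroup.pow_mem _ h.norm_E k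
    have hyE : y ∈ E := conj_mem (hpowE n) (E.inv_mem hx)
    have hcomm : ∀ k : ℕ, (a ^ k * x⁻¹ * (a ^ k)⁻¹)⁻¹ * (t * (a ^ k * x⁻¹ * (a ^ k)⁻¹) * t⁻¹) =
        a ^ k * u' * (a ^ k)⁻¹ := by
      intro k
      have hc : Commute (a ^ k) t := (show Commute a t from hta).pow_left k
      calc (a ^ k * x⁻¹ * (a ^ k)⁻¹)⁻¹ * (t * (a ^ k * x⁻¹ * (a ^ k)⁻¹) * t⁻¹)
          = a ^ k * x * (a ^ k)⁻¹ * ((t * a ^ k) * x⁻¹ * (t * a ^ k)⁻¹) := by group
        _ = a ^ k * x * (a ^ k)⁻¹ * ((a ^ k * t) * x⁻¹ * (a ^ k * t)⁻¹) := by rw [hc.eq]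
        _ = _ := by rw [hu']; group
    have hu'M : u' ∈ M := hin _ (E.inv_mem hx)
    have h1 : u * u' ∈ K := by
      have e : x * u * x⁻¹ * u' = 1 := by rw [hu, hu']; group
      have e2 : u * u' = ((u⁻¹ * (x * u * x⁻¹))⁻¹) * ((u⁻¹ * (x * u * x⁻¹)) * (u * u')) := by group
      have e3 : u' = (x * u * x⁻¹)⁻¹ := eq_inv_of_mul_eq_one_right e
      have hk0 := htriv x hx u (hin x hx)
      have e4 : u * u' = (u * (u⁻¹ * (x * u * x⁻¹))⁻¹ * u⁻¹) := by rw [e3]; group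
      rw [e4]
      exact conj_mem (hEK ((by
        rw [hu]; exact E.mul_mem (E.inv_mem hx) (conj_mem ht hx)) : u ∈ E)) (K.inv_mem hk0)
    have h3 : u'⁻¹ * (a ^ n * u' * (a ^ n)⁻¹) ∈ K :=
      hKa n u' hu'M fun k _ => hcomm k ▸ hin _ (conj_mem (hpowE k) (E.inv_mem hx))
    have h4 := htriv y⁻¹ (E.inv_mem hyE) u (hin x hx)
    rw [inv_inv] at h4
    have hu'E : u' ∈ E := by rw [hu']; exact E.mul_mem (E.inv_mem (E.inv_mem hx)) (conj_mem ht (E.inv_mem hx))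
    refine ⟨E.mul_mem hx hyE |> fun e => by rw [commutatorElement_def, mul_assoc x, mul_assoc x]; exact e, ?_⟩
    rw [show ⁅x, a ^ n⁆ = x * y by rw [commutatorElement_def, hy]; group]
    rw [show (x * y)⁻¹ * (t * (x * y) * t⁻¹) = (y⁻¹ * u * y) * (y⁻¹ * (t * y * t⁻¹)) by rw [hu]; group,
      hcomm n]
    rw [show (y⁻¹ * u * y) * (a ^ n * u' * (a ^ n)⁻¹) =
      (u * (u⁻¹ * (y⁻¹ * u * y)) * u⁻¹) * (u * u') * (u'⁻¹ * (a ^ n * u' * (a ^ n)⁻¹)) by group]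
    refine K.mul_mem (K.mul_mem (conj_mem (hEK ?_) h4) h1) h3
    rw [hu]; exact E.mul_mem (E.inv_mem hx) (conj_mem ht hx)
  exact fun x hx => (hgen hx).2

/-- The fixed part of a fixed bad element is null. -/
theorem null_fixd_of_fixed {b : X} (hb : JG a G E b) (hba : a * b = b * a)
    (hbE : b ∈ normalizer (E : Set X)) (hbΦ : b ∉ fx E a) : Null a G E (fixd a E b) := by
  refine ⟨h.fixed_le_fixd hbE hba, h.fixd_le hbE, h.norm_fixd hbE hba, ?_⟩
  set W := fixd a E b with hW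
  by_contra hc
  push Not at hc
  obtain ⟨x, hx, y, hy, hxy⟩ := hc
  obtain ⟨u, hu, z, hz, rfl⟩ := h.exists_br_mul (h.fixed_le_fixd hbE hba) (h.fixd_le hbE) (h.norm_fixd hbE hba) hx
  obtain ⟨w, hw, z', hz', rfl⟩ := h.exists_br_mul (h.fixed_le_fixd hbE hba) (h.fixd_le hbE) (h.norm_fixd hbE hba) hy
  have hWE : br W a ≤ E := (br_le (h.norm_fixd hbE hba)).trans (h.fixd_le hbE)
  have hf : ⁅u, w⁆ ∈ fx E a ∧ ⁅u * z, w * z'⁆ = ⁅u, w⁆ := by
    refine ⟨h.qgrp.comm_mem (hWE hu) (hWE hw), ?_⟩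
    rw [h.qgrp.comm_mul_right (E.mul_mem (hWE hu) (fx_le hz)) (hWE hw) (fx_le hz'),
      h.qgrp.comm_mul_left (hWE hu) (fx_le hz) (hWE hw),
      commutatorElement_eq_one_iff_mul_comm.mpr (h.qgrp.fixed_central hz (hWE hw)),
      commutatorElement_eq_one_iff_mul_comm.mpr
        (h.qgrp.fixed_central hz' (E.mul_mem (hWE hu) (fx_le hz))).symm, mul_one, mul_one]
  rw [hf.2] at hxy
  obtain ⟨g, hg, hgb⟩ := hb
  obtain ⟨c, hc', ec⟩ := h.act.conj_fixed (mem_fx.mp hgb.1).2 hba hg (by group)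
  have hca : c * a * c⁻¹ = a := by rw [← (mem_fx.mp hc').2, mul_inv_cancel_right]
  have h' : Setup p r m a G V (MulAut.conj c • E) := by
    have := h.conj (fx_le hc'); rwa [hca] at this
  have hcen : cen a G (MulAut.conj c • E) = cen a G E := by
    have := h.cen_smul (fx_le hc'); rwa [hca] at this
  have hfx : fx (MulAut.conj c • E) a = MulAut.conj c • fx E a := by
    have := fx_smul (a := a) (E := E) c; rwa [hca] at this
  have hJ : InJ a G (MulAut.conj c • E) b := by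
    refine ⟨by rw [hfx, ← ec]; exact conj_mem_smul hgb.1, ?_⟩
    rw [hcen]
    exact h.JG_not_cen ⟨g, hg, hgb⟩
  have hT : br W a ≤ cst a G (MulAut.conj c • E) b := fun e he => (h'.mem_cst (h'.InJ_mem hJ)).mpr
    ⟨h.E_le (hWE he), by
      rw [commutatorElement_eq_one_iff_mul_comm.mpr (h.centralizes_br_fixd hbE hba e he).symm]; exact one_mem _⟩
  obtain ⟨x', hx', hxb, -, hle⟩ := h'.exists_point hJ hT (h.isTwo_E.to_le hWE) norm_br
  rw [(h.act.mono ((h.fixd_le hbE).trans h.E_le) (h.norm_fixd hbE hba)).br_br, ← mul_smul, ← map_mul] at hle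
  refine hbΦ (h.point_common (f := ⁅u, w⁆) (g := x' * c) ⟨hf.1, hxy⟩ (G.mul_mem (fx_le hx') (fx_le hc')) ?_ ?_ hbE)
  · have h1 : ⁅(x' * c)⁻¹ * u * (x' * c), (x' * c)⁻¹ * w * (x' * c)⁆ ∈ fx E a :=
      h.qgrp.comm_mem (mem_smul_iff'.mp (hle hu)) (mem_smul_iff'.mp (hle hw))
    convert h1 using 1
    simp only [commutatorElement_def]; group
  · have : (x' * c)⁻¹ * b * (x' * c) = g⁻¹ * b * g := by
      calc (x' * c)⁻¹ * b * (x' * c) = c⁻¹ * (x'⁻¹ * (b * x')) * c := by group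
        _ = c⁻¹ * b * c := by rw [← hxb, inv_mul_cancel_left]
        _ = c⁻¹ * (c * (g⁻¹ * b * g) * c⁻¹) * c := by rw [ec]
        _ = _ := by group
    rw [this]; exact hgb.1

end Setup

end Cfsg.Agent.Invol.Shult
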