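import Mathlib
import Cfsg.Agent.Lib.Invol.Shult.Trans

/-!
No fixed conjugate of a noncentral element of `E'` normalizes `E` outside `E'` (`E` with more than one weight
constituent).
-/

set_option autoImplicit false

namespace Cfsg.Agent.Invol.Shult

open Subgroup
open scoped Pointwise commutatorElement
open Cfsg.Agent.Grp (IsSylowIn)

variable {X : Type*} [Group X] {a : X} {p r m : ℕ} {G V E E' E₁ : Subgroup X}

namespace Setup

variable [Finite X] [Fact p.Prime]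

theorem frame_setup (h : Setup p r m a G V E) {c : X} (hc : c ∈ fx G a) :
    Setup p r m a G V (MulAut.conj c • E) ∧ fx (MulAut.conj c • E) a = MulAut.conj c • fx E a ∧
      cen a G (MulAut.conj c • E) = cen a G E := by
  have hca : c * a * c⁻¹ = a := by rw [← (mem_fx.mp hc).2, mul_inv_cancel_right]
  have h1 := h.conj (fx_le hc)
  have h2 := fx_smul (a := a) (E := E) c
  have h3 := h.cen_smul (fx_le hc)
  rw [hca] at h1 h2 h3
  exact ⟨h1, h2, h3⟩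

/-- For a fixed bad element the moved part is `V`; commutators land in it. -/
theorem bad_image (h : Setup p r m a G V E) {b : X} (hb : JG a G E b) (hba : a * b = b * a)
    (hbE : b ∈ normalizer (E : Set X)) (hbΦ : b ∉ fx E a) :
    fixd a E b ≠ fx E a ∧ ∀ x ∈ E, x⁻¹ * (b * x * b⁻¹) ∈ fixd a E b := by
  have hb2 := h.JG_invol hb
  have himg : ∀ x ∈ E, x⁻¹ * (b * x * b⁻¹) ∈ fixd a E b := by
    intro x hx
    have hu : x⁻¹ * (b * x * b⁻¹) ∈ E := E.mul_mem (E.inv_mem hx) (conj_mem hbE hx)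
    refine (h.mem_fixd hbE).mpr ⟨hu, ?_⟩
    have hbi : b⁻¹ = b := inv_eq_of_mul_eq_one_right hb2
    have e : b * (x⁻¹ * (b * x * b⁻¹)) * b⁻¹ = (x⁻¹ * (b * x * b⁻¹))⁻¹ := by
      rw [hbi, mul_inv_rev, mul_inv_rev, mul_inv_rev, hbi, inv_inv]
      calc b * (x⁻¹ * (b * x * b)) * b = b * x⁻¹ * b * x * (b * b) := by group
        _ = _ := by rw [hb2, mul_one]; group
    rw [e, ← mul_inv_rev, ← sq]
    exact inv_mem (h.qgrp.pow_q_mem hu)
  refine ⟨fun e => ?_, himg⟩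
  have hall : E ≤ fixd a E b := fun x hx => (h.mem_fixd hbE).mpr ⟨hx, e ▸ himg x hx⟩
  exact h.neE (h.qgrp.eq_bot_of_abelian fun x hx y hy => h.qgrp.fixed_central (e ▸ hall hx) hy)

/-- The core of the fixed bad case: two frames with a common null part. -/
theorem caseZ_core (h : Setup p r m a G V E) (h2 : Setup p r m a G V E')
    (hk : Nat.card E ≠ 2 ^ (2 * m) * Nat.card (fx E a))
    (hk' : Nat.card E' ≠ 2 ^ (2 * m) * Nat.card (fx E' a))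
    (hcen : cen a G E' = cen a G E) (hJG : ∀ u, JG a G E' u ↔ JG a G E u)
    {t : X} (ht : JG a G E t) (hta : a * t = t * a) (htE : t ∈ normalizer (E : Set X)) (htΦ : t ∉ fx E a)
    (htΦ' : t ∈ fx E' a)
    (hE₁ : E₁ ≤ E) (hE₁' : E₁ ≤ E') (hE₁a : a ∈ normalizer (E₁ : Set X)) (hbr : br E₁ a = E₁) (hne : E₁ ≠ ⊥)
    (hcomm : ∀ x ∈ E₁, ∀ y ∈ E₁, ⁅x, y⁆ ∈ cen a G E)
    (htc : ∀ x ∈ E₁, t * x = x * t)
    (hF : fx E a ⊓ cst a G E t ≤ normalizer (E' : Set X))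
    (hF' : fx E' a ⊓ (⨅ f : ↥(fx E a ⊓ cst a G E t), cst a G E (f : X)) ≤ normalizer (E : Set X)) : False := by
  haveI := Fact.mk Nat.prime_two
  set F := fx E a ⊓ cst a G E t with hFdef
  set F' := fx E' a ⊓ (⨅ f : ↥F, cst a G E (f : X)) with hF'def
  have hFΦ : F ≤ fx E a := inf_le_left
  have hF'Φ : F' ≤ fx E' a := inf_le_left
  have htG : t ∈ G := h.JG_mem_G ht
  have hE₁G : E₁ ≤ G := hE₁.trans h.E_le
  -- the null subgroups of the two frames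
  have hnot : ∀ {E₂ : Subgroup X}, Setup p r m a G V E₂ → ¬ E₁ ≤ fx E₂ a := by
    intro E₂ _ hle
    exact hne (hbr.symm.trans (br_eq_bot.mpr fun x hx => (mem_fx.mp (hle hx)).2))
  have hnull : ∀ {E₂ : Subgroup X}, Setup p r m a G V E₂ → E₁ ≤ E₂ → cen a G E₂ = cen a G E →
      Null a G E₂ (E₁ ⊔ fx E₂ a) := by
    intro E₂ h₂ hle hc
    have hn : fx E₂ a ≤ normalizer (E₁ : Set X) := fun z hz =>
      mem_normalizer_of_centralizes fun x hx => h₂.qgrp.fixed_central hz (hle hx)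
    refine ⟨le_sup_right, sup_le hle fx_le,
      mem_normalizer_sup hE₁a (mem_normalizer_of_centralizes fun x hx => (mem_fx.mp hx).2), ?_⟩
    intro x hx y hy
    obtain ⟨u, hu, z, hz, rfl⟩ := mem_sup_of_normalizes hn hx
    obtain ⟨w, hw, z', hz', rfl⟩ := mem_sup_of_normalizes hn hy
    rw [h₂.qgrp.comm_mul_right (E₂.mul_mem (hle hu) (fx_le hz)) (hle hw) (fx_le hz'),
      h₂.qgrp.comm_mul_left (hle hu) (fx_le hz) (hle hw),
      commutatorElement_eq_one_iff_mul_comm.mpr (h₂.qgrp.fixed_central hz (hle hw)),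
      commutatorElement_eq_one_iff_mul_comm.mpr
        (h₂.qgrp.fixed_central hz' (E₂.mul_mem (hle hu) (fx_le hz))).symm, mul_one, mul_one, hc]
    exact hcomm u hu w hw
  set W := E₁ ⊔ fx E a with hW
  set W' := E₁ ⊔ fx E' a with hW'
  have hWn := hnull h hE₁ rfl
  have hWn' := hnull h2 hE₁' hcen
  have hWne : W ≠ fx E a := fun e => hnot h (e ▸ le_sup_left)
  have hWne' : W' ≠ fx E' a := fun e => hnot h2 (e ▸ le_sup_left)
  have hWeq : ∀ {b : X}, JG a G E b → a * b = b * a → b ∈ normalizer (E : Set X) → b ∉ fx E a →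
      (∀ x ∈ E₁, b * x = x * b) → fixd a E b = W := by
    intro b hb hba hbE hbΦ hbc
    refine (h.null_eq_of_le hWn hWne (h.null_fixd_of_fixed hb hba hbE hbΦ) (sup_le (fun x hx => ?_)
      (h.fixed_le_fixd hbE hba))).symm
    refine (h.mem_fixd hbE).mpr ⟨hE₁ hx, ?_⟩
    rw [hbc x hx, mul_inv_cancel_right, inv_mul_cancel]; exact one_mem _
  have hWeq' : ∀ {b : X}, JG a G E' b → a * b = b * a → b ∈ normalizer (E' : Set X) → b ∉ fx E' a →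
      (∀ x ∈ E₁, b * x = x * b) → fixd a E' b = W' := by
    intro b hb hba hbE hbΦ hbc
    refine (h2.null_eq_of_le hWn' hWne' (h2.null_fixd_of_fixed hb hba hbE hbΦ) (sup_le (fun x hx => ?_)
      (h2.fixed_le_fixd hbE hba))).symm
    refine (h2.mem_fixd hbE).mpr ⟨hE₁' hx, ?_⟩
    rw [hbc x hx, mul_inv_cancel_right, inv_mul_cancel]; exact one_mem _
  have hFc : ∀ f ∈ F, ∀ x ∈ E₁, f * x = x * f := fun f hf x hx => h.qgrp.fixed_central (hFΦ hf) (hE₁ hx)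
  have hF'c : ∀ f ∈ F', ∀ x ∈ E₁, f * x = x * f := fun f hf x hx => h2.qgrp.fixed_central (hF'Φ hf) (hE₁' hx)
  have hcenF : cen a G E ≤ F := fun z hz => ⟨hz.1, (h.mem_cst htG).mpr ⟨h.fx_le_G hz.1, by
    rw [commutatorElement_eq_one_iff_mul_comm.mpr (h.cen_central hz htG)]; exact one_mem _⟩⟩
  have hcenF' : cen a G E ≤ F' := fun z hz =>
    ⟨(hcen.symm ▸ hz : z ∈ cen a G E').1, Subgroup.mem_iInf.mpr fun f =>
      (h.mem_cst (h.fx_le_G (hFΦ f.2))).mpr ⟨h.fx_le_G hz.1, by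
        rw [commutatorElement_eq_one_iff_mul_comm.mpr (h.cen_central hz (h.fx_le_G (hFΦ f.2)))]; exact one_mem _⟩⟩
  have htW : fixd a E t = W := hWeq ht hta htE htΦ htc
  have himt : ∀ x ∈ E, x⁻¹ * (t * x * t⁻¹) ∈ W := fun x hx => htW ▸ (h.bad_image ht hta htE htΦ).2 x hx
  -- `[E, E₁] ≤ F`
  have hcomF : ∀ x ∈ E, ∀ w ∈ E₁, ⁅x, w⁆ ∈ F := by
    intro x hx w hw
    have hΦ := h.qgrp.comm_mem hx (hE₁ hw)
    refine ⟨hΦ, (h.mem_cst htG).mpr ⟨h.fx_le_G hΦ, ?_⟩⟩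
    have hu := himt x hx
    have hconj : t * ⁅x, w⁆ * t⁻¹ = ⁅x, w⁆ * ⁅x⁻¹ * (t * x * t⁻¹), w⁆ := by
      rw [← h.qgrp.comm_mul_left hx (sup_le hE₁ fx_le hu) (hE₁ hw), mul_inv_cancel_left]
      have : t * w * t⁻¹ = w := by rw [htc w hw, mul_inv_cancel_right]
      calc t * ⁅x, w⁆ * t⁻¹ = ⁅t * x * t⁻¹, t * w * t⁻¹⁆ := by simp only [commutatorElement_def]; group
        _ = _ := by rw [this]
    have hz : ⁅x⁻¹ * (t * x * t⁻¹), w⁆ ∈ cen a G E := hWn.comm _ hu w (mem_sup_left hw)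
    have e : ⁅⁅x, w⁆, t⁆ = (⁅x⁻¹ * (t * x * t⁻¹), w⁆)⁻¹ := by
      rw [commutatorElement_def]
      calc ⁅x, w⁆ * t * ⁅x, w⁆⁻¹ * t⁻¹ = ⁅x, w⁆ * (t * ⁅x, w⁆ * t⁻¹)⁻¹ := by group
        _ = _ := by
          rw [hconj, mul_inv_rev, ← mul_assoc, ← h.cen_central (inv_mem hz) (h.fx_le_G hΦ), mul_inv_cancel_right]
    rw [e]; exact inv_mem hz
  obtain ⟨f₀, hf₀F, hf₀⟩ : ∃ f ∈ F, f ∉ cen a G E := by
    obtain ⟨x, hx, w, hw, hxw⟩ := h.exists_comm_notMem hk hWn hWne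
    refine ⟨_, ?_, hxw⟩
    have hwW := br_le hWn.norm hw
    have hn : fx E a ≤ normalizer (E₁ : Set X) := fun z hz =>
      mem_normalizer_of_centralizes fun y hy => h.qgrp.fixed_central hz (hE₁ hy)
    obtain ⟨u, hu, z, hz, rfl⟩ := mem_sup_of_normalizes hn hwW
    rw [h.qgrp.comm_mul_right hx (hE₁ hu) (fx_le hz),
      commutatorElement_eq_one_iff_mul_comm.mpr (h.qgrp.fixed_central hz hx).symm, mul_one]
    exact hcomF x hx u hu
  have hbad : ∀ f ∈ F, f ∉ cen a G E → JG a G E' f ∧ f ∉ fx E' a := by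
    intro f hf hfz
    have hfJ : InJ a G E f := ⟨hFΦ hf, hfz⟩
    refine ⟨(hJG f).mpr (h.JG_of_InJ hfJ), fun hfΦ' => ?_⟩
    refine htΦ (?_ : t ∈ fx E a)
    -- `E'` is a conjugate of `E` whose derived group contains `f` and `t`
    obtain ⟨S', hS', hS'a, hE'⟩ := h2.sylow
    obtain ⟨S, hS, hSa, hE⟩ := h.sylow
    obtain ⟨d, hd, e⟩ := h.act.sylow_conj hS hS' hSa hS'a
    have hE'' : E' = MulAut.conj d • E := by rw [hE', ← e, ← br_smul_of_fixed (mem_fx.mp hd).2, ← hE]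
    have hfx' : fx E' a = MulAut.conj d • fx E a := by rw [hE'']; exact (h.frame_setup hd).2.1
    exact h.point_common (g := d) hfJ (fx_le hd) (mem_smul_iff'.mp (hfx' ▸ hfΦ'))
      (mem_smul_iff'.mp (hfx' ▸ htΦ')) htE
  have hWf : ∀ f ∈ F, f ∉ cen a G E → ∀ x ∈ E', x⁻¹ * (f * x * f⁻¹) ∈ W' := by
    intro f hf hfz x hx
    obtain ⟨hb, hbΦ⟩ := hbad f hf hfz
    rw [← hWeq' hb (mem_fx.mp (hFΦ hf)).2 (hF hf) hbΦ (hFc f hf)]
    exact (h2.bad_image hb (mem_fx.mp (hFΦ hf)).2 (hF hf) hbΦ).2 x hx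
  have hcomF' : ∀ x ∈ E', ∀ w ∈ E₁, ⁅x, w⁆ ∈ F' := by
    intro x hx w hw
    have hΦ := h2.qgrp.comm_mem hx (hE₁' hw)
    refine ⟨hΦ, Subgroup.mem_iInf.mpr fun ⟨f, hf⟩ => (h.mem_cst (h.fx_le_G (hFΦ hf))).mpr ⟨h2.fx_le_G hΦ, ?_⟩⟩
    by_cases hfz : f ∈ cen a G E
    · rw [commutatorElement_eq_one_iff_mul_comm.mpr (h.cen_central hfz (h2.fx_le_G hΦ)).symm]; exact one_mem _
    have hu := hWf f hf hfz x hx
    have hconj : f * ⁅x, w⁆ * f⁻¹ = ⁅x, w⁆ * ⁅x⁻¹ * (f * x * f⁻¹), w⁆ := by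
      rw [← h2.qgrp.comm_mul_left hx (sup_le hE₁' fx_le hu) (hE₁' hw), mul_inv_cancel_left]
      have : f * w * f⁻¹ = w := by rw [hFc f hf w hw, mul_inv_cancel_right]
      calc f * ⁅x, w⁆ * f⁻¹ = ⁅f * x * f⁻¹, f * w * f⁻¹⁆ := by simp only [commutatorElement_def]; group
        _ = _ := by rw [this]
    have hz : ⁅x⁻¹ * (f * x * f⁻¹), w⁆ ∈ cen a G E := hcen ▸ hWn'.comm _ hu w (mem_sup_left hw)
    have e : ⁅⁅x, w⁆, f⁆ = (⁅x⁻¹ * (f * x * f⁻¹), w⁆)⁻¹ := by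
      rw [commutatorElement_def]
      calc ⁅x, w⁆ * f * ⁅x, w⁆⁻¹ * f⁻¹ = ⁅x, w⁆ * (f * ⁅x, w⁆ * f⁻¹)⁻¹ := by group
        _ = _ := by
          rw [hconj, mul_inv_rev, ← mul_assoc, ← h.cen_central (inv_mem hz) (h2.fx_le_G hΦ), mul_inv_cancel_right]
    rw [e]; exact inv_mem hz
  -- the common group
  have hnE₁F : F ≤ normalizer (E₁ : Set X) := fun f hf => mem_normalizer_of_centralizes (hFc f hf)
  have hnE₁F' : F' ≤ normalizer (E₁ : Set X) := fun f hf => mem_normalizer_of_centralizes (hF'c f hf)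
  have hF'F : ∀ f' ∈ F', ∀ f ∈ F, f' * f * f'⁻¹ ∈ F := by
    intro f' hf' f hf
    have hm := (h.mem_cst (h.fx_le_G (hFΦ hf))).mp (Subgroup.mem_iInf.mp hf'.2 ⟨f, hf⟩)
    have e : f' * f * f'⁻¹ = ⁅f', f⁆ * f := by rw [commutatorElement_def]; group
    rw [e]; exact mul_mem (hcenF hm.2) hf
  have hFF' : ∀ f ∈ F, ∀ f' ∈ F', f * f' * f⁻¹ ∈ F' := by
    intro f hf f' hf'
    have hm := (h.mem_cst (h.fx_le_G (hFΦ hf))).mp (Subgroup.mem_iInf.mp hf'.2 ⟨f, hf⟩)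
    have e : f * f' * f⁻¹ = ⁅f', f⁆⁻¹ * f' := by rw [commutatorElement_def]; group
    rw [e]; exact mul_mem (inv_mem (hcenF' hm.2)) hf'
  have hFn' : ∀ f' ∈ F', f' ∈ normalizer (F : Set X) := fun f' hf' => mem_normalizer_of_conj_le (hF'F f' hf')
  set Y := E₁ ⊔ F ⊔ F' with hY
  have hnY1 : ∀ {K₁ K₂ : Subgroup X}, K₁ = E₁ → K₂ = F ∨ K₂ = F' → ∀ x ∈ K₂, x ∈ normalizer (K₁ : Set X) := by
    rintro K₁ K₂ rfl (rfl | rfl) x hx
    · exact hnE₁F hx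
    · exact hnE₁F' hx
  have hY2 : IsPGroup 2 Y := by
    refine IsPGroup.to_sup_of_normal_left' ?_ (h2.isTwo_E.to_le (hF'Φ.trans fx_le)) ?_
    · exact IsPGroup.to_sup_of_normal_left' (h.isTwo_E.to_le hE₁) (h.isTwo_E.to_le (hFΦ.trans fx_le)) hnE₁F
    · exact fun f' hf' => mem_normalizer_sup (hnE₁F' hf') (hFn' f' hf')
  have hfixF : ∀ x ∈ F, a * x = x * a := fun x hx => (mem_fx.mp (hFΦ hx)).2
  have hfixF' : ∀ x ∈ F', a * x = x * a := fun x hx => (mem_fx.mp (hF'Φ hx)).2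
  have hYa : a ∈ normalizer (Y : Set X) :=
    mem_normalizer_sup (mem_normalizer_sup hE₁a (mem_normalizer_of_centralizes hfixF))
      (mem_normalizer_of_centralizes hfixF')
  have hYG : Y ≤ G := sup_le (sup_le hE₁G (hFΦ.trans h.fx_le_G)) (hF'Φ.trans h2.fx_le_G)
  -- `[E, F'] ≤ E₁ F` and `[E', F] ≤ E₁ F'`
  have key : ∀ {E₂ : Subgroup X} (h₂ : Setup p r m a G V E₂) (L : Subgroup X), E₁ ≤ E₂ →
      L ≤ fx E₂ a → (∀ x ∈ E₂, ∀ w ∈ E₁, ⁅x, w⁆ ∈ L) → ∀ b : X, a * b = b * a → b ∈ normalizer (E₂ : Set X) →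
      (∀ x ∈ E₂, x⁻¹ * (b * x * b⁻¹) ∈ E₁ ⊔ fx E₂ a) →
      E₂ ≤ normalizer ((E₁ ⊔ L : Subgroup X) : Set X) ∧ ∀ x ∈ E₂, x⁻¹ * (b * x * b⁻¹) ∈ E₁ ⊔ L := by
    intro E₂ h₂ L hle hL hLc b hba hbE hin
    have hnL : L ≤ normalizer (E₁ : Set X) := fun z hz =>
      mem_normalizer_of_centralizes fun x hx => h₂.qgrp.fixed_central (hL hz) (hle hx)
    have hn : fx E₂ a ≤ normalizer (E₁ : Set X) := fun z hz =>
      mem_normalizer_of_centralizes fun x hx => h₂.qgrp.fixed_central hz (hle hx)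
    have hconjL : ∀ x ∈ E₂, ∀ u ∈ E₁, ∀ z ∈ fx E₂ a, (u * z)⁻¹ * (x * (u * z) * x⁻¹) ∈ E₁ ⊔ L := by
      intro x hx u hu z hz
      have hzx : x * z * x⁻¹ = z := by rw [← h₂.qgrp.fixed_central hz hx, mul_inv_cancel_right]
      have e : (u * z)⁻¹ * (x * (u * z) * x⁻¹) = z⁻¹ * (u⁻¹ * ⁅x, u⁆ * u) * (x * z * x⁻¹) := by
        rw [commutatorElement_def]; group
      have hc : u⁻¹ * ⁅x, u⁆ * u = ⁅x, u⁆ := by
        rw [mul_assoc, h₂.qgrp.fixed_central (hL (hLc x hx u hu)) (hle hu), inv_mul_cancel_left]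
      rw [e, hc, hzx, mul_assoc, h₂.qgrp.fixed_central (hL (hLc x hx u hu)) (fx_le hz), inv_mul_cancel_left]
      exact mem_sup_right (hLc x hx u hu)
    have hEn : E₂ ≤ normalizer ((E₁ ⊔ L : Subgroup X) : Set X) := fun x hx => mem_normalizer_of_conj_le fun y hy => by
      obtain ⟨u, hu, z, hz, rfl⟩ := mem_sup_of_normalizes hnL hy
      have := mul_mem (mul_mem (mem_sup_left hu : u ∈ E₁ ⊔ L) (mem_sup_right hz)) (hconjL x hx u hu z (hL hz))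
      simpa [mul_assoc] using this
    refine ⟨hEn, h₂.crossed_mem hbE hba hEn hin ?_ ?_⟩
    · intro x hx y hy
      obtain ⟨u, hu, z, hz, rfl⟩ := mem_sup_of_normalizes hn hy
      exact hconjL x hx u hu z hz
    · intro y hy
      obtain ⟨u, hu, z, hz, rfl⟩ := mem_sup_of_normalizes hn hy
      have e : (u * z)⁻¹ * (a * (u * z) * a⁻¹) = z⁻¹ * (u⁻¹ * (a * u * a⁻¹)) * (a * z * a⁻¹) := by group
      have hc : z⁻¹ * (u⁻¹ * (a * u * a⁻¹)) * z = u⁻¹ * (a * u * a⁻¹) := by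
        rw [mul_assoc, ← h₂.qgrp.fixed_central hz
          (E₂.mul_mem (E₂.inv_mem (hle hu)) (hle (conj_mem hE₁a hu))), inv_mul_cancel_left]
      rw [e, (mem_fx'.mp hz).2, hc]
      exact mem_sup_left (mul_mem (inv_mem hu) (conj_mem hE₁a hu))
  have hEK : E ≤ normalizer ((E₁ ⊔ F : Subgroup X) : Set X) :=
    (key h F hE₁ hFΦ hcomF t hta htE himt).1
  have hEF' : ∀ f' ∈ F', ∀ x ∈ E, x⁻¹ * (f' * x * f'⁻¹) ∈ E₁ ⊔ F := by
    intro f' hf' x hx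
    by_cases hfz : f' ∈ cen a G E
    · rw [h.cen_central hfz (h.E_le hx), mul_inv_cancel_right, inv_mul_cancel]; exact one_mem _
    obtain ⟨S', hS', hS'a, hE'⟩ := h2.sylow
    obtain ⟨S, hS, hSa, hE⟩ := h.sylow
    obtain ⟨d, hd, e⟩ := h.act.sylow_conj hS hS' hSa hS'a
    have hE'' : E' = MulAut.conj d • E := by rw [hE', ← e, ← br_smul_of_fixed (mem_fx.mp hd).2, ← hE]
    have hfx' : fx E' a = MulAut.conj d • fx E a := by rw [hE'']; exact (h.frame_setup hd).2.1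
    have hbΦ : f' ∉ fx E a := fun hmem => htΦ
      (h.point_common (g := d) ⟨hmem, hfz⟩ (fx_le hd) (mem_smul_iff'.mp (hfx' ▸ hF'Φ hf'))
        (mem_smul_iff'.mp (hfx' ▸ htΦ')) htE)
    have hb : JG a G E f' := (hJG f').mp (h2.JG_of_InJ ⟨hF'Φ hf', hcen.symm ▸ hfz⟩)
    have hin : ∀ y ∈ E, y⁻¹ * (f' * y * f'⁻¹) ∈ W := fun y hy => by
      rw [← hWeq hb (hfixF' f' hf') (hF' hf') hbΦ (hF'c f' hf')]
      exact (h.bad_image hb (hfixF' f' hf') (hF' hf') hbΦ).2 y hy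
    exact (key h F hE₁ hFΦ hcomF f' (hfixF' f' hf') (hF' hf') hin).2 x hx
  have hEY : E ≤ normalizer (Y : Set X) := by
    intro x hx
    refine mem_normalizer_of_conj_le fun y hy => ?_
    obtain ⟨u, hu, f', hf', rfl⟩ :=
      mem_sup_of_normalizes (M := E₁ ⊔ F) (fun f' hf' => mem_normalizer_sup (hnE₁F' hf') (hFn' f' hf')) hy
    have h1 : x * u * x⁻¹ ∈ E₁ ⊔ F := conj_mem (hEK hx) hu
    have h3 := hEF' f' hf' x⁻¹ (E.inv_mem hx)
    have e : x * (u * f') * x⁻¹ = (x * u * x⁻¹) * ((x⁻¹⁻¹ * (f' * x⁻¹ * f'⁻¹)) * f') := by group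
    rw [e]
    exact mul_mem (mem_sup_left h1) (mul_mem (mem_sup_left h3) (mem_sup_right hf'))
  have hE'K : E' ≤ normalizer ((E₁ ⊔ F' : Subgroup X) : Set X) := by
    refine (key h2 F' hE₁' hF'Φ hcomF' 1 (by simp) (one_mem _) fun x _ => ?_).1
    simp
  have hE'F : ∀ f ∈ F, ∀ x ∈ E', x⁻¹ * (f * x * f⁻¹) ∈ E₁ ⊔ F' := by
    intro f hf x hx
    by_cases hfz : f ∈ cen a G E
    · rw [h.cen_central hfz (h2.E_le hx), mul_inv_cancel_right, inv_mul_cancel]; exact one_mem _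
    exact (key h2 F' hE₁' hF'Φ hcomF' f (hfixF f hf) (hF hf) (hWf f hf hfz)).2 x hx
  have hE'Y : E' ≤ normalizer (Y : Set X) := by
    intro x hx
    refine mem_normalizer_of_conj_le fun y hy => ?_
    obtain ⟨u, hu, f', hf', rfl⟩ :=
      mem_sup_of_normalizes (M := E₁ ⊔ F) (fun f' hf' => mem_normalizer_sup (hnE₁F' hf') (hFn' f' hf')) hy
    obtain ⟨u₁, hu₁, f, hf, rfl⟩ := mem_sup_of_normalizes hnE₁F hu
    have hle : E₁ ⊔ F' ≤ Y := sup_le (le_sup_left.trans le_sup_left) le_sup_right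
    have h1 : x * u₁ * x⁻¹ ∈ Y := hle (conj_mem (hE'K hx) (mem_sup_left hu₁))
    have h3 : x * f' * x⁻¹ ∈ Y := hle (conj_mem (hE'K hx) (mem_sup_right hf'))
    have h4 : x * f * x⁻¹ ∈ Y := by
      have := hle (hE'F f hf x⁻¹ (E'.inv_mem hx))
      have e : x * f * x⁻¹ = (x⁻¹⁻¹ * (f * x⁻¹ * f⁻¹)) * f := by group
      rw [e]
      exact mul_mem this (mem_sup_left (mem_sup_right hf))
    have e : x * (u₁ * f * f') * x⁻¹ = (x * u₁ * x⁻¹) * (x * f * x⁻¹) * (x * f' * x⁻¹) := by group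
    rw [e]
    exact mul_mem (mul_mem h1 h4) h3
  -- `N(Y)` is proper
  set N := G ⊓ normalizer (Y : Set X) with hN
  have hNa : a ∈ normalizer (N : Set X) := mem_normalizer_inf h.act.norm
    (Subgroup.le_normalizer hYa)
  have hNne : N ≠ G := by
    intro e
    have hc : Y ≤ centralizer (G : Set X) :=
      h.small Y hYG (e.ge.trans inf_le_right) hYa fun e' => by
        have hG2 : IsPGroup 2 G := e' ▸ hY2
        haveI : Group.IsNilpotent G := hG2.isNilpotent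
        have hG : G ≠ ⊥ := fun e'' => h.neE (le_bot_iff.mp (e'' ▸ h.E_le))
        haveI : Nontrivial G := (Subgroup.nontrivial_iff_ne_bot G).mpr hG
        have hcomm : commutator ↥G = ⊤ := by
          apply (Subgroup.map_injective G.subtype_injective)
          rw [Subgroup.map_subtype_commutator, h.perfect, ← MonoidHom.range_eq_map, Subgroup.range_subtype]
        exact (IsSolvable.commutator_lt_top_of_nontrivial ↥G).ne hcomm
    refine hnot h fun x hx => h.qgrp.center_le_fixed ⟨hE₁ hx, Subgroup.mem_centralizer_iff.mpr fun y hy => ?_⟩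
    exact Subgroup.mem_centralizer_iff.mp (hc (mem_sup_left (mem_sup_left hx))) y (h.E_le hy)
  obtain ⟨Xp, hXp, hXle, hXn, hXa, hsyl, hdec⟩ :=
    h.local_struct inf_le_left hNa hNne (le_inf h.E_le hEY)
  have hE'N : E' ≤ br N a := h2.qgrp.brE.ge.trans (br_mono (le_inf h2.E_le hE'Y))
  have hsK : IsSylowIn 2 E' (br N a) := by
    refine ⟨hE'N, h2.isTwo_E, fun hd => hsyl.2.2 ?_⟩
    obtain ⟨S', hS', hS'a, hE'⟩ := h2.sylow
    obtain ⟨S, hS, hSa, hE⟩ := h.sylow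
    obtain ⟨d, hd', e⟩ := h.act.sylow_conj hS hS' hSa hS'a
    have hE'' : E' = MulAut.conj d • E := by rw [hE', ← e, ← br_smul_of_fixed (mem_fx.mp hd').2, ← hE]
    have h1 := Grp.card_mul_relIndex hsyl.1
    have h3 := Grp.card_mul_relIndex hE'N
    rw [hE'', Grp.card_conj_smul, ← h1, ← hE''] at h3
    rwa [← Nat.eq_of_mul_eq_mul_left Nat.card_pos h3]
  obtain ⟨b, hb, e'⟩ := (h.act.mono ((br_le hNa).trans inf_le_left) norm_br).sylow_conj hsyl hsK h.norm_E h2.norm_E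
  obtain ⟨hbB, hba⟩ := mem_fx'.mp hb
  obtain ⟨x, hx, e₁, he₁, rfl⟩ := hdec b hbB
  rw [map_mul, mul_smul, smul_eq_of_le_norm (Subgroup.le_normalizer he₁)] at e'
  have hxY : ∀ y ∈ Y, x * y = y * x := by
    intro y hy
    have hyN : y ∈ N := ⟨hYG hy, Subgroup.le_normalizer hy⟩
    refine commutatorElement_eq_one_iff_mul_comm.mp ?_
    have h1 : ⁅x, y⁆ ∈ Xp := by
      have := Xp.mul_mem hx (conj_mem (hXn hyN) (Xp.inv_mem hx))
      simpa [commutatorElement_def, mul_assoc] using this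
    have h3 : ⁅x, y⁆ ∈ Y := by
      have := Y.mul_mem (conj_mem (Subgroup.mem_inf.mp (br_le hNa (hXle hx))).2 hy) (Y.inv_mem hy)
      simpa [commutatorElement_def] using this
    have hm : ⁅x, y⁆ ∈ Xp ⊓ Y := ⟨h1, h3⟩
    rw [disjoint_iff.mp (IsPGroup.disjoint_of_ne p 2 h.podd Xp Y hXp hY2)] at hm
    exact hm
  have hxE'Φ : fx E' a = ⁅MulAut.conj x • E, MulAut.conj x • E⁆ := by rw [e', h2.qgrp.fixed_eq_comm]
  have hxΦ : MulAut.conj x • fx E a = fx E' a := by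
    rw [hxE'Φ, h.qgrp.fixed_eq_comm]
    exact Subgroup.map_commutator _ _ (MulAut.conj x).toMonoidHom
  refine htΦ (h.point_common (f := f₀) (g := x) ⟨hFΦ hf₀F, hf₀⟩ ((br_le hNa).trans inf_le_left (hXle hx)) ?_ ?_ htE)
  · rw [mul_assoc, ← hxY f₀ (mem_sup_left (mem_sup_right hf₀F)), inv_mul_cancel_left]
    exact hFΦ hf₀F
  · exact mem_smul_iff'.mp (hxΦ.symm ▸ htΦ')

/-- No fixed conjugate of a noncentral element of `E'` normalizes `E` outside `E'`. -/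
theorem no_fixed_bad (h : Setup p r m a G V E) (hk : Nat.card E ≠ 2 ^ (2 * m) * Nat.card (fx E a))
    {t : X} (ht : JG a G E t) (hta : a * t = t * a) (htE : t ∈ normalizer (E : Set X)) : t ∈ fx E a := by
  classical
  haveI := Fact.mk Nat.prime_two
  by_contra htΦ
  let ok : X → Prop := fun c => c ∈ fx G a ∧ t ∈ normalizer ((MulAut.conj c • E : Subgroup X) : Set X) ∧
    t ∉ MulAut.conj c • fx E a
  let μ : X → ℕ := fun c => Nat.card ↥(MulAut.conj c • fx E a ⊓ cst a G E t)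
  obtain ⟨c, hc, hmax⟩ := Set.exists_max_image {c | ok c} μ (Set.toFinite _)
    ⟨1, one_mem _, by simpa using htE, by simpa using htΦ⟩
  obtain ⟨hcG, hcN, hcΦ⟩ := hc
  obtain ⟨h₀, hfx₀, hcen₀⟩ := h.frame_setup hcG
  set E₀ := MulAut.conj c • E with hE₀
  have hk₀ : ∀ d : X, Nat.card ↥(MulAut.conj d • E) ≠ 2 ^ (2 * m) * Nat.card ↥(MulAut.conj d • fx E a) := by
    intro d; rw [Grp.card_conj_smul, Grp.card_conj_smul]; exact hk
  have hcst : ∀ (E₂ : Subgroup X) (x : X), cen a G E₂ = cen a G E → cst a G E₂ x = cst a G E x := by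
    intro E₂ x e; simp only [cst, e]
  have hJGeq : ∀ d ∈ fx G a, ∀ u, JG a G (MulAut.conj d • E) u ↔ JG a G E u := by
    intro d hd u
    obtain ⟨-, h2', h3'⟩ := h.frame_setup hd
    constructor
    · rintro ⟨g, hg, h4, h5⟩
      refine ⟨g * d, G.mul_mem hg (fx_le hd), ?_, ?_⟩
      · rw [h2', mem_smul_iff'] at h4
        convert h4 using 1; group
      · rw [h3'] at h5
        intro hz
        apply h5
        have := h.cen_conj_eq hz (fx_le hd)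
        convert hz using 1
        rw [← this]; group
    · rintro ⟨g, hg, h4, h5⟩
      refine ⟨g * d⁻¹, G.mul_mem hg (G.inv_mem (fx_le hd)), ?_, ?_⟩
      · rw [h2', mem_smul_iff']
        convert h4 using 1; group
      · rw [h3']
        intro hz
        apply h5
        have := h.cen_conj_eq hz (G.inv_mem (fx_le hd))
        convert hz using 1
        rw [← this]; group
  have ht₀ : JG a G E₀ t := (hJGeq c hcG t).mpr ht
  have htΦ₀ : t ∉ fx E₀ a := hfx₀ ▸ hcΦ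
  -- moved part of the fixed subgroup of `t`
  have hWn := h₀.null_fixd_of_fixed ht₀ hta hcN htΦ₀
  set W := fixd a E₀ t with hW
  set E₁ := br W a with hE₁
  have hE₁E : E₁ ≤ E₀ := (br_le hWn.norm).trans hWn.le
  have hE₁ne : E₁ ≠ ⊥ := fun e => (h₀.bad_image ht₀ hta hcN htΦ₀).1 (by
    rw [← hW, h₀.eq_br_sup hWn.ge hWn.le hWn.norm, ← hE₁, e, bot_sup_eq])
  have hbr : br E₁ a = E₁ := (h.act.mono (hWn.le.trans h₀.E_le) hWn.norm).br_br
  have htc := h₀.centralizes_br_fixd hcN hta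
  set F := fx E₀ a ⊓ cst a G E₀ t with hF
  have htG : t ∈ G := h.JG_mem_G ht
  have hF₀ : F ≤ normalizer (E₁ : Set X) := fun z hz =>
    mem_normalizer_of_centralizes fun x hx => h₀.qgrp.fixed_central hz.1 (hE₁E hx)
  -- the frame of `t`
  obtain ⟨g, hg, hgt⟩ := ht
  obtain ⟨c₁, hc₁, ec₁⟩ := h.act.conj_fixed (mem_fx.mp hgt.1).2 hta hg (by group)
  obtain ⟨h₁, hfx₁, hcen₁⟩ := h.frame_setup hc₁
  have hJ₁ : InJ a G (MulAut.conj c₁ • E) t := by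
    refine ⟨by rw [hfx₁, ← ec₁]; exact conj_mem_smul hgt.1, ?_⟩
    rw [hcen₁]; exact h.JG_not_cen ⟨g, hg, hgt⟩
  have hTle : E₁ ⊔ F ≤ cst a G (MulAut.conj c₁ • E) t := by
    rw [hcst _ _ hcen₁, ← hcst E₀ t hcen₀]
    refine sup_le (fun x hx => (h₀.mem_cst htG).mpr ⟨h₀.E_le (hE₁E hx), ?_⟩) inf_le_right
    rw [commutatorElement_eq_one_iff_mul_comm.mpr (htc x hx).symm]; exact one_mem _
  have hT2 : IsPGroup 2 (E₁ ⊔ F : Subgroup X) :=
    IsPGroup.to_sup_of_normal_left' (h₀.isTwo_E.to_le hE₁E) (h₀.isTwo_E.to_le (inf_le_left.trans fx_le)) hF₀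
  have hTa : a ∈ normalizer ((E₁ ⊔ F : Subgroup X) : Set X) :=
    mem_normalizer_sup norm_br (mem_normalizer_of_centralizes fun x hx => (mem_fx.mp hx.1).2)
  obtain ⟨x, hx, hxt, hTN, hTbr⟩ := h₁.exists_point hJ₁ hTle hT2 hTa
  rw [← mul_smul, ← map_mul] at hTN hTbr
  have hd : x * c₁ ∈ fx G a := mul_mem hx hc₁
  obtain ⟨h2, hfx2, hcen2⟩ := h.frame_setup hd
  set E' := MulAut.conj (x * c₁) • E with hE'
  have htΦ' : t ∈ fx E' a := by
    rw [hfx2, mem_smul_iff']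
    have e : (x * c₁)⁻¹ * t * (x * c₁) = g⁻¹ * t * g := by
      calc (x * c₁)⁻¹ * t * (x * c₁) = c₁⁻¹ * (x⁻¹ * (t * x)) * c₁ := by group
        _ = c₁⁻¹ * t * c₁ := by rw [← hxt, inv_mul_cancel_left]
        _ = c₁⁻¹ * (c₁ * (g⁻¹ * t * g) * c₁⁻¹) * c₁ := by rw [ec₁]
        _ = _ := by group
    rw [e]; exact hgt.1
  have hE₁' : E₁ ≤ E' := hbr.ge.trans ((br_mono le_sup_left).trans hTbr)
  set F' := fx E' a ⊓ (⨅ f : ↥F, cst a G E₀ (f : X)) with hF'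
  obtain ⟨f₀, hf₀, hf₀z⟩ : ∃ f ∈ F, f ∉ cen a G E₀ := by
    obtain ⟨y, hy, w, hw, hyw⟩ := h₀.exists_comm_notMem (hfx₀ ▸ hk₀ c) hWn (h₀.bad_image ht₀ hta hcN htΦ₀).1
    refine ⟨_, ⟨h₀.qgrp.comm_mem hy (hE₁E hw), (h₀.mem_cst htG).mpr ⟨h₀.fx_le_G (h₀.qgrp.comm_mem hy (hE₁E hw)), ?_⟩⟩, hyw⟩
    have hu : y⁻¹ * (t * y * t⁻¹) ∈ W := (h₀.bad_image ht₀ hta hcN htΦ₀).2 y hy
    have hz : ⁅y⁻¹ * (t * y * t⁻¹), w⁆ ∈ cen a G E₀ := hWn.comm _ hu w (br_le hWn.norm hw)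
    have hconj : t * ⁅y, w⁆ * t⁻¹ = ⁅y, w⁆ * ⁅y⁻¹ * (t * y * t⁻¹), w⁆ := by
      rw [← h₀.qgrp.comm_mul_left hy (hWn.le hu) (hE₁E hw), mul_inv_cancel_left]
      have : t * w * t⁻¹ = w := by rw [htc w hw, mul_inv_cancel_right]
      calc t * ⁅y, w⁆ * t⁻¹ = ⁅t * y * t⁻¹, t * w * t⁻¹⁆ := by simp only [commutatorElement_def]; group
        _ = _ := by rw [this]
    have e : ⁅⁅y, w⁆, t⁆ = (⁅y⁻¹ * (t * y * t⁻¹), w⁆)⁻¹ := by
      rw [commutatorElement_def]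
      calc ⁅y, w⁆ * t * ⁅y, w⁆⁻¹ * t⁻¹ = ⁅y, w⁆ * (t * ⁅y, w⁆ * t⁻¹)⁻¹ := by group
        _ = _ := by
          rw [hconj, mul_inv_rev, ← mul_assoc,
            ← h₀.cen_central (inv_mem hz) (h₀.fx_le_G (h₀.qgrp.comm_mem hy (hE₁E hw))), mul_inv_cancel_right]
    rw [e]; exact inv_mem hz
  have hJ₀ : InJ a G E₀ f₀ := ⟨hf₀.1, hf₀z⟩
  have hE₁F' : F' ≤ normalizer (E₁ : Set X) := fun z hz =>
    mem_normalizer_of_centralizes fun w hw => h2.qgrp.fixed_central hz.1 (hE₁' hw)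
  have hcenF : cen a G E₀ ≤ F := fun z hz => ⟨hz.1, (h₀.mem_cst htG).mpr ⟨h₀.fx_le_G hz.1, by
    rw [commutatorElement_eq_one_iff_mul_comm.mpr (h₀.cen_central hz htG)]; exact one_mem _⟩⟩
  have hF'F : F' ≤ normalizer (F : Set X) := fun f' hf' => mem_normalizer_of_conj_le fun f hf => by
    have hm := (h₀.mem_cst (h₀.fx_le_G hf.1)).mp (Subgroup.mem_iInf.mp hf'.2 ⟨f, hf⟩)
    have e : f' * f * f'⁻¹ = ⁅f', f⁆ * f := by rw [commutatorElement_def]; group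
    rw [e]; exact mul_mem (hcenF hm.2) hf
  have hnF' : F' ≤ normalizer ((E₁ ⊔ F : Subgroup X) : Set X) := fun f' hf' =>
    mem_normalizer_sup (hE₁F' hf') (hF'F hf')
  have hT2' : IsPGroup 2 (E₁ ⊔ F ⊔ F' : Subgroup X) :=
    IsPGroup.to_sup_of_normal_left' hT2 (h2.isTwo_E.to_le (inf_le_left.trans fx_le)) hnF'
  have hT'a : a ∈ normalizer ((E₁ ⊔ F ⊔ F' : Subgroup X) : Set X) :=
    mem_normalizer_sup hTa (mem_normalizer_of_centralizes fun z hz => (mem_fx.mp hz.1).2)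
  have hT'le : E₁ ⊔ F ⊔ F' ≤ cst a G E₀ f₀ := by
    refine sup_le (sup_le (hE₁E.trans (h₀.E_le_cst hf₀.1)) ((inf_le_left.trans fx_le).trans (h₀.E_le_cst hf₀.1))) ?_
    exact fun z hz => Subgroup.mem_iInf.mp hz.2 ⟨f₀, hf₀⟩
  obtain ⟨x₀, hx₀, hx₀f, hT'N, hT'br⟩ := h₀.exists_point hJ₀ hT'le hT2' hT'a
  obtain ⟨h₃, hfx₃, hcen₃⟩ := h₀.frame_setup hx₀
  set E₃ := MulAut.conj x₀ • E₀ with hE₃
  have hE₁3 : E₁ ≤ E₃ := hbr.ge.trans ((br_mono (le_sup_left.trans le_sup_left)).trans hT'br)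
  have htF' : t ∈ F' := ⟨htΦ', Subgroup.mem_iInf.mpr fun ⟨f, hf⟩ => (h₀.mem_cst (h₀.fx_le_G hf.1)).mpr ⟨htG, by
    have := ((h₀.mem_cst htG).mp hf.2).2
    rw [← commutatorElement_inv]; exact inv_mem this⟩⟩
  have hf₀3 : x₀⁻¹ * f₀ * x₀ ∈ fx E₀ a := by rw [mul_assoc, ← hx₀f, inv_mul_cancel_left]; exact hf₀.1
  have hf₀3' : f₀ ∈ fx E₃ a := by rw [hfx₃, mem_smul_iff']; exact hf₀3
  have hFle : F ≤ fx E₃ a ⊓ cst a G E₀ t := fun f hf => ⟨h₃.point_common (f := f₀) (g := x₀⁻¹) ⟨hf₀3', hcen₃ ▸ hf₀z⟩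
    (G.inv_mem (fx_le hx₀))
    (by rw [inv_inv, hfx₃, mem_smul_iff']; simpa [mul_assoc] using hf₀.1)
    (by rw [inv_inv, hfx₃, mem_smul_iff']; simpa [mul_assoc] using hf.1)
    (hT'N (mem_sup_left (mem_sup_right hf))), hf.2⟩
  have htΦ₃ : t ∉ fx E₃ a := by
    intro hmem
    rw [hfx₃, mem_smul_iff'] at hmem
    exact htΦ₀ (h₀.point_common (f := f₀) hJ₀ (fx_le hx₀) hf₀3 hmem hcN)
  have hd₃ : x₀ * c ∈ fx G a := mul_mem hx₀ hcG
  have hE₃eq : E₃ = MulAut.conj (x₀ * c) • E := by rw [map_mul, mul_smul]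
  have hfx₃eq : fx E₃ a = MulAut.conj (x₀ * c) • fx E a := by
    rw [hfx₃, hfx₀, map_mul, mul_smul]
  have hok : ok (x₀ * c) := ⟨hd₃, hE₃eq ▸ hT'N (mem_sup_right htF'), hfx₃eq ▸ htΦ₃⟩
  have hμ := hmax (x₀ * c) hok
  have hFeq : fx E₃ a ⊓ cst a G E₃ t = F := by
    rw [hcst E₃ t (hcen₃.trans hcen₀)]
    refine (Subgroup.eq_of_le_of_card_ge (by rw [← hcst E₀ t hcen₀]; exact hFle) ?_).symm
    simp only [μ] at hμ
    rw [hfx₃eq, hF, hfx₀, hcst E₀ t hcen₀]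
    exact hμ
  refine caseZ_core h₃ h2 (by rw [hfx₃eq, hE₃eq]; exact hk₀ _) (by rw [hE', hfx2]; exact hk₀ _)
    (hcen2.trans (hcen₃.trans hcen₀).symm)
    (fun u => (hJGeq _ hd u).trans (by rw [hE₃eq]; exact (hJGeq _ hd₃ u).symm))
    (by rw [hE₃eq]; exact (hJGeq _ hd₃ t).mpr ⟨g, hg, hgt⟩) hta (hT'N (mem_sup_right htF')) htΦ₃ htΦ'
    hE₁3 hE₁' norm_br hbr hE₁ne
    (fun u hu w hw => by rw [hcen₃]; exact hWn.comm u (br_le hWn.norm hu) w (br_le hWn.norm hw)) htc ?_ ?_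
  · rw [hFeq]; exact fun f hf => hTN (mem_sup_right hf)
  · intro z hz
    refine hT'N (mem_sup_right ⟨hz.1, Subgroup.mem_iInf.mpr fun ⟨f, hf⟩ => ?_⟩)
    have := Subgroup.mem_iInf.mp hz.2 ⟨f, hFeq.symm ▸ hf⟩
    rwa [hcst E₃ f (hcen₃.trans hcen₀), ← hcst E₀ f hcen₀] at this

end Setup

end Cfsg.Agent.Invol.Shult
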