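import Mathlib
import Cfsg.Agent.Lib.Invol.Shult.CaseZ

/-!
`N(E)` commutes with `a` on `E/E'`; recentring `a` inside `N(E)`; null subgroups spanned by orbits.
-/

set_option autoImplicit false

namespace Cfsg.Agent.Invol.Shult

open Subgroup
open scoped Pointwise commutatorElement
open Cfsg.Agent.Grp (IsSylowIn)

variable {X : Type*} [Group X] {a : X} {p r m : ℕ} {G V E W M : Subgroup X}

/-- `E'` together with the image of `x ↦ x⁻¹ ᵗx` on `E`. -/
def img (a : X) (E : Subgroup X) (t : X) : Subgroup X :=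
  closure {w | ∃ x ∈ E, ∃ z ∈ fx E a, w = x⁻¹ * (t * x * t⁻¹) * z}

/-- The span modulo `E'` of the translates of `e`. -/
def orb (a : X) (E : Subgroup X) (e : X) : Subgroup X :=
  closure ((fx E a : Set X) ∪ Set.range fun n : ℕ => a ^ n * e * (a ^ n)⁻¹)

namespace Setup

variable [Finite X] [Fact p.Prime] (h : Setup p r m a G V E)
include h

theorem normalizer_ne : G ⊓ normalizer (E : Set X) ≠ G := fun e => by
  have hc : E ≤ centralizer (G : Set X) := by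
    by_cases hEG : E = G
    · exfalso
      haveI := Fact.mk Nat.prime_two
      have hG2 : IsPGroup 2 G := hEG ▸ h.isTwo_E
      haveI : Group.IsNilpotent G := hG2.isNilpotent
      haveI : Nontrivial G := (Subgroup.nontrivial_iff_ne_bot G).mpr (hEG ▸ h.neE)
      refine (IsSolvable.commutator_lt_top_of_nontrivial ↥G).ne ?_
      apply Subgroup.map_injective G.subtype_injective
      rw [Subgroup.map_subtype_commutator, h.perfect, ← MonoidHom.range_eq_map, Subgroup.range_subtype]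
    · exact h.small E h.E_le (e.ge.trans inf_le_right) h.norm_E hEG
  exact h.neE (h.qgrp.eq_bot_of_abelian fun x hx y hy =>
    (Subgroup.mem_centralizer_iff.mp (hc hx) y (h.E_le hy)).symm)

theorem norm_fixed' {g : X} (hg : g ∈ normalizer (E : Set X)) :
    g ∈ normalizer ((fx E a : Subgroup X) : Set X) := by
  rw [h.qgrp.fixed_eq_comm]; exact normalizer_commutator_of hg hg

/-- `[N(E), a]` acts trivially on `E/E'`. -/
theorem br_norm_trivial {c x : X} (hc : c ∈ br (G ⊓ normalizer (E : Set X)) a) (hx : x ∈ E) :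
    x⁻¹ * (c * x * c⁻¹) ∈ fx E a := by
  haveI := Fact.mk Nat.prime_two
  have hHa : a ∈ normalizer ((G ⊓ normalizer (E : Set X) : Subgroup X) : Set X) :=
    mem_normalizer_inf h.act.norm (Subgroup.le_normalizer h.norm_E)
  obtain ⟨Xp, hXp, hXle, hXn, -, -, hdec⟩ :=
    h.local_struct inf_le_left hHa h.normalizer_ne (le_inf h.E_le Subgroup.le_normalizer)
  obtain ⟨u, hu, e, he, rfl⟩ := hdec c hc
  have hy : e * x * e⁻¹ ∈ E := E.mul_mem (E.mul_mem he hx) (E.inv_mem he)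
  have huy : u * (e * x * e⁻¹) * u⁻¹ = e * x * e⁻¹ := by
    have hue : ⁅u, e * x * e⁻¹⁆ = 1 := h.inf_eq_bot_of_p hXp
      (by
        have := Xp.mul_mem hu (conj_mem (hXn ⟨h.E_le hy, Subgroup.le_normalizer hy⟩) (Xp.inv_mem hu))
        simpa [commutatorElement_def, mul_assoc] using this)
      (by
        have := E.mul_mem (conj_mem (br_le hHa (hXle hu)).2 hy) (E.inv_mem hy)
        simpa [commutatorElement_def] using this)
    rw [commutatorElement_eq_one_iff_mul_comm.mp hue, mul_inv_cancel_right]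
  have e1 : x⁻¹ * (u * e * x * (u * e)⁻¹) = ⁅x⁻¹, e⁆ := by
    calc x⁻¹ * (u * e * x * (u * e)⁻¹) = x⁻¹ * (u * (e * x * e⁻¹) * u⁻¹) := by group
      _ = x⁻¹ * (e * x * e⁻¹) := by rw [huy]
      _ = _ := by rw [commutatorElement_def]; group
  rw [e1]; exact h.qgrp.comm_mem (E.inv_mem hx) he

theorem br_norm_normalizer {c : X} (hc : c ∈ br (G ⊓ normalizer (E : Set X)) a) (hge : fx E a ≤ W) (hle : W ≤ E) :
    c ∈ normalizer (W : Set X) :=
  mem_normalizer_of_conj_le fun x hx => by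
    have := W.mul_mem hx (hge (h.br_norm_trivial hc (hle hx)))
    simpa [mul_assoc] using this

theorem inv_conj_comm_mem {u : X} (hu : u ∈ G ⊓ normalizer (E : Set X)) :
    a⁻¹ * u * a * u⁻¹ ∈ br (G ⊓ normalizer (E : Set X)) a := by
  have h1 := Subgroup.commutator_mem_commutator hu (inv_mem (mem_zpowers a))
  have := inv_mem h1
  simpa [br, commutatorElement_def, mul_assoc] using this

theorem conj_image {u x : X} (hu : u ∈ G ⊓ normalizer (E : Set X)) (hx : x ∈ E) :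
    (a * (x⁻¹ * (u * x * u⁻¹)) * a⁻¹)⁻¹ * ((a * x * a⁻¹)⁻¹ * (u * (a * x * a⁻¹) * u⁻¹)) ∈ fx E a := by
  set c := a⁻¹ * u * a * u⁻¹ with hc
  have hy : u * x * u⁻¹ ∈ E := conj_mem hu.2 hx
  have h1 := h.br_norm_trivial (h.inv_conj_comm_mem hu) hy
  rw [← hc] at h1
  have e : (a * (x⁻¹ * (u * x * u⁻¹)) * a⁻¹)⁻¹ * ((a * x * a⁻¹)⁻¹ * (u * (a * x * a⁻¹) * u⁻¹)) =
      a * ((u * x * u⁻¹)⁻¹ * (c * (u * x * u⁻¹) * c⁻¹)) * a⁻¹ := by rw [hc]; group
  rw [e, (mem_fx'.mp h1).2]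
  exact h1

theorem norm_fixd' {u : X} (hu : u ∈ G ⊓ normalizer (E : Set X)) :
    a ∈ normalizer ((fixd a E u : Subgroup X) : Set X) := by
  refine mem_normalizer_of_conj_le fun x hx => ?_
  obtain ⟨hxE, hx'⟩ := (h.mem_fixd hu.2).mp hx
  refine (h.mem_fixd hu.2).mpr ⟨conj_mem h.norm_E hxE, ?_⟩
  have h1 := h.conj_image hu hxE
  rw [(mem_fx'.mp hx').2] at h1
  exact (mul_mem_cancel_left (inv_mem hx')).mp h1

theorem fixed_le_fixd' {u : X} (hu : u ∈ normalizer (E : Set X)) : fx E a ≤ fixd a E u := fun x hx =>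
  (h.mem_fixd hu).mpr ⟨fx_le hx, mul_mem (inv_mem hx) (conj_mem (h.norm_fixed' hu) hx)⟩

theorem mem_img {u w : X} (hu : u ∈ normalizer (E : Set X)) :
    w ∈ img a E u ↔ ∃ x ∈ E, ∃ z ∈ fx E a, w = x⁻¹ * (u * x * u⁻¹) * z := by
  refine ⟨fun hw => ?_, fun hw => Subgroup.subset_closure hw⟩
  refine Subgroup.closure_induction (p := fun w _ => ∃ x ∈ E, ∃ z ∈ fx E a, w = x⁻¹ * (u * x * u⁻¹) * z)
    (fun w hw => hw) ⟨1, E.one_mem, 1, one_mem _, by simp⟩ ?_ ?_ hw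
  · rintro _ _ - - ⟨x, hx, z, hz, rfl⟩ ⟨y, hy, z', hz', rfl⟩
    set wx := x⁻¹ * (u * x * u⁻¹) with hwx
    set wy := y⁻¹ * (u * y * u⁻¹) with hwy
    have hwxE : wx ∈ E := E.mul_mem (E.inv_mem hx) (conj_mem hu hx)
    have hwyE : wy ∈ E := E.mul_mem (E.inv_mem hy) (conj_mem hu hy)
    have hk : ⁅y⁻¹, wx⁆ ∈ fx E a := h.qgrp.comm_mem (E.inv_mem hy) hwxE
    refine ⟨x * y, E.mul_mem hx hy, wy⁻¹ * (⁅y⁻¹, wx⁆⁻¹ * z) * wy * z',
      mul_mem ?_ hz', ?_⟩
    · rw [mul_assoc, h.qgrp.fixed_central (mul_mem (inv_mem hk) hz) hwyE, inv_mul_cancel_left]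
      exact mul_mem (inv_mem hk) hz
    · have e : (x * y)⁻¹ * (u * (x * y) * u⁻¹) = ⁅y⁻¹, wx⁆ * wx * wy := by
        rw [hwx, hwy, commutatorElement_def]; group
      rw [e]
      have hc := h.qgrp.fixed_central (inv_mem hk) hwxE
      calc wx * z * (wy * z') = (⁅y⁻¹, wx⁆ * (⁅y⁻¹, wx⁆⁻¹ * wx)) * z * wy * z' := by group
        _ = (⁅y⁻¹, wx⁆ * (wx * ⁅y⁻¹, wx⁆⁻¹)) * z * wy * z' := by rw [hc]
        _ = _ := by group
  · rintro _ - ⟨x, hx, z, hz, rfl⟩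
    set wx := x⁻¹ * (u * x * u⁻¹) with hwx
    have hwxE : wx ∈ E := E.mul_mem (E.inv_mem hx) (conj_mem hu hx)
    have hk : ⁅x, wx⁻¹⁆ ∈ fx E a := h.qgrp.comm_mem hx (E.inv_mem hwxE)
    refine ⟨x⁻¹, E.inv_mem hx, ⁅x, wx⁻¹⁆⁻¹ * z⁻¹, mul_mem (inv_mem hk) (inv_mem hz), ?_⟩
    have e : x⁻¹⁻¹ * (u * x⁻¹ * u⁻¹) = ⁅x, wx⁻¹⁆ * wx⁻¹ := by rw [hwx, commutatorElement_def]; group
    rw [e, mul_inv_rev, h.qgrp.fixed_central (inv_mem hz) (E.inv_mem hwxE)]
    have hc := h.qgrp.fixed_central hk (E.inv_mem hwxE)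
    rw [hc]; group

theorem norm_img {u : X} (hu : u ∈ G ⊓ normalizer (E : Set X)) :
    a ∈ normalizer ((img a E u : Subgroup X) : Set X) := by
  refine mem_normalizer_of_conj_le fun w hw => ?_
  obtain ⟨x, hx, z, hz, rfl⟩ := (h.mem_img hu.2).mp hw
  refine (h.mem_img hu.2).mpr ⟨a * x * a⁻¹, conj_mem h.norm_E hx, _, mul_mem (inv_mem (h.conj_image hu hx)) hz, ?_⟩
  have : a * z * a⁻¹ = z := (mem_fx'.mp hz).2
  conv_lhs => rw [show a * (x⁻¹ * (u * x * u⁻¹) * z) * a⁻¹ = a * (x⁻¹ * (u * x * u⁻¹)) * a⁻¹ * (a * z * a⁻¹) by group, this]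
  group

/-- An element acting on `E/E'` as an involution and trivially on `E'/Z₀` has null fixed part. -/
theorem null_fixd_of_trivial {u : X} (hu : u ∈ G ⊓ normalizer (E : Set X))
    (hΦ : ∀ z ∈ fx E a, ⁅u, z⁆ ∈ cen a G E) (h2 : ∀ x ∈ E, x⁻¹ * (u * u * x * (u * u)⁻¹) ∈ fx E a)
    {x₀ : X} (hx₀ : x₀ ∈ E) (hne : x₀⁻¹ * (u * x₀ * u⁻¹) ∉ fx E a) :
    Null a G E (fixd a E u) ∧ fixd a E u ≠ fx E a ∧ (∀ x ∈ E, x⁻¹ * (u * x * u⁻¹) ∈ fixd a E u) ∧
      fixd a E u ≤ img a E u := by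
  have hwE : ∀ x ∈ E, x⁻¹ * (u * x * u⁻¹) ∈ E := fun x hx => E.mul_mem (E.inv_mem hx) (conj_mem hu.2 hx)
  have hmem : ∀ x ∈ E, x⁻¹ * (u * x * u⁻¹) ∈ fixd a E u := by
    intro x hx
    refine (h.mem_fixd hu.2).mpr ⟨hwE x hx, ?_⟩
    set w := x⁻¹ * (u * x * u⁻¹) with hw
    have e : w⁻¹ * (u * w * u⁻¹) = w⁻¹ * (w⁻¹ * (x⁻¹ * (u * u * x * (u * u)⁻¹))) := by rw [hw]; group
    rw [e, ← mul_assoc, ← mul_inv_rev, ← sq]
    exact mul_mem (inv_mem (h.qgrp.pow_q_mem (hwE x hx))) (h2 x hx)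
  have hperp : ∀ x ∈ E, ∀ y ∈ fixd a E u, ⁅x⁻¹ * (u * x * u⁻¹), y⁆ ∈ cen a G E := by
    intro x hx y hy
    obtain ⟨hyE, hy'⟩ := (h.mem_fixd hu.2).mp hy
    have hk := h.qgrp.comm_mem hx hyE
    have e : u * ⁅x, y⁆ * u⁻¹ = ⁅x * (x⁻¹ * (u * x * u⁻¹)), y * (y⁻¹ * (u * y * u⁻¹))⁆ := by
      simp only [commutatorElement_def]; group
    rw [h.qgrp.comm_mul_right (E.mul_mem hx (hwE x hx)) hyE (fx_le hy'),
      commutatorElement_eq_one_iff_mul_comm.mpr (h.qgrp.fixed_central hy' (E.mul_mem hx (hwE x hx))).symm,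
      mul_one, h.qgrp.comm_mul_left hx (hwE x hx) hyE] at e
    have h1 : ⁅u, ⁅x, y⁆⁆ = ⁅x, y⁆ * ⁅x⁻¹ * (u * x * u⁻¹), y⁆ * ⁅x, y⁆⁻¹ := by
      rw [commutatorElement_def u, e]
    rw [h.qgrp.fixed_central hk (fx_le (h.qgrp.comm_mem (hwE x hx) hyE)), mul_inv_cancel_right] at h1
    exact h1 ▸ hΦ _ hk
  have hMle : img a E u ≤ fixd a E u := fun w hw => by
    obtain ⟨x, hx, z, hz, rfl⟩ := (h.mem_img hu.2).mp hw
    exact mul_mem (hmem x hx) (h.fixed_le_fixd' hu.2 hz)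
  have hMperp : ∀ w ∈ img a E u, ∀ y ∈ fixd a E u, ⁅w, y⁆ ∈ cen a G E := by
    intro w hw y hy
    obtain ⟨x, hx, z, hz, rfl⟩ := (h.mem_img hu.2).mp hw
    have hyE := ((h.mem_fixd hu.2).mp hy).1
    rw [h.qgrp.comm_mul_left (hwE x hx) (fx_le hz) hyE,
      commutatorElement_eq_one_iff_mul_comm.mpr (h.qgrp.fixed_central hz hyE), mul_one]
    exact hperp x hx y hy
  have hM : Null a G E (img a E u) := ⟨fun z hz => (h.mem_img hu.2).mpr ⟨1, E.one_mem, z, hz, by simp⟩,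
    hMle.trans (h.fixd_le hu.2), h.norm_img hu, fun w hw y hy => hMperp w hw y (hMle hy)⟩
  have hMne : img a E u ≠ fx E a := fun e =>
    hne (e ▸ (h.mem_img hu.2).mpr ⟨x₀, hx₀, 1, one_mem _, by simp⟩)
  have hfM : fixd a E u ≤ img a E u := fun y hy => h.null_perp hM hMne ((h.mem_fixd hu.2).mp hy).1 fun w hw => by
    rw [← commutatorElement_inv]; exact inv_mem (hMperp w hw y hy)
  have heq : fixd a E u = img a E u := le_antisymm hfM hMle
  exact ⟨heq ▸ hM, heq ▸ hMne, hmem, hfM⟩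

theorem null_inter (hW : Null a G E W) (hM : Null a G E M) {x : X} (hxW : x ∈ W) (hxM : x ∈ M)
    (hx : x ∉ fx E a) : W = M := by
  have hI : Null a G E (W ⊓ M) := ⟨le_inf hW.ge hM.ge, inf_le_left.trans hW.le,
    mem_normalizer_inf hW.norm hM.norm, fun u hu w hw => hW.comm u hu.1 w hw.1⟩
  have hIne : W ⊓ M ≠ fx E a := fun e => hx (e ▸ ⟨hxW, hxM⟩)
  rw [← h.null_eq_of_le hI hIne hW inf_le_left, h.null_eq_of_le hI hIne hM inf_le_right]

/-- Recentring `a` at a `2`-subgroup of `N(E)`. -/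
theorem recentre {T : Subgroup X} (hT : T ≤ G ⊓ normalizer (E : Set X)) (hT2 : IsPGroup 2 T) :
    ∃ g ∈ G ⊓ normalizer (E : Set X), Setup p r m (g⁻¹ * a * g) G V E ∧ fx E (g⁻¹ * a * g) = fx E a ∧
      cen (g⁻¹ * a * g) G E = cen a G E ∧
      (∀ W : Subgroup X, fx E a ≤ W → W ≤ E → a ∈ normalizer (W : Set X) → g⁻¹ * a * g ∈ normalizer (W : Set X)) ∧
      ∀ x ∈ T, ∃ e ∈ E, ∃ t, t ∈ G ∧ t ∈ normalizer (E : Set X) ∧
        g⁻¹ * a * g * t = t * (g⁻¹ * a * g) ∧ x = e * t := by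
  obtain ⟨g, hg, hgT⟩ := h.exists_conj_into hT hT2
  have hgi := (G ⊓ normalizer (E : Set X)).inv_mem hg
  have h1 := h.conj hgi.1
  rw [inv_inv, smul_eq_of_le_norm hgi.2] at h1
  have hc : g⁻¹ * a * g * a⁻¹ ∈ br (G ⊓ normalizer (E : Set X)) a := by
    have := Subgroup.commutator_mem_commutator hgi (mem_zpowers a)
    simpa [br, commutatorElement_def, mul_assoc] using this
  have hfx : fx E (g⁻¹ * a * g) = fx E a := by rw [h1.qgrp.fixed_eq_comm, h.qgrp.fixed_eq_comm]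
  refine ⟨g, hg, h1, hfx, by simp only [cen, hfx], fun W hge hle hWa => ?_, fun x hx => ?_⟩
  · have := mul_mem (h.br_norm_normalizer hc hge hle) hWa
    simpa [mul_assoc] using this
  · obtain ⟨e, he, t, ht, htE, -, hgx⟩ := hgT x hx
    refine ⟨g⁻¹ * e * g, conj_le_of_norm hg.2 he, g⁻¹ * t * g, ?_, ?_, ?_, ?_⟩
    · exact G.mul_mem (G.mul_mem hgi.1 (fx_le ht)) hg.1
    · exact mul_mem (mul_mem hgi.2 htE) hg.2
    · calc g⁻¹ * a * g * (g⁻¹ * t * g) = g⁻¹ * (a * t) * g := by group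
        _ = g⁻¹ * (t * a) * g := by rw [(mem_fx.mp ht).2]
        _ = _ := by group
    · calc x = g⁻¹ * (g * x * g⁻¹) * g := by group
        _ = g⁻¹ * (e * t) * g := by rw [hgx]
        _ = _ := by group

/-- A `2`-element trivial on `E/E'` lies in `E C(E)`. -/
theorem exists_split {u : X} (hu : u ∈ G ⊓ normalizer (E : Set X)) {k : ℕ} (hu2 : u ^ 2 ^ k = 1)
    (htriv : ∀ x ∈ E, x⁻¹ * (u * x * u⁻¹) ∈ fx E a) :
    ∃ e ∈ E, ∃ t ∈ G, (∀ x ∈ E, t * x = x * t) ∧ u = e * t := by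
  have hT2 : IsPGroup 2 (zpowers u) := by
    rintro ⟨y, hy⟩
    obtain ⟨i, rfl⟩ := hy
    refine ⟨k, Subtype.ext ?_⟩
    simp only [SubmonoidClass.coe_pow, OneMemClass.coe_one]
    rw [← zpow_natCast, zpow_comm, zpow_natCast, hu2, one_zpow]
  obtain ⟨g, -, h1, hfx, -, -, hT⟩ := h.recentre (zpowers_le.mpr hu) hT2
  obtain ⟨e, he, t, htG, htE, hta, hue⟩ := hT u (mem_zpowers u)
  refine ⟨e, he, t, htG, fun x hx => h1.qgrp.centralizes_br le_rfl h1.norm_E hta (fun y hy => ?_) x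
    (h1.qgrp.brE.ge hx), hue⟩
  have hy' : t * y * t⁻¹ ∈ E := conj_mem htE hy
  have hk : ⁅e, t * y * t⁻¹⁆ ∈ fx E a := h.qgrp.comm_mem he hy'
  have e1 : t * y * t⁻¹ = ⁅e, t * y * t⁻¹⁆⁻¹ * (u * y * u⁻¹) := by
    rw [hue, commutatorElement_def]; group
  rw [hfx, e1, h.qgrp.fixed_central (inv_mem hk) (conj_mem hu.2 hy), ← mul_assoc]
  exact mul_mem (htriv y hy) (inv_mem hk)

theorem comm_closure {S : Set X} (hS : S ⊆ E) {C : Subgroup X} (hC : ∀ x ∈ S, ∀ y ∈ S, ⁅x, y⁆ ∈ C) :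
    ∀ x ∈ closure S, ∀ y ∈ closure S, ⁅x, y⁆ ∈ C := by
  have hle : closure S ≤ E := (closure_le E).mpr hS
  have h1 : ∀ x ∈ S, ∀ y ∈ closure S, ⁅x, y⁆ ∈ C := by
    intro x hx y hy
    induction hy using Subgroup.closure_induction with
    | mem y hy => exact hC x hx y hy
    | one => rw [commutatorElement_one_right]; exact C.one_mem
    | mul y z hy hz ihy ihz => rw [h.qgrp.comm_mul_right (hS hx) (hle hy) (hle hz)]; exact C.mul_mem ihy ihz
    | inv y hy ihy =>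
      have e := h.qgrp.comm_mul_right (hS hx) (hle hy) (E.inv_mem (hle hy))
      rw [mul_inv_cancel, commutatorElement_one_right] at e
      rw [eq_inv_of_mul_eq_one_right e.symm]; exact C.inv_mem ihy
  intro x hx y hy
  induction hx using Subgroup.closure_induction with
  | mem x hx => exact h1 x hx y hy
  | one => rw [commutatorElement_one_left]; exact C.one_mem
  | mul x z hx hz ihx ihz => rw [h.qgrp.comm_mul_left (hle hx) (hle hz) (hle hy)]; exact C.mul_mem ihx ihz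
  | inv x hx ihx =>
    have e := h.qgrp.comm_mul_left (hle hx) (E.inv_mem (hle hx)) (hle hy)
    rw [mul_inv_cancel, commutatorElement_one_left] at e
    rw [eq_inv_of_mul_eq_one_right e.symm]; exact C.inv_mem ihx

theorem m_pos : 0 < m := by
  haveI := Fact.mk Nat.prime_two
  refine Nat.pos_of_ne_zero fun hm => h.act.cop ?_
  have hr : r = 2 := by rw [h.hrm, hm, pow_zero]
  obtain ⟨k, hk⟩ := IsPGroup.iff_card.mp h.isTwo_E
  have hk0 : k ≠ 0 := fun h0 => h.neE (Subgroup.card_eq_one.mp (by rw [hk, h0, pow_zero]))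
  rw [hr]
  exact (hk ▸ dvd_pow_self 2 hk0 : 2 ∣ Nat.card E).trans (Subgroup.card_dvd_of_le h.E_le)

theorem pow_norm_E (n : ℕ) : a ^ n ∈ normalizer (E : Set X) := Subgroup.pow_mem _ h.norm_E n

theorem pow_conj_fixed {z : X} (hz : z ∈ fx E a) (n : ℕ) : a ^ n * z * (a ^ n)⁻¹ = z := by
  rw [((show Commute a z from (mem_fx.mp hz).2).pow_left n).eq, mul_inv_cancel_right]

theorem pow_inv_conj_fixed {z : X} (hz : z ∈ fx E a) (n : ℕ) : (a ^ n)⁻¹ * z * a ^ n = z := by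
  rw [mul_assoc, ← ((show Commute a z from (mem_fx.mp hz).2).pow_left n).eq, inv_mul_cancel_left]

/-- The product of two opposite translates of `e` commutes with `e`. -/
theorem pair_comm {e : X} (he : e ∈ E) (n : ℕ) :
    ⁅a ^ n * e * (a ^ n)⁻¹ * ((a ^ n)⁻¹ * e * a ^ n), e⁆ = 1 := by
  have hP : a ^ n * e * (a ^ n)⁻¹ ∈ E := conj_mem (h.pow_norm_E n) he
  have hQ : (a ^ n)⁻¹ * e * a ^ n ∈ E := by
    simpa using conj_mem (inv_mem (h.pow_norm_E n)) he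
  rw [h.qgrp.comm_mul_left hP hQ he]
  have e1 : ⁅(a ^ n)⁻¹ * e * a ^ n, e⁆ = (a ^ n)⁻¹ * ⁅e, a ^ n * e * (a ^ n)⁻¹⁆ * a ^ n := by
    simp only [commutatorElement_def]; group
  rw [e1, h.pow_inv_conj_fixed (h.qgrp.comm_mem he hP), ← commutatorElement_inv e, inv_mul_cancel]

/-- The square of the product of two opposite translates of `e`. -/
theorem pair_sq {e : X} (he : e ∈ E) (n : ℕ) :
    (a ^ n * e * (a ^ n)⁻¹ * ((a ^ n)⁻¹ * e * a ^ n)) ^ 2 = ⁅e, a ^ (2 * n) * e * (a ^ (2 * n))⁻¹⁆ := by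
  set P := a ^ n * e * (a ^ n)⁻¹ with hPdef
  set Q := (a ^ n)⁻¹ * e * a ^ n with hQdef
  have hP : P ∈ E := conj_mem (h.pow_norm_E n) he
  have hQ : Q ∈ E := by simpa [hQdef] using conj_mem (inv_mem (h.pow_norm_E n)) he
  have he2 : e * e ∈ fx E a := by rw [← sq]; exact h.qgrp.pow_q_mem he
  have hPP : P * P = e * e := by
    rw [← h.pow_conj_fixed he2 n, hPdef]; group
  have hQQ : Q * Q = e * e := by
    rw [← h.pow_inv_conj_fixed he2 n, hQdef]; group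
  have hk : ⁅Q, P⁆ ∈ fx E a := h.qgrp.comm_mem hQ hP
  have h4 : (e * e) * (e * e) = 1 := h.fixed_invol he2
  have e1 : (P * Q) ^ 2 = ⁅Q, P⁆ := by
    calc (P * Q) ^ 2 = P * (⁅Q, P⁆ * P) * (Q * Q) := by rw [sq, commutatorElement_def]; group
      _ = P * ⁅Q, P⁆ * P * (Q * Q) := by group
      _ = ⁅Q, P⁆ * (P * P) * (Q * Q) := by rw [← h.qgrp.fixed_central hk hP, mul_assoc ⁅Q, P⁆]
      _ = ⁅Q, P⁆ := by rw [hPP, hQQ, mul_assoc, h4, mul_one]
  have e2 : a ^ n * ⁅Q, P⁆ * (a ^ n)⁻¹ = ⁅e, a ^ (2 * n) * e * (a ^ (2 * n))⁻¹⁆ := by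
    rw [hPdef, hQdef, two_mul, pow_add]; simp only [commutatorElement_def]; group
  rw [e1, ← e2, h.pow_conj_fixed hk]

theorem orbit_comm_of_sq {e : X} (he : e ∈ E)
    (hsq : ∀ n : ℕ, (a ^ n * e * (a ^ n)⁻¹ * ((a ^ n)⁻¹ * e * a ^ n)) ^ 2 ∈ cen a G E) (n : ℕ) :
    ⁅a ^ n * e * (a ^ n)⁻¹, e⁆ ∈ cen a G E := by
  have hodd : 2 * ((r + 1) / 2) = r + 1 := by
    have : 2 ∣ 2 ^ m := dvd_pow_self 2 h.m_pos.ne'
    have := h.hrm
    omega
  have e1 : a ^ (2 * (n * ((r + 1) / 2))) = a ^ n := by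
    rw [show 2 * (n * ((r + 1) / 2)) = n * (r + 1) by rw [mul_left_comm, hodd],
      mul_add, mul_one, pow_add, mul_comm n r, pow_mul, h.act.pow_r, one_pow, one_mul]
  have h1 := hsq (n * ((r + 1) / 2))
  rw [h.pair_sq he, e1] at h1
  rw [← commutatorElement_inv]; exact inv_mem h1

theorem null_orb {e : X} (he : e ∈ E) (hc : ∀ n : ℕ, ⁅a ^ n * e * (a ^ n)⁻¹, e⁆ ∈ cen a G E) :
    Null a G E (orb a E e) ∧ e ∈ orb a E e := by
  have hsub : ((fx E a : Set X) ∪ Set.range fun n : ℕ => a ^ n * e * (a ^ n)⁻¹) ⊆ (E : Set X) := by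
    rintro x (hx | ⟨n, rfl⟩)
    · exact fx_le hx
    · exact conj_mem (h.pow_norm_E n) he
  refine ⟨⟨fun x hx => subset_closure (Or.inl hx), (closure_le E).mpr hsub, ?_, ?_⟩,
    subset_closure (Or.inr ⟨0, by simp⟩)⟩
  · refine mem_normalizer_of_conj_le fun x hx => ?_
    induction hx using Subgroup.closure_induction with
    | mem x hx =>
      rcases hx with hx | ⟨n, rfl⟩
      · rw [(mem_fx'.mp hx).2]; exact subset_closure (Or.inl hx)
      · exact subset_closure (Or.inr ⟨n + 1, by simp only [pow_succ']; group⟩)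
    | one => simp
    | mul x y _ _ hx hy => simpa [mul_assoc] using mul_mem hx hy
    | inv x _ hx => simpa [mul_assoc] using inv_mem hx
  · refine h.comm_closure hsub ?_
    have key : ∀ i j : ℕ, i ≤ j →
        ⁅a ^ j * e * (a ^ j)⁻¹, a ^ i * e * (a ^ i)⁻¹⁆ ∈ cen a G E := by
      intro i j hij
      obtain ⟨k, rfl⟩ := Nat.exists_eq_add_of_le hij
      have e1 : ⁅a ^ (i + k) * e * (a ^ (i + k))⁻¹, a ^ i * e * (a ^ i)⁻¹⁆ =
          a ^ i * ⁅a ^ k * e * (a ^ k)⁻¹, e⁆ * (a ^ i)⁻¹ := by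
        simp only [commutatorElement_def, pow_add]; group
      rw [e1, h.pow_conj_fixed (hc k).1]
      exact hc k
    rintro x hx y hy
    rcases hx with hx | ⟨i, rfl⟩
    · rw [commutatorElement_eq_one_iff_mul_comm.mpr (h.qgrp.fixed_central hx (hsub hy))]; exact one_mem _
    rcases hy with hy | ⟨j, rfl⟩
    · rw [commutatorElement_eq_one_iff_mul_comm.mpr
        (h.qgrp.fixed_central hy (hsub (Or.inr ⟨i, rfl⟩))).symm]; exact one_mem _
    · rcases Nat.le_total j i with hji | hij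
      · exact key j i hji
      · rw [← commutatorElement_inv]; exact inv_mem (key i j hij)

/-- Nothing outside `E'` is orthogonal to `E` modulo `Z₀`. -/
theorem mem_fixed_of_perp (hk : Nat.card E ≠ 2 ^ (2 * m) * Nat.card (fx E a)) {e : X} (he : e ∈ E)
    (hperp : ∀ x ∈ E, ⁅e, x⁆ ∈ cen a G E) : e ∈ fx E a := by
  by_contra heΦ
  obtain ⟨hN, hmem⟩ := h.null_orb he fun n => by
    rw [← commutatorElement_inv]; exact inv_mem (hperp _ (conj_mem (h.pow_norm_E n) he))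
  suffices hE : orb a E e = E from h.not_null_self hk (by rwa [hE] at hN)
  refine le_antisymm hN.le fun x hx => h.null_perp hN (fun e' => heΦ (e' ▸ hmem)) hx fun w hw => ?_
  induction hw using Subgroup.closure_induction with
  | mem w hw =>
    rcases hw with hw | ⟨n, rfl⟩
    · rw [commutatorElement_eq_one_iff_mul_comm.mpr (h.qgrp.fixed_central hw hx).symm]; exact one_mem _
    · have hx' : (a ^ n)⁻¹ * x * a ^ n ∈ E := by simpa using conj_mem (inv_mem (h.pow_norm_E n)) hx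
      have e1 : ⁅x, a ^ n * e * (a ^ n)⁻¹⁆ = a ^ n * ⁅e, (a ^ n)⁻¹ * x * a ^ n⁆⁻¹ * (a ^ n)⁻¹ := by
        simp only [commutatorElement_def]; group
      rw [e1, h.pow_conj_fixed (inv_mem (hperp _ hx')).1]
      exact inv_mem (hperp _ hx')
  | one => rw [commutatorElement_one_right]; exact one_mem _
  | mul u v hu hv ihu ihv =>
    rw [h.qgrp.comm_mul_right hx (hN.le hu) (hN.le hv)]; exact mul_mem ihu ihv
  | inv u hu ihu =>
    have e1 := h.qgrp.comm_mul_right hx (hN.le hu) (E.inv_mem (hN.le hu))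
    rw [mul_inv_cancel, commutatorElement_one_right] at e1
    rw [eq_inv_of_mul_eq_one_right e1.symm]; exact inv_mem ihu

end Setup

end Cfsg.Agent.Invol.Shult
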