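import Mathlib
import Cfsg.Agent.Lib.Invol.Shult.Recentre

/-!
Two frames whose derived groups normalize each other's frame and commute modulo `Z₀` (twins) cannot exist.
-/

set_option autoImplicit false

namespace Cfsg.Agent.Invol.Shult

open Subgroup
open scoped Pointwise commutatorElement
open Cfsg.Agent.Grp (IsSylowIn)

variable {X : Type*} [Group X] {a a₂ : X} {p r m : ℕ} {G V E E₂ W₀ W₂ S : Subgroup X}

theorem JG_congr {a' : X} (hfx : fx E a' = fx E a) (hcen : cen a' G E = cen a G E) {u : X} :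
    JG a' G E u ↔ JG a G E u := by
  simp only [JG, InJ, hfx, hcen]

theorem cst_congr (hcen : cen a₂ G E₂ = cen a G E) (x : X) : cst a₂ G E₂ x = cst a G E x := by
  simp only [cst, hcen]

/-- `e` is an `E`-part of `w`. -/
def IsPart (E : Subgroup X) (w e : X) : Prop := e ∈ E ∧ ∀ x ∈ E, e⁻¹ * w * x = x * (e⁻¹ * w)

theorem IsPart.comm_eq {w e x : X} (hp : IsPart E w e) (hx : x ∈ E) : ⁅x, w⁆ = ⁅x, e⁆ := by
  have h1 := hp.2 _ (E.inv_mem hx)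
  simp only [commutatorElement_def]
  calc x * w * x⁻¹ * w⁻¹ = x * e * (e⁻¹ * w * x⁻¹) * w⁻¹ := by group
    _ = x * e * (x⁻¹ * (e⁻¹ * w)) * w⁻¹ := by rw [h1]
    _ = _ := by group

/-- Two frames whose derived groups normalize each other's frame and commute modulo `Z₀`. -/
structure Twin (p r m : ℕ) (a a₂ : X) (G V E E₂ : Subgroup X) : Prop where
  s1 : Setup p r m a G V E
  s2 : Setup p r m a₂ G V E₂
  hk1 : Nat.card E ≠ 2 ^ (2 * m) * Nat.card (fx E a)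
  hk2 : Nat.card E₂ ≠ 2 ^ (2 * m) * Nat.card (fx E₂ a₂)
  cen_eq : cen a₂ G E₂ = cen a G E
  JG_eq : ∀ u, JG a₂ G E₂ u ↔ JG a G E u
  le12 : fx E₂ a₂ ≤ normalizer (E : Set X)
  le21 : fx E a ≤ normalizer (E₂ : Set X)
  comm : ∀ z ∈ fx E a, ∀ w ∈ fx E₂ a₂, ⁅z, w⁆ ∈ cen a G E
  disj : ∀ z ∈ fx E a, z ∈ fx E₂ a₂ → z ∈ cen a G E

namespace Setup

variable [Finite X] [Fact p.Prime] (h : Setup p r m a G V E)
include h

theorem JG_smul {g : X} (hg : g ∈ G) {u : X} :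
    JG (g * a * g⁻¹) G (MulAut.conj g • E) u ↔ JG a G E u := by
  have key : ∀ {k : X}, k ∈ G →
      (InJ (g * a * g⁻¹) G (MulAut.conj g • E) (k⁻¹ * u * k) ↔ InJ a G E ((k * g)⁻¹ * u * (k * g))) := by
    intro k hk
    unfold InJ
    rw [fx_smul, h.cen_smul hg, mem_smul_iff']
    have e : g⁻¹ * (k⁻¹ * u * k) * g = (k * g)⁻¹ * u * (k * g) := by group
    rw [e]
    refine and_congr_right fun _ => not_congr ⟨fun hz => ?_, fun hz => ?_⟩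
    · rw [← e, show g⁻¹ * (k⁻¹ * u * k) * g = g⁻¹ * (k⁻¹ * u * k) * g⁻¹⁻¹ by rw [inv_inv],
        h.cen_conj_eq hz (G.inv_mem hg)]
      exact hz
    · have h1 := h.cen_conj_eq hz hg
      rw [← e] at h1 hz
      rw [show g * (g⁻¹ * (k⁻¹ * u * k) * g) * g⁻¹ = k⁻¹ * u * k by group] at h1
      rw [h1]; exact hz
  constructor
  · rintro ⟨k, hk, hu⟩
    exact ⟨k * g, G.mul_mem hk hg, (key hk).mp hu⟩
  · rintro ⟨k, hk, hu⟩
    refine ⟨k * g⁻¹, G.mul_mem hk (G.inv_mem hg), (key (G.mul_mem hk (G.inv_mem hg))).mpr ?_⟩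
    rw [inv_mul_cancel_right]; exact hu

theorem hk_smul (hk : Nat.card E ≠ 2 ^ (2 * m) * Nat.card (fx E a)) (g : X) :
    Nat.card (MulAut.conj g • E : Subgroup X) ≠
      2 ^ (2 * m) * Nat.card (fx (MulAut.conj g • E) (g * a * g⁻¹)) := by
  rw [fx_smul, Grp.card_conj_smul, Grp.card_conj_smul]; exact hk

theorem exists_InJ' (hk : Nat.card E ≠ 2 ^ (2 * m) * Nat.card (fx E a)) : ∃ f, InJ a G E f := by
  by_contra hc
  push Not at hc
  refine h.not_null_self hk ⟨fx_le, le_rfl, h.norm_E, fun x hx y hy => ?_⟩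
  by_contra hxy
  exact hc _ ⟨h.qgrp.comm_mem hx hy, hxy⟩

theorem normalizer_ne_of {Y : Subgroup X} (hY : Y ≤ G) (hY2 : IsPGroup 2 Y) (hYa : a ∈ normalizer (Y : Set X))
    {x : X} (hxE : x ∈ E) (hxY : x ∈ Y) (hxΦ : x ∉ fx E a) : G ⊓ normalizer (Y : Set X) ≠ G := fun e => by
  haveI := Fact.mk Nat.prime_two
  have hc : Y ≤ centralizer (G : Set X) :=
    h.small Y hY (e.ge.trans inf_le_right) hYa fun e' => by
      have hG2 : IsPGroup 2 G := e' ▸ hY2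
      haveI : Group.IsNilpotent G := hG2.isNilpotent
      haveI : Nontrivial G := (Subgroup.nontrivial_iff_ne_bot G).mpr fun e'' =>
        h.neE (le_bot_iff.mp (e'' ▸ h.E_le))
      refine (IsSolvable.commutator_lt_top_of_nontrivial ↥G).ne ?_
      apply Subgroup.map_injective G.subtype_injective
      rw [Subgroup.map_subtype_commutator, h.perfect, ← MonoidHom.range_eq_map, Subgroup.range_subtype]
  exact hxΦ (h.qgrp.center_le_fixed ⟨hxE, Subgroup.mem_centralizer_iff.mpr fun y hy =>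
    Subgroup.mem_centralizer_iff.mp (hc hxY) y (h.E_le hy)⟩)

/-- An element of `J^G` normalizing `E` and trivial on `E'/Z₀`, outside `E'`, is trivial on `E/E'`. -/
theorem pure_trivial (hk : Nat.card E ≠ 2 ^ (2 * m) * Nat.card (fx E a)) {u : X} (hu : JG a G E u)
    (huE : u ∈ normalizer (E : Set X)) (hΦ : ∀ z ∈ fx E a, ⁅u, z⁆ ∈ cen a G E) (huΦ : u ∉ fx E a) :
    ∀ x ∈ E, x⁻¹ * (u * x * u⁻¹) ∈ fx E a := by
  haveI := Fact.mk Nat.prime_two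
  by_contra hc
  push Not at hc
  obtain ⟨x₀, hx₀, hne⟩ := hc
  have huG := h.JG_mem_G hu
  have huu := h.JG_invol hu
  have huN : u ∈ G ⊓ normalizer (E : Set X) := ⟨huG, huE⟩
  obtain ⟨-, -, -, hfi⟩ := h.null_fixd_of_trivial huN hΦ (fun x hx => by simp [huu]) hx₀ hne
  have hT2 : IsPGroup 2 (zpowers u) := by
    rintro ⟨y, hy⟩
    obtain ⟨i, rfl⟩ := hy
    refine ⟨1, Subtype.ext ?_⟩
    simp only [SubmonoidClass.coe_pow, OneMemClass.coe_one, pow_one]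
    rw [← zpow_natCast, zpow_comm, zpow_natCast, sq, huu, one_zpow]
  obtain ⟨g, -, h1, hfx, hcen, -, hT⟩ := h.recentre (zpowers_le.mpr huN) hT2
  obtain ⟨e, he, t, htG, htE, hta, hue⟩ := hT u (mem_zpowers u)
  set a₁ := g⁻¹ * a * g
  have htt : t * t ∈ fx E a := by
    rw [← hfx]
    refine mem_fx.mpr ⟨?_, ((show Commute a₁ t from hta).mul_right hta).eq⟩
    have e1 : t * t = (e * (t * e * t⁻¹))⁻¹ * (u * u) := by rw [hue]; group
    rw [e1, huu, mul_one]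
    exact E.inv_mem (E.mul_mem he (conj_mem htE he))
  have hefix : e ∈ fixd a E u := by
    refine (h.mem_fixd huE).mpr ⟨he, ?_⟩
    have e1 : e⁻¹ * (u * e * u⁻¹) = (e⁻¹ * (u * u) * (t * t)⁻¹) * e⁻¹ := by rw [hue]; group
    rw [e1, huu, mul_one, mul_assoc, h.qgrp.fixed_central (inv_mem htt) (E.inv_mem he), ← mul_assoc,
      ← mul_inv_rev, ← sq]
    exact mul_mem (inv_mem (h.qgrp.pow_q_mem he)) (inv_mem htt)
  obtain ⟨x, hx, z, hz, hxz⟩ := (h.mem_img huE).mp (hfi hefix)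
  have hk' : z * ⁅x, e⁻¹⁆ ∈ fx E a := mul_mem hz (h.qgrp.comm_mem hx (E.inv_mem he))
  have e1 : x * u * x⁻¹ = z * ⁅x, e⁻¹⁆ * t := by
    have h2 : u * x⁻¹ * u⁻¹ = z * e⁻¹ * x⁻¹ := by rw [hxz]; group
    calc x * u * x⁻¹ = x * (u * x⁻¹ * u⁻¹) * u := by group
      _ = x * (z * e⁻¹ * x⁻¹) * (e * t) := by rw [h2, hue]
      _ = (x * z) * e⁻¹ * x⁻¹ * e * t := by group
      _ = (z * x) * e⁻¹ * x⁻¹ * e * t := by rw [h.qgrp.fixed_central hz hx]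
      _ = _ := by rw [commutatorElement_def]; group
  have hJ : JG a₁ G E (x * u * x⁻¹) := by
    rw [JG_congr hfx hcen]
    obtain ⟨k, hk0, hku⟩ := hu
    refine ⟨x * k, G.mul_mem (h.E_le hx) hk0, ?_⟩
    rwa [show (x * k)⁻¹ * (x * u * x⁻¹) * (x * k) = k⁻¹ * u * k by group]
  have h3 := h1.no_fixed_bad (hfx.symm ▸ hk) hJ
    (by rw [e1]; exact ((show Commute a₁ _ from (mem_fx.mp (hfx.symm ▸ hk')).2).mul_right hta).eq)
    (mul_mem (mul_mem (Subgroup.le_normalizer hx) huE) (inv_mem (Subgroup.le_normalizer hx)))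
  rw [hfx] at h3
  refine huΦ ?_
  have h4 : x⁻¹ * (x * u * x⁻¹) * x = x * u * x⁻¹ := by
    rw [mul_assoc, h.qgrp.fixed_central h3 hx, inv_mul_cancel_left]
  rw [show x⁻¹ * (x * u * x⁻¹) * x = u by group] at h4
  rw [h4]; exact h3

end Setup

/-- The common centralizer modulo `Z₀`. -/
def twK (a a₂ : X) (G E E₂ : Subgroup X) : Subgroup X :=
  (⨅ z : ↥(fx E a), cst a G E (z : X)) ⊓ ⨅ w : ↥(fx E₂ a₂), cst a₂ G E₂ (w : X)

namespace Twin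

variable [Finite X] [Fact p.Prime] (t : Twin p r m a a₂ G V E E₂)
include t

theorem symm : Twin p r m a₂ a G V E₂ E := by
  refine ⟨t.s2, t.s1, t.hk2, t.hk1, t.cen_eq.symm, fun u => (t.JG_eq u).symm, t.le21, t.le12, fun z hz w hw => ?_,
    fun z hz hw => t.cen_eq ▸ t.disj z hw hz⟩
  rw [t.cen_eq, ← commutatorElement_inv]
  exact inv_mem (t.comm w hw z hz)

theorem mem_twK {g : X} : g ∈ twK a a₂ G E E₂ ↔
    g ∈ G ∧ (∀ z ∈ fx E a, ⁅g, z⁆ ∈ cen a G E) ∧ ∀ w ∈ fx E₂ a₂, ⁅g, w⁆ ∈ cen a G E := by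
  simp only [twK, Subgroup.mem_inf, Subgroup.mem_iInf]
  constructor
  · rintro ⟨h1, h2⟩
    exact ⟨((t.s1.mem_cst G.one_mem).mp (h1 ⟨1, one_mem _⟩)).1,
      fun z hz => ((t.s1.mem_cst (t.s1.fx_le_G hz)).mp (h1 ⟨z, hz⟩)).2,
      fun w hw => t.cen_eq ▸ ((t.s2.mem_cst (t.s2.fx_le_G hw)).mp (h2 ⟨w, hw⟩)).2⟩
  · rintro ⟨hg, h1, h2⟩
    exact ⟨fun z => (t.s1.mem_cst (t.s1.fx_le_G z.2)).mpr ⟨hg, h1 z z.2⟩,
      fun w => (t.s2.mem_cst (t.s2.fx_le_G w.2)).mpr ⟨hg, t.cen_eq.symm ▸ h2 w w.2⟩⟩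

theorem twK_le : twK a a₂ G E E₂ ≤ G := fun _ hg => (t.mem_twK.mp hg).1

theorem sup_le_twK : fx E a ⊔ fx E₂ a₂ ≤ twK a a₂ G E E₂ := by
  refine sup_le (fun z hz => t.mem_twK.mpr ⟨t.s1.fx_le_G hz, fun z' hz' => ?_, fun w hw => t.comm z hz w hw⟩)
    (fun w hw => t.mem_twK.mpr ⟨t.s2.fx_le_G hw, fun z hz => ?_, fun w' hw' => ?_⟩)
  · rw [commutatorElement_eq_one_iff_mul_comm.mpr (t.s1.qgrp.fixed_central hz (fx_le hz'))]; exact one_mem _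
  · rw [← commutatorElement_inv]; exact inv_mem (t.comm z hz w hw)
  · rw [commutatorElement_eq_one_iff_mul_comm.mpr (t.s2.qgrp.fixed_central hw (fx_le hw'))]; exact one_mem _

theorem sup_two : IsPGroup 2 (fx E a ⊔ fx E₂ a₂ : Subgroup X) := by
  haveI := Fact.mk Nat.prime_two
  refine IsPGroup.to_sup_of_normal_right' (t.s1.isTwo_E.to_le fx_le) (t.s2.isTwo_E.to_le fx_le) ?_
  exact fun z hz => t.s2.norm_fixed' (t.le21 hz)

/-- Recentring the first frame at a `2`-subgroup of the common centralizer. -/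
theorem recentre_left (hS : S ≤ twK a a₂ G E E₂) (hS2 : IsPGroup 2 S) (hle : fx E a ⊔ fx E₂ a₂ ≤ S) :
    ∃ (a' : X) (E' : Subgroup X), Twin p r m a' a₂ G V E' E₂ ∧ fx E' a' = fx E a ∧
      S ≤ normalizer (E' : Set X) := by
  obtain ⟨f, hf⟩ := t.s1.exists_InJ' t.hk1
  obtain ⟨x, hx, hxf, hSN⟩ := t.s1.exists_point' hf
    (fun s hs => (t.s1.mem_cst (t.s1.InJ_mem hf)).mpr ⟨t.twK_le (hS hs), (t.mem_twK.mp (hS hs)).2.1 f hf.1⟩) hS2
  have h' := t.s1.conj hx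
  have hcen : cen (x * a * x⁻¹) G (MulAut.conj x • E) = cen a G E := t.s1.cen_smul hx
  have hf' : InJ (x * a * x⁻¹) G (MulAut.conj x • E) f := by
    refine ⟨?_, hcen.symm ▸ hf.2⟩
    rw [fx_smul, mem_smul_iff', mul_assoc, ← hxf, inv_mul_cancel_left]; exact hf.1
  have hfx : fx (MulAut.conj x • E) (x * a * x⁻¹) = fx E a := by
    refine (Subgroup.eq_of_le_of_card_ge (fun z hz => ?_) (by rw [fx_smul, Grp.card_conj_smul])).symm
    refine h'.point_common hf' (G.inv_mem hx) ?_ ?_ (hSN (hle (mem_sup_left hz)))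
    · rw [fx_smul, inv_inv]; exact conj_mem_smul hf.1
    · rw [fx_smul, inv_inv]; exact conj_mem_smul hz
  refine ⟨_, _, ⟨h', t.s2, t.s1.hk_smul t.hk1 x, t.hk2, t.cen_eq.trans hcen.symm,
    fun u => (t.JG_eq u).trans (t.s1.JG_smul hx).symm, fun w hw => hSN (hle (mem_sup_right hw)), ?_, ?_, ?_⟩,
    hfx, hSN⟩
  · rw [hfx]; exact t.le21
  · rw [hfx, hcen]; exact t.comm
  · rw [hfx, hcen]; exact t.disj

theorem triv₂ {w : X} (hw : w ∈ fx E₂ a₂) : ∀ x ∈ E, x⁻¹ * (w * x * w⁻¹) ∈ fx E a := by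
  intro x hx
  by_cases hwz : w ∈ cen a G E
  · rw [t.s1.cen_conj_eq (g := x⁻¹) hwz (G.inv_mem (t.s1.E_le hx)) |> fun _ =>
      t.s1.cen_central hwz (t.s1.E_le hx), mul_inv_cancel_right, inv_mul_cancel]
    exact one_mem _
  refine t.s1.pure_trivial t.hk1 ((t.JG_eq w).mp (t.s2.JG_of_InJ ⟨hw, t.cen_eq.symm ▸ hwz⟩)) (t.le12 hw)
    (fun z hz => ?_) (fun hwΦ => hwz (t.disj w hwΦ hw)) x hx
  rw [← commutatorElement_inv]; exact inv_mem (t.comm z hz w hw)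

theorem exists_part {w : X} (hw : w ∈ fx E₂ a₂) (hwz : w ∉ cen a G E) :
    ∃ e, IsPart E w e ∧ e ∉ fx E a := by
  obtain ⟨e, he, c, -, hc, rfl⟩ := t.s1.exists_split (k := 1) ⟨t.s2.fx_le_G hw, t.le12 hw⟩
    (by rw [pow_one, sq]; exact t.s2.fixed_invol hw) (t.triv₂ hw)
  refine ⟨e, ⟨he, fun x hx => by rw [inv_mul_cancel_left]; exact hc x hx⟩, fun heΦ => hwz (t.disj _ ?_ hw)⟩
  refine t.s1.mem_of_centralizes ((t.JG_eq _).mp (t.s2.JG_of_InJ ⟨hw, t.cen_eq.symm ▸ hwz⟩)) fun x hx => ?_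
  exact ((show Commute e x from t.s1.qgrp.fixed_central heΦ hx).mul_left (hc x hx)).eq

theorem mem_twK_of_perp {w e x : X} (hw : w ∈ fx E₂ a₂) (hwz : w ∉ cen a G E) (hp : IsPart E w e) (hx : x ∈ E)
    (hxe : ⁅x, e⁆ ∈ cen a G E) : x ∈ twK a a₂ G E E₂ := by
  refine t.mem_twK.mpr ⟨t.s1.E_le hx, fun z hz => ?_, fun w' hw' => ?_⟩
  · rw [commutatorElement_eq_one_iff_mul_comm.mpr (t.s1.qgrp.fixed_central hz hx).symm]; exact one_mem _
  by_cases hwz' : w' ∈ cen a G E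
  · rw [commutatorElement_eq_one_iff_mul_comm.mpr (t.s1.cen_central hwz' (t.s1.E_le hx)).symm]; exact one_mem _
  obtain ⟨e', hp', -⟩ := t.exists_part hw' hwz'
  have hk : ⁅x, w'⁆ ∈ fx E a := hp'.comm_eq hx ▸ t.s1.qgrp.comm_mem hx hp'.1
  have hxw : ⁅x, w⁆ ∈ cen a G E := hp.comm_eq hx ▸ hxe
  have hd : x * w' * x⁻¹ ∈ fx E₂ a₂ := by
    refine t.s2.point_common (f := w) (g := x) ⟨hw, t.cen_eq.symm ▸ hwz⟩ (t.s1.E_le hx) ?_ (by simpa [mul_assoc] using hw') ?_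
    · have h1 : x⁻¹ * ⁅x, w⁆ * x = ⁅x, w⁆ := by
        rw [mul_assoc, t.s1.cen_central hxw (t.s1.E_le hx), inv_mul_cancel_left]
      have e1 : x⁻¹ * w * x = (x⁻¹ * ⁅x, w⁆ * x)⁻¹ * w := by rw [commutatorElement_def]; group
      rw [e1, h1]
      exact mul_mem (inv_mem (t.cen_eq.symm ▸ hxw : ⁅x, w⁆ ∈ cen a₂ G E₂).1) hw
    · have e1 : x * w' * x⁻¹ = ⁅x, w'⁆ * w' := by rw [commutatorElement_def]; group
      rw [e1]
      exact mul_mem (t.le21 hk) (Subgroup.le_normalizer (fx_le hw'))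
  refine t.disj _ hk ?_
  rw [commutatorElement_def]
  exact mul_mem hd (inv_mem hw')

theorem part_fixed {w e u : X} (hp : IsPart E w e) (hu : u ∈ normalizer (E : Set X)) (hwu : u * w = w * u) :
    e ∈ fixd a E u := by
  refine (t.s1.mem_fixd hu).mpr ⟨hp.1, t.s1.qgrp.center_le_fixed ⟨E.mul_mem (E.inv_mem hp.1) (conj_mem hu hp.1),
    Subgroup.mem_centralizer_iff.mpr fun x hx => ?_⟩⟩
  set c := e⁻¹ * w with hc
  have hcu : ∀ y ∈ E, u * c * u⁻¹ * y = y * (u * c * u⁻¹) := by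
    intro y hy
    have hy' : u⁻¹ * y * u ∈ E := conj_le_of_norm hu hy
    calc u * c * u⁻¹ * y = u * (c * (u⁻¹ * y * u)) * u⁻¹ := by group
      _ = u * ((u⁻¹ * y * u) * c) * u⁻¹ := by rw [hp.2 _ hy']
      _ = _ := by group
  have e1 : e⁻¹ * (u * e * u⁻¹) = c * (u * c * u⁻¹)⁻¹ := by
    calc e⁻¹ * (u * e * u⁻¹) = e⁻¹ * (u * w) * c⁻¹ * u⁻¹ := by rw [hc]; group
      _ = e⁻¹ * (w * u) * c⁻¹ * u⁻¹ := by rw [hwu]
      _ = _ := by rw [hc]; group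
  rw [e1]
  exact (((show Commute c x from hp.2 x hx).mul_left (show Commute (u * c * u⁻¹) x from hcu x hx).inv_left).eq).symm

/-- The squares of elements of `E₂` trivial on `E/E'` lie in `Z₀`. -/
theorem sq_mem_cen {u : X} (hu : u ∈ E₂) (huN : u ∈ normalizer (E : Set X))
    (htriv : ∀ x ∈ E, x⁻¹ * (u * x * u⁻¹) ∈ fx E a) : u ^ 2 ∈ cen a G E := by
  have hf : u ^ 2 ∈ fx E₂ a₂ := t.s2.qgrp.pow_q_mem hu
  by_contra hfz
  have hu4 : u ^ 2 ^ 2 = 1 := by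
    rw [show (2 : ℕ) ^ 2 = 2 + 2 by norm_num, pow_add]; exact t.s2.fixed_invol hf
  obtain ⟨e, he, c, -, hc, hue⟩ := t.s1.exists_split ⟨t.s2.E_le hu, huN⟩ hu4 htriv
  refine hfz (t.disj _ (t.s1.mem_of_centralizes ((t.JG_eq _).mp (t.s2.JG_of_InJ ⟨hf, t.cen_eq.symm ▸ hfz⟩))
    fun x hx => ?_) hf)
  have e1 : u ^ 2 = e * e * (c * c) := by
    calc u ^ 2 = e * (c * e) * c := by rw [hue, sq]; group
      _ = e * (e * c) * c := by rw [hc e he]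
      _ = _ := by group
  have he2 : e * e ∈ fx E a := by rw [← sq]; exact t.s1.qgrp.pow_q_mem he
  rw [e1]
  exact ((show Commute (e * e) x from t.s1.qgrp.fixed_central he2 hx).mul_left
    ((show Commute c x from hc x hx).mul_left (hc x hx))).eq

/-- A common proper subgroup containing both frames is impossible. -/
theorem final (hV : Null a G E W₀) (hVne : W₀ ≠ fx E a) (hW₂ : W₂ ≤ E₂) (hW₂Φ : fx E₂ a₂ ≤ W₂)
    (hW₂N : W₂ ≤ normalizer (E : Set X)) (hVN : W₀ ≤ normalizer (E₂ : Set X))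
    (hcomm : ∀ v ∈ W₀, ∀ w ∈ W₂, ⁅v, w⁆ ∈ cen a G E) (hEW : ∀ x ∈ E, ∀ w ∈ W₂, ⁅x, w⁆ ∈ W₀)
    (hE₂V : ∀ x ∈ E₂, ∀ v ∈ W₀, ⁅x, v⁆ ∈ W₂) : False := by
  haveI := Fact.mk Nat.prime_two
  obtain ⟨g, -, h1, hfx, hcen, hinv, hT⟩ :=
    t.s1.recentre (T := W₂) (le_inf (hW₂.trans t.s2.E_le) hW₂N) (t.s2.isTwo_E.to_le hW₂)
  set a₁ := g⁻¹ * a * g
  have hV₁ : Null a₁ G E W₀ := ⟨hfx ▸ hV.ge, hV.le, hinv W₀ hV.ge hV.le hV.norm, hcen ▸ hV.comm⟩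
  have hVne₁ : W₀ ≠ fx E a₁ := hfx ▸ hVne
  have hΦY : cen a G E ≤ W₀ := fun z hz => hV.ge hz.1
  have hn : W₂ ≤ normalizer (W₀ : Set X) := fun w hw => mem_normalizer_of_conj_le fun v hv => by
    have e1 : w * v * w⁻¹ = ⁅v, w⁆⁻¹ * v := by rw [commutatorElement_def]; group
    rw [e1]; exact W₀.mul_mem (inv_mem (hΦY (hcomm v hv w hw))) hv
  set Y := W₀ ⊔ W₂ with hY
  have hY2 : IsPGroup 2 Y :=
    IsPGroup.to_sup_of_normal_left' (t.s1.isTwo_E.to_le hV.le) (t.s2.isTwo_E.to_le hW₂) hn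
  have hYa : a₁ ∈ normalizer (Y : Set X) := by
    refine mem_normalizer_of_conj_le fun y hy => ?_
    obtain ⟨v, hv, w, hw, rfl⟩ := mem_sup_of_normalizes hn hy
    obtain ⟨e, he, c, -, hcE, hca, hwe⟩ := hT w hw
    have hfixd : W₀ ≤ fixd a₁ E c := fun v' hv' => by
      refine (h1.mem_fixd hcE).mpr ⟨hV.le hv', ?_⟩
      have hz : ⁅v', w⁆⁻¹ ∈ fx E a := inv_mem (hcomm v' hv' w hw).1
      have e1 : v'⁻¹ * (c * v' * c⁻¹) = v'⁻¹ * (e⁻¹ * ⁅v', w⁆⁻¹) * v' * e := by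
        rw [hwe]; simp only [commutatorElement_def]; group
      rw [e1, hfx, ← t.s1.qgrp.fixed_central hz (E.inv_mem he), ← mul_assoc v'⁻¹,
        ← t.s1.qgrp.fixed_central hz (E.inv_mem (hV.le hv')),
        show ⁅v', w⁆⁻¹ * v'⁻¹ * e⁻¹ * v' * e = ⁅v', w⁆⁻¹ * ⁅v'⁻¹, e⁻¹⁆ by
          simp only [commutatorElement_def]; group]
      exact mul_mem hz (t.s1.qgrp.comm_mem (E.inv_mem (hV.le hv')) (E.inv_mem he))
    have heV : e ∈ W₀ := by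
      refine h1.null_perp hV₁ hVne₁ he fun v' hv' => ?_
      obtain ⟨u, hu, z, hz, rfl⟩ := h1.exists_br_mul hV₁.ge hV₁.le hV₁.norm hv'
      have huW := br_le hV₁.norm hu
      rw [h1.qgrp.comm_mul_right he (hV.le huW) (fx_le hz),
        commutatorElement_eq_one_iff_mul_comm.mpr (h1.qgrp.fixed_central hz he).symm, mul_one, hcen]
      have hcu := h1.centralizes_br_fixd hcE hca u (br_mono hfixd hu)
      have h3 := hcomm u huW w hw
      have e1 : ⁅u, w⁆ = ⁅u, e⁆ := by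
        rw [hwe]; simp only [commutatorElement_def]
        calc u * (e * c) * u⁻¹ * (e * c)⁻¹ = u * e * (c * u⁻¹ * c⁻¹) * e⁻¹ := by group
          _ = u * e * u⁻¹ * e⁻¹ := by
              rw [(show Commute c u from hcu).inv_right.eq, mul_inv_cancel_right]
      rw [← commutatorElement_inv, ← e1]; exact inv_mem h3
    have e1 : a₁ * (v * w) * a₁⁻¹ = (a₁ * v * a₁⁻¹) * ((a₁ * e * a₁⁻¹) * e⁻¹) * w := by
      calc a₁ * (v * w) * a₁⁻¹ = a₁ * v * (a₁⁻¹ * a₁) * e * (c * a₁⁻¹) := by rw [hwe]; group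
        _ = a₁ * v * a₁⁻¹ * (a₁ * e * a₁⁻¹) * c := by
            rw [← (show Commute a₁ c from hca).inv_left.eq]; group
        _ = _ := by rw [hwe]; group
    rw [e1]
    exact mul_mem (mem_sup_left (W₀.mul_mem (conj_mem hV₁.norm hv)
      (W₀.mul_mem (conj_mem hV₁.norm heV) (W₀.inv_mem heV)))) (mem_sup_right hw)
  have hEY : E ≤ normalizer (Y : Set X) := fun x hx => mem_normalizer_of_conj_le fun y hy => by
    obtain ⟨v, hv, w, hw, rfl⟩ := mem_sup_of_normalizes hn hy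
    have e1 : x * (v * w) * x⁻¹ = ⁅x, v⁆ * v * (⁅x, w⁆ * w) := by simp only [commutatorElement_def]; group
    rw [e1]
    exact mul_mem (mem_sup_left (W₀.mul_mem (hV.ge (t.s1.qgrp.comm_mem hx (hV.le hv))) hv))
      (mul_mem (mem_sup_left (hEW x hx w hw)) (mem_sup_right hw))
  have hE₂Y : E₂ ≤ normalizer (Y : Set X) := fun x hx => mem_normalizer_of_conj_le fun y hy => by
    obtain ⟨v, hv, w, hw, rfl⟩ := mem_sup_of_normalizes hn hy
    have e1 : x * (v * w) * x⁻¹ = ⁅x, v⁆ * v * (⁅x, w⁆ * w) := by simp only [commutatorElement_def]; group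
    rw [e1]
    exact mul_mem (mul_mem (mem_sup_right (hE₂V x hx v hv)) (mem_sup_left hv))
      (mul_mem (mem_sup_right (hW₂Φ (t.s2.qgrp.comm_mem hx (hW₂ hw)))) (mem_sup_right hw))
  have hYG : Y ≤ G := sup_le (hV.le.trans t.s1.E_le) (hW₂.trans t.s2.E_le)
  obtain ⟨x, hxW, hxΦ⟩ : ∃ x ∈ W₀, x ∉ fx E a := by
    by_contra hc
    push Not at hc
    exact hVne (le_antisymm hc hV.ge)
  set H := G ⊓ normalizer (Y : Set X) with hH
  have hHa : a₁ ∈ normalizer (H : Set X) := mem_normalizer_inf h1.act.norm (Subgroup.le_normalizer hYa)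
  have hHne : H ≠ G := h1.normalizer_ne_of hYG hY2 hYa (hV.le hxW) (mem_sup_left hxW) (hfx.symm ▸ hxΦ)
  obtain ⟨Xp, hXp, hXle, hXn, -, hsyl, hdec⟩ :=
    h1.local_struct inf_le_left hHa hHne (le_inf t.s1.E_le hEY)
  have hΦn : H ≤ normalizer ((fx E a : Subgroup X) : Set X) := by
    intro c hc
    have hB : MulAut.conj c • E ≤ br H a₁ := fun y hy => by
      have := conj_mem (le_norm_br hc) (hsyl.1 (mem_smul_iff'.mp hy))
      simpa [mul_assoc] using this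
    have hsK : IsSylowIn 2 (MulAut.conj c • E) (br H a₁) := by
      refine ⟨hB, smul_isPGroup t.s1.isTwo_E, fun hd => hsyl.2.2 ?_⟩
      have h2 := Grp.card_mul_relIndex hsyl.1
      have h3 := Grp.card_mul_relIndex hB
      rw [Grp.card_conj_smul, ← h2] at h3
      rwa [← Nat.eq_of_mul_eq_mul_left Nat.card_pos h3]
    obtain ⟨b, hb, e'⟩ := hsyl.conj hsK
    obtain ⟨u, hu, η, hη, rfl⟩ := hdec b hb
    rw [map_mul, mul_smul, smul_eq_of_le_norm (Subgroup.le_normalizer hη)] at e'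
    refine Grp.mem_normalizer_iff_smul.mpr ?_
    have hmap : ∀ y : X, MulAut.conj y • fx E a = ⁅MulAut.conj y • E, MulAut.conj y • E⁆ := fun y => by
      rw [t.s1.qgrp.fixed_eq_comm]
      exact Subgroup.map_commutator _ _ (MulAut.conj y).toMonoidHom
    rw [hmap c, ← e', ← hmap u]
    refine smul_eq_of_le_norm (mem_normalizer_of_centralizes fun z hz => ?_)
    have hzY : z ∈ Y := mem_sup_left (hV.ge hz)
    refine commutatorElement_eq_one_iff_mul_comm.mp ?_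
    have h2 : ⁅u, z⁆ ∈ Xp := by
      have := Xp.mul_mem hu (conj_mem (hXn ⟨hYG hzY, Subgroup.le_normalizer hzY⟩) (Xp.inv_mem hu))
      simpa [commutatorElement_def, mul_assoc] using this
    have h3 : ⁅u, z⁆ ∈ Y := by
      have := Y.mul_mem (conj_mem (br_le hHa (hXle hu)).2 hzY) (Y.inv_mem hzY)
      simpa [commutatorElement_def] using this
    have hm : ⁅u, z⁆ ∈ Xp ⊓ Y := ⟨h2, h3⟩
    rw [disjoint_iff.mp (IsPGroup.disjoint_of_ne p 2 t.s1.podd Xp Y hXp hY2)] at hm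
    exact hm
  obtain ⟨f, hf⟩ := t.s1.exists_InJ' t.hk1
  obtain ⟨e₂, hp₂, he₂Φ⟩ := t.symm.exists_part hf.1 (t.cen_eq.symm ▸ hf.2)
  refine he₂Φ (t.s2.mem_fixed_of_perp t.hk2 hp₂.1 fun η hη => ?_)
  have hη' : η ∈ normalizer ((fx E a : Subgroup X) : Set X) := hΦn ⟨t.s2.E_le hη, hE₂Y hη⟩
  have e1 : ⁅η, f⁆ = ⁅η, e₂⁆ := hp₂.comm_eq hη
  have h2 : ⁅η, f⁆ ∈ fx E a := by
    rw [commutatorElement_def]; exact mul_mem (conj_mem hη' hf.1) (inv_mem hf.1)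
  have h3 : ⁅η, f⁆ ∈ fx E₂ a₂ := e1 ▸ t.s2.qgrp.comm_mem hη hp₂.1
  rw [← commutatorElement_inv, ← e1, t.cen_eq]
  exact inv_mem (t.disj _ h2 h3)

/-- Twins with a null subgroup through an `E`-part. -/
theorem core (hS₁ : E ⊓ twK a a₂ G E E₂ ≤ normalizer (E₂ : Set X))
    (hS₂ : E₂ ⊓ twK a a₂ G E E₂ ≤ normalizer (E : Set X)) {w₀ e : X} (hw₀ : w₀ ∈ fx E₂ a₂)
    (hw₀z : w₀ ∉ cen a G E) (hp : IsPart E w₀ e) (heΦ : e ∉ fx E a) (hV : Null a G E W₀) (heV : e ∈ W₀) :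
    False := by
  have hVne : W₀ ≠ fx E a := fun e' => heΦ (e' ▸ heV)
  have hVK : W₀ ≤ twK a a₂ G E E₂ := fun v hv =>
    t.mem_twK_of_perp hw₀ hw₀z hp (hV.le hv) (hV.comm v hv e heV)
  have hVN : W₀ ≤ normalizer (E₂ : Set X) := fun v hv => hS₁ ⟨hV.le hv, hVK hv⟩
  obtain ⟨f, hf⟩ := t.s1.exists_InJ' t.hk1
  have hfz : f ∉ cen a₂ G E₂ := t.cen_eq.symm ▸ hf.2
  obtain ⟨e₂, hp₂, he₂Φ⟩ := t.symm.exists_part hf.1 hfz
  have hv2 : ∀ v ∈ W₀, ∀ x ∈ E₂, x⁻¹ * (v * v * x * (v * v)⁻¹) ∈ fx E₂ a₂ := fun v hv =>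
    t.symm.triv₂ (by rw [← sq]; exact t.s1.qgrp.pow_q_mem (hV.le hv))
  have hvΦ₂ : ∀ v ∈ W₀, ∀ w ∈ fx E₂ a₂, ⁅v, w⁆ ∈ cen a G E := fun v hv =>
    (t.mem_twK.mp (hVK hv)).2.2
  by_cases hcase : ∀ v ∈ W₀, ∀ x ∈ E₂, x⁻¹ * (v * x * v⁻¹) ∈ fx E₂ a₂
  · refine t.final hV hVne fx_le le_rfl t.le12 hVN hvΦ₂ (fun x hx w hw => hV.ge ?_) (fun x hx v hv => ?_)
    · have h1 := t.triv₂ hw x⁻¹ (E.inv_mem hx)
      rw [inv_inv] at h1
      rw [commutatorElement_def]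
      simpa [mul_assoc] using h1
    · have h1 := hcase v hv x⁻¹ (E₂.inv_mem hx)
      rw [inv_inv] at h1
      rw [commutatorElement_def]
      simpa [mul_assoc] using h1
  push Not at hcase
  obtain ⟨v₀, hv₀, x₀, hx₀, hne₀⟩ := hcase
  have hfixd : ∀ v ∈ W₀, e₂ ∈ fixd a₂ E₂ v := fun v hv =>
    t.symm.part_fixed hp₂ (hVN hv) (t.s1.qgrp.fixed_central hf.1 (hV.le hv)).symm
  have hnull : ∀ v ∈ W₀, ∀ x₁ ∈ E₂, x₁⁻¹ * (v * x₁ * v⁻¹) ∉ fx E₂ a₂ →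
      Null a₂ G E₂ (fixd a₂ E₂ v) ∧ ∀ x ∈ E₂, x⁻¹ * (v * x * v⁻¹) ∈ fixd a₂ E₂ v := by
    intro v hv x₁ hx₁ hne
    obtain ⟨h1, -, h3, -⟩ := t.s2.null_fixd_of_trivial ⟨t.s1.E_le (hV.le hv), hVN hv⟩
      (fun w hw => t.cen_eq.symm ▸ hvΦ₂ v hv w hw) (hv2 v hv) hx₁ hne
    exact ⟨h1, h3⟩
  set W₂ := fixd a₂ E₂ v₀ with hW₂
  have hW₂null : Null a₂ G E₂ W₂ := (hnull v₀ hv₀ x₀ hx₀ hne₀).1
  have hW₂K : W₂ ≤ twK a a₂ G E E₂ := fun u hu => by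
    have h1 := t.symm.mem_twK_of_perp hf.1 hfz hp₂ (hW₂null.le hu)
      (hW₂null.comm u hu e₂ (hfixd v₀ hv₀))
    obtain ⟨g1, g2, g3⟩ := t.symm.mem_twK.mp h1
    exact t.mem_twK.mpr ⟨g1, fun z hz => t.cen_eq ▸ g3 z hz, fun w hw => t.cen_eq ▸ g2 w hw⟩
  have hW₂N : W₂ ≤ normalizer (E : Set X) := fun u hu => hS₂ ⟨hW₂null.le hu, hW₂K hu⟩
  have himgv : ∀ v ∈ W₀, ∀ x ∈ E₂, x⁻¹ * (v * x * v⁻¹) ∈ W₂ := by
    intro v hv x hx
    by_cases hxv : x⁻¹ * (v * x * v⁻¹) ∈ fx E₂ a₂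
    · exact hW₂null.ge hxv
    obtain ⟨h1, h2⟩ := hnull v hv x hx hxv
    rw [t.s2.null_inter hW₂null h1 (hfixd v₀ hv₀) (hfixd v hv) he₂Φ]
    exact h2 x hx
  have hfixv : ∀ v ∈ W₀, W₂ ≤ fixd a₂ E₂ v := by
    intro v hv u hu
    by_cases hall : ∀ x ∈ E₂, x⁻¹ * (v * x * v⁻¹) ∈ fx E₂ a₂
    · exact (t.s2.mem_fixd (hVN hv)).mpr ⟨hW₂null.le hu, hall u (hW₂null.le hu)⟩
    push Not at hall
    obtain ⟨x, hx, hxv⟩ := hall
    rwa [← t.s2.null_inter hW₂null (hnull v hv x hx hxv).1 (hfixd v₀ hv₀) (hfixd v hv) he₂Φ]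
  have hfixu : ∀ u ∈ W₂, W₀ ≤ fixd a E u ∧ ∀ x ∈ E, x⁻¹ * (u * x * u⁻¹) ∈ W₀ := by
    intro u hu
    by_cases hall : ∀ x ∈ E, x⁻¹ * (u * x * u⁻¹) ∈ fx E a
    · exact ⟨fun v hv => (t.s1.mem_fixd (hW₂N hu)).mpr ⟨hV.le hv, hall v (hV.le hv)⟩,
        fun x hx => hV.ge (hall x hx)⟩
    push Not at hall
    obtain ⟨x, hx, hxu⟩ := hall
    obtain ⟨h1, -, h3, -⟩ := t.s1.null_fixd_of_trivial ⟨t.s2.E_le (hW₂null.le hu), hW₂N hu⟩
      (t.mem_twK.mp (hW₂K hu)).2.1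
      (t.triv₂ (by rw [← sq]; exact t.s2.qgrp.pow_q_mem (hW₂null.le hu))) hx hxu
    have heq := t.s1.null_inter hV h1 heV
      (t.part_fixed hp (hW₂N hu) (t.s2.qgrp.fixed_central hw₀ (hW₂null.le hu)).symm) heΦ
    exact ⟨heq.le, fun y hy => heq ▸ h3 y hy⟩
  refine t.final hV hVne hW₂null.le hW₂null.ge hW₂N hVN (fun v hv u hu => ?_) (fun x hx u hu => ?_) (fun x hx v hv => ?_)
  · refine t.disj _ ?_ ?_
    · have h1 := ((t.s1.mem_fixd (hW₂N hu)).mp ((hfixu u hu).1 (W₀.inv_mem hv))).2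
      rw [inv_inv] at h1
      rw [commutatorElement_def]
      simpa [mul_assoc] using h1
    · have h1 := ((t.s2.mem_fixd (hVN hv)).mp (hfixv v hv (W₂.inv_mem hu))).2
      rw [inv_inv] at h1
      rw [← commutatorElement_inv, commutatorElement_def]
      exact inv_mem (by simpa [mul_assoc] using h1)
  · have h1 := (hfixu u hu).2 x⁻¹ (E.inv_mem hx)
    rw [inv_inv] at h1
    rw [commutatorElement_def]
    simpa [mul_assoc] using h1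
  · have h1 := himgv v hv x⁻¹ (E₂.inv_mem hx)
    rw [inv_inv] at h1
    rw [commutatorElement_def]
    simpa [mul_assoc] using h1

/-- Recentred twins cannot exist. -/
theorem false_of_normalized (hS₁ : E ⊓ twK a a₂ G E E₂ ≤ normalizer (E₂ : Set X))
    (hS₂ : E₂ ⊓ twK a a₂ G E E₂ ≤ normalizer (E : Set X)) : False := by
  obtain ⟨f, hf⟩ := t.s1.exists_InJ' t.hk1
  have hfz : f ∉ cen a₂ G E₂ := t.cen_eq.symm ▸ hf.2
  obtain ⟨e₂, hp₂, he₂Φ⟩ := t.symm.exists_part hf.1 hfz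
  obtain ⟨w₀, hw₀⟩ := t.s2.exists_InJ' t.hk2
  have hw₀z : w₀ ∉ cen a G E := t.cen_eq ▸ hw₀.2
  obtain ⟨e, hp, heΦ⟩ := t.exists_part hw₀.1 hw₀z
  have hKK : twK a₂ a G E₂ E = twK a a₂ G E E₂ := by
    ext g
    rw [t.mem_twK, t.symm.mem_twK, t.cen_eq]
    exact and_congr_right fun _ => and_comm
  by_cases hcase : ∀ u ∈ E₂ ⊓ twK a a₂ G E E₂, ∀ x ∈ E, x⁻¹ * (u * x * u⁻¹) ∈ fx E a
  · have hsq : ∀ u ∈ E₂ ⊓ twK a a₂ G E E₂, u ^ 2 ∈ cen a₂ G E₂ := fun u hu =>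
      t.cen_eq.symm ▸ t.sq_mem_cen hu.1 (hS₂ hu) (hcase u hu)
    obtain ⟨hN, hmem⟩ := t.s2.null_orb hp₂.1 (t.s2.orbit_comm_of_sq hp₂.1 fun n => by
      have hQ : (a₂ ^ n)⁻¹ * e₂ * a₂ ^ n ∈ E₂ := by
        simpa using conj_mem (inv_mem (t.s2.pow_norm_E n)) hp₂.1
      have hxE := E₂.mul_mem (conj_mem (t.s2.pow_norm_E n) hp₂.1) hQ
      refine hsq _ ⟨hxE, hKK ▸ t.symm.mem_twK_of_perp hf.1 hfz hp₂ hxE ?_⟩
      rw [t.s2.pair_comm hp₂.1 n]; exact one_mem _)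
    exact t.symm.core (hKK.symm ▸ hS₂) (hKK.symm ▸ hS₁) hf.1 hfz hp₂ he₂Φ hN hmem
  push Not at hcase
  obtain ⟨u, hu, x, hx, hne⟩ := hcase
  have huN := hS₂ hu
  obtain ⟨h1, -, -, -⟩ := t.s1.null_fixd_of_trivial ⟨t.s2.E_le hu.1, huN⟩ (t.mem_twK.mp hu.2).2.1
    (t.triv₂ (by rw [← sq]; exact t.s2.qgrp.pow_q_mem hu.1)) hx hne
  exact t.core hS₁ hS₂ hw₀.1 hw₀z hp heΦ h1
    (t.part_fixed hp huN (t.s2.qgrp.fixed_central hw₀.1 hu.1).symm)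

/-- Twins cannot exist. -/
theorem false : False := by
  haveI := Fact.mk Nat.prime_two
  set K := twK a a₂ G E E₂ with hK
  obtain ⟨S, hS, hle⟩ : ∃ S : Subgroup X, IsSylowIn 2 S K ∧ fx E a ⊔ fx E₂ a₂ ≤ S := by
    obtain ⟨P, hP⟩ := (t.sup_two.comap_subtype (K := K)).exists_le_sylow
    exact ⟨(P : Subgroup _).map K.subtype, Grp.isSylowIn_iff.mpr ⟨P, rfl⟩,
      fun x hx => ⟨⟨x, t.sup_le_twK hx⟩, hP hx, rfl⟩⟩
  obtain ⟨a', E', t₁, hfx₁, hN₁⟩ := t.recentre_left hS.1 hS.2.1 hle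
  have hcen₁ : cen a' G E' = cen a G E := by simp only [cen, hfx₁]
  have hK₁ : twK a₂ a' G E₂ E' = K := by
    ext g
    rw [hK, t.mem_twK, t₁.symm.mem_twK, t.cen_eq, hfx₁]
    exact and_congr_right fun _ => and_comm
  obtain ⟨a'', E'', t₂, hfx₂, hN₂⟩ := t₁.symm.recentre_left (hK₁.symm ▸ hS.1) hS.2.1
    (by rw [hfx₁, sup_comm]; exact hle)
  have hK₂ : twK a' a'' G E' E'' = K := by
    ext g
    rw [hK, t.mem_twK, t₂.symm.mem_twK, hfx₁, hfx₂, hcen₁]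
  have hSK : ∀ {F : Subgroup X}, IsPGroup 2 F → S ≤ normalizer (F : Set X) → F ⊓ K ≤ S := by
    intro F hF hn
    have hn' : S ≤ normalizer ((F ⊓ K : Subgroup X) : Set X) := fun s hs =>
      mem_normalizer_inf (hn hs) (Subgroup.le_normalizer (hS.1 hs))
    have e := hS.eq_of_le (Y := (F ⊓ K) ⊔ S) le_sup_right (sup_le inf_le_right hS.1)
      (IsPGroup.to_sup_of_normal_left' (hF.to_le inf_le_left) hS.2.1 hn')
    exact le_sup_left.trans e.ge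
  refine t₂.symm.false_of_normalized ?_ ?_
  · rw [hK₂]; exact (hSK t₁.s1.isTwo_E hN₁).trans hN₂
  · rw [hK₂]; exact (hSK t₂.s1.isTwo_E hN₂).trans hN₁

end Twin

end Cfsg.Agent.Invol.Shult
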