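import Mathlib
import Cfsg.Agent.Lib.Invol.Shult.Twin

/-!
`J^G ∩ N(E) ⊆ E'` for a frame with more than one weight constituent.
-/

set_option autoImplicit false

namespace Cfsg.Agent.Invol.Shult

open Subgroup
open scoped Pointwise commutatorElement
open Cfsg.Agent.Grp (IsSylowIn)

variable {X : Type*} [Group X] {a : X} {p r m : ℕ} {G V E W : Subgroup X}

/-- A `2`-group normalizing an abelian `2`-group and a proper subgroup fixes a nontrivial coset. -/
theorem exists_fixed_outside [Finite X] {P B R : Subgroup X} (hP : IsPGroup 2 P)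
    (hab : ∀ x ∈ P, ∀ y ∈ P, x * y = y * x) (hB : B ≤ P) (hne : ¬ P ≤ B) (hR : IsPGroup 2 R)
    (hRP : R ≤ normalizer (P : Set X)) (hRB : R ≤ normalizer (B : Set X)) :
    ∃ y ∈ P, y ∉ B ∧ ∀ u ∈ R, ⁅u, y⁆ ∈ B := by
  classical
  haveI := Fact.mk Nat.prime_two
  set Q := ↥P ⧸ B.subgroupOf P
  let conjP : ↥R → ↥P → ↥P := fun u y => ⟨(u : X) * y * (u : X)⁻¹, conj_mem (hRP u.2) y.2⟩
  have hwd : ∀ (u : ↥R) (x y : ↥P), x⁻¹ * y ∈ B.subgroupOf P → (conjP u x)⁻¹ * conjP u y ∈ B.subgroupOf P := by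
    intro u x y hxy
    rw [Subgroup.mem_subgroupOf] at hxy ⊢
    have := conj_mem (hRB u.2) hxy
    simpa [conjP, mul_assoc] using this
  let _ : MulAction ↥R Q :=
    { smul := fun u => Quotient.map' (conjP u) (fun x y hxy =>
        QuotientGroup.leftRel_apply.mpr (hwd u x y (QuotientGroup.leftRel_apply.mp hxy)))
      one_smul := fun q => by
        induction q using QuotientGroup.induction_on with
        | H y => exact congrArg QuotientGroup.mk (Subtype.ext (by simp [conjP]))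
      mul_smul := fun u v q => by
        induction q using QuotientGroup.induction_on with
        | H y => exact congrArg QuotientGroup.mk (Subtype.ext (by simp [conjP, mul_assoc])) }
  have hdvd : 2 ∣ Nat.card Q := by
    obtain ⟨n, hn⟩ := IsPGroup.iff_card.mp hP
    have h1 : Nat.card Q ∣ 2 ^ n := hn ▸ (B.subgroupOf P).index_dvd_card
    obtain ⟨k, -, hk⟩ := (Nat.dvd_prime_pow Nat.prime_two).mp h1
    refine hk ▸ dvd_pow_self 2 fun h0 => hne ?_
    rw [h0, pow_zero] at hk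
    have h2 : (B.subgroupOf P).index = 1 := hk
    exact Subgroup.subgroupOf_eq_top.mp (Subgroup.index_eq_one.mp h2)
  obtain ⟨q, hq, hq1⟩ := hR.exists_fixed_point_of_prime_dvd_card_of_fixed_point Q hdvd
    (a := ((1 : ↥P) : Q)) (fun u => congrArg QuotientGroup.mk (Subtype.ext (by simp [conjP])))
  induction q using QuotientGroup.induction_on with
  | H y =>
    refine ⟨y, y.2, fun hy => hq1 ((QuotientGroup.eq.mpr ?_)), fun u hu => ?_⟩
    · rw [inv_one, one_mul, Subgroup.mem_subgroupOf]; exact hy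
    · have h1 := QuotientGroup.eq.mp (hq ⟨u, hu⟩)
      rw [Subgroup.mem_subgroupOf] at h1
      have h2 : (u * y * u⁻¹)⁻¹ * (y : X) ∈ B := h1
      have h3 := inv_mem h2
      rw [mul_inv_rev, inv_inv, hab _ (P.inv_mem y.2) _ (conj_mem (hRP hu) y.2)] at h3
      simpa [commutatorElement_def] using h3

namespace Setup

variable [Finite X] [Fact p.Prime] (h : Setup p r m a G V E)
include h

theorem fixed_cases {k w : X} (hk : k ∈ G) (hw : w ∈ MulAut.conj k • fx E a) :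
    w ∈ cen a G E ∨ JG a G E w := by
  by_cases hz : k⁻¹ * w * k ∈ cen a G E
  · left
    have h1 := h.cen_conj_eq hz hk
    rw [show k * (k⁻¹ * w * k) * k⁻¹ = w by group] at h1
    rw [h1]; exact hz
  · exact Or.inr ⟨k, hk, mem_smul_iff'.mp hw, hz⟩

theorem cen_le_smul {k : X} (hk : k ∈ G) : cen a G E ≤ MulAut.conj k • fx E a := fun z hz => by
  rw [← h.cen_conj_eq hz hk]; exact conj_mem_smul hz.1

theorem smul_fixed_comm {k x y : X} (hx : x ∈ MulAut.conj k • fx E a) (hy : y ∈ MulAut.conj k • fx E a) :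
    x * y = y * x := by
  have := h.qgrp.fixed_central (mem_smul_iff'.mp hx) (fx_le (mem_smul_iff'.mp hy))
  calc x * y = k * ((k⁻¹ * x * k) * (k⁻¹ * y * k)) * k⁻¹ := by group
    _ = k * ((k⁻¹ * y * k) * (k⁻¹ * x * k)) * k⁻¹ := by rw [this]
    _ = y * x := by group

theorem norm_smul_fixed {k g : X} (hk : k ∈ G) (hg : g ∈ normalizer ((MulAut.conj k • E : Subgroup X) : Set X)) :
    g ∈ normalizer ((MulAut.conj k • fx E a : Subgroup X) : Set X) :=
  fx_smul (a := a) (E := E) k ▸ (h.conj hk).norm_fixed' hg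

theorem no_pure_max (hk : Nat.card E ≠ 2 ^ (2 * m) * Nat.card (fx E a)) {k u : X} (hkG : k ∈ G)
    (hu : u ∈ MulAut.conj k • fx E a) (huz : u ∉ cen a G E) (huE : u ∈ normalizer (E : Set X))
    (huΦ : u ∉ fx E a) (hΦN : fx E a ≤ normalizer ((MulAut.conj k • E : Subgroup X) : Set X))
    (hmax : ∀ c ∈ G, MulAut.conj c • fx E a = fx E a → u ∈ normalizer ((MulAut.conj c • E : Subgroup X) : Set X) →
      Nat.card ↥(MulAut.conj k • fx E a ⊓ normalizer ((MulAut.conj c • E : Subgroup X) : Set X)) ≤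
        Nat.card ↥(MulAut.conj k • fx E a ⊓ normalizer (E : Set X))) : False := by
  haveI := Fact.mk Nat.prime_two
  set P := MulAut.conj k • fx E a with hP
  set B := P ⊓ normalizer (E : Set X) with hB
  have hdisj : ∀ z ∈ fx E a, z ∈ P → z ∈ cen a G E := fun z hz hzP => by
    by_contra hzz
    exact huΦ (h.point_common (f := z) ⟨hz, hzz⟩ hkG (mem_smul_iff'.mp hzP) (mem_smul_iff'.mp hu) huE)
  have hΦP : fx E a ≤ normalizer (P : Set X) := fun z hz => h.norm_smul_fixed hkG (hΦN hz)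
  have hcomm : ∀ z ∈ fx E a, ∀ b ∈ B, ⁅z, b⁆ ∈ cen a G E := fun z hz b hb => by
    refine hdisj _ ?_ ?_
    · rw [commutatorElement_def, mul_assoc z b, mul_assoc z]
      exact mul_mem hz (by simpa [mul_assoc] using conj_mem (h.norm_fixed' hb.2) (inv_mem hz))
    · rw [commutatorElement_def]
      exact mul_mem (conj_mem (hΦP hz) hb.1) (inv_mem hb.1)
  by_cases hall : P ≤ normalizer (E : Set X)
  · refine Twin.false (a := a) (a₂ := k * a * k⁻¹) (E₂ := MulAut.conj k • E) ⟨h, h.conj hkG, hk, h.hk_smul hk k,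
      h.cen_smul hkG, fun v => h.JG_smul hkG, ?_, hΦN, ?_, ?_⟩
    · rw [fx_smul]; exact hall
    · rw [fx_smul]; exact fun z hz w hw => hcomm z hz w ⟨hw, hall hw⟩
    · rw [fx_smul]; exact hdisj
  obtain ⟨y, hy, hyB, hyc⟩ := exists_fixed_outside (P := P) (B := B) (R := fx E a)
    (smul_isPGroup (h.isTwo_E.to_le fx_le)) (fun x hx y hy => h.smul_fixed_comm hx hy) inf_le_left
    (fun hle => hall (hle.trans inf_le_right)) (h.isTwo_E.to_le fx_le) hΦP
    (fun z hz => mem_normalizer_inf (hΦP hz) (Subgroup.le_normalizer (Subgroup.le_normalizer (fx_le hz))))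
  have hyG : y ∈ G := by
    have := G.mul_mem (G.mul_mem hkG (h.fx_le_G (mem_smul_iff'.mp hy))) (G.inv_mem hkG)
    simpa [mul_assoc] using this
  have hyy : y⁻¹ = y := by
    refine inv_eq_of_mul_eq_one_right ?_
    have h1 := h.fixed_invol (mem_smul_iff'.mp hy)
    calc y * y = k * ((k⁻¹ * y * k) * (k⁻¹ * y * k)) * k⁻¹ := by group
      _ = 1 := by rw [h1]; group
  have hdec : ∀ z ∈ fx E a, ∃ b ∈ B, y * z * y⁻¹ = z * b := fun z hz => by
    exact ⟨⁅z⁻¹, y⁆, hyc _ (inv_mem hz), by rw [commutatorElement_def]; group⟩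
  have hle12 : ∀ w ∈ MulAut.conj y • fx E a, w ∈ normalizer (E : Set X) := fun w hw => by
    obtain ⟨b, hb, e⟩ := hdec _ (mem_smul_iff'.mp hw)
    rw [show y * (y⁻¹ * w * y) * y⁻¹ = w by group] at e
    rw [e]
    exact mul_mem (Subgroup.le_normalizer (fx_le (mem_smul_iff'.mp hw))) hb.2
  have hle21 : fx E a ≤ normalizer ((MulAut.conj y • E : Subgroup X) : Set X) := fun z hz => by
    have h1 : y * z * y⁻¹ ∈ normalizer (E : Set X) := hle12 _ (conj_mem_smul hz)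
    refine Grp.mem_normalizer_iff_smul.mpr ?_
    rw [← mul_smul, ← map_mul, show z * y = y * (y⁻¹ * z * y⁻¹⁻¹) by group, map_mul, mul_smul, hyy,
      Grp.mem_normalizer_iff_smul.mp h1]
  by_cases hd : ∀ z ∈ fx E a, z ∈ MulAut.conj y • fx E a → z ∈ cen a G E
  · refine Twin.false (a := a) (a₂ := y * a * y⁻¹) (E₂ := MulAut.conj y • E) ⟨h, h.conj hyG, hk, h.hk_smul hk y,
      h.cen_smul hyG, fun v => h.JG_smul hyG, ?_, hle21, ?_, ?_⟩
    · rw [fx_smul]; exact hle12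
    · rw [fx_smul]
      intro z hz w hw
      obtain ⟨b, hb, e⟩ := hdec _ (mem_smul_iff'.mp hw)
      rw [show y * (y⁻¹ * w * y) * y⁻¹ = w by group] at e
      rw [e, comm_mul_right_of_central (h.cen_central (hcomm z hz b hb) (h.fx_le_G (mem_smul_iff'.mp hw))),
        commutatorElement_eq_one_iff_mul_comm.mpr (h.qgrp.fixed_central hz (fx_le (mem_smul_iff'.mp hw))), one_mul]
      exact hcomm z hz b hb
    · rw [fx_smul]; exact hd
  push Not at hd
  obtain ⟨f, hf, hfy, hfz⟩ := hd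
  have hyΦ : ∀ z ∈ fx E a, y * z * y⁻¹ ∈ fx E a := fun z hz =>
    h.point_common (f := f) (g := y) ⟨hf, hfz⟩ hyG (mem_smul_iff'.mp hfy) (by simpa [mul_assoc] using hz)
      (hle12 _ (conj_mem_smul hz))
  set T₀ := P ⊓ ⨅ z : ↥(fx E a), cst a G E (z : X) with hT₀
  have hPG : P ≤ G := fun x hx => by
    have := G.mul_mem (G.mul_mem hkG (h.fx_le_G (mem_smul_iff'.mp hx))) (G.inv_mem hkG)
    simpa [mul_assoc] using this
  have hmemT : ∀ w ∈ P, (∀ z ∈ fx E a, ⁅z, w⁆ ∈ cen a G E) → w ∈ T₀ := fun w hw hc =>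
    ⟨hw, Subgroup.mem_iInf.mpr fun z => (h.mem_cst (h.fx_le_G z.2)).mpr ⟨hPG hw, by
      rw [← commutatorElement_inv]; exact inv_mem (hc z z.2)⟩⟩
  have hyT : y ∈ T₀ := hmemT y hy fun z hz => hdisj _ (by
      rw [commutatorElement_def, mul_assoc z y, mul_assoc z]
      exact mul_mem hz (by simpa [mul_assoc] using hyΦ z⁻¹ (inv_mem hz))) (hyc z hz).1
  have hBT : B ≤ T₀ := fun b hb => hmemT b hb.1 fun z hz => hcomm z hz b hb
  have hn : fx E a ≤ normalizer (T₀ : Set X) := fun z hz => mem_normalizer_of_conj_le fun w hw => by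
    have h1 := ((h.mem_cst (h.fx_le_G hz)).mp (Subgroup.mem_iInf.mp hw.2 ⟨z, hz⟩)).2
    have h2 : ⁅z, w⁆ ∈ cen a G E := by rw [← commutatorElement_inv]; exact inv_mem h1
    have e1 : z * w * z⁻¹ = ⁅z, w⁆ * w := by rw [commutatorElement_def]; group
    rw [e1]
    refine mul_mem (hmemT _ (h.cen_le_smul hkG h2) fun z' hz' => ?_) hw
    rw [commutatorElement_eq_one_iff_mul_comm.mpr (h.cen_central h2 (h.fx_le_G hz')).symm]; exact one_mem _
  have hT2 : IsPGroup 2 (fx E a ⊔ T₀ : Subgroup X) :=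
    IsPGroup.to_sup_of_normal_right' (h.isTwo_E.to_le fx_le)
      ((smul_isPGroup (h.isTwo_E.to_le fx_le) : IsPGroup 2 P).to_le inf_le_left) hn
  have hJ : InJ a G E f := ⟨hf, hfz⟩
  have hTle : fx E a ⊔ T₀ ≤ cst a G E f := sup_le (fx_le.trans (h.E_le_cst hf))
    fun w hw => Subgroup.mem_iInf.mp hw.2 ⟨f, hf⟩
  obtain ⟨x, hx, hxf, hTN⟩ := h.exists_point' hJ hTle hT2
  have h' := h.conj hx
  have hJ' : InJ (x * a * x⁻¹) G (MulAut.conj x • E) f := by
    refine ⟨?_, (h.cen_smul hx).symm ▸ hfz⟩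
    rw [fx_smul, mem_smul_iff', mul_assoc, ← hxf, inv_mul_cancel_left]; exact hf
  have hfx : MulAut.conj x • fx E a = fx E a := by
    refine (Subgroup.eq_of_le_of_card_ge (fun z hz => ?_) (by rw [Grp.card_conj_smul])).symm
    rw [← fx_smul]
    refine h'.point_common hJ' (G.inv_mem hx) ?_ ?_ (hTN (mem_sup_left hz))
    · rw [fx_smul, inv_inv]; exact conj_mem_smul hf
    · rw [fx_smul, inv_inv]; exact conj_mem_smul hz
  have hTle' : T₀ ≤ P ⊓ normalizer ((MulAut.conj x • E : Subgroup X) : Set X) :=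
    fun w hw => ⟨hw.1, hTN (mem_sup_right hw)⟩
  have huT : u ∈ T₀ := hBT ⟨hu, huE⟩
  have hcard := hmax x hx hfx (hTN (mem_sup_right huT))
  exact hyB ((Subgroup.eq_of_le_of_card_ge hBT ((Subgroup.card_le_of_le hTle').trans hcard)).ge hyT)

/-- An element of `J^G` normalizing `E` and centralizing `E'` modulo `Z₀` lies in `E'`. -/
theorem no_pure (hk : Nat.card E ≠ 2 ^ (2 * m) * Nat.card (fx E a)) {u : X} (hu : JG a G E u)
    (huE : u ∈ normalizer (E : Set X)) (hΦ : ∀ z ∈ fx E a, ⁅u, z⁆ ∈ cen a G E) : u ∈ fx E a := by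
  classical
  by_contra huΦ
  have huG := h.JG_mem_G hu
  have huz := h.JG_not_cen hu
  obtain ⟨g, hg, hug⟩ := hu
  have hg' := h.conj hg
  have hJg : InJ (g * a * g⁻¹) G (MulAut.conj g • E) u := by
    refine ⟨?_, (h.cen_smul hg).symm ▸ huz⟩
    rw [fx_smul, mem_smul_iff']; exact hug.1
  obtain ⟨x, hx, hxu, hN⟩ := hg'.exists_point' hJg (T := fx E a) (fun z hz => by
      refine (hg'.mem_cst huG).mpr ⟨h.fx_le_G hz, ?_⟩
      rw [h.cen_smul hg, ← commutatorElement_inv]; exact inv_mem (hΦ z hz))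
    (h.isTwo_E.to_le fx_le)
  rw [← mul_smul, ← map_mul] at hN
  have hk' : x * g ∈ G := G.mul_mem hx hg
  have huk : u ∈ MulAut.conj (x * g) • fx E a := by
    rw [map_mul, mul_smul, mem_smul_iff', mul_assoc, ← hxu, inv_mul_cancel_left, mem_smul_iff']; exact hug.1
  let ok : X → Prop := fun c => c ∈ G ∧ MulAut.conj c • fx E a = fx E a ∧
    u ∈ normalizer ((MulAut.conj c • E : Subgroup X) : Set X)
  obtain ⟨c, ⟨hc, hcΦ, hcN⟩, hmax⟩ := Set.exists_max_image {c | ok c}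
    (fun c => Nat.card ↥(MulAut.conj (x * g) • fx E a ⊓ normalizer ((MulAut.conj c • E : Subgroup X) : Set X)))
    (Set.toFinite _) ⟨1, G.one_mem, by simp, by simpa using huE⟩
  have h' := h.conj hc
  have hfx : fx (MulAut.conj c • E) (c * a * c⁻¹) = fx E a := by rw [fx_smul, hcΦ]
  have hcen := h.cen_smul hc
  have hkc : x * g * c⁻¹ ∈ G := G.mul_mem hk' (G.inv_mem hc)
  have hPeq : MulAut.conj (x * g * c⁻¹) • fx (MulAut.conj c • E) (c * a * c⁻¹) = MulAut.conj (x * g) • fx E a := by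
    rw [fx_smul, ← mul_smul, ← map_mul, inv_mul_cancel_right]
  have hEeq : MulAut.conj (x * g * c⁻¹) • (MulAut.conj c • E) = MulAut.conj (x * g) • E := by
    rw [← mul_smul, ← map_mul, inv_mul_cancel_right]
  refine h'.no_pure_max (h.hk_smul hk c) hkc (hPeq.symm ▸ huk) (hcen.symm ▸ huz) hcN (hfx.symm ▸ huΦ) ?_ ?_
  · rw [hfx, hEeq]; exact hN
  · intro c' hc' hcΦ' hcN'
    rw [hPeq]
    rw [← mul_smul, ← map_mul] at hcN' ⊢
    refine hmax (c' * c) ⟨G.mul_mem hc' hc, ?_, hcN'⟩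
    rw [hfx] at hcΦ'
    rw [map_mul, mul_smul, hcΦ, hcΦ']

theorem E_inter_JG (hk : Nat.card E ≠ 2 ^ (2 * m) * Nat.card (fx E a)) {u : X} (hu : JG a G E u)
    (huE : u ∈ E) : u ∈ fx E a :=
  h.no_pure hk hu (Subgroup.le_normalizer huE) fun z hz => by
    rw [commutatorElement_eq_one_iff_mul_comm.mpr (h.qgrp.fixed_central hz huE).symm]; exact one_mem _

/-- The `E`-part of an element fixing a null subgroup modulo `Z₀` lies in it. -/
theorem part_mem_null {w e c : X} (hW : Null a G E W) (hne : W ≠ fx E a) (he : e ∈ E)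
    (hcE : c ∈ normalizer (E : Set X)) (hca : a * c = c * a) (hwe : w = e * c)
    (hperp : ∀ v ∈ br W a, ⁅v, w⁆ ∈ cen a G E) : e ∈ W := by
  have hbrE : br W a ≤ E := (br_le hW.norm).trans hW.le
  have hfixd : br W a ≤ fixd a E c := fun v hv => by
    refine (h.mem_fixd hcE).mpr ⟨hbrE hv, ?_⟩
    have hz : ⁅v, w⁆⁻¹ ∈ fx E a := inv_mem (hperp v hv).1
    have e1 : v⁻¹ * (c * v * c⁻¹) = v⁻¹ * (e⁻¹ * ⁅v, w⁆⁻¹) * v * e := by
      rw [hwe]; simp only [commutatorElement_def]; group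
    rw [e1, ← h.qgrp.fixed_central hz (E.inv_mem he), ← mul_assoc v⁻¹,
      ← h.qgrp.fixed_central hz (E.inv_mem (hbrE hv)),
      show ⁅v, w⁆⁻¹ * v⁻¹ * e⁻¹ * v * e = ⁅v, w⁆⁻¹ * ⁅v⁻¹, e⁻¹⁆ by
        simp only [commutatorElement_def]; group]
    exact mul_mem hz (h.qgrp.comm_mem (E.inv_mem (hbrE hv)) (E.inv_mem he))
  have hcc : ∀ v ∈ br W a, c * v = v * c := fun v hv =>
    h.centralizes_br_fixd hcE hca v (br_mono hfixd ((h.act.mono (hW.le.trans h.E_le) hW.norm).br_br.ge hv))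
  refine h.null_perp hW hne he fun v hv => ?_
  obtain ⟨u, hu, z, hz, rfl⟩ := h.exists_br_mul hW.ge hW.le hW.norm hv
  rw [h.qgrp.comm_mul_right he (hbrE hu) (fx_le hz),
    commutatorElement_eq_one_iff_mul_comm.mpr (h.qgrp.fixed_central hz he).symm, mul_one]
  have e1 : ⁅u, w⁆ = ⁅u, e⁆ := by
    rw [hwe]; simp only [commutatorElement_def]
    calc u * (e * c) * u⁻¹ * (e * c)⁻¹ = u * e * (c * u⁻¹ * c⁻¹) * e⁻¹ := by group
      _ = u * e * u⁻¹ * e⁻¹ := by rw [(show Commute c u from hcc u hu).inv_right.eq, mul_inv_cancel_right]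
  rw [← commutatorElement_inv, ← e1]; exact inv_mem (hperp u hu)

theorem bad_max (hk : Nat.card E ≠ 2 ^ (2 * m) * Nat.card (fx E a)) {k d : X} (hkG : k ∈ G)
    (hd : d ∈ MulAut.conj k • fx E a) (hdz : d ∉ cen a G E) (hdE : d ∈ normalizer (E : Set X))
    (hdΦ : d ∉ fx E a) (hU : E ⊓ cst a G E d ≤ normalizer ((MulAut.conj k • E : Subgroup X) : Set X))
    (hmax : ∀ g ∈ G, d ∈ normalizer ((MulAut.conj g • E : Subgroup X) : Set X) → d ∉ MulAut.conj g • fx E a →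
      Nat.card ↥(MulAut.conj k • fx E a ⊓ normalizer ((MulAut.conj g • E : Subgroup X) : Set X)) ≤
        Nat.card ↥(MulAut.conj k • fx E a ⊓ normalizer (E : Set X))) : False := by
  haveI := Fact.mk Nat.prime_two
  set P := MulAut.conj k • fx E a with hP
  set B := P ⊓ normalizer (E : Set X) with hB
  set U := E ⊓ cst a G E d with hUdef
  have hP2 : IsPGroup 2 P := smul_isPGroup (h.isTwo_E.to_le fx_le)
  have hPG : P ≤ G := fun x hx => by
    have := G.mul_mem (G.mul_mem hkG (h.fx_le_G (mem_smul_iff'.mp hx))) (G.inv_mem hkG)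
    simpa [mul_assoc] using this
  have hdG : d ∈ G := hPG hd
  have hdJ : JG a G E d := (h.fixed_cases hkG hd).resolve_left hdz
  have hdisj : ∀ z ∈ fx E a, z ∈ P → z ∈ cen a G E := fun z hz hzP => by
    by_contra hzz
    exact hdΦ (h.point_common (f := z) ⟨hz, hzz⟩ hkG (mem_smul_iff'.mp hzP) (mem_smul_iff'.mp hd) hdE)
  have hUP : U ≤ normalizer (P : Set X) := fun x hx => h.norm_smul_fixed hkG (hU hx)
  have hUB : ∀ x ∈ U, ∀ b ∈ B, ⁅x, b⁆ ∈ cen a G E := by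
    intro x hx b hb
    have h1 : ⁅x, b⁆ ∈ P := by rw [commutatorElement_def]; exact mul_mem (conj_mem (hUP hx) hb.1) (inv_mem hb.1)
    have h2 : ⁅x, b⁆ ∈ E := by
      rw [commutatorElement_def, mul_assoc x b, mul_assoc x]
      exact mul_mem hx.1 (by simpa [mul_assoc] using conj_mem hb.2 (E.inv_mem hx.1))
    rcases h.fixed_cases hkG h1 with hz | hJ
    · exact hz
    · exact hdisj _ (h.E_inter_JG hk hJ h2) h1
  have hcenU : cen a G E ≤ U := fun z hz => ⟨fx_le hz.1, (h.mem_cst hdG).mpr ⟨h.fx_le_G hz.1, by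
    rw [commutatorElement_eq_one_iff_mul_comm.mpr (h.cen_central hz hdG)]; exact one_mem _⟩⟩
  have extend : ∀ f y, f ∈ fx E a → f ∉ cen a G E → f ∈ U → y ∈ P → y ∉ B → ⁅f, y⁆ ∈ cen a G E → False := by
    intro f y hf hfz hfU hy hyB hfy
    have hJ : InJ a G E f := ⟨hf, hfz⟩
    set T := P ⊓ cst a G E f with hT
    have hmemT : ∀ w ∈ P, ⁅f, w⁆ ∈ cen a G E → w ∈ T := fun w hw hc => ⟨hw, (h.mem_cst (h.fx_le_G hf)).mpr
      ⟨hPG hw, by rw [← commutatorElement_inv]; exact inv_mem hc⟩⟩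
    have hBT : B ≤ T := fun b hb => hmemT b hb.1 (hUB f hfU b hb)
    obtain ⟨x, hx, hxf, hTN⟩ := h.exists_point' hJ (T := T) inf_le_right (hP2.to_le inf_le_left)
    have hd' : d ∉ MulAut.conj x • fx E a := fun hd' => hdΦ (h.point_common (f := f) (g := x) hJ hx
      (by rw [mul_assoc, ← hxf, inv_mul_cancel_left]; exact hf) (mem_smul_iff'.mp hd') hdE)
    have hcard := hmax x hx (hTN (hBT ⟨hd, hdE⟩)) hd'
    have hTle : T ≤ P ⊓ normalizer ((MulAut.conj x • E : Subgroup X) : Set X) := fun w hw => ⟨hw.1, hTN hw⟩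
    exact hyB ((Subgroup.eq_of_le_of_card_ge hBT ((Subgroup.card_le_of_le hTle).trans hcard)).ge (hmemT y hy hfy))
  obtain ⟨f, hfU, hfΦ, hfz⟩ : ∃ f ∈ U, f ∈ fx E a ∧ f ∉ cen a G E := by
    obtain ⟨z, hz⟩ := h.exists_InJ' hk
    by_cases hzd : ⁅z, d⁆ ∈ cen a G E
    · exact ⟨z, ⟨fx_le hz.1, (h.mem_cst hdG).mpr ⟨h.fx_le_G hz.1, hzd⟩⟩, hz.1, hz.2⟩
    have hk' : ⁅z, d⁆ ∈ fx E a := by
      rw [commutatorElement_def, mul_assoc z d, mul_assoc z]
      exact mul_mem hz.1 (by simpa [mul_assoc] using conj_mem (h.norm_fixed' hdE) (inv_mem hz.1))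
    refine ⟨_, ⟨fx_le hk', (h.mem_cst hdG).mpr ⟨h.fx_le_G hk', ?_⟩⟩, hk', hzd⟩
    have hdd : d⁻¹ = d := inv_eq_of_mul_eq_one_right (h.JG_invol hdJ)
    have hzz : z⁻¹ = z := inv_eq_of_mul_eq_one_right (h.fixed_invol hz.1)
    have hw : d * z * d ∈ fx E a := by simpa [hdd] using conj_mem (h.norm_fixed' hdE) hz.1
    have e1 : ⁅z, d⁆ = z * (d * z * d) := by rw [commutatorElement_def, hdd, hzz]; group
    have e2 : d * ⁅z, d⁆ * d⁻¹ = ⁅z, d⁆ := by
      rw [e1, hdd]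
      calc d * (z * (d * z * d)) * d = (d * z * d) * z * (d * d) := by group
        _ = _ := by rw [h.JG_invol hdJ, mul_one, ← h.qgrp.fixed_central hz.1 (fx_le hw)]
    rw [commutatorElement_eq_one_iff_mul_comm.mpr (mul_inv_eq_iff_eq_mul.mp e2).symm]
    exact one_mem _
  by_cases hall : P ≤ normalizer (E : Set X)
  · refine hfz (hdisj f hfΦ ?_)
    have h' := h.conj hkG
    have h1 := h'.no_pure (h.hk_smul hk k) ((h.JG_smul hkG).mpr (h.JG_of_InJ ⟨hfΦ, hfz⟩)) (hU hfU) fun w hw => by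
      rw [fx_smul] at hw
      rw [h.cen_smul hkG]
      exact hUB f hfU w ⟨hw, hall hw⟩
    rwa [fx_smul] at h1
  by_cases hsq : ∀ x ∈ U, x ^ 2 ∈ cen a G E
  · obtain ⟨g, -, h1, hfx, hcen, -, hTB⟩ :=
      h.recentre (T := B) (le_inf (inf_le_left.trans hPG) inf_le_right) (hP2.to_le inf_le_left)
    set a₁ := g⁻¹ * a * g
    obtain ⟨e, he, t, htG, htE, hta, hde⟩ := hTB d ⟨hd, hdE⟩
    have heΦ : e ∉ fx E a := fun heΦ => hdΦ (hfx ▸ h1.no_fixed_bad (hfx.symm ▸ hk)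
      ((JG_congr hfx hcen).mpr hdJ)
      (by rw [hde]; exact ((show Commute a₁ e from (mem_fx.mp (hfx.symm ▸ heΦ)).2).mul_right hta).eq) hdE)
    have htt : t * t ∈ fx E a := by
      rw [← hfx]
      refine mem_fx.mpr ⟨?_, ((show Commute a₁ t from hta).mul_right hta).eq⟩
      have e1 : t * t = (e * (t * e * t⁻¹))⁻¹ * (d * d) := by rw [hde]; group
      rw [e1, h.JG_invol hdJ, mul_one]
      exact E.inv_mem (E.mul_mem he (conj_mem htE he))
    have hζ : e⁻¹ * (t * e * t⁻¹) ∈ fx E a₁ := by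
      have e1 : e⁻¹ * (t * e * t⁻¹) = e⁻¹ * e⁻¹ * (d * d) * (t * t)⁻¹ := by rw [hde]; group
      rw [e1, h.JG_invol hdJ, mul_one, ← mul_inv_rev e e, ← sq, hfx]
      exact mul_mem (inv_mem (h.qgrp.pow_q_mem he)) (inv_mem htt)
    have hefix : e ∈ fixd a₁ E t := (h1.mem_fixd htE).mpr ⟨he, hζ⟩
    have hpairU : ∀ n : ℕ, a₁ ^ n * e * (a₁ ^ n)⁻¹ * ((a₁ ^ n)⁻¹ * e * a₁ ^ n) ∈ U := by
      intro n
      have hQ : (a₁ ^ n)⁻¹ * e * a₁ ^ n ∈ E := by simpa using conj_mem (inv_mem (h1.pow_norm_E n)) he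
      have hP' : a₁ ^ n * e * (a₁ ^ n)⁻¹ ∈ E := conj_mem (h1.pow_norm_E n) he
      set ζ := e⁻¹ * (t * e * t⁻¹) with hζdef
      have hc : Commute (a₁ ^ n) t := (show Commute a₁ t from hta).pow_left n
      have e1 : t * (a₁ ^ n * e * (a₁ ^ n)⁻¹) * t⁻¹ = a₁ ^ n * e * (a₁ ^ n)⁻¹ * ζ := by
        calc t * (a₁ ^ n * e * (a₁ ^ n)⁻¹) * t⁻¹ = (t * a₁ ^ n) * e * (t * a₁ ^ n)⁻¹ := by group
          _ = (a₁ ^ n * t) * e * (a₁ ^ n * t)⁻¹ := by rw [hc.eq]
          _ = a₁ ^ n * e * (a₁ ^ n)⁻¹ * (a₁ ^ n * ζ * (a₁ ^ n)⁻¹) := by rw [hζdef]; group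
          _ = _ := by rw [h1.pow_conj_fixed hζ]
      have e2 : t * ((a₁ ^ n)⁻¹ * e * a₁ ^ n) * t⁻¹ = (a₁ ^ n)⁻¹ * e * a₁ ^ n * ζ := by
        calc t * ((a₁ ^ n)⁻¹ * e * a₁ ^ n) * t⁻¹ = (t * (a₁ ^ n)⁻¹) * e * (t * (a₁ ^ n)⁻¹)⁻¹ := by group
          _ = ((a₁ ^ n)⁻¹ * t) * e * ((a₁ ^ n)⁻¹ * t)⁻¹ := by rw [hc.inv_left.eq]
          _ = (a₁ ^ n)⁻¹ * e * a₁ ^ n * ((a₁ ^ n)⁻¹ * ζ * a₁ ^ n) := by rw [hζdef]; group
          _ = _ := by rw [h1.pow_inv_conj_fixed hζ]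
      have hxe := commutatorElement_eq_one_iff_mul_comm.mp (h1.pair_comm he n)
      set Pn := a₁ ^ n * e * (a₁ ^ n)⁻¹
      set Qn := (a₁ ^ n)⁻¹ * e * a₁ ^ n
      have htx : t * (Pn * Qn) * t⁻¹ = Pn * Qn := by
        calc t * (Pn * Qn) * t⁻¹ = (t * Pn * t⁻¹) * (t * Qn * t⁻¹) := by group
          _ = Pn * (ζ * Qn) * ζ := by rw [e1, e2]; group
          _ = Pn * Qn * (ζ * ζ) := by rw [h1.qgrp.fixed_central hζ hQ]; group
          _ = _ := by rw [h1.fixed_invol hζ, mul_one]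
      refine ⟨E.mul_mem hP' hQ, (h.mem_cst hdG).mpr ⟨h.E_le (E.mul_mem hP' hQ), ?_⟩⟩
      rw [commutatorElement_eq_one_iff_mul_comm.mpr ?_]; · exact one_mem _
      rw [hde]
      exact ((show Commute (Pn * Qn) e from hxe).mul_right
        (show Commute (Pn * Qn) t from (mul_inv_eq_iff_eq_mul.mp htx).symm)).eq
    obtain ⟨hV, heV⟩ := h1.null_orb he (h1.orbit_comm_of_sq he fun n => hcen.symm ▸ hsq _ (hpairU n))
    set W := orb a₁ E e
    have hWne : W ≠ fx E a₁ := fun e' => heΦ (hfx ▸ (e' ▸ heV))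
    have hWfix : W ≤ fixd a₁ E t := by
      refine (closure_le _).mpr ?_
      rintro x (hx | ⟨n, rfl⟩)
      · exact h1.fixed_le_fixd htE hta hx
      · exact conj_mem (Subgroup.pow_mem _ (h1.norm_fixd htE hta) n) hefix
    have hbrU : br W a₁ ≤ U := by
      intro v hv
      have hvE : v ∈ E := hV.le (br_le hV.norm hv)
      have hvt := h1.centralizes_br_fixd htE hta v (br_mono hWfix hv)
      refine ⟨hvE, (h.mem_cst hdG).mpr ⟨h.E_le hvE, ?_⟩⟩
      have e1 : ⁅v, d⁆ = ⁅v, e⁆ := by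
        rw [hde]; simp only [commutatorElement_def]
        calc v * (e * t) * v⁻¹ * (e * t)⁻¹ = v * e * (t * v⁻¹ * t⁻¹) * e⁻¹ := by group
          _ = v * e * v⁻¹ * e⁻¹ := by rw [(show Commute t v from hvt).inv_right.eq, mul_inv_cancel_right]
      rw [e1, ← hcen]
      exact hV.comm v (br_le hV.norm hv) e heV
    have hUW : U ≤ W := by
      intro x hx
      refine h1.null_perp hV hWne hx.1 fun w hw => ?_
      obtain ⟨u, hu, z, hz, rfl⟩ := h1.exists_br_mul hV.ge hV.le hV.norm hw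
      have huU := hbrU hu
      rw [h1.qgrp.comm_mul_right hx.1 huU.1 (fx_le hz),
        commutatorElement_eq_one_iff_mul_comm.mpr (h1.qgrp.fixed_central hz hx.1).symm, mul_one, hcen]
      have e1 : ⁅x, u⁆ = (x * u) ^ 2 * (x ^ 2 * u ^ 2)⁻¹ := by
        have hc2 : (x ^ 2) * u = u * x ^ 2 := h.qgrp.fixed_central (hsq x hx).1 huU.1
        have e' : (x * u) ^ 2 = ⁅x, u⁆ * (x ^ 2 * u ^ 2) := by
          calc (x * u) ^ 2 = ⁅x, u⁆ * (u * x ^ 2) * u := by rw [commutatorElement_def, sq, sq]; group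
            _ = ⁅x, u⁆ * (x ^ 2 * u) * u := by rw [hc2]
            _ = _ := by rw [sq u]; group
        rw [e', mul_inv_cancel_right]
      rw [e1]
      exact mul_mem (hsq _ (mul_mem hx huU)) (inv_mem (mul_mem (hsq x hx) (hsq u huU)))
    have hsplit : ∀ x ∈ U, ∃ v ∈ br W a₁, ∃ φ ∈ fx E a₁, φ ∈ U ∧ x = v * φ := by
      intro x hx
      obtain ⟨v, hv, φ, hφ, rfl⟩ := h1.exists_br_mul hV.ge hV.le hV.norm (hUW hx)
      exact ⟨v, hv, φ, hφ, (mul_mem_cancel_left (hbrU hv)).mp hx, rfl⟩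
    have hBU : B ≤ normalizer (U : Set X) := fun b hb => mem_normalizer_of_conj_le fun x hx => by
      have e1 : b * x * b⁻¹ = ⁅x, b⁆⁻¹ * x := by rw [commutatorElement_def]; group
      rw [e1]; exact mul_mem (inv_mem (hcenU (hUB x hx b hb))) hx
    set R := U ⊔ B with hR
    have hR2 : IsPGroup 2 R :=
      IsPGroup.to_sup_of_normal_left' (h.isTwo_E.to_le inf_le_left) (hP2.to_le inf_le_left) hBU
    have hbpart : ∀ b ∈ B, ∃ v ∈ br W a₁, ∃ t', a₁ * t' = t' * a₁ ∧ b = v * t' := by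
      intro b hb
      obtain ⟨eb, heb, tb, -, htbE, htba, hbe⟩ := hTB b hb
      have hebW := h1.part_mem_null hV hWne heb htbE htba hbe fun v hv => hcen.symm ▸ hUB v (hbrU hv) b hb
      obtain ⟨v, hv, z, hz, rfl⟩ := h1.exists_br_mul hV.ge hV.le hV.norm hebW
      exact ⟨v, hv, z * tb, ((show Commute a₁ z from (mem_fx.mp hz).2).mul_right htba).eq, by rw [hbe, mul_assoc]⟩
    have hRa : a₁ ∈ normalizer (R : Set X) := by
      refine mem_normalizer_of_conj_le fun w hw => ?_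
      obtain ⟨x, hx, b, hb, rfl⟩ := mem_sup_of_normalizes hBU hw
      obtain ⟨v, hv, φ, hφ, hφU, rfl⟩ := hsplit x hx
      obtain ⟨v', hv', t', ht', rfl⟩ := hbpart b hb
      have e1 : a₁ * (v * φ * (v' * t')) * a₁⁻¹ =
          (a₁ * v * a₁⁻¹) * (a₁ * φ * a₁⁻¹) * ((a₁ * v' * a₁⁻¹) * v'⁻¹) * (v' * t') := by
        calc a₁ * (v * φ * (v' * t')) * a₁⁻¹ = a₁ * v * φ * v' * (t' * a₁⁻¹) := by group
          _ = a₁ * v * φ * v' * (a₁⁻¹ * t') := by rw [(show Commute a₁ t' from ht').inv_left.eq]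
          _ = _ := by group
      rw [e1, (mem_fx'.mp hφ).2]
      exact mul_mem (mem_sup_left (mul_mem (mul_mem (hbrU (conj_mem norm_br hv)) hφU)
        (mul_mem (hbrU (conj_mem norm_br hv')) (inv_mem (hbrU hv'))))) (mem_sup_right hb)
    have hRP : R ≤ normalizer (P : Set X) :=
      sup_le hUP fun b hb => mem_normalizer_of_centralizes fun x hx => h.smul_fixed_comm hb.1 hx
    have hRE : R ≤ normalizer (E : Set X) := sup_le (inf_le_left.trans Subgroup.le_normalizer) inf_le_right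
    obtain ⟨y, hy, hyB, hyc⟩ := exists_fixed_outside (P := P) (B := B) (R := R) hP2
      (fun x hx y hy => h.smul_fixed_comm hx hy) inf_le_left (fun hle => hall (hle.trans inf_le_right)) hR2 hRP
      (fun w hw => mem_normalizer_inf (hRP hw) (Subgroup.le_normalizer (hRE hw)))
    have hyR : y ∈ normalizer (R : Set X) := mem_normalizer_of_conj_le fun w hw => by
      have e1 : y * w * y⁻¹ = ⁅w, y⁆⁻¹ * w := by rw [commutatorElement_def]; group
      rw [e1]; exact mul_mem (inv_mem (mem_sup_right (hyc w hw))) hw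
    have hRG : R ≤ G := sup_le (inf_le_left.trans h.E_le) (inf_le_left.trans hPG)
    obtain ⟨v₀, hv₀, hv₀Φ⟩ : ∃ v ∈ br W a₁, v ∉ fx E a₁ := by
      by_contra hc
      push Not at hc
      exact hWne (le_antisymm ((h1.eq_br_sup hV.ge hV.le hV.norm).le.trans (sup_le hc le_rfl)) hV.ge)
    set H := G ⊓ normalizer (R : Set X) with hH
    have hHa : a₁ ∈ normalizer (H : Set X) := mem_normalizer_inf h1.act.norm (Subgroup.le_normalizer hRa)
    have hHne : H ≠ G :=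
      h1.normalizer_ne_of hRG hR2 hRa (hbrU hv₀).1 (mem_sup_left (hbrU hv₀)) hv₀Φ
    have hactH := h1.act.mono (inf_le_left : H ≤ G) hHa
    have hRH : R ≤ H := le_inf hRG Subgroup.le_normalizer
    obtain ⟨Xp, Y, E₄, hXp, hXle, hXn, -, hE₄, hYE, hTY, -, -, -, hdec⟩ :=
      h1.local_struct' inf_le_left hHa hHne (T := R ⊓ br H a₁) inf_le_right (hR2.to_le inf_le_left)
        (mem_normalizer_inf hRa norm_br)
    have hbrY : br W a₁ ≤ Y := fun v hv => hTY ⟨mem_sup_left (hbrU hv),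
      br_mono (fun v' hv' => hRH (mem_sup_left (hbrU hv')))
        ((h1.act.mono (hV.le.trans h.E_le) hV.norm).br_br.ge hv)⟩
    have hRY : ∀ w ∈ R, w ∈ E₄ → w ∈ E := by
      intro w hw hw4
      obtain ⟨x, hx, b, hb, rfl⟩ := mem_sup_of_normalizes hBU hw
      obtain ⟨v, hv, φ, hφ, hφU, rfl⟩ := hsplit x hx
      obtain ⟨v', hv', t', ht', rfl⟩ := hbpart b hb
      have hv'E := hV.le (br_le hV.norm hv')
      have e1 : v * φ * (v' * t') = v * v' * (φ * t') := by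
        rw [mul_assoc v φ, ← mul_assoc φ v', h1.qgrp.fixed_central hφ hv'E]; group
      rw [e1] at hw4 ⊢
      have hvv : v * v' ∈ E₄ := hYE (mul_mem (hbrY hv) (hbrY hv'))
      have hw' : φ * t' ∈ E₄ := (mul_mem_cancel_left hvv).mp hw4
      have hw'R : φ * t' ∈ R := by
        have h2 : v'⁻¹ * (v' * t') ∈ R := mul_mem (inv_mem (mem_sup_left (hbrU hv'))) (mem_sup_right hb)
        rw [inv_mul_cancel_left] at h2
        exact mul_mem (mem_sup_left hφU) h2
      have hfix : a₁ * (φ * t') = φ * t' * a₁ :=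
        ((show Commute a₁ φ from (mem_fx.mp hφ).2).mul_right ht').eq
      obtain ⟨c, hc, rfl⟩ := hE₄
      obtain ⟨-, hfx4, -⟩ := h1.frame_setup hc
      have h4 : φ * t' ∈ MulAut.conj c • fx E a₁ := hfx4 ▸ mem_fx.mpr ⟨hw', hfix⟩
      refine mul_mem (E.mul_mem (hV.le (br_le hV.norm hv)) hv'E) (fx_le (a := a₁) ?_)
      rcases h1.fixed_cases (fx_le hc) h4 with hz | hJ
      · exact hz.1
      · exact h1.no_fixed_bad (hfx.symm ▸ hk) hJ hfix (hRE hw'R)
    obtain ⟨n, hn, c, hc, hync⟩ := hactH.exists_br_mul_fx (x := y) ⟨hPG hy, hyR⟩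
    obtain ⟨hcH, hca⟩ := mem_fx.mp hc
    have hfR : f ∈ R := mem_sup_left hfU
    have hfJ : JG a G E f := h.JG_of_InJ ⟨hfΦ, hfz⟩
    have hJconj : ∀ q ∈ G, ∀ w, JG a G E w → JG a G E (q * w * q⁻¹) := by
      rintro q hq w ⟨l, hl, hw⟩
      refine ⟨q * l, G.mul_mem hq hl, ?_⟩
      rwa [show (q * l)⁻¹ * (q * w * q⁻¹) * (q * l) = l⁻¹ * w * l by group]
    have hf' : c * f * c⁻¹ ∈ fx E a := by
      rw [← hfx]
      refine h1.no_fixed_bad (hfx.symm ▸ hk) ((JG_congr hfx hcen).mpr (hJconj c hcH.1 f hfJ)) ?_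
        (hRE (conj_mem hcH.2 hfR))
      exact (((show Commute a₁ c from hca).mul_right (mem_fx.mp (hfx.symm ▸ hfΦ)).2).mul_right
        (show Commute a₁ c from hca).inv_right).eq
    obtain ⟨u, hu, η, hη, rfl⟩ := hdec n hn
    set f' := c * f * c⁻¹
    have hf'R : f' ∈ R := conj_mem hcH.2 hfR
    have hηH : η ∈ H := by
      have : η = u⁻¹ * (u * η) := by group
      rw [this]; exact mul_mem (inv_mem (br_le hHa (hXle hu))) (br_le hHa hn)
    have hηbr : η ∈ br H a₁ := by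
      have : η = u⁻¹ * (u * η) := by group
      rw [this]; exact mul_mem (inv_mem (hXle hu)) hn
    have hk1 : ⁅η, f'⁆ ∈ R ⊓ br H a₁ := by
      refine Subgroup.mem_inf.mpr ⟨?_, ?_⟩
      · rw [commutatorElement_def]; exact mul_mem (conj_mem hηH.2 hf'R) (inv_mem hf'R)
      · rw [commutatorElement_def, mul_assoc η f', mul_assoc η]
        exact mul_mem hηbr (by simpa [mul_assoc] using conj_mem (le_norm_br (hRH hf'R)) (inv_mem hηbr))
    have hkE : ⁅η, f'⁆ ∈ E := hRY _ hk1.1 (hYE (hTY hk1))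
    have hηf : η * f' * η⁻¹ = ⁅η, f'⁆ * f' := by rw [commutatorElement_def]; group
    have hyf : y * f * y⁻¹ = ⁅η, f'⁆ * f' := by
      rw [hync, ← hηf]
      have hcomm : ⁅u, η * f' * η⁻¹⁆ = 1 := by
        have hgR : η * f' * η⁻¹ ∈ R := conj_mem hηH.2 hf'R
        have h2 : ⁅u, η * f' * η⁻¹⁆ ∈ Xp ⊓ R := by
          refine Subgroup.mem_inf.mpr ⟨?_, ?_⟩
          · have := Xp.mul_mem hu (conj_mem (hXn (hRH hgR)) (Xp.inv_mem hu))
            simpa [commutatorElement_def, mul_assoc] using this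
          · rw [commutatorElement_def]
            exact mul_mem (conj_mem (br_le hHa (hXle hu)).2 hgR) (inv_mem hgR)
        rw [disjoint_iff.mp (IsPGroup.disjoint_of_ne p 2 h.podd Xp R hXp hR2)] at h2
        exact h2
      calc u * η * c * f * (u * η * c)⁻¹ = u * (η * (c * f * c⁻¹) * η⁻¹) * u⁻¹ := by group
        _ = η * f' * η⁻¹ := by rw [commutatorElement_eq_one_iff_mul_comm.mp hcomm, mul_inv_cancel_right]
    have hyfE : y * f * y⁻¹ ∈ fx E a := h.E_inter_JG hk (hJconj y (hPG hy) f hfJ) (hyf ▸ mul_mem hkE (fx_le hf'))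
    have hfy : ⁅f, y⁆ ∈ cen a G E := by
      refine hdisj _ ?_ (hyc f hfR).1
      rw [commutatorElement_def, mul_assoc f y, mul_assoc f]
      refine mul_mem hfΦ ?_
      have := inv_mem hyfE
      simpa [mul_assoc] using this
    exact extend f y hfΦ hfz hfU hy hyB hfy
  push Not at hsq
  obtain ⟨x, hx, hxz⟩ := hsq
  have hT : zpowers x ≤ U := zpowers_le.mpr hx
  obtain ⟨y, hy, hyB, hyc⟩ := exists_fixed_outside (P := P) (B := B) (R := U) hP2
    (fun x hx y hy => h.smul_fixed_comm hx hy) inf_le_left (fun hle => hall (hle.trans inf_le_right))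
    (h.isTwo_E.to_le inf_le_left) hUP
    (fun w hw => mem_normalizer_inf (hUP hw) (Subgroup.le_normalizer (Subgroup.le_normalizer hw.1)))
  refine extend (x ^ 2) y (h.qgrp.pow_q_mem hx.1) hxz (pow_mem hx 2) hy hyB ?_
  set b := ⁅x, y⁆ with hb
  have hbB : b ∈ B := hyc x hx
  have hζ := hUB x hx b hbB
  have hxy : x * y * x⁻¹ = b * y := by rw [hb, commutatorElement_def]; group
  have hxb : x * b * x⁻¹ = ⁅x, b⁆ * b := by rw [commutatorElement_def]; group
  have hbb : b * b = 1 := by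
    have h2 := h.fixed_invol (mem_smul_iff'.mp hbB.1)
    calc b * b = k * ((k⁻¹ * b * k) * (k⁻¹ * b * k)) * k⁻¹ := by group
      _ = 1 := by rw [h2]; group
  have e1 : ⁅x ^ 2, y⁆ = ⁅x, b⁆ := by
    calc ⁅x ^ 2, y⁆ = (x * (x * y * x⁻¹) * x⁻¹) * y⁻¹ := by rw [sq, commutatorElement_def]; group
      _ = (x * b * x⁻¹) * (x * y * x⁻¹) * y⁻¹ := by conv_lhs => rw [hxy]
                                                    group
      _ = ⁅x, b⁆ * (b * b) := by rw [hxb, hxy]; group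
      _ = ⁅x, b⁆ := by rw [hbb, mul_one]
  rw [e1]; exact hζ

/-- **`J^G ∩ N(E) ⊆ E'`.** -/
theorem good (hk : Nat.card E ≠ 2 ^ (2 * m) * Nat.card (fx E a)) {u : X} (hu : JG a G E u)
    (huE : u ∈ normalizer (E : Set X)) : u ∈ fx E a := by
  classical
  haveI := Fact.mk Nat.prime_two
  by_contra huΦ
  have huz := h.JG_not_cen hu
  obtain ⟨g, hg, hug⟩ := hu
  let ok : X × X → Prop := fun q => q.1 ∈ G ∧ q.2 ∈ G ∧ u ∈ MulAut.conj q.2 • fx E a ∧
    u ∈ normalizer ((MulAut.conj q.1 • E : Subgroup X) : Set X) ∧ u ∉ MulAut.conj q.1 • fx E a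
  obtain ⟨⟨c, k⟩, ⟨hc, hkG, huk, hcN, hcΦ⟩, hmax⟩ := Set.exists_max_image {q | ok q}
    (fun q => Nat.card ↥(MulAut.conj q.2 • fx E a ⊓ normalizer ((MulAut.conj q.1 • E : Subgroup X) : Set X)))
    (Set.toFinite _) ⟨(1, g), G.one_mem, hg, mem_smul_iff'.mpr hug.1, by simpa using huE, by simpa using huΦ⟩
  have h₀ := h.conj hc
  set E₀ := MulAut.conj c • E with hE₀
  set a₀ := c * a * c⁻¹
  have hcen₀ := h.cen_smul hc
  have hfx₀ : fx E₀ a₀ = MulAut.conj c • fx E a := fx_smul c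
  have hkk := h.conj hkG
  have hJk : InJ (k * a * k⁻¹) G (MulAut.conj k • E) u := ⟨by rw [fx_smul]; exact huk, (h.cen_smul hkG).symm ▸ huz⟩
  set B := MulAut.conj k • fx E a ⊓ normalizer (E₀ : Set X) with hB
  set U := E₀ ⊓ cst a₀ G E₀ u with hU
  have hPG : MulAut.conj k • fx E a ≤ G := fun x hx => by
    have := G.mul_mem (G.mul_mem hkG (h.fx_le_G (mem_smul_iff'.mp hx))) (G.inv_mem hkG)
    simpa [mul_assoc] using this
  have huG : u ∈ G := hPG huk
  have hBcst : B ≤ cst a₀ G E₀ u := fun b hb => (h₀.mem_cst huG).mpr ⟨hPG hb.1, by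
    rw [commutatorElement_eq_one_iff_mul_comm.mpr (h.smul_fixed_comm hb.1 huk)]; exact one_mem _⟩
  have hBU : B ≤ normalizer (U : Set X) := fun b hb =>
    mem_normalizer_inf hb.2 (Subgroup.le_normalizer (hBcst hb))
  have hT2 : IsPGroup 2 (U ⊔ B : Subgroup X) :=
    IsPGroup.to_sup_of_normal_left' (h₀.isTwo_E.to_le inf_le_left)
      ((smul_isPGroup (h.isTwo_E.to_le fx_le) : IsPGroup 2 (MulAut.conj k • fx E a : Subgroup X)).to_le inf_le_left) hBU
  obtain ⟨x, hx, hxu, hTN⟩ := hkk.exists_point' hJk (T := U ⊔ B)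
    (sup_le (fun y hy => by rw [cst_congr ((h.cen_smul hkG).trans hcen₀.symm)]; exact hy.2)
      (fun y hy => by rw [cst_congr ((h.cen_smul hkG).trans hcen₀.symm)]; exact hBcst hy)) hT2
  rw [← mul_smul, ← map_mul] at hTN
  have hk' : x * k ∈ G := G.mul_mem hx hkG
  have huk' : u ∈ MulAut.conj (x * k) • fx E a := by
    rw [map_mul, mul_smul, mem_smul_iff', mul_assoc, ← hxu, inv_mul_cancel_left]; exact huk
  have hxk := h.conj hk'
  have hle : B ≤ MulAut.conj (x * k) • fx E a ⊓ normalizer (E₀ : Set X) := fun b hb => by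
    refine ⟨?_, hb.2⟩
    rw [← fx_smul]
    refine hxk.point_common (f := u) (g := x⁻¹) ⟨?_, (h.cen_smul hk').symm ▸ huz⟩ (G.inv_mem hx) ?_ ?_
      (hTN (mem_sup_right hb))
    · rw [fx_smul]; exact huk'
    · rw [fx_smul, inv_inv, map_mul, mul_smul]; exact conj_mem_smul huk
    · rw [fx_smul, inv_inv, map_mul, mul_smul]; exact conj_mem_smul hb.1
  have hkc : x * k * c⁻¹ ∈ G := G.mul_mem hk' (G.inv_mem hc)
  have hPeq : MulAut.conj (x * k * c⁻¹) • fx E₀ a₀ = MulAut.conj (x * k) • fx E a := by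
    rw [hfx₀, ← mul_smul, ← map_mul, inv_mul_cancel_right]
  have hEeq : MulAut.conj (x * k * c⁻¹) • E₀ = MulAut.conj (x * k) • E := by
    rw [hE₀, ← mul_smul, ← map_mul, inv_mul_cancel_right]
  refine h₀.bad_max (h.hk_smul hk c) hkc (hPeq.symm ▸ huk') (hcen₀.symm ▸ huz) hcN (hfx₀.symm ▸ hcΦ) ?_ ?_
  · rw [hEeq]; exact fun y hy => hTN (mem_sup_left hy)
  · intro g' hg' hN' hΦ'
    rw [hfx₀, ← mul_smul, ← map_mul] at hΦ'
    rw [hPeq]
    rw [hE₀, ← mul_smul, ← map_mul] at hN' ⊢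
    refine (hmax (g' * c, x * k) ⟨G.mul_mem hg' hc, hk', huk', hN', hΦ'⟩).trans ?_
    exact Subgroup.card_le_of_le hle

end Setup

end Cfsg.Agent.Invol.Shult
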