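import Mathlib
import Cfsg.Agent.Lib.Invol.Shult.Good

/-!
Fusion of the noncentral elements of `E'`, dihedral subgroups modulo `Z₀`, and subgroups containing all
centralizers modulo `Z₀` of these elements.
-/

set_option autoImplicit false

namespace Cfsg.Agent.Invol.Shult

open Subgroup
open scoped Pointwise commutatorElement
open Cfsg.Agent.Grp (IsSylowIn)

variable {X : Type*} [Group X] {a : X} {p r m : ℕ} {G V E H K M C : Subgroup X}

/-- A subgroup containing `N(E)` and every centralizer modulo `Z₀` of noncentral elements of `E'`. -/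
structure Big (a : X) (G E M : Subgroup X) : Prop where
  le : M ≤ G
  ne : M ≠ G
  normE : G ⊓ normalizer (E : Set X) ≤ M
  cst_le : ∀ f, InJ a G E f → cst a G E f ≤ M

/-- Two involutions modulo a central subgroup are conjugate or centralize a common third one. -/
theorem dihedral_mod [Finite X] {u v : X} (hu : u ∈ K) (hv : v ∈ K)
    (hC : ∀ z ∈ C, ∀ x ∈ K, z * x = x * z) (hCK : C ≤ K) (huu : u * u ∈ C) (hvv : v * v ∈ C) :
    (∃ d ∈ K, v⁻¹ * (d * u * d⁻¹) ∈ C) ∨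
      ∃ w ∈ K, w ∉ C ∧ w * w ∈ C ∧ ⁅w, u⁆ ∈ C ∧ ⁅w, v⁆ ∈ C ∧
        ∃ d ∈ K, (u * w)⁻¹ * (d * u * d⁻¹) ∈ C ∨ (u * w)⁻¹ * (d * v * d⁻¹) ∈ C := by
  haveI : (C.subgroupOf K).Normal := ⟨fun z hz g => by
    rw [Subgroup.mem_subgroupOf] at hz ⊢
    have e : (g : X) * z * (g : X)⁻¹ = z := by rw [← hC _ hz _ g.2, mul_inv_cancel_right]
    simpa [e] using hz⟩
  set π := QuotientGroup.mk' (C.subgroupOf K) with hπ
  have hker : ∀ x : K, π x = 1 ↔ (x : X) ∈ C := fun x => by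
    rw [hπ, QuotientGroup.mk'_apply, QuotientGroup.eq_one_iff, Subgroup.mem_subgroupOf]
  set U := π ⟨u, hu⟩ with hU
  set W := π ⟨v, hv⟩ with hW
  have hUU : U * U = 1 := by rw [hU, ← map_mul, hker]; exact huu
  have hWW : W * W = 1 := by rw [hW, ← map_mul, hker]; exact hvv
  have hUi : U⁻¹ = U := inv_eq_of_mul_eq_one_right hUU
  have hWi : W⁻¹ = W := inv_eq_of_mul_eq_one_right hWW
  set c := U * W with hc
  have hUc : U * c * U⁻¹ = c⁻¹ := by rw [hc, mul_inv_rev, hUi, hWi, ← mul_assoc, hUU, one_mul]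
  have hUck : ∀ k : ℕ, c ^ k * U = U * (c ^ k)⁻¹ := fun k => by
    have h1 := (conj_pow (i := k) (a := U) (b := c)).symm
    rw [hUc, inv_pow] at h1
    have e : c ^ k * U = (U * U) * c ^ k * U := by rw [hUU, one_mul]
    rw [e, ← h1, hUi]; group
  have hWc : W = U * c := by rw [hc, ← mul_assoc, hUU, one_mul]
  have hconjU : ∀ k : ℕ, c ^ k * U * (c ^ k)⁻¹ = U * (c ^ (2 * k))⁻¹ := fun k => by
    rw [hUck, two_mul, pow_add, mul_inv_rev]; group
  have hcinv : ∀ k : ℕ, (c ^ k)⁻¹ * U = U * c ^ k := fun k => by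
    calc (c ^ k)⁻¹ * U = (c ^ k)⁻¹ * (U * (c ^ k)⁻¹) * c ^ k := by group
      _ = (c ^ k)⁻¹ * (c ^ k * U) * c ^ k := by rw [hUck]
      _ = _ := by group
  have hn : 0 < orderOf c := orderOf_pos c
  have hpow : c ^ orderOf c = 1 := pow_orderOf_eq_one c
  obtain ⟨d, hd⟩ := QuotientGroup.mk'_surjective (C.subgroupOf K) c
  rcases Nat.even_or_odd' (orderOf c) with ⟨j, hj | hj⟩
  · right
    have hw1 : c ^ j ≠ 1 := pow_ne_one_of_lt_orderOf (by omega) (by omega)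
    have hww : c ^ j * c ^ j = 1 := by rw [← pow_add, ← two_mul, ← hj]; exact hpow
    have hwi : (c ^ j)⁻¹ = c ^ j := inv_eq_of_mul_eq_one_right hww
    have hd' : π (d ^ j) = c ^ j := by rw [map_pow, hd]
    have hwU : c ^ j * U = U * c ^ j := by rw [hUck, hwi]
    have hwW : c ^ j * W = W * c ^ j := by
      rw [hWc, ← mul_assoc, hwU, mul_assoc, mul_assoc, (Commute.pow_self c j).eq]
    have hcomm : ∀ (x : K) , c ^ j * π x = π x * c ^ j → ⁅((d ^ j : K) : X), (x : X)⁆ ∈ C := fun x hx => by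
      have h1 : π ⁅d ^ j, x⁆ = 1 := by
        rw [map_commutatorElement, hd', commutatorElement_eq_one_iff_mul_comm]; exact hx
      exact (hker _).mp h1
    refine ⟨((d ^ j : K) : X), (d ^ j).2, fun hh => hw1 (by rw [← hd']; exact (hker _).mpr hh), ?_,
      hcomm ⟨u, hu⟩ hwU, hcomm ⟨v, hv⟩ hwW, ?_⟩
    · exact (hker (d ^ j * d ^ j)).mp (by rw [map_mul, hd', hww])
    rcases Nat.even_or_odd' j with ⟨i, hi | hi⟩
    · refine ⟨((d ^ i : K) : X), (d ^ i).2, Or.inl ?_⟩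
      refine (hker ((⟨u, hu⟩ * d ^ j)⁻¹ * (d ^ i * ⟨u, hu⟩ * (d ^ i)⁻¹))).mp ?_
      rw [map_mul, map_inv, map_mul, map_mul, map_mul, hd', map_inv, map_pow, hd, ← hU, hconjU, ← hi, hwi,
        inv_mul_cancel]
    · refine ⟨(((d ^ i)⁻¹ : K) : X), ((d ^ i)⁻¹).2, Or.inr ?_⟩
      refine (hker ((⟨u, hu⟩ * d ^ j)⁻¹ * ((d ^ i)⁻¹ * ⟨v, hv⟩ * ((d ^ i)⁻¹)⁻¹))).mp ?_
      have e1 : (c ^ i)⁻¹ * W * c ^ i = U * c ^ j := by
        rw [hWc, ← mul_assoc, hcinv, mul_assoc, mul_assoc, ← pow_succ' c, ← pow_add, hi,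
          show i + (i + 1) = 2 * i + 1 by omega]
      rw [map_mul, map_inv, map_mul, map_mul, map_mul, hd', map_inv, inv_inv, map_pow, hd, ← hU, ← hW,
        e1, inv_mul_cancel]
  · left
    refine ⟨((d ^ j : K) : X), (d ^ j).2, ?_⟩
    refine (hker (⟨v, hv⟩⁻¹ * (d ^ j * ⟨u, hu⟩ * (d ^ j)⁻¹))).mp ?_
    have e1 : (c ^ (2 * j))⁻¹ = c := by
      rw [inv_eq_iff_mul_eq_one, ← pow_succ, ← hj]; exact hpow
    rw [map_mul, map_inv, map_mul, map_mul, map_inv, map_pow, hd, ← hU, ← hW, hconjU, e1, hWc, inv_mul_cancel]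

namespace Setup

variable [Finite X] [Fact p.Prime] (h : Setup p r m a G V E)
include h

theorem JG_conj {g u : X} (hg : g ∈ G) (hu : JG a G E u) : JG a G E (g * u * g⁻¹) := by
  obtain ⟨k, hk, hku⟩ := hu
  refine ⟨g * k, G.mul_mem hg hk, ?_⟩
  rwa [show (g * k)⁻¹ * (g * u * g⁻¹) * (g * k) = k⁻¹ * u * k by group]

theorem JG_mul_cen {u z : X} (hu : JG a G E u) (hz : z ∈ cen a G E) : JG a G E (u * z) := by
  obtain ⟨k, hk, hku⟩ := hu
  refine ⟨k, hk, ?_⟩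
  have e : k⁻¹ * (u * z) * k = (k⁻¹ * u * k) * z := by
    calc k⁻¹ * (u * z) * k = k⁻¹ * u * (z * k) := by group
      _ = k⁻¹ * u * (k * z) := by rw [h.cen_central hz hk]
      _ = _ := by group
  rw [e]
  exact ⟨mul_mem hku.1 hz.1, fun hc => hku.2 ((mul_mem_cancel_right hz).mp hc)⟩

theorem InJ_conj {f g : X} (hf : InJ a G E f) (hg : g ∈ G) (hgf : g * f * g⁻¹ ∈ fx E a) :
    InJ a G E (g * f * g⁻¹) :=
  h.InJ_of_JG (h.JG_conj hg (h.JG_of_InJ hf)) hgf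

theorem cst_conj_le {g f : X} (hg : g ∈ G) (hf : f ∈ G) {x : X} (hx : x ∈ cst a G E (g * f * g⁻¹)) :
    g⁻¹ * x * g ∈ cst a G E f := by
  have hgf : g * f * g⁻¹ ∈ G := G.mul_mem (G.mul_mem hg hf) (G.inv_mem hg)
  obtain ⟨hxG, hc⟩ := (h.mem_cst hgf).mp hx
  refine (h.mem_cst hf).mpr ⟨G.mul_mem (G.mul_mem (G.inv_mem hg) hxG) hg, ?_⟩
  have e : ⁅g⁻¹ * x * g, f⁆ = g⁻¹ * ⁅x, g * f * g⁻¹⁆ * g⁻¹⁻¹ := by
    simp only [commutatorElement_def]; group
  rw [e, h.cen_conj_eq hc (G.inv_mem hg)]; exact hc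

theorem mem_cst_congr {u v x : X} (hu : u ∈ G) (hz : u⁻¹ * v ∈ cen a G E) :
    x ∈ cst a G E v ↔ x ∈ cst a G E u := by
  have hv : v ∈ G := by
    have := G.mul_mem hu (h.fx_le_G hz.1)
    rwa [mul_inv_cancel_left] at this
  rw [h.mem_cst hu, h.mem_cst hv]
  refine and_congr_right fun hxG => ?_
  have e : ⁅x, v⁆ = ⁅x, u⁆ := by
    have e1 : v = u * (u⁻¹ * v) := by group
    rw [e1, commutatorElement_mul_right_eq_mul_conj,
      commutatorElement_eq_one_iff_mul_comm.mpr (h.cen_central hz hxG).symm, mul_one, mul_inv_cancel_right]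
  rw [e]

/-- Fusion of an element of `E'` is achieved in `X_f N(E)`. -/
theorem exists_fusion {f g : X} (hf : InJ a G E f) (hg : g ∈ G) (hgf : g⁻¹ * f * g ∈ fx E a) :
    ∃ x n, x ∈ cst a G E f ∧ x * f = f * x ∧ n ∈ G ⊓ normalizer (E : Set X) ∧ g = x * n ∧
      ∀ y ∈ E, x⁻¹ * y * x ∈ E → x * y = y * x := by
  haveI := Fact.mk Nat.prime_two
  obtain ⟨Xp, hXp, hXle, hXf, hXn, -, hsyl, hdec⟩ := h.exists_core hf
  have hK := h.smul_le_br_cst hf hg hgf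
  have hsK : IsSylowIn 2 (MulAut.conj g • E) (br (cst a G E f) a) := by
    refine ⟨hK, smul_isPGroup h.isTwo_E, fun hd => hsyl.2.2 ?_⟩
    have h1 := Grp.card_mul_relIndex hsyl.1
    have h2 := Grp.card_mul_relIndex hK
    rw [Grp.card_conj_smul, ← h1] at h2
    rwa [← Nat.eq_of_mul_eq_mul_left Nat.card_pos h2]
  obtain ⟨b, hb, e⟩ := hsyl.conj hsK
  obtain ⟨x, hx, e₁, he₁, rfl⟩ := hdec b hb
  rw [map_mul, mul_smul, smul_eq_of_le_norm (Subgroup.le_normalizer he₁)] at e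
  refine ⟨x, x⁻¹ * g, hXle hx, hXf x hx, ⟨G.mul_mem (G.inv_mem (h.cst_le (hXle hx))) hg, ?_⟩, by group,
    fun y hy hy' => ?_⟩
  · refine Grp.mem_normalizer_iff_smul.mpr ?_
    rw [map_mul, mul_smul, ← e, ← mul_smul, ← map_mul, inv_mul_cancel, map_one, one_smul]
  · have h1 : ⁅x⁻¹, y⁆ = 1 := h.inf_eq_bot_of_p hXp
      (by
        have := Xp.mul_mem (Xp.inv_mem hx) (conj_mem (hXn (h.E_le_cst hf.1 hy)) hx)
        simpa [commutatorElement_def, mul_assoc] using this)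
      (by
        have := E.mul_mem hy' (E.inv_mem hy)
        simpa [commutatorElement_def] using this)
    have h2 : x⁻¹ * y = y * x⁻¹ := commutatorElement_eq_one_iff_mul_comm.mp h1
    calc x * y = x * (y * x⁻¹) * x := by group
      _ = x * (x⁻¹ * y) * x := by rw [h2]
      _ = y * x := by group

/-- `E'` is strongly closed in any `2`-subgroup containing it. -/
theorem mem_of_two_le (hk : Nat.card E ≠ 2 ^ (2 * m) * Nat.card (fx E a)) {T : Subgroup X} (hT : T ≤ G)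
    (hT2 : IsPGroup 2 T) (hΦ : fx E a ≤ T) {u : X} (hu : JG a G E u) (huT : u ∈ T) : u ∈ fx E a := by
  haveI := Fact.mk Nat.prime_two
  obtain ⟨S, hS, -, hE⟩ := h.sylow
  obtain ⟨S', hS', hTS⟩ : ∃ S' : Subgroup X, IsSylowIn 2 S' G ∧ T ≤ S' := by
    obtain ⟨P, hP⟩ := (hT2.comap_subtype (K := G)).exists_le_sylow
    exact ⟨(P : Subgroup _).map G.subtype, Grp.isSylowIn_iff.mpr ⟨P, rfl⟩,
      fun x hx => ⟨⟨x, hT hx⟩, hP hx, rfl⟩⟩
  obtain ⟨g, hg, e⟩ := hS.conj hS'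
  have key : ∀ w ∈ T, JG a G E w → g⁻¹ * w * g ∈ fx E a := fun w hw hJ => by
    refine h.good hk (by simpa using h.JG_conj (G.inv_mem hg) hJ) ?_
    have hw' : g⁻¹ * w * g ∈ S := mem_smul_iff'.mp (e.symm ▸ hTS hw)
    exact hE.symm ▸ le_norm_br hw'
  have hle : fx E a ≤ MulAut.conj g • fx E a := fun z hz => by
    rw [mem_smul_iff']
    by_cases hzz : z ∈ cen a G E
    · have h1 := h.cen_conj_eq hzz (G.inv_mem hg)
      rw [inv_inv] at h1
      rw [h1]; exact hz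
    · exact key z (hΦ hz) (h.JG_of_InJ ⟨hz, hzz⟩)
  rw [Subgroup.eq_of_le_of_card_ge hle (Grp.card_conj_smul g (fx E a)).le, mem_smul_iff']
  exact key u huT hu

/-- A `2`-subgroup containing `E'` normalizes it. -/
theorem le_norm_of_two_le (hk : Nat.card E ≠ 2 ^ (2 * m) * Nat.card (fx E a)) {T : Subgroup X} (hT : T ≤ G)
    (hT2 : IsPGroup 2 T) (hΦ : fx E a ≤ T) : T ≤ normalizer ((fx E a : Subgroup X) : Set X) := by
  intro t ht
  refine mem_normalizer_of_conj_le fun z hz => ?_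
  by_cases hzz : z ∈ cen a G E
  · rw [h.cen_conj_eq hzz (hT ht)]; exact hz
  · exact h.mem_of_two_le hk hT hT2 hΦ (h.JG_conj (hT ht) (h.JG_of_InJ ⟨hz, hzz⟩))
      (T.mul_mem (T.mul_mem ht (hΦ hz)) (T.inv_mem ht))

/-- `2`-elements of a subgroup are conjugate in it into a `2`-subgroup containing `E'`. -/
theorem exists_conj_two (hΦK : fx E a ≤ K) {x : X} (hx : x ∈ K) {k : ℕ} (hx2 : x ^ 2 ^ k = 1) :
    ∃ g ∈ K, ∃ T : Subgroup X, T ≤ K ∧ IsPGroup 2 T ∧ fx E a ≤ T ∧ g * x * g⁻¹ ∈ T := by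
  haveI := Fact.mk Nat.prime_two
  have hx2' : IsPGroup 2 (zpowers x) := by
    rintro ⟨y, hy⟩
    obtain ⟨i, rfl⟩ := hy
    refine ⟨k, Subtype.ext ?_⟩
    simp only [SubmonoidClass.coe_pow, OneMemClass.coe_one]
    rw [← zpow_natCast, zpow_comm, zpow_natCast, hx2, one_zpow]
  obtain ⟨S₁, hS₁, hxS⟩ : ∃ S₁ : Subgroup X, IsSylowIn 2 S₁ K ∧ zpowers x ≤ S₁ := by
    obtain ⟨P, hP⟩ := (hx2'.comap_subtype (K := K)).exists_le_sylow
    exact ⟨(P : Subgroup _).map K.subtype, Grp.isSylowIn_iff.mpr ⟨P, rfl⟩,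
      fun y hy => ⟨⟨y, zpowers_le.mpr hx hy⟩, hP hy, rfl⟩⟩
  obtain ⟨S₂, hS₂, hΦS⟩ : ∃ S₂ : Subgroup X, IsSylowIn 2 S₂ K ∧ fx E a ≤ S₂ := by
    obtain ⟨P, hP⟩ := ((h.isTwo_E.to_le (fx_le : fx E a ≤ E)).comap_subtype (K := K)).exists_le_sylow
    exact ⟨(P : Subgroup _).map K.subtype, Grp.isSylowIn_iff.mpr ⟨P, rfl⟩,
      fun y hy => ⟨⟨y, hΦK hy⟩, hP hy, rfl⟩⟩
  obtain ⟨g, hg, e⟩ := hS₁.conj hS₂
  exact ⟨g, hg, S₂, hS₂.1, hS₂.2.1, hΦS, e ▸ conj_mem_smul (hxS (mem_zpowers x))⟩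

theorem Big.fx_le (hM : Big a G E M) : fx E a ≤ M :=
  fun _ hz => hM.normE ⟨h.fx_le_G hz, Subgroup.le_normalizer (Shult.fx_le hz)⟩

/-- Points are unique. -/
theorem mem_of_conj_mem (hk : Nat.card E ≠ 2 ^ (2 * m) * Nat.card (fx E a)) (hM : Big a G E M) {f g : X}
    (hf : InJ a G E f) (hg : g ∈ G) (hgf : g * f * g⁻¹ ∈ M) : g ∈ M := by
  have hJ := h.JG_conj hg (h.JG_of_InJ hf)
  obtain ⟨c, hc, T, hTM, hT2, hΦT, hcT⟩ := h.exists_conj_two (K := M) (Big.fx_le h hM) hgf (k := 1)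
    (by rw [pow_one, sq]; exact h.JG_invol hJ)
  have hcG := hM.le hc
  have hφ : c * (g * f * g⁻¹) * c⁻¹ ∈ fx E a :=
    h.mem_of_two_le hk (hTM.trans hM.le) hT2 hΦT (h.JG_conj hcG hJ) hcT
  have hφJ : InJ a G E (c * (g * f * g⁻¹) * c⁻¹) := h.InJ_of_JG (h.JG_conj hcG hJ) hφ
  obtain ⟨x, n, hx, -, hn, e, -⟩ := h.exists_fusion hφJ (G.mul_mem hcG hg)
    (by rw [show (c * g)⁻¹ * (c * (g * f * g⁻¹) * c⁻¹) * (c * g) = f by group]; exact hf.1)
  have : g = c⁻¹ * (x * n) := by rw [← e]; group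
  rw [this]
  exact M.mul_mem (M.inv_mem hc) (M.mul_mem (hM.cst_le _ hφJ hx) (hM.normE hn))

/-- Commuting elements of `J^G` lie in a common frame. -/
theorem common_frame (hk : Nat.card E ≠ 2 ^ (2 * m) * Nat.card (fx E a)) {f g u : X} (hf : InJ a G E f)
    (hg : g ∈ G) (hu : JG a G E u) (hc : ⁅u, g * f * g⁻¹⁆ ∈ cen a G E) :
    ∃ x ∈ G, x * (g * f * g⁻¹) = g * f * g⁻¹ * x ∧ u ∈ MulAut.conj (x * g) • fx E a := by
  haveI := Fact.mk Nat.prime_two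
  have h' := h.conj hg
  have hcen := h.cen_smul hg
  have hJ : InJ (g * a * g⁻¹) G (MulAut.conj g • E) (g * f * g⁻¹) := by
    refine ⟨by rw [fx_smul]; exact conj_mem_smul hf.1, ?_⟩
    rw [hcen]; exact h.JG_not_cen (h.JG_conj hg (h.JG_of_InJ hf))
  have hu2 : IsPGroup 2 (zpowers u) := by
    rintro ⟨y, hy⟩
    obtain ⟨i, rfl⟩ := hy
    refine ⟨1, Subtype.ext ?_⟩
    simp only [SubmonoidClass.coe_pow, OneMemClass.coe_one, pow_one]
    rw [← zpow_natCast, zpow_comm, zpow_natCast, sq, h.JG_invol hu, one_zpow]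
  obtain ⟨x, hx, hxf, hN⟩ := h'.exists_point' hJ (T := zpowers u)
    (zpowers_le.mpr ((h'.mem_cst (h'.InJ_mem hJ)).mpr ⟨h.JG_mem_G hu, hcen.symm ▸ hc⟩)) hu2
  have huN := hN (mem_zpowers u)
  rw [← mul_smul, ← map_mul] at huN
  have hxg : x * g ∈ G := G.mul_mem hx hg
  have h2 := (h.conj hxg).good (h.hk_smul hk _) ((h.JG_smul hxg).mpr hu) huN
  rw [fx_smul] at h2
  exact ⟨x, hx, hxf, h2⟩

/-- Two classes inside `H` force `H ≤ M`. -/
theorem two_class (hk : Nat.card E ≠ 2 ^ (2 * m) * Nat.card (fx E a)) (hM : Big a G E M) (hH : H ≤ G)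
    (hΦH : fx E a ≤ H) {f f' : X} (hf : InJ a G E f) (hf' : InJ a G E f')
    (hno : ∀ g ∈ H, f⁻¹ * (g * f' * g⁻¹) ∉ cen a G E) : H ≤ M := by
  intro g hg
  have hgG := hH hg
  refine h.mem_of_conj_mem hk hM hf' hgG ?_
  set v := g * f' * g⁻¹ with hv
  have hvJ : JG a G E v := h.JG_conj hgG (h.JG_of_InJ hf')
  have hcenH : cen a G E ≤ H := fun z hz => hΦH hz.1
  rcases dihedral_mod (K := H) (C := cen a G E) (hΦH hf.1)
      (H.mul_mem (H.mul_mem hg (hΦH hf'.1)) (H.inv_mem hg)) (fun z hz x hx => h.cen_central hz (hH hx)) hcenH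
      (by rw [h.fixed_invol hf.1]; exact one_mem _) (by rw [h.JG_invol hvJ]; exact one_mem _) with
    ⟨d, hd, hd'⟩ | ⟨w, hw, hwz, -, hwf, hwv, d, hd, hd'⟩
  · exfalso
    have hz2 := h.cen_conj_eq (inv_mem hd') (G.inv_mem (hH hd))
    rw [inv_inv] at hz2
    refine hno _ (H.mul_mem (H.inv_mem hd) hg) ?_
    have e : f⁻¹ * (d⁻¹ * g * f' * (d⁻¹ * g)⁻¹) = d⁻¹ * (v⁻¹ * (d * f * d⁻¹))⁻¹ * d := by rw [hv]; group
    rw [e, hz2]; exact inv_mem hd'
  obtain ⟨u', hu'J, hu'⟩ : ∃ u', JG a G E u' ∧ (f * w)⁻¹ * u' ∈ cen a G E := by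
    rcases hd' with h1 | h1
    · exact ⟨_, h.JG_conj (hH hd) (h.JG_of_InJ hf), h1⟩
    · exact ⟨_, h.JG_conj (hH hd) hvJ, h1⟩
  have hwG := hH hw
  have hwc : w ∈ cst a G E f := (h.mem_cst (h.InJ_mem hf)).mpr ⟨hwG, hwf⟩
  have hfwG : f * w ∈ G := G.mul_mem (h.InJ_mem hf) hwG
  have hfc : f ∈ cst a G E f := h.E_le_cst hf.1 (fx_le hf.1)
  have hu'c : u' ∈ cst a G E f := by
    have := mul_mem (mul_mem hfc hwc) (h.E_le_cst hf.1 (fx_le hu'.1))
    rwa [mul_inv_cancel_left] at this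
  obtain ⟨x, hx, hxf, hu'x⟩ := h.common_frame hk hf G.one_mem hu'J
    (by simpa using ((h.mem_cst (h.InJ_mem hf)).mp hu'c).2)
  simp only [one_mul, inv_one, mul_one] at hxf hu'x
  have hxM : x ∈ M := hM.cst_le f hf ((h.mem_cst (h.InJ_mem hf)).mpr ⟨hx, by
    rw [commutatorElement_eq_one_iff_mul_comm.mpr hxf]; exact one_mem _⟩)
  have hwx : w ∈ MulAut.conj x • fx E a := by
    have hfx' : f ∈ MulAut.conj x • fx E a := by
      rw [mem_smul_iff', mul_assoc, ← hxf, inv_mul_cancel_left]; exact hf.1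
    have := mul_mem (mul_mem (inv_mem hfx') hu'x) (inv_mem (h.cen_le_smul hx hu'))
    have e : f⁻¹ * u' * ((f * w)⁻¹ * u')⁻¹ = w := by group
    rwa [e] at this
  have hw' : x⁻¹ * w * x ∈ fx E a := mem_smul_iff'.mp hwx
  have hwJ : InJ a G E (x⁻¹ * w * x) := ⟨hw', fun hz => hwz (by
    have h1 := h.cen_conj_eq hz hx
    rw [show x * (x⁻¹ * w * x) * x⁻¹ = w by group] at h1
    rw [h1]; exact hz)⟩
  have hvw : v ∈ cst a G E (x * (x⁻¹ * w * x) * x⁻¹) := by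
    rw [show x * (x⁻¹ * w * x) * x⁻¹ = w by group]
    refine (h.mem_cst hwG).mpr ⟨h.JG_mem_G hvJ, ?_⟩
    rw [← commutatorElement_inv]; exact inv_mem hwv
  have hvM := hM.cst_le _ hwJ (h.cst_conj_le hx (h.fx_le_G hw') hvw)
  have := M.mul_mem (M.mul_mem hxM hvM) (M.inv_mem hxM)
  simpa [mul_assoc] using this

/-- Fusion in the centralizer modulo `Z₀` of an element of `E` is induced by its stabilizer in `N(E)`. -/
theorem stab_fusion {y f g : X} (hy : y ∈ E) (hg : g ∈ cst a G E y) (hf : InJ a G E f)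
    (hgf : g * f * g⁻¹ ∈ fx E a) :
    ∃ n ∈ G ⊓ normalizer (E : Set X), y⁻¹ * (n * y * n⁻¹) ∈ fx E a ∧ n * f * n⁻¹ = g * f * g⁻¹ := by
  obtain ⟨hgG, hgy⟩ := (h.mem_cst (h.E_le hy)).mp hg
  have hJ := h.InJ_conj hf hgG hgf
  obtain ⟨x, n, -, hxf, hn, e, hxy⟩ := h.exists_fusion hJ hgG
    (by rw [show g⁻¹ * (g * f * g⁻¹) * g = f by group]; exact hf.1)
  refine ⟨n, hn, ?_, ?_⟩
  · have hy' : n * y * n⁻¹ ∈ E := conj_mem hn.2 hy
    have hk' : ⁅g, y⁆ ∈ fx E a := hgy.1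
    have hxG : x ∈ G := by
      have := G.mul_mem hgG (G.inv_mem hn.1)
      rwa [e, mul_inv_cancel_right] at this
    have hzx : x⁻¹ * ⁅g, y⁆ * x = ⁅g, y⁆ := by
      rw [mul_assoc, h.cen_central hgy hxG, inv_mul_cancel_left]
    have e1 : n * y * n⁻¹ = ⁅g, y⁆ * (x⁻¹ * y * x) := by
      calc n * y * n⁻¹ = x⁻¹ * (g * y * g⁻¹) * x := by rw [e]; group
        _ = (x⁻¹ * ⁅g, y⁆ * x) * (x⁻¹ * y * x) := by rw [commutatorElement_def]; group
        _ = _ := by rw [hzx]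
    have hy'' : x⁻¹ * y * x ∈ E := by
      have := E.mul_mem (E.inv_mem (fx_le hk')) hy'
      rwa [e1, inv_mul_cancel_left] at this
    have hxy' : x⁻¹ * y * x = y := by rw [mul_assoc, ← hxy y hy hy'', inv_mul_cancel_left]
    rw [e1, hxy', h.qgrp.fixed_central hk' hy, inv_mul_cancel_left]
    exact hk'
  · have e2 : n * f * n⁻¹ = x⁻¹ * (g * f * g⁻¹) * x := by rw [e]; group
    rw [e2, mul_assoc, ← hxf, inv_mul_cancel_left]

/-- Two classes of noncentral elements of `E'` are impossible. -/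
theorem false_of_intransitive (hk : Nat.card E ≠ 2 ^ (2 * m) * Nat.card (fx E a)) (hM : Big a G E M) {f f' : X}
    (hf : InJ a G E f) (hf' : InJ a G E f') (hno : ∀ g ∈ G, f⁻¹ * (g * f' * g⁻¹) ∉ cen a G E) : False :=
  hM.ne (le_antisymm hM.le (h.two_class hk hM le_rfl h.fx_le_G hf hf' hno))

/-- A singular element with intransitive stabilizer is impossible. -/
theorem false_of_singular (hk : Nat.card E ≠ 2 ^ (2 * m) * Nat.card (fx E a)) (hM : Big a G E M) {y f f' : X}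
    (hy : y ∈ E) (hyΦ : y ∉ fx E a) (hyy : y ^ 2 ∈ cen a G E) (hf : InJ a G E f) (hf' : InJ a G E f')
    (hno : ∀ n ∈ G ⊓ normalizer (E : Set X), y⁻¹ * (n * y * n⁻¹) ∈ fx E a →
      f⁻¹ * (n * f' * n⁻¹) ∉ cen a G E) : False := by
  haveI := Fact.mk Nat.prime_two
  have hy1 : y ∈ cst a G E y := (h.mem_cst (h.E_le hy)).mpr ⟨h.E_le hy, by
    rw [commutatorElement_self]; exact one_mem _⟩
  have hΦy : ∀ φ ∈ fx E a, fx E a ≤ cst a G E (y * φ) := fun φ hφ z hz =>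
    (h.mem_cst (h.E_le (E.mul_mem hy (fx_le hφ)))).mpr ⟨h.fx_le_G hz, by
      rw [commutatorElement_eq_one_iff_mul_comm.mpr (h.qgrp.fixed_central hz (E.mul_mem hy (fx_le hφ)))]
      exact one_mem _⟩
  have hH : ∀ φ ∈ fx E a, cst a G E (y * φ) ≤ M := by
    intro φ hφ
    refine h.two_class hk hM h.cst_le (hΦy φ hφ) hf hf' fun g hg hc => ?_
    have hgΦ : g * f' * g⁻¹ ∈ fx E a := by
      have := mul_mem hf.1 hc.1
      rwa [mul_inv_cancel_left] at this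
    obtain ⟨n, hn, hny, hnf⟩ := h.stab_fusion (E.mul_mem hy (fx_le hφ)) hg hf' hgΦ
    refine hno n hn ?_ (hnf.symm ▸ hc)
    have hφ' : n * φ * n⁻¹ ∈ fx E a := conj_mem (h.norm_fixed' hn.2) hφ
    have hny' : n * y * n⁻¹ ∈ E := conj_mem hn.2 hy
    have e : y⁻¹ * (n * y * n⁻¹) = φ * ((y * φ)⁻¹ * (n * (y * φ) * n⁻¹)) * (n * φ * n⁻¹)⁻¹ := by group
    rw [e]
    exact mul_mem (mul_mem hφ hny) (inv_mem hφ')
  have hyM : cst a G E y ≤ M := by simpa using hH 1 (one_mem _)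
  refine hM.ne (le_antisymm hM.le fun g hg => h.mem_of_conj_mem hk hM hf hg ?_)
  set u := g * f * g⁻¹ with hu
  have huJ : JG a G E u := h.JG_conj hg (h.JG_of_InJ hf)
  have huG := h.JG_mem_G huJ
  rcases dihedral_mod (K := G) (C := cen a G E) huG (h.E_le hy) (fun z hz x hx => h.cen_central hz hx)
      (fun z hz => h.fx_le_G hz.1) (by rw [h.JG_invol huJ]; exact one_mem _) (by rw [← sq]; exact hyy) with
    ⟨d, hd, hd'⟩ | ⟨w, hw, hwz, hww, hwu, hwy, d, hd, hd'⟩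
  · exfalso
    have hJ := h.JG_conj hd huJ
    have hmem : d * u * d⁻¹ ∈ E := by
      have := E.mul_mem hy (fx_le hd'.1)
      rwa [mul_inv_cancel_left] at this
    refine hyΦ ?_
    have := mul_mem (h.E_inter_JG hk hJ hmem) (inv_mem hd'.1)
    rwa [show d * u * d⁻¹ * (y⁻¹ * (d * u * d⁻¹))⁻¹ = y by group] at this
  have hwM : w ∈ M := hyM ((h.mem_cst (h.E_le hy)).mpr ⟨hw, hwy⟩)
  rcases hd' with hd' | hd'
  · -- `w` lies in a frame of `u`
    have hu' : ⁅d * u * d⁻¹, u⁆ ∈ cen a G E := by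
      have hc : u ∈ cst a G E u := (h.mem_cst huG).mpr ⟨huG, by rw [commutatorElement_self]; exact one_mem _⟩
      have hwc : w ∈ cst a G E u := (h.mem_cst huG).mpr ⟨hw, hwu⟩
      have hzc : (u * w)⁻¹ * (d * u * d⁻¹) ∈ cst a G E u := (h.mem_cst huG).mpr ⟨h.fx_le_G hd'.1, by
        rw [commutatorElement_eq_one_iff_mul_comm.mpr (h.cen_central hd' huG)]; exact one_mem _⟩
      have := mul_mem (mul_mem hc hwc) hzc
      rw [mul_inv_cancel_left] at this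
      exact ((h.mem_cst huG).mp this).2
    obtain ⟨x, hx, hxu, hu'x⟩ := h.common_frame hk hf hg (h.JG_conj hd huJ) hu'
    have hxg := G.mul_mem hx hg
    have hux : u ∈ MulAut.conj (x * g) • fx E a := by
      rw [mem_smul_iff', hu]
      rw [show (x * g)⁻¹ * (g * f * g⁻¹) * (x * g) = g⁻¹ * (x⁻¹ * (g * f * g⁻¹ * x)) * g by group, ← hxu,
        inv_mul_cancel_left, show g⁻¹ * (g * f * g⁻¹) * g = f by group]
      exact hf.1
    have hwx : w ∈ MulAut.conj (x * g) • fx E a := by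
      have := mul_mem (mul_mem (inv_mem hux) hu'x) (inv_mem (h.cen_le_smul hxg hd'))
      rwa [show u⁻¹ * (d * u * d⁻¹) * ((u * w)⁻¹ * (d * u * d⁻¹))⁻¹ = w by group] at this
    have hw0 : (x * g)⁻¹ * w * (x * g) ∈ fx E a := mem_smul_iff'.mp hwx
    have hwJ : InJ a G E ((x * g)⁻¹ * w * (x * g)) := ⟨hw0, fun hz => hwz (by
      have h1 := h.cen_conj_eq hz hxg
      rw [show x * g * ((x * g)⁻¹ * w * (x * g)) * (x * g)⁻¹ = w by group] at h1
      rw [h1]; exact hz)⟩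
    have hxgM : x * g ∈ M := h.mem_of_conj_mem hk hM hwJ hxg
      (by rwa [show x * g * ((x * g)⁻¹ * w * (x * g)) * (x * g)⁻¹ = w by group])
    have := M.mul_mem (M.mul_mem hxgM (Big.fx_le h hM hf.1)) (M.inv_mem hxgM)
    rwa [show x * g * f * (x * g)⁻¹ = x * (g * f * g⁻¹) * x⁻¹ by group, hxu, mul_inv_cancel_right] at this
  · -- `u w` is a conjugate of `y`
    set u₁ := d⁻¹ * u * d with hu₁
    have hu₁J : JG a G E u₁ := by simpa [hu₁] using h.JG_conj (G.inv_mem hd) huJ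
    have hu₁G := h.JG_mem_G hu₁J
    have huwy : u ∈ cst a G E (d * y * d⁻¹) := by
      have hv : u * w ∈ G := G.mul_mem huG hw
      refine (h.mem_cst_congr hv hd').mpr ((h.mem_cst hv).mpr ⟨huG, ?_⟩)
      have e : ⁅u, u * w⁆ = u * ⁅u, w⁆ * u⁻¹ := by simp only [commutatorElement_def]; group
      rw [e, h.cen_conj_eq (by rw [← commutatorElement_inv]; exact inv_mem hwu) huG, ← commutatorElement_inv]
      exact inv_mem hwu
    have hu₁y : u₁ ∈ cst a G E y := h.cst_conj_le hd (h.E_le hy) huwy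
    obtain ⟨c, hc, T, hTH, hT2, hΦT, hcT⟩ := h.exists_conj_two (K := cst a G E y)
      (by simpa using hΦy 1 (one_mem _)) hu₁y (k := 1) (by rw [pow_one, sq]; exact h.JG_invol hu₁J)
    have hcG := h.cst_le hc
    set φ := c * u₁ * c⁻¹ with hφ
    have hφΦ : φ ∈ fx E a := h.mem_of_two_le hk (hTH.trans h.cst_le) hT2 hΦT (h.JG_conj hcG hu₁J) hcT
    -- `c d⁻¹ w d c⁻¹ ≡ y φ`
    have hkey : (y * φ)⁻¹ * (c * (d⁻¹ * w * d) * c⁻¹) ∈ cen a G E := by
      set ζ := (u * w)⁻¹ * (d * y * d⁻¹) with hζ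
      have hu₁inv : u₁ * u₁ = 1 := h.JG_invol hu₁J
      have hφinv : φ * φ = 1 := h.fixed_invol hφΦ
      have e1 : d⁻¹ * w * d = u₁⁻¹ * y * ζ⁻¹ := by
        have h1 : d⁻¹ * ζ⁻¹ * d = ζ⁻¹ := by
          have := h.cen_conj_eq (inv_mem hd') (G.inv_mem hd)
          rwa [inv_inv] at this
        calc d⁻¹ * w * d = u₁⁻¹ * y * (d⁻¹ * ζ⁻¹ * d) := by rw [hu₁, hζ]; group
          _ = _ := by rw [h1]
      obtain ⟨-, hcy⟩ := (h.mem_cst (h.E_le hy)).mp hc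
      have hz1 : c * ζ⁻¹ * c⁻¹ = ζ⁻¹ := h.cen_conj_eq (inv_mem hd') hcG
      have e2 : c * (d⁻¹ * w * d) * c⁻¹ = φ⁻¹ * (⁅c, y⁆ * y) * ζ⁻¹ := by
        calc c * (d⁻¹ * w * d) * c⁻¹ = (c * u₁⁻¹ * c⁻¹) * (c * y * c⁻¹) * (c * ζ⁻¹ * c⁻¹) := by rw [e1]; group
          _ = _ := by rw [hz1, hφ, commutatorElement_def]; group
      have hφi : φ⁻¹ = φ := inv_eq_of_mul_eq_one_right hφinv
      have hyE : φ * y = y * φ := h.qgrp.fixed_central hφΦ hy
      have e3 : c * (d⁻¹ * w * d) * c⁻¹ = (y * φ) * (⁅c, y⁆ * ζ⁻¹) := by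
        rw [e2, hφi, h.cen_central hcy (h.E_le hy), ← mul_assoc φ, hyE]; group
      rw [e3, inv_mul_cancel_left]
      exact mul_mem hcy (inv_mem hd')
    have hyφG : y * φ ∈ G := h.E_le (E.mul_mem hy (fx_le hφΦ))
    have hwG : d⁻¹ * w * d ∈ G := G.mul_mem (G.mul_mem (G.inv_mem hd) hw) hd
    have hcM : c ∈ M := hyM hc
    -- a noncentral element of `M` commuting with `w`
    obtain ⟨b, hb, T', hT'M, hT'2, hΦT', hbT⟩ := h.exists_conj_two (K := M) (Big.fx_le h hM) hwM (k := 2)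
      (by rw [show (2 : ℕ) ^ 2 = 2 + 2 by norm_num, pow_add, sq]; exact h.fixed_invol hww.1)
    have hbG := hM.le hb
    set w' := b * w * b⁻¹ with hw'
    have hw'G : w' ∈ G := hT'M.trans hM.le hbT
    have hw'n := h.le_norm_of_two_le hk (hT'M.trans hM.le) hT'2 hΦT' hbT
    obtain ⟨f₀, hf₀, hf₀w⟩ : ∃ f₀, InJ a G E f₀ ∧ ⁅f₀, w'⁆ ∈ cen a G E := by
      by_cases hfw : ⁅f, w'⁆ ∈ cen a G E
      · exact ⟨f, hf, hfw⟩
      have hk' : ⁅f, w'⁆ ∈ fx E a := by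
        rw [commutatorElement_def, mul_assoc f w', mul_assoc f]
        exact mul_mem hf.1 (by simpa [mul_assoc] using conj_mem hw'n (inv_mem hf.1))
      refine ⟨_, ⟨hk', hfw⟩, ?_⟩
      have hw2 : w' * w' ∈ cen a G E := by
        have h1 := h.cen_conj_eq hww hbG
        have e : b * (w * w) * b⁻¹ = w' * w' := by rw [hw']; group
        rw [← e, h1]; exact hww
      have hff : f⁻¹ = f := inv_eq_of_mul_eq_one_right (h.fixed_invol hf.1)
      set q := w' * f * w'⁻¹ with hq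
      have hqΦ : q ∈ fx E a := conj_mem hw'n hf.1
      have e1 : ⁅f, w'⁆ = f * q := by rw [commutatorElement_def, hq, hff]; group
      have e2 : w' * ⁅f, w'⁆ * w'⁻¹ = ⁅f, w'⁆ := by
        have hc := h.cen_conj_eq (g := f) hw2 (h.fx_le_G hf.1)
        have h3 : w' * q * w'⁻¹ = f := by
          calc w' * q * w'⁻¹ = (w' * w') * f * (w' * w')⁻¹ := by rw [hq]; group
            _ = f := by rw [h.cen_central hw2 (h.fx_le_G hf.1), mul_inv_cancel_right]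
        calc w' * ⁅f, w'⁆ * w'⁻¹ = q * (w' * q * w'⁻¹) := by rw [e1, hq]; group
          _ = ⁅f, w'⁆ := by rw [h3, e1, h.qgrp.fixed_central hqΦ (fx_le hf.1)]
      rw [commutatorElement_eq_one_iff_mul_comm.mpr (mul_inv_eq_iff_eq_mul.mp e2).symm]
      exact one_mem _
    have h1 : b⁻¹ * f₀ * b ∈ cst a G E w := h.cst_conj_le hbG hw
      ((h.mem_cst hw'G).mpr ⟨h.InJ_mem hf₀, hf₀w⟩)
    have h2 : d⁻¹ * (b⁻¹ * f₀ * b) * d ∈ cst a G E (d⁻¹ * w * d) :=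
      h.cst_conj_le hd hwG (by rw [show d * (d⁻¹ * w * d) * d⁻¹ = w by group]; exact h1)
    have hG2 : c * (d⁻¹ * (b⁻¹ * f₀ * b) * d) * c⁻¹ ∈ cst a G E (c * (d⁻¹ * w * d) * c⁻¹) := by
      have h3 := h.cst_conj_le (G.inv_mem hcG) (G.mul_mem (G.mul_mem hcG hwG) (G.inv_mem hcG))
        (x := d⁻¹ * (b⁻¹ * f₀ * b) * d)
        (by rwa [show c⁻¹ * (c * (d⁻¹ * w * d) * c⁻¹) * c⁻¹⁻¹ = d⁻¹ * w * d by group])
      rwa [inv_inv] at h3
    have h4 := hH φ hφΦ ((h.mem_cst_congr hyφG hkey).mp hG2)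
    have h5 : d⁻¹ * b⁻¹ ∈ M := by
      refine h.mem_of_conj_mem hk hM hf₀ (G.mul_mem (G.inv_mem hd) (G.inv_mem hbG)) ?_
      have := M.mul_mem (M.mul_mem (M.inv_mem hcM) h4) hcM
      rwa [show c⁻¹ * (c * (d⁻¹ * (b⁻¹ * f₀ * b) * d) * c⁻¹) * c =
        d⁻¹ * b⁻¹ * f₀ * (d⁻¹ * b⁻¹)⁻¹ by group] at this
    have hdM : d ∈ M := by
      have := M.inv_mem (M.mul_mem h5 hb)
      rwa [inv_mul_cancel_right, inv_inv] at this
    have := M.mul_mem (M.mul_mem hdM (hyM hu₁y)) (M.inv_mem hdM)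
    rwa [hu₁, show d * (d⁻¹ * u * d) * d⁻¹ = u by group] at this

end Setup

end Cfsg.Agent.Invol.Shult
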