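import Mathlib
import Cfsg.Agent.Lib.Invol.Shult.EndBasic
import Cfsg.Agent.Lib.Invol.Shult.CentralCase
import Cfsg.Agent.Lib.Invol.Shult.ClassesK1

/-!
In a minimal counterexample `E` is not of extraspecial type over its fixed part.
-/

set_option autoImplicit false

namespace Cfsg.Agent.Invol.Shult

open Subgroup
open scoped Pointwise commutatorElement
open Cfsg.Agent.Grp (IsSylowIn)

variable {X : Type*} [Group X] [Finite X] {a : X} {p r m : ℕ} [Fact p.Prime] {G V E : Subgroup X}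

namespace Setup

variable (h : Setup p r m a G V E)
include h

/-- Between `E'` and `E` there is no further invariant subgroup. -/
theorem eq_or_eq_of_k_one (hk : Nat.card E = 2 ^ (2 * m) * Nat.card (fx E a)) {W : Subgroup X}
    (hW1 : fx E a ≤ W) (hW2 : W ≤ E) (hWa : a ∈ normalizer (W : Set X)) : W = fx E a ∨ W = E := by
  haveI := Fact.mk Nat.prime_two
  obtain ⟨D, hD⟩ := h.exists_isWeight
  have hcard := h.weight_card hD
  have hrad : rad E D = fx E a := by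
    refine (Subgroup.eq_of_le_of_card_ge h.qgrp.fixed_le_rad ?_).symm
    have h1 : 2 ^ (2 * m) * Nat.card (rad E D) = 2 ^ (2 * m) * Nat.card (fx E a) := hcard.symm.trans hk
    exact (Nat.eq_of_mul_eq_mul_left (Nat.two_pow_pos _) h1).le
  rcases h.qgrp.eq_of_rad_le h.hrm hcard (hrad.le.trans hW1) hW2 hWa with e | e
  · exact Or.inl (e.trans hrad)
  · exact Or.inr e

/-- Commutation with an element outside `E'` maps onto `E'`. -/
theorem nondeg_of_k_one (hk : Nat.card E = 2 ^ (2 * m) * Nat.card (fx E a)) {e : X} (he : e ∈ E)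
    (heΦ : e ∉ fx E a) {z : X} (hz : z ∈ fx E a) : ∃ η ∈ E, e * η * e⁻¹ * η⁻¹ = z := by
  haveI := Fact.mk Nat.prime_two
  let δ : ↥E →* X :=
    { toFun := fun η => ⁅e, (η : X)⁆
      map_one' := by simp
      map_mul' := fun u v => h.qgrp.comm_mul_right he u.2 v.2 }
  have hle : δ.range ≤ fx E a := by
    rintro _ ⟨η, rfl⟩
    exact h.qgrp.comm_mem he η.2
  have hRa : a ∈ normalizer ((rad E δ.range : Subgroup X) : Set X) := by
    refine mem_normalizer_of_conj_le fun x hx => ?_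
    obtain ⟨hxE, hxy⟩ := h.qgrp.mem_rad.mp hx
    refine h.qgrp.mem_rad.mpr ⟨conj_mem h.norm_E hxE, fun y hy => ?_⟩
    have hy' : a⁻¹ * y * a ∈ E := by simpa using conj_mem (inv_mem h.norm_E) hy
    have e1 : ⁅a * x * a⁻¹, y⁆ = a * ⁅x, a⁻¹ * y * a⁆ * a⁻¹ := by
      simp only [commutatorElement_def]; group
    rw [e1, (mem_fx'.mp (hle (hxy _ hy'))).2]
    exact hxy _ hy'
  have her : e ∈ rad E δ.range := h.qgrp.mem_rad.mpr ⟨he, fun y hy => ⟨⟨y, hy⟩, rfl⟩⟩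
  rcases h.eq_or_eq_of_k_one hk h.qgrp.fixed_le_rad h.qgrp.rad_le hRa with e1 | e1
  · exact absurd (e1 ▸ her) heΦ
  · have hall : fx E a ≤ δ.range :=
      h.qgrp.fixed_le_comm.trans (Subgroup.commutator_le.mpr fun x hx y hy =>
        (h.qgrp.mem_rad.mp (e1.ge hx)).2 y hy)
    obtain ⟨⟨η, hη⟩, hδ⟩ := hall hz
    exact ⟨η, hη, hδ⟩

/-- A normal subgroup containing `E'` is everything. -/
theorem eq_top_of_fixed_le {N : Subgroup X} (hN : N ≤ G) (hGN : G ≤ normalizer (N : Set X))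
    (hΦ : fx E a ≤ N) : N = G := by
  by_contra hne
  obtain ⟨f, hf⟩ := h.exists_inJ
  set S : Set X := {w | ∃ g ∈ G, ∃ z ∈ fx E a, w = g * z * g⁻¹} with hS
  have hSN : closure S ≤ N := (closure_le N).mpr (by
    rintro w ⟨g, hg, z, hz, rfl⟩
    exact conj_mem (hGN hg) (hΦ hz))
  have hconj : ∀ u : X, (∀ w ∈ S, u * w * u⁻¹ ∈ S) → u ∈ normalizer ((closure S : Subgroup X) : Set X) := by
    intro u hu
    refine mem_normalizer_of_conj_le fun x hx => ?_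
    induction hx using Subgroup.closure_induction with
    | mem x hx => exact subset_closure (hu x hx)
    | one => simp
    | mul x y _ _ hx hy => simpa [mul_assoc] using mul_mem hx hy
    | inv x _ hx => simpa [mul_assoc] using inv_mem hx
  have hGc : G ≤ normalizer ((closure S : Subgroup X) : Set X) := fun u hu => hconj u (by
    rintro w ⟨g, hg, z, hz, rfl⟩
    exact ⟨u * g, G.mul_mem hu hg, z, hz, by group⟩)
  have hac : a ∈ normalizer ((closure S : Subgroup X) : Set X) := hconj a (by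
    rintro w ⟨g, hg, z, hz, rfl⟩
    refine ⟨a * g * a⁻¹, conj_mem h.act.norm hg, z, hz, ?_⟩
    calc a * (g * z * g⁻¹) * a⁻¹ = a * g * a⁻¹ * (a * z * a⁻¹) * (a * g * a⁻¹)⁻¹ := by group
      _ = _ := by rw [(mem_fx'.mp hz).2])
  have hc := h.small (closure S) (hSN.trans hN) hGc hac fun e => hne (le_antisymm hN (e ▸ hSN))
  exact hf.2 ⟨hf.1, hc (subset_closure ⟨1, G.one_mem, f, hf.1, by simp⟩)⟩

/-- Invariant Sylow subgroups for other primes are fixed. -/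
theorem fixed_of_odd {q : ℕ} [Fact q.Prime] {Q : Subgroup X} (hq2 : q ≠ 2) (hqp : q ≠ p)
    (hQ : Q ≤ G) (hQq : IsPGroup q Q) (hQa : a ∈ normalizer (Q : Set X)) :
    ∀ x ∈ Q, a * x = x * a := by
  refine br_eq_bot.mp ?_
  by_contra hne
  have hq : QGrp p q r a G V (br Q a) :=
    ⟨h.cfg, h.faith, (br_le hQa).trans hQ, norm_br, hQq.to_le (br_le hQa), hqp, (h.act.mono hQ hQa).br_br⟩
  exact hq2 (hq.exists_m hne).1

/-- The order of `G`. -/
theorem card_dvd_ecp {P : Subgroup X} (hP : IsSylowIn p P G) :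
    Nat.card G ∣ ((fx E a).subgroupOf E).index * Nat.card (fx G a) * ((fx P a).subgroupOf P).index := by
  haveI := Fact.mk Nat.prime_two
  refine (Nat.dvd_iff_prime_pow_dvd_dvd _ _).mpr fun q k hq hk => ?_
  haveI := Fact.mk hq
  suffices hmain : ∃ Q : Subgroup X, IsSylowIn q Q G ∧
      Nat.card Q ∣ ((fx E a).subgroupOf E).index * Nat.card (fx G a) * ((fx P a).subgroupOf P).index by
    obtain ⟨Q, hQ, hd⟩ := hmain
    refine dvd_trans ?_ hd
    have h1 := Grp.card_mul_relIndex hQ.1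
    rw [← h1] at hk
    exact Nat.Coprime.dvd_of_dvd_mul_right ((hq.coprime_iff_not_dvd.mpr hQ.2.2).pow_left k) hk
  by_cases hqp : q = p
  · subst hqp
    refine ⟨P, hP, ?_⟩
    rw [← ((fx P a).subgroupOf P).card_mul_index, Nat.card_congr (subgroupOfEquivOfLe fx_le).toEquiv]
    exact mul_dvd_mul_right (dvd_mul_of_dvd_right (Subgroup.card_dvd_of_le (fx_mono hP.1)) _) _
  by_cases hq2 : q = 2
  · subst hq2
    obtain ⟨S, hS, hSa, hE⟩ := h.sylow
    refine ⟨S, hS, dvd_mul_of_dvd_left ?_ _⟩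
    refine dvd_trans ?_ (mul_dvd_mul_left _ (Subgroup.card_dvd_of_le (fx_mono (a := a) hS.1)))
    have hES : E ≤ S := hE ▸ br_le hSa
    let φ : (↥E ⧸ (fx E a).subgroupOf E) × ↥(fx S a) → ↥S := fun w =>
      ⟨(w.1.out : X) * w.2, S.mul_mem (hES w.1.out.2) (fx_le w.2.2)⟩
    have hsurj : Function.Surjective φ := by
      rintro ⟨s, hs⟩
      obtain ⟨e, he, t, ht, rfl⟩ := (h.act.mono hS.1 hSa).exists_br_mul_fx hs
      have he' : e ∈ E := hE ▸ he
      obtain ⟨u, hu⟩ := QuotientGroup.mk_out_eq_mul ((fx E a).subgroupOf E) ⟨e, he'⟩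
      have hut : (u : X)⁻¹ * t ∈ fx S a :=
        mul_mem (inv_mem (fx_mono hES (show ((u : ↥E) : X) ∈ fx E a from u.2))) ht
      refine ⟨((⟨e, he'⟩ : ↥E), ⟨_, hut⟩), Subtype.ext ?_⟩
      show ((Quotient.out (QuotientGroup.mk (⟨e, he'⟩ : ↥E) : ↥E ⧸ (fx E a).subgroupOf E) : ↥E) : X) *
        ((u : X)⁻¹ * t) = e * t
      rw [hu]
      simp [mul_assoc]
    have hle := Nat.card_le_card_of_surjective φ hsurj
    rw [Nat.card_prod] at hle
    obtain ⟨s, hs⟩ := IsPGroup.iff_card.mp hS.2.1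
    obtain ⟨t, ht⟩ := IsPGroup.iff_card.mp (hS.2.1.to_le (fx_le : fx S a ≤ S))
    obtain ⟨u, hu⟩ := IsPGroup.iff_card.mp h.isTwo_E
    obtain ⟨v, -, hv⟩ := (Nat.dvd_prime_pow Nat.prime_two).mp (hu ▸ ((fx E a).subgroupOf E).index_dvd_card)
    show Nat.card S ∣ Nat.card (↥E ⧸ (fx E a).subgroupOf E) * Nat.card (fx S a)
    have hv' : Nat.card (↥E ⧸ (fx E a).subgroupOf E) = 2 ^ v := hv
    rw [hs, ht, hv', ← pow_add] at hle ⊢
    exact Nat.pow_dvd_pow 2 ((Nat.pow_le_pow_iff_right one_lt_two).mp hle)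
  · obtain ⟨Q, hQ, hQa, -⟩ := h.act.exists_sylow (q := q) (U := ⊥) bot_le IsPGroup.of_bot
      (mem_normalizer_of_centralizes fun x hx => by rw [Subgroup.mem_bot] at hx; simp [hx])
    refine ⟨Q, hQ, dvd_mul_of_dvd_left (dvd_mul_of_dvd_right (Subgroup.card_dvd_of_le fun x hx =>
      mem_fx.mpr ⟨hQ.1 hx, h.fixed_of_odd hq2 hqp hQ.1 hQ.2.1 hQa x hx⟩) _) _⟩

/-- `G = E C(a) P`. -/
theorem exists_ecp {P : Subgroup X} (hP : IsSylowIn p P G) (hPa : a ∈ normalizer (P : Set X)) :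
    ∀ g ∈ G, ∃ e ∈ E, ∃ c ∈ fx G a, ∃ π ∈ P, g = e * c * π := by
  haveI := Fact.mk Nat.prime_two
  obtain ⟨φ, hφ⟩ : ∃ φ : (↥E ⧸ (fx E a).subgroupOf E) × ↥(fx G a) × (↥P ⧸ (fx P a).subgroupOf P) → ↥G,
      ∀ w, (φ w : X) = (w.1.out : X) * w.2.1 * (w.2.2.out : X)⁻¹ :=
    ⟨fun w => ⟨_, G.mul_mem (G.mul_mem (h.E_le w.1.out.2) (fx_le w.2.1.2)) (G.inv_mem (hP.1 w.2.2.out.2))⟩,
      fun _ => rfl⟩
  have hinj : Function.Injective φ := by
    rintro ⟨x, ⟨c, hc⟩, y⟩ ⟨x', ⟨c', hc'⟩, y'⟩ hw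
    have hw' := congrArg Subtype.val hw
    rw [hφ, hφ] at hw'
    dsimp only at hw'
    set e := (x.out : X) with he
    set e' := (x'.out : X) with he'
    set π := (y.out : X) with hπ
    set π' := (y'.out : X) with hπ'
    set u := c * (π'⁻¹ * π) * c⁻¹ with hu
    have hδ : e'⁻¹ * e = c' * c⁻¹ * u := by
      calc e'⁻¹ * e = e'⁻¹ * (e * c * π⁻¹) * π * c⁻¹ := by group
        _ = e'⁻¹ * (e' * c' * π'⁻¹) * π * c⁻¹ := by rw [hw']
        _ = _ := by rw [hu]; group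
    have hk : a * (c' * c⁻¹) * a⁻¹ = c' * c⁻¹ := (mem_fx'.mp ((fx G a).mul_mem hc' ((fx G a).inv_mem hc))).2
    have hca : a * c * a⁻¹ = c := (mem_fx'.mp hc).2
    have hmem : (e'⁻¹ * e)⁻¹ * (a * (e'⁻¹ * e) * a⁻¹) ∈ E :=
      E.mul_mem (E.inv_mem (E.mul_mem (E.inv_mem x'.out.2) x.out.2))
        (conj_mem h.norm_E (E.mul_mem (E.inv_mem x'.out.2) x.out.2))
    have heq : (e'⁻¹ * e)⁻¹ * (a * (e'⁻¹ * e) * a⁻¹) =
        c * ((π'⁻¹ * π)⁻¹ * (a * (π'⁻¹ * π) * a⁻¹)) * c⁻¹ := by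
      rw [hδ]
      calc (c' * c⁻¹ * u)⁻¹ * (a * (c' * c⁻¹ * u) * a⁻¹)
          = u⁻¹ * (c' * c⁻¹)⁻¹ * (a * (c' * c⁻¹) * a⁻¹) * (a * u * a⁻¹) := by group
        _ = u⁻¹ * (a * u * a⁻¹) := by rw [hk]; group
        _ = u⁻¹ * ((a * c * a⁻¹) * (a * (π'⁻¹ * π) * a⁻¹) * (a * c * a⁻¹)⁻¹) := by rw [hu]; group
        _ = _ := by rw [hca, hu]; group
    have hππ : π'⁻¹ * π ∈ P := P.mul_mem (P.inv_mem y'.out.2) y.out.2
    have hone : (e'⁻¹ * e)⁻¹ * (a * (e'⁻¹ * e) * a⁻¹) = 1 := by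
      have h2 : (e'⁻¹ * e)⁻¹ * (a * (e'⁻¹ * e) * a⁻¹) ∈ MulAut.conj c • P :=
        heq ▸ conj_mem_smul (P.mul_mem (P.inv_mem hππ) (conj_mem hPa hππ))
      exact h.inf_eq_bot_of_p (smul_isPGroup hP.2.1) h2 hmem
    have hxx : x = x' := by
      have : e'⁻¹ * e ∈ fx E a := mem_fx'.mpr ⟨E.mul_mem (E.inv_mem x'.out.2) x.out.2, (inv_mul_eq_one.mp hone).symm⟩
      rw [← x.out_eq', ← x'.out_eq']
      exact ((QuotientGroup.eq (s := (fx E a).subgroupOf E) (a := x'.out) (b := x.out)).mpr this).symm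
    have hyy : y = y' := by
      have h1 : (π'⁻¹ * π)⁻¹ * (a * (π'⁻¹ * π) * a⁻¹) = 1 := by
        rw [heq] at hone
        exact conj_eq_one_iff.mp hone
      have : π'⁻¹ * π ∈ fx P a := mem_fx'.mpr ⟨hππ, (inv_mul_eq_one.mp h1).symm⟩
      rw [← y.out_eq', ← y'.out_eq']
      exact ((QuotientGroup.eq (s := (fx P a).subgroupOf P) (a := y'.out) (b := y.out)).mpr this).symm
    subst hxx hyy
    have : c = c' := mul_left_cancel (mul_right_cancel hw')
    subst this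
    rfl
  have hcard : Nat.card ↥G ≤
      Nat.card ((↥E ⧸ (fx E a).subgroupOf E) × ↥(fx G a) × (↥P ⧸ (fx P a).subgroupOf P)) := by
    rw [Nat.card_prod, Nat.card_prod, ← mul_assoc]
    exact Nat.le_of_dvd (Nat.mul_pos (Nat.mul_pos Nat.card_pos Nat.card_pos) Nat.card_pos) (h.card_dvd_ecp hP)
  intro g hg
  obtain ⟨w, hw⟩ := (hinj.bijective_of_nat_card_le hcard).2 ⟨g, hg⟩
  exact ⟨_, w.1.out.2, _, w.2.1.2, _, P.inv_mem w.2.2.out.2, by rw [← hφ, hw]⟩

/-- The case `|E| = 2 ^ (2 m) |E'|` does not occur. -/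
theorem false_of_k_one (hk : Nat.card E = 2 ^ (2 * m) * Nat.card (fx E a)) : False := by
  haveI := Fact.mk Nat.prime_two
  obtain ⟨f₀, hf₀⟩ := h.exists_inJ
  obtain ⟨e, he, heJ⟩ : ∃ e ∈ E, InJ a G E (e ^ 2) := by
    by_contra hno
    have hsq : ∀ x ∈ E, x ^ 2 ∈ cen a G E := fun x hx =>
      not_not.mp fun hc => hno ⟨x, hx, h.qgrp.pow_q_mem hx, hc⟩
    refine hf₀.2 ((h.qgrp.fixed_le_comm.trans (Subgroup.commutator_le.mpr fun x hx y hy => ?_)) hf₀.1)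
    have e1 : ⁅x, y⁆ = (x * y) ^ 2 * (y⁻¹ * (x ^ 2)⁻¹ * y⁻¹) := by
      rw [commutatorElement_def, sq, sq]; group
    have e2 : y⁻¹ * (x ^ 2)⁻¹ * y⁻¹ = (x ^ 2)⁻¹ * (y ^ 2)⁻¹ := by
      rw [← h.cen_central (inv_mem (hsq x hx)) (h.E_le (E.inv_mem hy)), sq y]
      group
    rw [e1, e2]
    exact mul_mem (hsq _ (E.mul_mem hx hy)) (mul_mem (inv_mem (hsq x hx)) (inv_mem (hsq y hy)))
  have heΦ : e ∉ fx E a := fun hz => heJ.2 (by rw [sq, h.fixed_invol hz]; exact one_mem _)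
  have hV : V ≠ ⊥ := fun e1 => h.neE (le_bot_iff.mp fun x hx => by
    have : x ∈ G ⊓ centralizer (V : Set X) := ⟨h.E_le hx, Subgroup.mem_centralizer_iff.mpr fun v hv => by
      rw [e1, SetLike.mem_coe, Subgroup.mem_bot] at hv; simp [hv]⟩
    rwa [h.faith] at this)
  obtain ⟨P, hP, hPa, -⟩ := h.act.exists_sylow (q := p) (U := ⊥) bot_le IsPGroup.of_bot
    (mem_normalizer_of_centralizes fun x hx => by rw [Subgroup.mem_bot] at hx; simp [hx])
  obtain ⟨g, hg, hge⟩ := conj_smul_of_nondegenerate h.podd (h.cfg.r_ne_p hV) h.act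
    (by rw [h.hrm]; exact Nat.lt_succ_self _) h.E_le h.isTwo_E h.norm_E hk
    (fun z hz x hx => h.qgrp.fixed_central hz hx) (fun x hx => h.qgrp.pow_q_mem hx) h.qgrp.fixed_pow_q
    (fun x hx hxΦ z hz => h.nondeg_of_k_one hk hx hxΦ hz) hP hPa (h.exists_ecp hP hPa)
    (fun N hN hGN hΦ => h.eq_top_of_fixed_le hN hGN hΦ) he
  have hgf : g * e ^ 2 * g⁻¹ = e ^ 2 := by
    rw [← conj_pow, hge, conj_pow, (mem_fx'.mp heJ.1).2]
  obtain ⟨x, n, -, -, hn, hgxn, hxy⟩ := h.exists_fusion heJ hg (by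
    rw [show g⁻¹ * e ^ 2 * g = g⁻¹ * (g * e ^ 2 * g⁻¹) * g by rw [hgf]]
    simpa [mul_assoc] using heJ.1)
  have hy : a * e * a⁻¹ ∈ E := conj_mem h.norm_E he
  have hne : n * e * n⁻¹ = a * e * a⁻¹ := by
    have e1 : x⁻¹ * (a * e * a⁻¹) * x = n * e * n⁻¹ := by rw [← hge, hgxn]; group
    have hc := hxy _ hy (e1 ▸ conj_mem hn.2 he)
    rw [← e1, mul_assoc, ← hc, inv_mul_cancel_left]
  have hna : ∀ i : ℕ, (a ^ (i + 1) * e * (a ^ (i + 1))⁻¹)⁻¹ * (n * (a ^ i * e * (a ^ i)⁻¹) * n⁻¹) ∈ fx E a := by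
    intro i
    induction i with
    | zero =>
      rw [zero_add, pow_one, pow_zero, one_mul, inv_one, mul_one, hne, inv_mul_cancel]
      exact one_mem _
    | succ i ih =>
      set u := a ^ i * e * (a ^ i)⁻¹ with hu
      have huE : u ∈ E := conj_mem (h.pow_norm_E i) he
      have h1 := h.conj_image hn huE
      have h2 := ih
      rw [← (mem_fx'.mp ih).2] at h2
      have h3 := mul_mem h2 h1
      refine (congrArg (· ∈ fx E a) ?_).mp h3
      rw [hu, pow_succ' a (i + 1), pow_succ' a i]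
      group
  have hni : ∀ i : ℕ, (a ^ i * e * (a ^ i)⁻¹)⁻¹ * (n ^ i * e * (n ^ i)⁻¹) ∈ fx E a := by
    intro i
    induction i with
    | zero => simp
    | succ i ih =>
      have h1 := conj_mem (h.norm_fixed' hn.2) ih
      have h3 := mul_mem (hna i) h1
      refine (congrArg (· ∈ fx E a) ?_).mp h3
      rw [pow_succ' n i]
      group
  have hord := hni (orderOf n)
  rw [pow_orderOf_eq_one] at hord
  set i₀ := orderOf n with hi₀
  have hmul : ∀ j : ℕ, e⁻¹ * (a ^ (i₀ * j) * e * (a ^ (i₀ * j))⁻¹) ∈ fx E a := by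
    intro j
    induction j with
    | zero => simp
    | succ j ih =>
      have h0 : e⁻¹ * (a ^ i₀ * e * (a ^ i₀)⁻¹) ∈ fx E a := by
        have := inv_mem hord
        simpa [mul_assoc] using this
      have h1 : a ^ i₀ * (e⁻¹ * (a ^ (i₀ * j) * e * (a ^ (i₀ * j))⁻¹)) * (a ^ i₀)⁻¹ =
          e⁻¹ * (a ^ (i₀ * j) * e * (a ^ (i₀ * j))⁻¹) := h.pow_conj_fixed ih i₀
      have h3 := mul_mem h0 ih
      refine (congrArg (· ∈ fx E a) ?_).mp h3
      rw [Nat.mul_succ, pow_add, ((Commute.refl a).pow_pow (i₀ * j) i₀).eq]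
      conv_lhs => rw [← h1]
      group
  obtain ⟨j, hj⟩ := exists_pow_eq_self_of_coprime (x := a) (n := i₀) (by
    rw [h.act.ord]
    exact (h.act.prime.coprime_iff_not_dvd.mpr fun hd =>
      h.act.cop (hd.trans (Subgroup.orderOf_dvd_natCard G hn.1))).symm)
  have hfin := hmul j
  rw [pow_mul, hj] at hfin
  obtain ⟨z, hz, hfix⟩ := (h.act.mono h.E_le h.norm_E).exists_fixed_coset (N := fx E a) fx_le
    (mem_normalizer_of_centralizes fun z hz => (mem_fx.mp hz).2) he hfin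
  exact heΦ ((mul_mem_cancel_right hz).mp (mem_fx.mpr ⟨E.mul_mem he (fx_le hz), hfix⟩))

end Setup

end Cfsg.Agent.Invol.Shult
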