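import Mathlib
import Cfsg.Agent.Lib.Invol.ZStar
import Cfsg.Agent.Lib.Invol.Shult.EndBasic

/-!
The `Z*`-theorem modulo `Z₀`; isolated elements of `E'` are impossible.
-/

set_option autoImplicit false

namespace Cfsg.Agent.Invol.Shult

open Subgroup
open scoped Pointwise commutatorElement
open Cfsg.Agent.Grp (IsSylowIn)

variable {X : Type*} [Group X] {a : X} {p r m : ℕ} {G V E K : Subgroup X}

namespace Setup

variable [Finite X] [Fact p.Prime] (h : Setup p r m a G V E)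
include h

/-- An element of `E'` isolated in `K` modulo `Z₀` is central modulo a normal subgroup of odd index over `Z₀`. -/
theorem zstar_mod (hk : Nat.card E ≠ 2 ^ (2 * m) * Nat.card (fx E a)) (hK : K ≤ G) (hΦK : fx E a ≤ K) {f : X}
    (hf : InJ a G E f) (hiso : ∀ g ∈ K, g * f * g⁻¹ ∈ fx E a → f⁻¹ * (g * f * g⁻¹) ∈ cen a G E) :
    ∃ N : Subgroup X, N ≤ K ∧ K ≤ normalizer (N : Set X) ∧ cen a G E ≤ N ∧ ¬ 2 ∣ (cen a G E).relIndex N ∧
      ∀ g ∈ K, ⁅f, g⁆ ∈ N := by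
  haveI := Fact.mk Nat.prime_two
  set C := cen a G E
  have hCK : C ≤ K := fun z hz => hΦK hz.1
  haveI : (C.subgroupOf K).Normal := ⟨fun z hz g => by
    rw [Subgroup.mem_subgroupOf] at hz ⊢
    have e : (g : X) * z * (g : X)⁻¹ = z := h.cen_conj_eq hz (hK g.2)
    simpa [e] using hz⟩
  set π := QuotientGroup.mk' (C.subgroupOf K) with hπ
  have hker : ∀ x : K, π x = 1 ↔ (x : X) ∈ C := fun x => by
    rw [hπ, QuotientGroup.mk'_apply, QuotientGroup.eq_one_iff, Subgroup.mem_subgroupOf]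
  obtain ⟨P, hP⟩ := ((h.isTwo_E.to_le (fx_le : fx E a ≤ E)).comap_subtype (K := K)).exists_le_sylow
  set S := (P : Subgroup K).map K.subtype with hS
  have hΦS : fx E a ≤ S := fun z hz => ⟨⟨z, hΦK hz⟩, hP hz, rfl⟩
  have hfK : f ∈ K := hΦK hf.1
  have hord : orderOf (π ⟨f, hfK⟩) = 2 := by
    refine orderOf_eq_prime ?_ fun e => hf.2 ((hker _).mp e)
    rw [sq, ← map_mul, hker]
    show f * f ∈ C
    rw [h.fixed_invol hf.1]
    exact one_mem _
  have hmem : π ⟨f, hfK⟩ ∈ P.mapSurjective (QuotientGroup.mk'_surjective _) :=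
    ⟨⟨f, hfK⟩, hP hf.1, rfl⟩
  have hisol := ZStar.isIsolated_of_sylow hmem hord fun q hq => by
    obtain ⟨g, rfl⟩ := QuotientGroup.mk'_surjective (C.subgroupOf K) q
    obtain ⟨s, hs, e⟩ := hq
    have hc : ((g : X) * f * (g : X)⁻¹)⁻¹ * s ∈ C := by
      refine (hker ((g * ⟨f, hfK⟩ * g⁻¹)⁻¹ * s)).mp ?_
      rw [map_mul, map_inv, map_mul, map_mul, map_inv, e, ← hπ, inv_mul_cancel]
    have hsS : (s : X) ∈ S := ⟨s, hs, rfl⟩
    have hgS : (g : X) * f * (g : X)⁻¹ ∈ S := by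
      have := S.mul_mem hsS (S.inv_mem (hΦS hc.1))
      rwa [show (s : X) * (((g : X) * f * (g : X)⁻¹)⁻¹ * s)⁻¹ = (g : X) * f * (g : X)⁻¹ by group] at this
    have hgΦ := h.mem_of_two_le hk ((map_subtype_le _).trans hK) (P.isPGroup'.map _) hΦS
      (h.JG_conj (hK g.2) (h.JG_of_InJ hf)) hgS
    have h2 : π (⟨f, hfK⟩⁻¹ * (g * ⟨f, hfK⟩ * g⁻¹)) = 1 := (hker _).mpr (hiso g g.2 hgΦ)
    rw [map_mul, map_inv, inv_mul_eq_one, map_mul, map_mul, map_inv] at h2
    exact h2.symm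
  obtain ⟨O, hOn, hOodd, hO⟩ := ZStar.exists_odd_normal hisol
  refine ⟨(O.comap π).map K.subtype, map_subtype_le _, ?_, ?_, ?_, fun g hg => ?_⟩
  · rintro g hg
    refine mem_normalizer_of_conj_le ?_
    rintro _ ⟨x, hx, rfl⟩
    refine ⟨⟨g, hg⟩ * x * ⟨g, hg⟩⁻¹, ?_, rfl⟩
    rw [SetLike.mem_coe, Subgroup.mem_comap, map_mul, map_mul, map_inv]
    exact hOn.conj_mem _ hx _
  · intro z hz
    refine ⟨⟨z, hCK hz⟩, ?_, rfl⟩
    rw [SetLike.mem_coe, Subgroup.mem_comap, (hker _).mpr hz]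
    exact one_mem _
  · have e1 : C.relIndex ((O.comap π).map K.subtype) = Nat.card O := by
      have h1 : C = (π.ker).map K.subtype := by
        rw [hπ, QuotientGroup.ker_mk', Subgroup.map_subgroupOf_eq_of_le hCK]
      refine (congrArg (fun D => Subgroup.relIndex D ((O.comap π).map K.subtype)) h1).trans ?_
      rw [Subgroup.relIndex_map_map_of_injective _ _ K.subtype_injective]
      rw [show π.ker = (⊥ : Subgroup _).comap π from rfl, Subgroup.relIndex_comap,
        Subgroup.map_comap_eq_self_of_surjective (QuotientGroup.mk'_surjective _), Subgroup.relIndex_bot_left]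
    rw [e1]
    exact fun hd => (Nat.not_even_iff_odd.mpr hOodd) (even_iff_two_dvd.mpr hd)
  · refine ⟨⁅(⟨f, hfK⟩ : K), ⟨g, hg⟩⁆, ?_, rfl⟩
    rw [SetLike.mem_coe, Subgroup.mem_comap, map_commutatorElement]
    exact hO _

/-- Isolated elements of `E'` are impossible. -/
theorem false_of_isolated (hk : Nat.card E ≠ 2 ^ (2 * m) * Nat.card (fx E a)) {f : X}
    (hf : InJ a G E f) (hiso : ∀ g ∈ G, g * f * g⁻¹ ∈ fx E a → f⁻¹ * (g * f * g⁻¹) ∈ cen a G E) : False := by
  haveI := Fact.mk Nat.prime_two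
  obtain ⟨N, hN, hNn, hcN, hodd, hcomm⟩ := h.zstar_mod hk le_rfl h.fx_le_G hf hiso
  have hfG := h.InJ_mem hf
  set N₁ := ⁅G, zpowers f⁆ with hN₁
  have hzf : zpowers f ≤ G := zpowers_le.mpr hfG
  have hN₁N : N₁ ≤ N := by
    rw [hN₁, Subgroup.commutator_le]
    intro g hg b hb
    obtain ⟨i, rfl⟩ : ∃ i : ℕ, f ^ i = b := mem_powers_iff_mem_zpowers.mpr hb
    have hg1 : ⁅g, f⁆ ∈ N := by rw [← commutatorElement_inv]; exact inv_mem (hcomm g hg)
    induction i with
    | zero => rw [pow_zero, commutatorElement_one_right]; exact one_mem _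
    | succ i ih =>
      rw [pow_succ, commutatorElement_mul_right_eq_mul_conj]
      have h2 := conj_mem (hNn (G.pow_mem hfG i)) hg1
      have h3 := N.mul_mem (ih (pow_mem (mem_zpowers f) i)) h2
      simpa [mul_assoc] using h3
  have hN₁G : N₁ ≤ G := hN₁N.trans hN
  have hn : G ≤ normalizer (N₁ : Set X) := Subgroup.normalizer_commutator_ge_left G (zpowers f)
  have ha : a ∈ normalizer (N₁ : Set X) := normalizer_commutator_of h.act.norm
    (mem_normalizer_of_centralizes fun x hx => by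
      obtain ⟨i, rfl⟩ := hx
      exact (((show Commute a f from (mem_fx.mp hf.1).2).zpow_right i)).eq)
  have hne : N₁ ≠ G := fun e => by
    have hNG : N = G := le_antisymm hN (e ▸ hN₁N)
    refine hodd ?_
    rw [hNG]
    have h1 : (cen a G E).relIndex (fx E a) ∣ (cen a G E).relIndex G :=
      Dvd.intro _ (Subgroup.relIndex_mul_relIndex (cen a G E) (fx E a) G inf_le_left h.fx_le_G)
    refine Dvd.dvd.trans ?_ h1
    obtain ⟨k, hk2⟩ := IsPGroup.iff_card.mp (h.isTwo_E.to_le (fx_le : fx E a ≤ E))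
    have h2 : (cen a G E).relIndex (fx E a) ∣ 2 ^ k :=
      hk2 ▸ Dvd.intro_left _ (Grp.card_mul_relIndex inf_le_left)
    obtain ⟨j, -, hj⟩ := (Nat.dvd_prime_pow Nat.prime_two).mp h2
    refine hj ▸ dvd_pow_self 2 fun h0 => hf.2 ?_
    rw [h0, pow_zero, Subgroup.relIndex_eq_one] at hj
    exact hj hf.1
  have hcen := h.small N₁ hN₁G hn ha hne
  have hall : ∀ g ∈ G, ∀ x ∈ G, ⁅g, f⁆ * x = x * ⁅g, f⁆ := fun g hg x hx =>
    (Subgroup.mem_centralizer_iff.mp (hcen (Subgroup.commutator_mem_commutator hg (mem_zpowers f))) x hx).symm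
  let δ : G →* N₁ :=
    { toFun := fun g => ⟨_, Subgroup.commutator_mem_commutator g.2 (mem_zpowers f)⟩
      map_one' := Subtype.ext (commutatorElement_one_left _)
      map_mul' := fun g k => Subtype.ext (by
        show ⁅(g : X) * k, f⁆ = ⁅(g : X), f⁆ * ⁅(k : X), f⁆
        rw [comm_mul_left_of_central (hall k k.2 _ g.2), hall k k.2 _ (hN₁G (Subgroup.commutator_mem_commutator g.2 (mem_zpowers f)))]) }
  have hker : G ≤ δ.ker.map G.subtype := by
    conv_lhs => rw [← h.perfect]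
    rw [Subgroup.commutator_le]
    intro g hg k hk'
    refine ⟨⁅(⟨g, hg⟩ : ↥G), ⟨k, hk'⟩⁆, ?_, rfl⟩
    rw [SetLike.mem_coe, MonoidHom.mem_ker, map_commutatorElement, commutatorElement_eq_one_iff_mul_comm]
    exact Subtype.ext (Subgroup.mem_centralizer_iff.mp (hcen (δ _).2) _ (hN₁G (δ _).2)).symm
  refine hf.2 ⟨hf.1, Subgroup.mem_centralizer_iff.mpr fun g hg => ?_⟩
  obtain ⟨k, hk', rfl⟩ := hker hg
  exact commutatorElement_eq_one_iff_mul_comm.mp (congrArg Subtype.val (MonoidHom.mem_ker.mp hk'))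

end Setup

end Cfsg.Agent.Invol.Shult
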