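import Mathlib
import Cfsg.Agent.Lib.Invol.LargeSubgroup
import Cfsg.Agent.Lib.Transfer.SFT.Main
import Cfsg.Agent.Lib.Invol.Shult.EndBasic

/-!
The signalizer functor `f ↦ O_p(C*(f))` and the subgroup containing all these centralizers.
-/

set_option autoImplicit false

namespace Cfsg.Agent.Invol.Shult

open Subgroup
open scoped Pointwise commutatorElement
open Cfsg.Agent.Grp (IsSylowIn)

variable {X : Type*} [Group X] {a : X} {p r m : ℕ} {G V E W : Subgroup X}

/-- `O_p` of the centralizer modulo `Z₀`. -/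
def theta (p : ℕ) (a : X) (G E : Subgroup X) (f : X) : Subgroup X := Cfsg.pCoreOf p (cst a G E f)

namespace Setup

variable [Finite X] [Fact p.Prime] (h : Setup p r m a G V E)
include h

omit h in
theorem theta_le {f : X} : theta p a G E f ≤ cst a G E f := lg_pCoreOf_le _

omit h in
theorem theta_isP {f : X} : IsPGroup p (theta p a G E f) := lg_isPGroup_pCoreOf _

omit h in
theorem cst_le_norm_theta {f : X} : cst a G E f ≤ normalizer ((theta p a G E f : Subgroup X) : Set X) :=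
  lg_le_normalizer_pCoreOf _

theorem theta_comm {f x : X} (hf : f ∈ G) (hx : x ∈ theta p a G E f) : x * f = f * x := by
  obtain ⟨j, hj⟩ := theta_isP (p := p) (a := a) (G := G) (E := E) (f := f) ⟨x, hx⟩
  exact h.comm_of_mem_cst hf (theta_le hx) (j := j) (by simpa using congrArg Subtype.val hj)

theorem theta_congr {u v : X} (hu : u ∈ G) (hz : u⁻¹ * v ∈ cen a G E) : theta p a G E v = theta p a G E u := by
  have e : cst a G E v = cst a G E u := Subgroup.ext fun x => h.mem_cst_congr hu hz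
  rw [theta, theta, e]

theorem conj_theta_le {f n : X} (hn : n ∈ G) (hf : f ∈ G) :
    MulAut.conj n • theta p a G E f ≤ theta p a G E (n * f * n⁻¹) := by
  have hle : ∀ x, x ∈ cst a G E f → n * x * n⁻¹ ∈ cst a G E (n * f * n⁻¹) := fun x hx => by
    have := h.cst_conj_le (G.inv_mem hn) (G.mul_mem (G.mul_mem hn hf) (G.inv_mem hn)) (x := x)
      (by rwa [show n⁻¹ * (n * f * n⁻¹) * n⁻¹⁻¹ = f by group])
    rwa [inv_inv] at this
  refine lg_le_pCoreOf (fun x hx => ?_) (fun g hg => ?_) (smul_isPGroup theta_isP)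
  · have := hle _ (theta_le (mem_smul_iff'.mp hx))
    simpa [mul_assoc] using this
  · refine mem_normalizer_of_conj_le fun x hx => ?_
    rw [mem_smul_iff'] at hx ⊢
    have hg' := h.cst_conj_le hn hf hg
    have := conj_mem (cst_le_norm_theta (p := p) hg') hx
    simpa [mul_assoc] using this

theorem norm_theta {f : X} (hf : f ∈ fx E a) : a ∈ normalizer ((theta p a G E f : Subgroup X) : Set X) :=
  lg_normalizer_le_normalizer_pCoreOf _ (h.norm_cst hf)

/-- `C*(f) = θ(f) N(E)`. -/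
theorem cst_decomp {f g : X} (hf : InJ a G E f) (hg : g ∈ cst a G E f) :
    ∃ x ∈ theta p a G E f, ∃ n ∈ G ⊓ normalizer (E : Set X), g = x * n := by
  haveI := Fact.mk Nat.prime_two
  obtain ⟨Xp, hXp, hXle, -, hXn, -, hsyl, hdec⟩ := h.exists_core hf
  have hB : MulAut.conj g • E ≤ br (cst a G E f) a := fun y hy => by
    have := conj_mem (le_norm_br hg) (hsyl.1 (mem_smul_iff'.mp hy))
    simpa [mul_assoc] using this
  have hsK : IsSylowIn 2 (MulAut.conj g • E) (br (cst a G E f) a) := by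
    refine ⟨hB, smul_isPGroup h.isTwo_E, fun hd => hsyl.2.2 ?_⟩
    have h2 := Grp.card_mul_relIndex hsyl.1
    have h3 := Grp.card_mul_relIndex hB
    rw [Grp.card_conj_smul, ← h2] at h3
    rwa [← Nat.eq_of_mul_eq_mul_left Nat.card_pos h3]
  obtain ⟨b, hb, e⟩ := hsyl.conj hsK
  obtain ⟨x, hx, e₁, he₁, rfl⟩ := hdec b hb
  rw [map_mul, mul_smul, smul_eq_of_le_norm (Subgroup.le_normalizer he₁)] at e
  refine ⟨x, lg_le_pCoreOf hXle hXn hXp hx, x⁻¹ * g,
    ⟨G.mul_mem (G.inv_mem (h.cst_le (hXle hx))) (h.cst_le hg), ?_⟩, by group⟩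
  refine Grp.mem_normalizer_iff_smul.mpr ?_
  rw [map_mul, mul_smul, ← e, ← mul_smul, ← map_mul, inv_mul_cancel, map_one, one_smul]

theorem cent_le_cst {f : X} (hf : f ∈ fx E a) : G ⊓ centralizer (E : Set X) ≤ cst a G E f :=
  fun c hc => (h.mem_cst (h.fx_le_G hf)).mpr ⟨hc.1, by
    rw [commutatorElement_eq_one_iff_mul_comm.mpr
      (Subgroup.mem_centralizer_iff.mp hc.2 f (fx_le hf)).symm]; exact one_mem _⟩

/-- Balance: `p`-subgroups of `C*(f)` invariant under `C(E)` and a sufficiently large part of `E` lie in `θ(f)`. -/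
theorem le_theta_of {f : X} {U : Subgroup X} (hUE : U ≤ E)
    (hU : ∀ n ∈ G ⊓ normalizer (E : Set X), ∀ k : ℕ, n ^ p ^ k = 1 → (∀ η ∈ U, n * η = η * n) →
      n ∈ centralizer (E : Set X))
    (hf : InJ a G E f) (hW : W ≤ cst a G E f) (hWp : IsPGroup p W) (hEW : U ≤ normalizer (W : Set X)) (hCW : G ⊓ centralizer (E : Set X) ≤ normalizer (W : Set X)) :
    W ≤ theta p a G E f := by
  haveI := Fact.mk Nat.prime_two
  set T := theta p a G E f
  have hWT : W ≤ normalizer (T : Set X) := hW.trans cst_le_norm_theta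
  set C := G ⊓ centralizer (E : Set X) with hC
  set W₁ := (T ⊔ W) ⊓ normalizer (E : Set X) with hW₁
  have hTWc : T ⊔ W ≤ cst a G E f := sup_le theta_le hW
  have hTW : IsPGroup p (T ⊔ W : Subgroup X) := IsPGroup.to_sup_of_normal_left' theta_isP hWp hWT
  have hn1 : ∀ g, g ∈ cst a G E f → g ∈ normalizer (W : Set X) → g ∈ normalizer (E : Set X) →
      g ∈ normalizer (W₁ : Set X) := fun g h1 h2 h3 =>
    mem_normalizer_inf (mem_normalizer_sup (cst_le_norm_theta h1) h2) (Subgroup.le_normalizer h3)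
  have hW₁C : W₁ ≤ C := fun w hw => ⟨h.cst_le (hTWc hw.1), by
    obtain ⟨k, hk⟩ := hTW ⟨w, hw.1⟩
    refine hU w ⟨h.cst_le (hTWc hw.1), hw.2⟩ k (by simpa using congrArg Subtype.val hk) fun η hη => ?_
    refine (commutatorElement_eq_one_iff_mul_comm.mp (h.inf_eq_bot_of_p (hTW.to_le (inf_le_left : W₁ ≤ T ⊔ W))
      (x := ⁅η, w⁆) ?_ ?_)).symm
    · rw [commutatorElement_def]
      exact W₁.mul_mem (conj_mem (hn1 η (h.E_le_cst hf.1 (hUE hη)) (hEW hη)
        (Subgroup.le_normalizer (hUE hη))) hw) (W₁.inv_mem hw)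
    · rw [commutatorElement_def, mul_assoc η w, mul_assoc η]
      exact E.mul_mem (hUE hη) (conj_mem hw.2 (E.inv_mem (hUE hη)))⟩
  have hCE : C ≤ normalizer (E : Set X) := fun c hc => mem_normalizer_of_centralizes fun η hη =>
    (Subgroup.mem_centralizer_iff.mp hc.2 η hη).symm
  set O := Cfsg.pCoreOf p C with hO
  have hOC : O ≤ C := lg_pCoreOf_le _
  have hW₁O : W₁ ≤ O := lg_le_pCoreOf hW₁C
    (fun c hc => hn1 c (h.cent_le_cst hf.1 hc) (hCW hc) (hCE hc)) (hTW.to_le inf_le_left)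
  have hOcst : O ≤ cst a G E f := hOC.trans (h.cent_le_cst hf.1)
  have hOT : O ≤ normalizer (T : Set X) := hOcst.trans cst_le_norm_theta
  have hNO : G ⊓ normalizer (E : Set X) ≤ normalizer (O : Set X) := fun n hn =>
    lg_normalizer_le_normalizer_pCoreOf _
      (mem_normalizer_inf (Subgroup.le_normalizer hn.1) (mem_normalizer_centralizer hn.2))
  have hTO : T ⊔ O ≤ T := by
    refine lg_le_pCoreOf (sup_le theta_le hOcst) (fun g hg => ?_)
      (IsPGroup.to_sup_of_normal_left' theta_isP (lg_isPGroup_pCoreOf _) hOT)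
    obtain ⟨x, hx, n, hn, rfl⟩ := h.cst_decomp hf hg
    exact mul_mem (Subgroup.le_normalizer (mem_sup_left hx))
      (mem_normalizer_sup (cst_le_norm_theta (by simpa using mul_mem (inv_mem (theta_le hx)) hg)) (hNO hn))
  intro w hw
  obtain ⟨x, hx, n, hn, rfl⟩ := h.cst_decomp hf (hW hw)
  have hn' : n ∈ W₁ := ⟨by simpa using mul_mem (mem_sup_left (T := W) (T.inv_mem hx)) (mem_sup_right hw), hn.2⟩
  exact mul_mem hx (hTO (mem_sup_right (hW₁O hn')))

theorem le_theta {f : X} (hf : InJ a G E f) (hW : W ≤ cst a G E f) (hWp : IsPGroup p W)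
    (hEW : E ≤ normalizer (W : Set X)) (hCW : G ⊓ centralizer (E : Set X) ≤ normalizer (W : Set X)) :
    W ≤ theta p a G E f :=
  h.le_theta_of le_rfl (fun _ _ _ _ hc => Subgroup.mem_centralizer_iff.mpr fun η hη => (hc η hη).symm)
    hf hW hWp hEW hCW

/-- A proper subgroup containing every `θ(f)`, normalized by `N(E)` and `a`, gives a big subgroup. -/
theorem exists_big_of {Q : Subgroup X} (hQG : Q ≤ G) (hNQ : G ⊓ normalizer (E : Set X) ≤ normalizer (Q : Set X))
    (haQ : a ∈ normalizer (Q : Set X)) (hQne : Q ≠ G) (hθQ : ∀ f, InJ a G E f → theta p a G E f ≤ Q) :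
    ∃ M, Big a G E M := by
  refine ⟨Q ⊔ G ⊓ normalizer (E : Set X), ⟨sup_le hQG inf_le_left, fun e => ?_, le_sup_right,
    fun f hf g hg => ?_⟩⟩
  · have hGQ : G ≤ normalizer (Q : Set X) := e.ge.trans (sup_le Subgroup.le_normalizer hNQ)
    have hc := h.small Q hQG hGQ haQ hQne
    refine h.normalizer_ne (le_antisymm inf_le_left fun g hg => ⟨hg, ?_⟩)
    refine (e.ge.trans (sup_le (fun q hq => mem_normalizer_of_centralizes fun η hη => ?_) inf_le_right)) hg
    exact (Subgroup.mem_centralizer_iff.mp (hc hq) η (h.E_le hη)).symm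
  · obtain ⟨x, hx, n, hn, rfl⟩ := h.cst_decomp hf hg
    exact mul_mem (mem_sup_left (hθQ f hf hx)) (mem_sup_right hn)

/-- A complement of `Z₀` in `E'`. -/
theorem exists_compl : ∃ A : Subgroup X, A ≤ fx E a ∧ (∀ x ∈ A, x ∈ cen a G E → x = 1) ∧
    (∀ z ∈ fx E a, ∃ x ∈ A, z⁻¹ * x ∈ cen a G E) ∧ Nat.card A * Nat.card (cen a G E) = Nat.card (fx E a) := by
  by_cases hZ : cen a G E = ⊥
  · refine ⟨fx E a, le_rfl, fun x _ hx => Subgroup.mem_bot.mp (hZ ▸ hx), fun z hz => ⟨z, hz, by simp⟩, ?_⟩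
    rw [hZ, Subgroup.card_bot, mul_one]
  obtain ⟨z, hz, hz1⟩ : ∃ z ∈ cen a G E, z ≠ 1 := by
    by_contra hc
    push Not at hc
    exact hZ ((Subgroup.eq_bot_iff_forall _).mpr hc)
  obtain ⟨D, hD⟩ := h.exists_isWeight
  have hzD : z ∉ D := fun hzD => hz1 (h.cen_notMem_weight hD hz hzD)
  have hidx : (D.subgroupOf (fx E a)).index = 2 := hD.2.1
  have hone : ∀ x ∈ cen a G E, x = 1 ∨ x = z := fun x hx => by
    by_contra hc
    push Not at hc
    exact hc.2 (h.cen_eq_of_ne_one hz hz1 hx hc.1).symm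
  refine ⟨D, hD.1, fun x hxD hx => h.cen_notMem_weight hD hx hxD, fun w hw => ?_, ?_⟩
  · by_cases hwD : w ∈ D
    · exact ⟨w, hwD, by simp⟩
    refine ⟨w * z, ?_, by simpa using hz⟩
    have h1 := Subgroup.mul_mem_iff_of_index_two hidx (a := ⟨w, hw⟩) (b := ⟨z, hz.1⟩)
    simp only [Subgroup.mem_subgroupOf] at h1
    exact h1.mpr (iff_of_false hwD hzD)
  · have hc2 : Nat.card (cen a G E) = 2 := by
      refine Nat.card_eq_two_iff.mpr ⟨1, ⟨z, hz⟩, fun e => hz1 (congrArg Subtype.val e).symm,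
        Set.eq_univ_of_forall fun x => ?_⟩
      rcases hone x x.2 with e | e
      · exact Or.inl (Subtype.ext e)
      · exact Or.inr (Subtype.ext e)
    rw [hc2, ← Grp.card_mul_relIndex hD.1]
    exact congrArg _ hD.2.1.symm

/-- The centralizers modulo `Z₀` lie in a proper subgroup when `|E'/Z₀| ≥ 8`. -/
theorem exists_big (hl : 8 * Nat.card (cen a G E) ≤ Nat.card (fx E a)) : ∃ M, Big a G E M := by
  haveI := Fact.mk Nat.prime_two
  obtain ⟨A, hA, hAz, hAdec, hAc⟩ := h.exists_compl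
  have hAel : Cfsg.IsElementaryAbelian 2 A :=
    ⟨⟨⟨fun x y => Subtype.ext (h.qgrp.fixed_central (hA x.2) (fx_le (hA y.2)))⟩⟩,
      fun x hx => h.qgrp.fixed_pow_q x (hA hx)⟩
  have h3 : 2 ^ 3 ≤ Nat.card A := Nat.le_of_mul_le_mul_right (hl.trans hAc.ge) Nat.card_pos
  have hAJ : ∀ x ∈ A, x ≠ 1 → InJ a G E x := fun x hx hx1 => ⟨hA hx, fun hz => hx1 (hAz x hx hz)⟩
  have hθ : Cfsg.IsSolvableSignalizerFunctor 2 A (theta p a G E) := by
    refine ⟨⟨fun x hx hx1 w hw => Subgroup.mem_centralizer_iff.mpr ?_, fun x _ _ =>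
      not_dvd_card_of_isPGroup theta_isP (Ne.symm h.two_ne), fun x hx hx1 b hb w hw => ?_,
      fun x hx hx1 b hb hb1 => ?_⟩, fun x _ _ => by
        haveI : Group.IsNilpotent (theta p a G E x) := (theta_isP (p := p)).isNilpotent
        infer_instance⟩
    · rintro y rfl
      exact (h.theta_comm (h.fx_le_G (hA hx)) hw).symm
    · exact conj_mem (cst_le_norm_theta (h.E_le_cst (hA hx) (fx_le (hA hb)))) hw
    · have hbJ := hAJ b hb hb1
      refine h.le_theta hbJ (fun w hw => (h.mem_cst (h.InJ_mem hbJ)).mpr ⟨h.cst_le (theta_le hw.1), ?_⟩)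
        (theta_isP.to_le inf_le_left) (fun η hη => ?_) (fun c hc => ?_)
      · rw [commutatorElement_eq_one_iff_mul_comm.mpr (Subgroup.mem_centralizer_singleton_iff.mp hw.2)]
        exact one_mem _
      · exact mem_normalizer_inf (cst_le_norm_theta (h.E_le_cst (hA hx) hη))
          (Subgroup.le_normalizer (Subgroup.mem_centralizer_singleton_iff.mpr
            (h.qgrp.fixed_central (hA hb) hη).symm))
      · refine mem_normalizer_inf (cst_le_norm_theta (h.cent_le_cst (hA hx) hc)) ?_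
        refine Subgroup.le_normalizer (Subgroup.mem_centralizer_singleton_iff.mpr ?_)
        exact (Subgroup.mem_centralizer_iff.mp hc.2 b (fx_le (hA hb))).symm
  obtain ⟨-, hodd, -, -⟩ := Transfer.SFT.closure_complete hAel h3 hθ
  set Q := Cfsg.signalizerClosure A (theta p a G E) with hQ
  have hθQ : ∀ f, InJ a G E f → theta p a G E f ≤ Q := by
    intro f hf
    obtain ⟨x, hx, hz⟩ := hAdec f hf.1
    have hx1 : x ≠ 1 := fun e => hf.2 (by
      rw [e, mul_one] at hz
      simpa using inv_mem hz)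
    rw [← h.theta_congr (h.InJ_mem hf) hz]
    exact le_iSup (fun b : {b : X // b ∈ A ∧ b ≠ 1} => theta p a G E b) ⟨x, hx, hx1⟩
  have hQG : Q ≤ G := iSup_le fun b => theta_le.trans h.cst_le
  have hNQ : G ⊓ normalizer (E : Set X) ≤ normalizer (Q : Set X) := fun n hn => by
    refine Grp.mem_normalizer_iff_smul.mpr (Subgroup.eq_of_le_of_card_ge ?_ (Grp.card_conj_smul n Q).ge)
    rw [hQ, Cfsg.signalizerClosure]
    show Subgroup.map (MulAut.conj n).toMonoidHom (iSup _) ≤ _
    rw [Subgroup.map_iSup]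
    refine iSup_le fun b => (h.conj_theta_le hn.1 (h.fx_le_G (hA b.2.1))).trans (hθQ _ ?_)
    exact h.InJ_conj (hAJ _ b.2.1 b.2.2) hn.1 (conj_mem (h.norm_fixed' hn.2) (hA b.2.1))
  have haQ : a ∈ normalizer (Q : Set X) := by
    refine Grp.mem_normalizer_iff_smul.mpr (Subgroup.eq_of_le_of_card_ge ?_ (Grp.card_conj_smul a Q).ge)
    rw [hQ, Cfsg.signalizerClosure]
    show Subgroup.map (MulAut.conj a).toMonoidHom (iSup _) ≤ _
    rw [Subgroup.map_iSup]
    refine iSup_le fun b => ?_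
    refine (Grp.mem_normalizer_iff_smul.mp (h.norm_theta (hA b.2.1))).le.trans ?_
    exact le_iSup (fun b : {b : X // b ∈ A ∧ b ≠ 1} => theta p a G E b) b
  refine h.exists_big_of hQG hNQ haQ (fun e' => hodd ?_) hθQ
  obtain ⟨k, hk⟩ := IsPGroup.iff_card.mp h.isTwo_E
  have hk0 : k ≠ 0 := fun h0 => h.neE (Subgroup.card_eq_one.mp (by rw [hk, h0, pow_zero]))
  exact (hk ▸ dvd_pow_self 2 hk0 : 2 ∣ Nat.card E).trans (Subgroup.card_dvd_of_le (e'.symm ▸ h.E_le))

end Setup

end Cfsg.Agent.Invol.Shult
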