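import Mathlib
import Cfsg.Agent.Lib.Invol.Shult.EndBasic

/-!
Stabilizers in `N(E)` of an element of `E`.
-/

set_option autoImplicit false

namespace Cfsg.Agent.Invol.Shult

open Subgroup
open scoped Pointwise commutatorElement
open Cfsg.Agent.Grp (IsSylowIn)

variable {X : Type*} [Group X] {a : X} {p r m : ℕ} {G V E : Subgroup X}

namespace Setup

variable [Finite X] [Fact p.Prime] (h : Setup p r m a G V E)
include h

/-- `N(E)` commutes with the translates modulo `E'`. -/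
theorem conj_translate {n y : X} (hn : n ∈ G ⊓ normalizer (E : Set X)) (hy : y ∈ E)
    (hny : y⁻¹ * (n * y * n⁻¹) ∈ fx E a) :
    ∀ j : ℕ, (a ^ j * y * (a ^ j)⁻¹)⁻¹ * (n * (a ^ j * y * (a ^ j)⁻¹) * n⁻¹) ∈ fx E a := by
  intro j
  have hyf : y ∈ fixd a E n := (h.mem_fixd hn.2).mpr ⟨hy, hny⟩
  exact ((h.mem_fixd hn.2).mp (conj_mem (Subgroup.pow_mem _ (h.norm_fixd' hn) j) hyf)).2

/-- The stabilizer of `y` fixes the commutators of `y` with its translates. -/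
theorem stab_fixes_comm {n y : X} (hn : n ∈ G ⊓ normalizer (E : Set X)) (hy : y ∈ E)
    (hny : y⁻¹ * (n * y * n⁻¹) ∈ fx E a) (j : ℕ) :
    n * ⁅a ^ j * y * (a ^ j)⁻¹, y⁆ * n⁻¹ = ⁅a ^ j * y * (a ^ j)⁻¹, y⁆ := by
  set P := a ^ j * y * (a ^ j)⁻¹ with hP
  have hPE : P ∈ E := conj_mem (h.pow_norm_E j) hy
  have h1 := h.conj_translate hn hy hny j
  rw [← hP] at h1
  have e : n * ⁅P, y⁆ * n⁻¹ = ⁅P * (P⁻¹ * (n * P * n⁻¹)), y * (y⁻¹ * (n * y * n⁻¹))⁆ := by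
    simp only [commutatorElement_def]; group
  rw [e, h.qgrp.comm_mul_right (E.mul_mem hPE (fx_le h1)) hy (fx_le hny),
    commutatorElement_eq_one_iff_mul_comm.mpr (h.qgrp.fixed_central hny (E.mul_mem hPE (fx_le h1))).symm,
    mul_one, h.qgrp.comm_mul_left hPE (fx_le h1) hy,
    commutatorElement_eq_one_iff_mul_comm.mpr (h.qgrp.fixed_central h1 hy), mul_one]

/-- A commutator of `y` with a translate is isolated in the centralizer of `y` modulo `Z₀`. -/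
theorem isolated_in_cst {y : X} (hy : y ∈ E) {j : ℕ} (hj : ⁅a ^ j * y * (a ^ j)⁻¹, y⁆ ∉ cen a G E)
    {g : X} (hg : g ∈ cst a G E y)
    (hgΦ : g * ⁅a ^ j * y * (a ^ j)⁻¹, y⁆ * g⁻¹ ∈ fx E a) :
    g * ⁅a ^ j * y * (a ^ j)⁻¹, y⁆ * g⁻¹ = ⁅a ^ j * y * (a ^ j)⁻¹, y⁆ := by
  obtain ⟨n, hn, hny, hnf⟩ :=
    h.stab_fusion hy hg ⟨h.qgrp.comm_mem (conj_mem (h.pow_norm_E j) hy) hy, hj⟩ hgΦ
  rw [← hnf, h.stab_fixes_comm hn hy hny j]

/-- A nonnull element of `E` has an intransitive stabilizer. -/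
theorem intransitive_of_nonnull (hl : 4 * Nat.card (cen a G E) ≤ Nat.card (fx E a)) {y : X} (hy : y ∈ E) {j : ℕ}
    (hj : ⁅a ^ j * y * (a ^ j)⁻¹, y⁆ ∉ cen a G E) :
    ∃ f f', InJ a G E f ∧ InJ a G E f' ∧ ∀ n ∈ G ⊓ normalizer (E : Set X),
      y⁻¹ * (n * y * n⁻¹) ∈ fx E a → f⁻¹ * (n * f' * n⁻¹) ∉ cen a G E := by
  set b := ⁅a ^ j * y * (a ^ j)⁻¹, y⁆ with hb
  have hbΦ : b ∈ fx E a := h.qgrp.comm_mem (conj_mem (h.pow_norm_E j) hy) hy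
  obtain ⟨f, hf, hfb⟩ : ∃ f, InJ a G E f ∧ f⁻¹ * b ∉ cen a G E := by
    by_contra hc
    push Not at hc
    let φ : ↥(cen a G E) ⊕ ↥(cen a G E) → ↥(fx E a) :=
      Sum.elim (fun z => ⟨(z : X), z.2.1⟩) (fun z => ⟨b * z, mul_mem hbΦ z.2.1⟩)
    have hsurj : Function.Surjective φ := by
      rintro ⟨w, hw⟩
      by_cases hwz : w ∈ cen a G E
      · exact ⟨Sum.inl ⟨w, hwz⟩, rfl⟩
      · refine ⟨Sum.inr ⟨(w⁻¹ * b)⁻¹, inv_mem (hc w ⟨hw, hwz⟩)⟩, Subtype.ext ?_⟩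
        show b * (w⁻¹ * b)⁻¹ = w
        group
    have := Nat.card_le_card_of_surjective φ hsurj
    rw [Nat.card_sum] at this
    have hpos : 0 < Nat.card (cen a G E) := Nat.card_pos
    omega
  refine ⟨f, b, hf, ⟨hbΦ, hj⟩, fun n hn hny => ?_⟩
  rw [h.stab_fixes_comm hn hy hny j]
  exact hfb

end Setup

end Cfsg.Agent.Invol.Shult
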