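import Mathlib
import Cfsg.Agent.Lib.Invol.Shult.Signalizer
import Cfsg.Agent.Lib.Grp.Signalizer
import Cfsg.Agent.Lib.Grp.HallConverse

/-!
A subgroup with a decomposition along the centralizers of `A#` is a `p`-group modulo the centralizer of `b`.
-/

set_option autoImplicit false

namespace Cfsg.Agent.Invol.Shult

open Subgroup
open scoped Pointwise commutatorElement
open Cfsg.Agent.Grp (IsSylowIn)

variable {X : Type*} [Group X] [Finite X] {a : X} {p r m : ℕ} [Fact p.Prime] {G V E : Subgroup X}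

/-- A 2-group acting on a group with central subgroup of odd index normalises a Sylow subgroup. -/
theorem exists_invariant_sylow_two {A N C : Subgroup X} (hA : IsPGroup 2 A) (hAN : A ≤ normalizer (N : Set X))
    (hCN : C ≤ N) (hC : N ≤ centralizer (C : Set X)) (hodd : ¬ 2 ∣ C.relIndex N) (q : ℕ) [Fact q.Prime] :
    ∃ Q, IsSylowIn q Q N ∧ A ≤ normalizer (Q : Set X) := by
  classical
  haveI : Fact (Nat.Prime 2) := ⟨Nat.prime_two⟩
  let φ : ↥A →* MulAut ↥N := N.normalizerMonoidHom.comp (Subgroup.inclusion hAN)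
  letI : MulAction ↥A (Sylow q ↥N) := MulAction.compHom (Sylow q ↥N) φ
  obtain ⟨Q₀⟩ := (inferInstance : Nonempty (Sylow q ↥N))
  have hCc : C.subgroupOf N ≤ normalizer ((Q₀ : Subgroup ↥N) : Set ↥N) :=
    le_trans (fun c hc => mem_centralizer_iff.mpr fun y _ => Subtype.ext
      ((mem_centralizer_iff.mp (hC y.2) (c : X) hc).symm)) (centralizer_le_normalizer _)
  have hn : ¬ 2 ∣ Nat.card (Sylow q ↥N) := fun hd => hodd (hd.trans (by
    rw [Sylow.card_eq_index_normalizer Q₀]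
    exact index_dvd_of_le hCc))
  obtain ⟨Q, hQ⟩ := hA.nonempty_fixed_point_of_prime_not_dvd_card (Sylow q ↥N) hn
  refine ⟨(Q : Subgroup ↥N).map N.subtype, Grp.isSylowIn_iff.mpr ⟨Q, rfl⟩, fun x hx => mem_normalizer_fintype ?_⟩
  rintro _ ⟨y, hy, rfl⟩
  have h1 : φ ⟨x, hx⟩ • Q = Q := hQ ⟨x, hx⟩
  have h2 : (φ ⟨x, hx⟩ • Q : Sylow q ↥N).toSubgroup = Q.toSubgroup := by rw [h1]
  refine ⟨φ ⟨x, hx⟩ y, ?_, rfl⟩
  rw [SetLike.mem_coe, ← h2, Sylow.pointwise_smul_def]
  exact smul_mem_pointwise_smul y (φ ⟨x, hx⟩) Q.toSubgroup hy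

theorem Setup.isPGroup_comm_of_decomp (h : Setup p r m a G V E) {N : Subgroup X} {b : X}
    (hl : 4 * Nat.card (cen a G E) ≤ Nat.card (fx E a))
    (hNG : N ≤ G) (hΦN : fx E a ≤ normalizer (N : Set X)) (hcN : cen a G E ≤ N)
    (hodd : ¬ 2 ∣ (cen a G E).relIndex N) (hb : InJ a G E b)
    (hdec : ∀ f, InJ a G E f → ∀ x ∈ N, x * f = f * x →
      ∃ u ∈ theta p a G E f, (u⁻¹ * x) * b = b * (u⁻¹ * x)) :
    IsPGroup p (⁅N, zpowers b⁆ : Subgroup X) := by
  haveI : Fact (Nat.Prime 2) := ⟨Nat.prime_two⟩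
  obtain ⟨A, hA, hAz, hAdec, hAc⟩ := h.exists_compl
  have hAel : Cfsg.IsElementaryAbelian 2 A :=
    ⟨⟨⟨fun x y => Subtype.ext (h.qgrp.fixed_central (hA x.2) (fx_le (hA y.2)))⟩⟩,
      fun x hx => h.qgrp.fixed_pow_q x (hA hx)⟩
  have hA2 : IsPGroup 2 A := (h.isTwo_E.to_le fx_le).to_le hA
  have h4 : 4 ≤ Nat.card A := Nat.le_of_mul_le_mul_right (hl.trans hAc.ge) Nat.card_pos
  have hA1 : A ≠ ⊥ := fun e => by rw [e, Subgroup.card_bot] at h4; omega
  have hNc : N ≤ centralizer (cen a G E : Set X) :=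
    hNG.trans (le_centralizer_iff.mp inf_le_right)
  have hbA : ∀ Q : Subgroup X, Q ≤ G → A ≤ normalizer (Q : Set X) → b ∈ normalizer (Q : Set X) := by
    intro Q hQ hAQ
    obtain ⟨x, hx, hxz⟩ := hAdec b hb.1
    have hz : b⁻¹ * x ∈ normalizer (Q : Set X) := centralizer_le_normalizer _
      (mem_centralizer_iff.mpr fun y hy => (h.cen_central hxz (hQ hy)).symm)
    have h1 := mul_mem (hAQ hx) (inv_mem hz)
    simpa [mul_inv_rev, mul_assoc] using h1
  set C := N ⊓ centralizer ({b} : Set X) with hC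
  -- Sylow subgroups for primes other than `p` centralize `b`
  have hprime : ∀ q : ℕ, q.Prime → q ≠ p → ¬ q ∣ C.relIndex N := by
    intro q hq hqp
    haveI := Fact.mk hq
    rcases eq_or_ne q 2 with rfl | hq2
    · refine fun hd => hodd (hd.trans (relIndex_dvd_of_le_left _ (le_inf hcN fun z hz => ?_)))
      exact mem_centralizer_singleton_iff.mpr (h.cen_central hz (h.InJ_mem hb))
    obtain ⟨Q, hQ, hAQ⟩ := exists_invariant_sylow_two hA2 (hA.trans hΦN) hcN hNc hodd q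
    have hQ2 : ¬ 2 ∣ Nat.card Q := fun hd => by
      obtain ⟨k, hk⟩ := IsPGroup.iff_card.mp hQ.2.1
      rw [hk] at hd
      exact hq2 ((Nat.prime_dvd_prime_iff_eq Nat.prime_two hq).mp (Nat.prime_two.dvd_of_dvd_pow hd)).symm
    have hbQ := hbA Q (hQ.1.trans hNG) hAQ
    have hQC : Q ≤ C := by
      refine le_inf hQ.1 (Grp.le_of_hyperplanes hAel hA1 Q hQ2 hAQ fun D hDA hDi => ?_)
      have hD1 : D ≠ ⊥ := fun e => by
        rw [e, relIndex_bot_left] at hDi; omega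
      obtain ⟨⟨f, hf⟩, hf1⟩ : ∃ f : ↥D, f ≠ 1 := by
        haveI := (nontrivial_iff_ne_bot D).mpr hD1
        exact exists_ne 1
      have hfJ : InJ a G E f := ⟨hA (hDA hf), fun hz => hf1 (Subtype.ext (hAz f (hDA hf) hz))⟩
      rintro x ⟨hx, hxD⟩
      obtain ⟨u, hu, hun⟩ := hdec f hfJ x (hQ.1 hx) (mem_centralizer_iff.mp hxD f hf).symm
      have hbT : b ∈ normalizer ((theta p a G E f : Subgroup X) : Set X) :=
        Setup.cst_le_norm_theta (h.E_le_cst hfJ.1 (fx_le hb.1))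
      have hmT : ⁅x, b⁆ ∈ theta p a G E f := by
        have e : ⁅x, b⁆ = u * (b * u⁻¹ * b⁻¹) := by
          have e1 : x * b * x⁻¹ = u * b * u⁻¹ := by
            calc x * b * x⁻¹ = u * ((u⁻¹ * x) * b * (u⁻¹ * x)⁻¹) * u⁻¹ := by group
              _ = u * (b * (u⁻¹ * x) * (u⁻¹ * x)⁻¹) * u⁻¹ := by rw [hun]
              _ = _ := by group
          calc ⁅x, b⁆ = (x * b * x⁻¹) * b⁻¹ := by simp only [commutatorElement_def]
            _ = _ := by rw [e1]; group
        rw [e]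
        exact mul_mem hu (conj_mem hbT (inv_mem hu))
      have hmQ : ⁅x, b⁆ ∈ Q := by
        rw [commutatorElement_def, mul_assoc x, mul_assoc x]
        exact Q.mul_mem hx (conj_mem hbQ (Q.inv_mem hx))
      obtain ⟨i, hi⟩ := Setup.theta_isP ⟨⁅x, b⁆, hmT⟩
      obtain ⟨j, hj⟩ := hQ.2.1 ⟨⁅x, b⁆, hmQ⟩
      have h1 : orderOf ⁅x, b⁆ ∣ p ^ i := orderOf_dvd_of_pow_eq_one (congrArg Subtype.val hi)
      have h2 : orderOf ⁅x, b⁆ ∣ q ^ j := orderOf_dvd_of_pow_eq_one (congrArg Subtype.val hj)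
      have h3 : ⁅x, b⁆ = 1 := orderOf_eq_one_iff.mp (Nat.eq_one_of_dvd_coprimes
        (((Nat.coprime_primes Fact.out hq).mpr hqp.symm).pow i j) h1 h2)
      exact mem_centralizer_singleton_iff.mpr (commutatorElement_eq_one_iff_mul_comm.mp h3)
    exact fun hd => hQ.2.2 (hd.trans (relIndex_dvd_of_le_left _ hQC))
  obtain ⟨P, hP, hAP⟩ := exists_invariant_sylow_two hA2 (hA.trans hΦN) hcN hNc hodd p
  have hbP := hbA P (hP.1.trans hNG) hAP
  have hcop : (P.subgroupOf N).index.Coprime (C.subgroupOf N).index := by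
    refine Nat.coprime_of_dvd fun q hq h1 h2 => ?_
    rcases eq_or_ne q p with rfl | hne
    · exact hP.2.2 h1
    · exact hprime q hq hne h2
  refine hP.2.1.to_le (commutator_le.mpr fun n hn g hg => ?_)
  have hbb : b * b = 1 := h.fixed_invol hb.1
  obtain ⟨u, hu, c, hc, hnuc⟩ := Grp.HallConv.exists_mul_of_coprime hcop.symm ⟨n, hn⟩
  have hn' : n = (u : X) * (c : X) := congrArg Subtype.val hnuc
  have hcb : ⁅(c : X), b⁆ = 1 := commutatorElement_eq_one_iff_mul_comm.mpr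
    (mem_centralizer_singleton_iff.mp (mem_subgroupOf.mp hc).2)
  have hkey : ⁅n, b⁆ ∈ P := by
    rw [hn', show ⁅(u : X) * (c : X), b⁆ = (u : X) * ⁅(c : X), b⁆ * (b * (u : X)⁻¹ * b⁻¹) by
      simp only [commutatorElement_def]; group, hcb, mul_one]
    exact P.mul_mem (mem_subgroupOf.mp hu) (conj_mem hbP (P.inv_mem (mem_subgroupOf.mp hu)))
  obtain ⟨i, rfl⟩ := mem_zpowers_iff.mp hg
  rcases Int.even_or_odd i with ⟨j, rfl⟩ | ⟨j, rfl⟩
  · rw [← two_mul, zpow_mul, zpow_two, hbb, one_zpow, commutatorElement_one_right]; exact P.one_mem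
  · rw [zpow_add_one, zpow_mul, zpow_two, hbb, one_zpow, one_mul]; exact hkey

end Cfsg.Agent.Invol.Shult
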