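import Mathlib
import Cfsg.Agent.Lib.Invol.Shult.Signalizer
import Cfsg.Agent.Lib.Invol.Shult.Isolated
import Cfsg.Agent.Lib.Invol.Shult.Stab
import Cfsg.Agent.Lib.Invol.Shult.StabCore

/-!
When `|E'/Z₀| = 4` a singular nonnull element of `E` gives a signalizer functor of rank three modulo `Z₀`.
-/

set_option autoImplicit false

namespace Cfsg.Agent.Invol.Shult

open Subgroup
open scoped Pointwise commutatorElement
open Cfsg.Agent.Grp (IsSylowIn)

universe u

variable {X : Type u} [Group X] {a b x y : X} {p r m : ℕ} {G V E N W : Subgroup X}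

/-- The functor value at a nonnull element. -/
def thetaY (p : ℕ) (a b : X) (G E : Subgroup X) (x : X) : Subgroup X :=
  (theta p a G E b ⊓ cst a G E x) ⊔ Cfsg.pCoreOf p (cst a G E x)

namespace Setup

variable [Finite X] [Fact p.Prime] (h : Setup p r m a G V E)
include h

theorem eq_one_of_ppow_sq {ζ : X} {k : ℕ} (h2 : ζ * ζ = 1) (hp : ζ ^ p ^ k = 1) : ζ = 1 := by
  obtain ⟨i, hi⟩ : Odd (p ^ k) := ((Fact.out : p.Prime).odd_of_ne_two h.podd).pow
  rwa [hi, pow_add, pow_mul, sq, h2, one_pow, one_mul, pow_one] at hp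

/-- A group fixing the orthogonal of a nonnull element modulo `E'` is trivial on `E/E'`. -/
theorem le_fixd_of_perp (hl : Nat.card (fx E a) = 4 * Nat.card (cen a G E)) {n : X}
    (hn : n ∈ G ⊓ normalizer (E : Set X)) (hx : x ∈ E) {j : ℕ}
    (hj : ⁅a ^ j * x * (a ^ j)⁻¹, x⁆ ∉ cen a G E) (hU : E ⊓ cst a G E x ≤ fixd a E n) :
    E ≤ fixd a E n := by
  set U := E ⊓ cst a G E x with hUdef
  set F := fixd a E n with hF
  have hFE : F ≤ E := h.fixd_le hn.2
  have hFa := h.norm_fixd' hn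
  have hxG := h.E_le hx
  have hidx : U.relIndex E ≤ 4 := by
    set C' := (cen a G E).subgroupOf (fx E a) with hC'
    let φ : ↥E → ↥(fx E a) ⧸ C' := fun η => QuotientGroup.mk ⟨⁅(η : X), x⁆, h.qgrp.comm_mem η.2 hx⟩
    have hφ : ∀ η η' : ↥E, φ η = φ η' ↔ η⁻¹ * η' ∈ U.subgroupOf E := by
      intro η η'
      rw [QuotientGroup.eq, hC', Subgroup.mem_subgroupOf, Subgroup.mem_subgroupOf]
      have e : ⁅(η : X), x⁆⁻¹ * ⁅(η' : X), x⁆ = ⁅((η⁻¹ * η' : ↥E) : X), x⁆ := by
        have e1 : ⁅(η : X)⁻¹, x⁆ = ⁅(η : X), x⁆⁻¹ := by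
          have := h.qgrp.comm_mul_left η.2 (E.inv_mem η.2) hx
          rw [mul_inv_cancel, commutatorElement_one_left] at this
          exact eq_inv_of_mul_eq_one_right this.symm
        push_cast
        rw [h.qgrp.comm_mul_left (E.inv_mem η.2) η'.2 hx, e1]
      push_cast
      rw [e]
      exact ⟨fun hc => ⟨(η⁻¹ * η').2, (h.mem_cst hxG).mpr ⟨h.E_le (η⁻¹ * η').2, hc⟩⟩,
        fun hc => ((h.mem_cst hxG).mp hc.2).2⟩
    let ψ : ↥E ⧸ U.subgroupOf E → ↥(fx E a) ⧸ C' := Quotient.lift φ fun η η' he =>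
      (hφ η η').mpr (QuotientGroup.leftRel_apply.mp he)
    have hψ : Function.Injective ψ := by
      intro q q'
      induction q using QuotientGroup.induction_on with
      | H η =>
        induction q' using QuotientGroup.induction_on with
        | H η' => exact fun he => QuotientGroup.eq.mpr ((hφ η η').mp he)
    refine (Nat.card_le_card_of_injective ψ hψ).trans (le_of_eq ?_)
    have h1 := Grp.card_mul_relIndex (inf_le_left : cen a G E ≤ fx E a)
    rw [hl, mul_comm 4] at h1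
    exact Nat.eq_of_mul_eq_mul_left Nat.card_pos h1
  have hne : ¬ F ≤ U := fun hle => by
    have hxU : x ∈ U := ⟨hx, (h.mem_cst hxG).mpr ⟨hxG, by rw [commutatorElement_self]; exact one_mem _⟩⟩
    exact hj ((h.mem_cst hxG).mp (hle (conj_mem (Subgroup.pow_mem _ hFa j) (hU hxU))).2).2
  have hmul := Subgroup.relIndex_mul_relIndex U F E hU hFE
  have h1 : U.relIndex F ≠ 1 := fun e => hne (Subgroup.relIndex_eq_one.mp e)
  have h0 : U.relIndex F ≠ 0 := Subgroup.index_ne_zero_of_finite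
  have h0' : F.relIndex E ≠ 0 := Subgroup.index_ne_zero_of_finite
  have h2' : 2 ≤ U.relIndex F := by omega
  have hFE2 : F.relIndex E ≤ 2 := by nlinarith [Nat.one_le_iff_ne_zero.mpr h0']
  rcases (by omega : F.relIndex E = 1 ∨ F.relIndex E = 2) with e | e
  · exact Subgroup.relIndex_eq_one.mp e
  · conv_lhs => rw [← h.qgrp.brE]
    rw [br, Subgroup.commutator_le]
    intro η hη c hc
    have hcF : c ∈ normalizer (F : Set X) := zpowers_le_norm hFa hc
    have hcE : c ∈ normalizer (E : Set X) := zpowers_le_norm h.norm_E hc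
    have hη' : c * η⁻¹ * c⁻¹ ∈ E := conj_mem hcE (E.inv_mem hη)
    have h2 := Subgroup.mul_mem_iff_of_index_two (show (F.subgroupOf E).index = 2 from e)
      (a := ⟨η, hη⟩) (b := ⟨_, hη'⟩)
    simp only [Subgroup.mem_subgroupOf] at h2
    have hiff : η ∈ F ↔ c * η⁻¹ * c⁻¹ ∈ F :=
      ⟨fun hh => conj_mem hcF (F.inv_mem hh), fun hh => by
        have := F.inv_mem (conj_le_of_norm hcF hh)
        simpa [mul_assoc] using this⟩
    have := h2.mpr hiff
    rw [commutatorElement_def, mul_assoc η c, mul_assoc η]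
    exact this

theorem comm_fixed_of_fixd {n : X} (hn : n ∈ normalizer (E : Set X)) (hfix : E ≤ fixd a E n) {z : X}
    (hz : z ∈ fx E a) : n * z * n⁻¹ = z := by
  rw [h.qgrp.fixed_eq_comm, Subgroup.commutator_def] at hz
  induction hz using Subgroup.closure_induction with
  | mem z hz =>
    obtain ⟨u, hu, v, hv, rfl⟩ := hz
    obtain ⟨-, hu'⟩ := (h.mem_fixd hn).mp (hfix hu)
    obtain ⟨-, hv'⟩ := (h.mem_fixd hn).mp (hfix hv)
    have e : n * ⁅u, v⁆ * n⁻¹ = ⁅u * (u⁻¹ * (n * u * n⁻¹)), v * (v⁻¹ * (n * v * n⁻¹))⁆ := by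
      simp only [commutatorElement_def]; group
    rw [e, h.qgrp.comm_mul_right (E.mul_mem hu (fx_le hu')) hv (fx_le hv'),
      commutatorElement_eq_one_iff_mul_comm.mpr (h.qgrp.fixed_central hv' (E.mul_mem hu (fx_le hu'))).symm,
      mul_one, h.qgrp.comm_mul_left hu (fx_le hu') hv,
      commutatorElement_eq_one_iff_mul_comm.mpr (h.qgrp.fixed_central hu' hv), mul_one]
  | one => simp
  | mul u v _ _ ihu ihv => rw [show n * (u * v) * n⁻¹ = (n * u * n⁻¹) * (n * v * n⁻¹) by group, ihu, ihv]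
  | inv u _ ihu => rw [show n * u⁻¹ * n⁻¹ = (n * u * n⁻¹)⁻¹ by group, ihu]

/-- `p`-elements centralizing the orthogonal of a nonnull element centralize `E`. -/
theorem centralizes_of_perp (hl : Nat.card (fx E a) = 4 * Nat.card (cen a G E)) (hx : x ∈ E) {j : ℕ}
    (hj : ⁅a ^ j * x * (a ^ j)⁻¹, x⁆ ∉ cen a G E) :
    ∀ n ∈ G ⊓ normalizer (E : Set X), ∀ k : ℕ, n ^ p ^ k = 1 → (∀ η ∈ E ⊓ cst a G E x, n * η = η * n) →
      n ∈ centralizer (E : Set X) := by
  intro n hn k hnk hU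
  have hfix : E ≤ fixd a E n := h.le_fixd_of_perp hl hn hx hj fun η hη => (h.mem_fixd hn.2).mpr ⟨hη.1, by
    rw [hU η hη, mul_inv_cancel_right, inv_mul_cancel]; exact one_mem _⟩
  refine Subgroup.mem_centralizer_iff.mpr fun η hη => ?_
  obtain ⟨-, hζ⟩ := (h.mem_fixd hn.2).mp (hfix hη)
  set ζ := η⁻¹ * (n * η * n⁻¹) with hζdef
  have hfixζ := h.comm_fixed_of_fixd hn.2 hfix hζ
  have hit : ∀ i : ℕ, n ^ i * η * (n ^ i)⁻¹ = η * ζ ^ i := by
    intro i
    induction i with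
    | zero => simp
    | succ i ih =>
      have hzi : n * ζ ^ i * n⁻¹ = ζ ^ i := by rw [← conj_pow, hfixζ]
      calc n ^ (i + 1) * η * (n ^ (i + 1))⁻¹ = n * (n ^ i * η * (n ^ i)⁻¹) * n⁻¹ := by rw [pow_succ']; group
        _ = (n * η * n⁻¹) * (n * ζ ^ i * n⁻¹) := by rw [ih]; group
        _ = η * ζ * ζ ^ i := by rw [hzi, hζdef, mul_inv_cancel_left]
        _ = η * ζ ^ (i + 1) := by rw [pow_succ', mul_assoc]
  have h1 := hit (p ^ k)
  rw [hnk, one_mul, inv_one, mul_one] at h1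
  have hp1 : ζ ^ p ^ k = 1 := by simpa using h1.symm
  have hζ1 : ζ = 1 := h.eq_one_of_ppow_sq (h.fixed_invol hζ) hp1
  rw [hζdef, inv_mul_eq_one] at hζ1
  calc η * n = (n * η * n⁻¹) * n := by rw [← hζ1]
    _ = n * η := by group

theorem cent_le_cst' (hx : x ∈ E) : G ⊓ centralizer (E : Set X) ≤ cst a G E x := fun c hc =>
  (h.mem_cst (h.E_le hx)).mpr ⟨hc.1, by
    rw [commutatorElement_eq_one_iff_mul_comm.mpr (Subgroup.mem_centralizer_iff.mp hc.2 x hx).symm]
    exact one_mem _⟩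

theorem fx_le_cst' (hx : x ∈ E) : fx E a ≤ cst a G E x := fun z hz =>
  (h.mem_cst (h.E_le hx)).mpr ⟨h.fx_le_G hz, by
    rw [commutatorElement_eq_one_iff_mul_comm.mpr (h.qgrp.fixed_central hz hx)]; exact one_mem _⟩

omit h in
theorem thetaY_isP : IsPGroup p (thetaY p a b G E x) :=
  IsPGroup.to_sup_of_normal_right' (theta_isP.to_le inf_le_left) (lg_isPGroup_pCoreOf _)
    (inf_le_right.trans (lg_le_normalizer_pCoreOf _))

omit h in
theorem thetaY_le : thetaY p a b G E x ≤ cst a G E x := sup_le inf_le_right (lg_pCoreOf_le _)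

omit h in
theorem norm_thetaY {g : X} (h1 : g ∈ cst a G E b) (h2 : g ∈ cst a G E x) :
    g ∈ normalizer ((thetaY p a b G E x : Subgroup X) : Set X) :=
  mem_normalizer_sup (mem_normalizer_inf (cst_le_norm_theta h1) (Subgroup.le_normalizer h2))
    (lg_le_normalizer_pCoreOf _ h2)

/-- A `2`-element in a subgroup of odd index over `Z₀` lies in `Z₀`. -/
theorem two_elem_mem_cen (hNG : N ≤ G) (hodd : ¬ 2 ∣ (cen a G E).relIndex N) {w : X} (hw : w ∈ N) {s : ℕ}
    (hs : w ^ 2 ^ s = 1) : w ∈ cen a G E := by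
  set C' := (cen a G E).subgroupOf N with hC'
  haveI : C'.Normal := ⟨fun z hz g => by
    rw [Subgroup.mem_subgroupOf] at hz ⊢
    have e : (g : X) * z * (g : X)⁻¹ = z := h.cen_conj_eq hz (hNG g.2)
    simpa [e] using hz⟩
  have h1 := C'.pow_index_mem ⟨w, hw⟩
  rw [Subgroup.mem_subgroupOf, SubmonoidClass.coe_pow] at h1
  obtain ⟨i, hi⟩ := exists_pow_eq_self_of_coprime (x := w) (n := C'.index)
    (((Nat.coprime_primes Nat.prime_two Nat.prime_two |> fun _ => (Nat.prime_two.coprime_iff_not_dvd.mpr hodd).symm.pow_right s)).coprime_dvd_right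
      (orderOf_dvd_of_pow_eq_one hs))
  have h2 := pow_mem h1 i
  rwa [hi] at h2

/-- The commutator with `b` of the normal subgroup given by the `Z*`-theorem lies in `O_p`. -/
theorem comm_le_core (hl : Nat.card (fx E a) = 4 * Nat.card (cen a G E)) (hb : InJ a G E b) (hx : x ∈ E) {j : ℕ}
    (hj : ⁅a ^ j * x * (a ^ j)⁻¹, x⁆ = b) (hNH : N ≤ cst a G E x)
    (hNn : cst a G E x ≤ normalizer (N : Set X)) (hcN : cen a G E ≤ N) (hodd : ¬ 2 ∣ (cen a G E).relIndex N)
    (hcomm : ∀ g ∈ cst a G E x, ⁅b, g⁆ ∈ N) :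
    (⁅N, zpowers b⁆ : Subgroup X) ≤ Cfsg.pCoreOf p (cst a G E x) := by
  haveI := Fact.mk Nat.prime_two
  set H := cst a G E x with hH
  have hbH : b ∈ H := h.fx_le_cst' hx hb.1
  have hNG : N ≤ G := hNH.trans h.cst_le
  have hj' : ⁅a ^ j * x * (a ^ j)⁻¹, x⁆ ∉ cen a G E := hj.symm ▸ hb.2
  have hp : IsPGroup p (⁅N, zpowers b⁆ : Subgroup X) := by
    refine h.isPGroup_comm_of_decomp hl.ge hNG ((h.fx_le_cst' hx).trans hNn) hcN hodd hb
      fun f hf v hv hvf => ?_
    set T := theta p a G E f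
    set K := N ⊓ cst a G E f with hKdef
    have hvc : v ∈ cst a G E f := (h.mem_cst (h.InJ_mem hf)).mpr ⟨hNG hv, by
      rw [commutatorElement_eq_one_iff_mul_comm.mpr hvf]; exact one_mem _⟩
    obtain ⟨u, hu, n, hn, rfl⟩ := h.cst_decomp hf hvc
    refine ⟨u, hu, ?_⟩
    rw [inv_mul_cancel_left]
    have hKT : K ≤ normalizer (T : Set X) := inf_le_right.trans cst_le_norm_theta
    have hnR : n ∈ T ⊔ K := by
      have := mul_mem (mem_sup_left (T := K) (T.inv_mem hu)) (mem_sup_right (⟨hv, hvc⟩ : u * n ∈ K))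
      rwa [inv_mul_cancel_left] at this
    have hU : E ⊓ H ≤ fixd a E n := by
      intro η hη
      refine (h.mem_fixd hn.2).mpr ⟨hη.1, ?_⟩
      have hηf := h.E_le_cst hf.1 hη.1
      have hηR : η⁻¹ ∈ normalizer ((T ⊔ K : Subgroup X) : Set X) :=
        inv_mem (mem_normalizer_sup (cst_le_norm_theta hηf)
          (mem_normalizer_inf (hNn hη.2) (Subgroup.le_normalizer hηf)))
      set e := η⁻¹ * (n * η * n⁻¹) with he
      have heE : e ∈ E := E.mul_mem (E.inv_mem hη.1) (conj_mem hn.2 hη.1)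
      have heR : e ∈ T ⊔ K := by
        have := mul_mem (conj_mem hηR hnR) (inv_mem hnR)
        simpa [he, mul_assoc] using this
      obtain ⟨π, hπ, w, hw, hew⟩ := mem_sup_of_normalizes hKT heR
      obtain ⟨s, hs⟩ := h.isTwo_E ⟨e, heE⟩
      have hs' : e ^ 2 ^ s = 1 := by simpa using congrArg Subtype.val hs
      have hpowT : ∀ i : ℕ, ∃ π' ∈ T, e ^ i = π' * w ^ i := by
        intro i
        induction i with
        | zero => exact ⟨1, T.one_mem, by simp⟩
        | succ i ih =>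
          obtain ⟨π', hπ', e1⟩ := ih
          refine ⟨π' * (w ^ i * π * (w ^ i)⁻¹),
            T.mul_mem hπ' (conj_mem (hKT (K.pow_mem hw i)) hπ), ?_⟩
          rw [pow_succ e, e1, hew, pow_succ w]; group
      obtain ⟨π₁, hπ₁, e1⟩ := hpowT (2 ^ s)
      rw [hs'] at e1
      obtain ⟨k, hk⟩ := theta_isP (p := p) (a := a) (G := G) (E := E) (f := f) ⟨π₁, hπ₁⟩
      have hk' : π₁ ^ p ^ k = 1 := by simpa using congrArg Subtype.val hk
      have hw2 : (w ^ p ^ k) ^ 2 ^ s = 1 := by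
        rw [← pow_mul, mul_comm, pow_mul, show w ^ 2 ^ s = π₁⁻¹ from eq_inv_of_mul_eq_one_right e1.symm,
          inv_pow, hk', inv_one]
      have hwz := h.two_elem_mem_cen hNG hodd (pow_mem hw.1 _) hw2
      obtain ⟨π₂, hπ₂, e2⟩ := hpowT (p ^ k)
      have hπE : π₂ ∈ E := by
        have := E.mul_mem (E.pow_mem heE (p ^ k)) (E.inv_mem (fx_le hwz.1))
        rwa [e2, mul_inv_cancel_right] at this
      rw [h.inf_eq_bot_of_p theta_isP hπ₂ hπE, one_mul] at e2
      obtain ⟨i, hi⟩ := exists_pow_eq_self_of_coprime (x := e) (n := p ^ k)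
        ((((Nat.coprime_primes (Fact.out : p.Prime) Nat.prime_two).mpr h.podd).pow k s).coprime_dvd_right
          (orderOf_dvd_of_pow_eq_one hs'))
      rw [← hi, e2]
      exact (pow_mem hwz i).1
    have := h.comm_fixed_of_fixd hn.2 (h.le_fixd_of_perp hl hn hx hj' hU) hb.1
    exact mul_inv_eq_iff_eq_mul.mp this
  refine lg_le_pCoreOf ?_ (fun g hg => ?_) hp
  · rw [Subgroup.commutator_le]
    intro n hn c hc
    exact H.mul_mem (H.mul_mem (H.mul_mem (hNH hn) ((zpowers_le.mpr hbH) hc)) (H.inv_mem (hNH hn)))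
      (H.inv_mem ((zpowers_le.mpr hbH) hc))
  -- `g` maps to an element normalizing the commutator subgroup
  have hgG : g ∈ G := h.cst_le hg
  set ν := b * g * b * g⁻¹ with hν
  have hbb : b * b = 1 := h.fixed_invol hb.1
  have hbi : b⁻¹ = b := inv_eq_of_mul_eq_one_right hbb
  have hνN : ν ∈ N := by
    have := hcomm g hg
    rwa [commutatorElement_def, hbi] at this
  set C' := (cen a G E).subgroupOf N with hC'
  haveI : C'.Normal := ⟨fun z hz q => by
    rw [Subgroup.mem_subgroupOf] at hz ⊢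
    have e : (q : X) * z * (q : X)⁻¹ = z := h.cen_conj_eq hz (hNG q.2)
    simpa [e] using hz⟩
  obtain ⟨i, hi⟩ : Odd C'.index := Nat.odd_iff.mpr (Nat.two_dvd_ne_zero.mp hodd)
  have hpow : ν ^ (2 * i + 1) ∈ cen a G E := by
    have := C'.pow_index_mem ⟨ν, hνN⟩
    rw [hi, Subgroup.mem_subgroupOf] at this
    simpa using this
  set d := ν ^ (i + 1) with hd
  have hdN : d ∈ N := pow_mem hνN _
  have hbν : b * ν * b = ν⁻¹ := by
    rw [hν, mul_inv_rev, mul_inv_rev, mul_inv_rev, inv_inv, hbi]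
    calc b * (b * g * b * g⁻¹) * b = (b * b) * g * b * g⁻¹ * b := by group
      _ = _ := by rw [hbb]; group
  have hbνk : ∀ k : ℕ, b * ν ^ k * b = (ν ^ k)⁻¹ := fun k => by
    have h1 := (conj_pow (i := k) (a := b) (b := ν)).symm
    rw [hbi, hbν, inv_pow] at h1
    exact h1
  have hbνk' : ∀ k : ℕ, ν ^ k * b = b * (ν ^ k)⁻¹ := fun k => by
    rw [← hbνk k, ← mul_assoc, ← mul_assoc, hbb, one_mul]
  set c := d * g with hc
  have hcb : c * b * c⁻¹ = b * (ν ^ (2 * i + 1))⁻¹ := by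
    have e1 : g * b * g⁻¹ = b * ν := by rw [hν, ← mul_assoc, ← mul_assoc, ← mul_assoc, hbb, one_mul]
    calc c * b * c⁻¹ = d * (g * b * g⁻¹) * d⁻¹ := by rw [hc]; group
      _ = (d * b) * ν * d⁻¹ := by rw [e1]; group
      _ = b * ((ν ^ (i + 1))⁻¹ * ν * (ν ^ (i + 1))⁻¹) := by rw [hd, hbνk']; group
      _ = _ := by rw [show 2 * i + 1 = i + (i + 1) by omega, pow_add, pow_succ]; group
  set P := (⁅N, zpowers b⁆ : Subgroup X) with hP
  have hdP : d ∈ normalizer (P : Set X) := Subgroup.normalizer_commutator_ge_left N (zpowers b) hdN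
  have hcH : c ∈ H := H.mul_mem (hNH hdN) hg
  have hcP : c ∈ normalizer (P : Set X) := by
    refine Grp.mem_normalizer_iff_smul.mpr (Subgroup.eq_of_le_of_card_ge ?_ (Grp.card_conj_smul c P).ge)
    show Subgroup.map (MulAut.conj c).toMonoidHom ⁅N, zpowers b⁆ ≤ _
    rw [Subgroup.map_le_iff_le_comap, Subgroup.commutator_le]
    intro n hn q hq
    obtain ⟨l, rfl⟩ := hq
    show c * ⁅n, b ^ l⁆ * c⁻¹ ∈ P
    have hn' : c * n * c⁻¹ ∈ N := conj_mem (hNn hcH) hn
    have hz : ((ν ^ (2 * i + 1))⁻¹) ^ l ∈ cen a G E := zpow_mem (inv_mem hpow) l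
    have e2 : c * b ^ l * c⁻¹ = b ^ l * ((ν ^ (2 * i + 1))⁻¹) ^ l := by
      rw [← conj_zpow, hcb]
      exact ((show Commute b ((ν ^ (2 * i + 1))⁻¹) from
        (h.cen_central (inv_mem hpow) (h.fx_le_G hb.1)).symm)).mul_zpow l
    have e3 : c * ⁅n, b ^ l⁆ * c⁻¹ = ⁅c * n * c⁻¹, b ^ l⁆ := by
      have e4 : c * ⁅n, b ^ l⁆ * c⁻¹ = ⁅c * n * c⁻¹, c * b ^ l * c⁻¹⁆ := by
        simp only [commutatorElement_def]; group
      rw [e4, e2, commutatorElement_mul_right_eq_mul_conj,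
        commutatorElement_eq_one_iff_mul_comm.mpr (h.cen_central hz (hNG hn')).symm, mul_one,
        mul_inv_cancel_right]
    rw [e3]
    exact Subgroup.commutator_mem_commutator hn' ⟨l, rfl⟩
  have := mul_mem (inv_mem hdP) hcP
  rwa [hc, inv_mul_cancel_left] at this

/-- `p`-subgroups of `C*(x)` whose centralizer of `b` lies in `θ(b)` lie in the functor value at `x`. -/
theorem le_thetaY (hk : Nat.card E ≠ 2 ^ (2 * m) * Nat.card (fx E a))
    (hl : Nat.card (fx E a) = 4 * Nat.card (cen a G E)) (hb : InJ a G E b) (hx : x ∈ E) {j : ℕ}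
    (hj : ⁅a ^ j * x * (a ^ j)⁻¹, x⁆ = b) (hW : W ≤ cst a G E x) (hWp : IsPGroup p W)
    (hbW : b ∈ normalizer (W : Set X)) (hWb : W ⊓ cst a G E b ≤ theta p a G E b) :
    W ≤ thetaY p a b G E x := by
  obtain ⟨N, hN, hNn, hcN, hodd, hcomm⟩ := h.zstar_mod hk h.cst_le (h.fx_le_cst' hx) hb fun g hg hgΦ => by
    have := h.isolated_in_cst hx (hj.symm ▸ hb.2) hg (hj.symm ▸ hgΦ)
    rw [hj] at this
    rw [this, inv_mul_cancel]; exact one_mem _
  have hcore := h.comm_le_core hl hb hx hj hN hNn hcN hodd hcomm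
  intro w hw
  have hbi : b⁻¹ = b := inv_eq_of_mul_eq_one_right (h.fixed_invol hb.1)
  have hbb := h.fixed_invol hb.1
  set ν := w * b * w⁻¹ * b with hν
  have hνN : ν ∈ N := by
    have := inv_mem (hcomm w (hW hw))
    rw [commutatorElement_inv, commutatorElement_def, hbi] at this
    exact this
  have hνW : ν ∈ W := by
    have := W.mul_mem hw (conj_mem hbW (W.inv_mem hw))
    simpa [hν, hbi, mul_assoc] using this
  have hνb : b * ν * b = ν⁻¹ := by
    rw [hν, mul_inv_rev, mul_inv_rev, mul_inv_rev, inv_inv, hbi]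
    calc b * (w * b * w⁻¹ * b) * b = b * w * b * w⁻¹ * (b * b) := by group
      _ = _ := by rw [hbb]; group
  have hsq : ν * ν ∈ Cfsg.pCoreOf p (cst a G E x) := by
    refine hcore ?_
    have := Subgroup.commutator_mem_commutator hνN (mem_zpowers b)
    have e : ⁅ν, b⁆ = ν * ν := by
      have e1 : ν * (b * ν⁻¹ * b) = ν * ν := by rw [← hνb]; rw [show b * (b * ν * b) * b = (b * b) * ν * (b * b) by group, hbb, one_mul, mul_one]
      rw [← e1, commutatorElement_def, hbi]; group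
    rwa [e] at this
  obtain ⟨k, hk'⟩ := hWp ⟨ν, hνW⟩
  have hkν : ν ^ p ^ k = 1 := by simpa using congrArg Subtype.val hk'
  obtain ⟨i, hi⟩ : Odd (p ^ k) := ((Fact.out : p.Prime).odd_of_ne_two h.podd).pow
  have hνcore : ν ∈ Cfsg.pCoreOf p (cst a G E x) := by
    have h1 : (ν * ν) ^ (i + 1) = ν := by
      rw [← sq, ← pow_mul, show 2 * (i + 1) = p ^ k + 1 by omega, pow_succ, hkν, one_mul]
    rw [← h1]; exact pow_mem hsq _
  set μ := ν ^ (i + 1) with hμ
  have hμμ : μ * μ = ν := by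
    rw [hμ, ← pow_add, show i + 1 + (i + 1) = p ^ k + 1 by omega, pow_succ, hkν, one_mul]
  have hbμ : b * μ * b = μ⁻¹ := by
    have h1 := (conj_pow (i := i + 1) (a := b) (b := ν)).symm
    rw [hbi, hνb, inv_pow] at h1
    exact h1
  set c := μ⁻¹ * w with hc
  have hcb : b * c * b = c := by
    have hbμ' : b * μ⁻¹ * b = μ := by
      rw [← hbμ, show b * (b * μ * b) * b = (b * b) * μ * (b * b) by group, hbb, one_mul, mul_one]
    have e1 : b * w * b = ν⁻¹ * w := by rw [hν, mul_inv_rev, mul_inv_rev, mul_inv_rev, hbi, inv_inv]; group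
    calc b * c * b = (b * μ⁻¹ * b) * (b * w * b) := by
          rw [hc, show (b * μ⁻¹ * b) * (b * w * b) = b * μ⁻¹ * (b * b) * w * b by group, hbb, mul_one]; group
      _ = μ * (μ * μ)⁻¹ * w := by rw [hbμ', e1, hμμ, mul_assoc]
      _ = c := by rw [hc]; group
  have hcW : c ∈ W := W.mul_mem (W.inv_mem (W.pow_mem hνW _)) hw
  have hcc : c ∈ cst a G E b := (h.mem_cst (h.InJ_mem hb)).mpr ⟨h.cst_le (hW hcW), by
    rw [commutatorElement_eq_one_iff_mul_comm.mpr ?_]; · exact one_mem _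
    calc c * b = (b * c * b) * b := by rw [hcb]
      _ = b * c * (b * b) := by group
      _ = b * c := by rw [hbb, mul_one]⟩
  have : w = μ * c := by rw [hc]; group
  rw [this]
  exact mul_mem (mem_sup_right (pow_mem hνcore _)) (mem_sup_left ⟨hWb ⟨hcW, hcc⟩, hW hcW⟩)

/-- A singular nonnull element gives a big subgroup when `|E'/Z₀| = 4`. -/
theorem exists_big_of_singular (hk : Nat.card E ≠ 2 ^ (2 * m) * Nat.card (fx E a))
    (hl : Nat.card (fx E a) = 4 * Nat.card (cen a G E)) (hy : y ∈ E) (hyy : y ^ 2 ∈ cen a G E) {j : ℕ}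
    (hj : ⁅a ^ j * y * (a ^ j)⁻¹, y⁆ ∉ cen a G E) : ∃ M, Big a G E M := by
  classical
  haveI := Fact.mk Nat.prime_two
  set b := ⁅a ^ j * y * (a ^ j)⁻¹, y⁆ with hbdef
  have hPE : a ^ j * y * (a ^ j)⁻¹ ∈ E := conj_mem (h.pow_norm_E j) hy
  have hb : InJ a G E b := ⟨h.qgrp.comm_mem hPE hy, hj⟩
  have hyΦ : y ∉ fx E a := fun hyf => hj (by
    rw [hbdef, commutatorElement_eq_one_iff_mul_comm.mpr (h.qgrp.fixed_central hyf hPE).symm]
    exact one_mem _)
  set A₀ := fx E a ⊔ zpowers y with hA₀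
  have hA₀E : A₀ ≤ E := sup_le fx_le (zpowers_le.mpr hy)
  have hn0 : zpowers y ≤ normalizer ((fx E a : Subgroup X) : Set X) :=
    (zpowers_le.mpr hy).trans fun η hη => h.norm_fixed' (Subgroup.le_normalizer hη)
  -- elements of `A₀`
  have hA₀dec : ∀ w ∈ A₀, w ∈ fx E a ∨ ∃ φ ∈ fx E a, w = y * φ := by
    intro w hw
    obtain ⟨φ, hφ, q, hq, rfl⟩ := mem_sup_of_normalizes hn0 hw
    obtain ⟨i, rfl⟩ := hq
    rcases Int.even_or_odd' i with ⟨l, rfl | rfl⟩
    · left
      refine mul_mem hφ ?_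
      show y ^ (2 * l) ∈ fx E a
      rw [zpow_mul, zpow_two]
      exact (zpow_mem (by rw [← sq]; exact hyy) l : (y * y) ^ l ∈ cen a G E).1
    · right
      refine ⟨φ * (y * y) ^ l, mul_mem hφ (zpow_mem (by rw [← sq]; exact hyy) l : (y * y) ^ l ∈ cen a G E).1, ?_⟩
      show φ * y ^ (2 * l + 1) = _
      rw [zpow_add, zpow_mul, zpow_two, zpow_one, h.qgrp.fixed_central hφ
        (E.mul_mem (E.zpow_mem (E.mul_mem hy hy) l) hy)]
      have hc : Commute y ((y * y) ^ l) := ((Commute.refl y).mul_right (Commute.refl y)).zpow_right l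
      rw [← hc.eq]; group
      rw [mul_assoc y, ← h.qgrp.fixed_central hφ (E.zpow_mem (E.mul_mem hy hy) l), ← mul_assoc]
  have hab : ∀ u ∈ A₀, ∀ v ∈ A₀, u * v = v * u := by
    intro u hu v hv
    rcases hA₀dec u hu with hu' | ⟨φ, hφ, rfl⟩
    · exact h.qgrp.fixed_central hu' (hA₀E hv)
    rcases hA₀dec v hv with hv' | ⟨ψ, hψ, rfl⟩
    · exact (h.qgrp.fixed_central hv' (hA₀E hu)).symm
    · have c1 : Commute y φ := (h.qgrp.fixed_central hφ hy).symm
      have c2 : Commute y ψ := (h.qgrp.fixed_central hψ hy).symm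
      have c3 : Commute φ ψ := h.qgrp.fixed_central hφ (fx_le hψ)
      exact (((Commute.refl y).mul_right c2).mul_left (c1.symm.mul_right c3)).eq
  have hsq : ∀ u ∈ A₀, u * u ∈ cen a G E := by
    intro u hu
    rcases hA₀dec u hu with hu' | ⟨φ, hφ, rfl⟩
    · rw [h.fixed_invol hu']; exact one_mem _
    · have e : y * φ * (y * φ) = y * y * (φ * φ) := by
        calc y * φ * (y * φ) = y * (φ * y) * φ := by group
          _ = y * (y * φ) * φ := by rw [h.qgrp.fixed_central hφ hy]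
          _ = _ := by group
      rw [e, h.fixed_invol hφ, mul_one, ← sq]; exact hyy
  have hcommY : ∀ φ ∈ fx E a, ⁅a ^ j * (y * φ) * (a ^ j)⁻¹, y * φ⁆ = b := by
    intro φ hφ
    have e : a ^ j * (y * φ) * (a ^ j)⁻¹ = a ^ j * y * (a ^ j)⁻¹ * φ := by
      calc a ^ j * (y * φ) * (a ^ j)⁻¹ = a ^ j * y * (a ^ j)⁻¹ * (a ^ j * φ * (a ^ j)⁻¹) := by group
        _ = _ := by rw [h.pow_conj_fixed hφ]
    rw [e, h.qgrp.comm_mul_right (E.mul_mem hPE (fx_le hφ)) hy (fx_le hφ),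
      commutatorElement_eq_one_iff_mul_comm.mpr (h.qgrp.fixed_central hφ (E.mul_mem hPE (fx_le hφ))).symm,
      mul_one, h.qgrp.comm_mul_left hPE (fx_le hφ) hy,
      commutatorElement_eq_one_iff_mul_comm.mpr (h.qgrp.fixed_central hφ hy), mul_one]
  -- the functor
  let t : X → Subgroup X := fun w => if w ∈ fx E a then theta p a G E w else thetaY p a b G E w
  have htΦ : ∀ {w}, w ∈ fx E a → t w = theta p a G E w := fun hw => if_pos hw
  have htY : ∀ {w}, w ∉ fx E a → t w = thetaY p a b G E w := fun hw => if_neg hw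
  have hyn : ∀ {φ}, φ ∈ fx E a → y * φ ∉ fx E a := fun hφ hh => hyΦ ((mul_mem_cancel_right hφ).mp hh)
  have htle : ∀ w, t w ≤ cst a G E w := fun w => by
    by_cases hw : w ∈ fx E a
    · rw [htΦ hw]; exact theta_le
    · rw [htY hw]; exact thetaY_le
  have htP : ∀ w, IsPGroup p (t w) := fun w => by
    by_cases hw : w ∈ fx E a
    · rw [htΦ hw]; exact theta_isP
    · rw [htY hw]; exact thetaY_isP
  have htcongr : ∀ u v, u ∈ G → u⁻¹ * v ∈ cen a G E → t v = t u := by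
    intro u v hu hz
    have he : cst a G E v = cst a G E u := Subgroup.ext fun w => h.mem_cst_congr hu hz
    have hiff : v ∈ fx E a ↔ u ∈ fx E a := by
      have e : v = u * (u⁻¹ * v) := by group
      rw [e]
      exact mul_mem_cancel_right hz.1
    by_cases hw : u ∈ fx E a
    · rw [htΦ hw, htΦ (hiff.mpr hw)]; exact h.theta_congr hu hz
    · rw [htY hw, htY (fun hh => hw (hiff.mp hh)), thetaY, thetaY, he]
  have hA₀n : ∀ w ∈ A₀, ∀ g ∈ A₀, g ∈ normalizer ((t w : Subgroup X) : Set X) := by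
    intro w hw g hg
    have hgw : g ∈ cst a G E w := (h.mem_cst (h.E_le (hA₀E hw))).mpr ⟨h.E_le (hA₀E hg), by
      rw [commutatorElement_eq_one_iff_mul_comm.mpr (hab g hg w hw)]; exact one_mem _⟩
    by_cases hwΦ : w ∈ fx E a
    · rw [htΦ hwΦ]; exact cst_le_norm_theta hgw
    · rw [htY hwΦ]; exact norm_thetaY (h.E_le_cst hb.1 (hA₀E hg)) hgw
  have hbA : b ∈ A₀ := mem_sup_left hb.1
  have hWn : ∀ {u v : X}, u ∈ A₀ → v ∈ A₀ → b ∈ normalizer ((t u ⊓ cst a G E v : Subgroup X) : Set X) :=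
    fun {u v} hu hv => mem_normalizer_inf (hA₀n u hu b hbA)
      (Subgroup.le_normalizer (h.fx_le_cst' (hA₀E hv) hb.1))
  -- balance
  have bal1 : ∀ u v, InJ a G E v → u ∈ fx E a → theta p a G E u ⊓ cst a G E v ≤ theta p a G E v :=
    fun u v hv hu => h.le_theta hv inf_le_right (theta_isP.to_le inf_le_left)
      (fun η hη => mem_normalizer_inf (cst_le_norm_theta (h.E_le_cst hu hη))
        (Subgroup.le_normalizer (h.E_le_cst hv.1 hη)))
      (fun c hc => mem_normalizer_inf (cst_le_norm_theta (h.cent_le_cst hu hc))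
        (Subgroup.le_normalizer (h.cent_le_cst hv.1 hc)))
  have bal2 : ∀ φ ∈ fx E a, ∀ v, InJ a G E v →
      thetaY p a b G E (y * φ) ⊓ cst a G E v ≤ theta p a G E v := by
    intro φ hφ v hv
    have hx : y * φ ∈ E := E.mul_mem hy (fx_le hφ)
    refine h.le_theta_of (U := E ⊓ cst a G E (y * φ)) inf_le_left
      (h.centralizes_of_perp hl hx (j := j) ((hcommY φ hφ).symm ▸ hj)) hv inf_le_right
      (thetaY_isP.to_le inf_le_left) (fun η hη => ?_) (fun c hc => ?_)
    · exact mem_normalizer_inf (norm_thetaY (h.E_le_cst hb.1 hη.1) hη.2)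
        (Subgroup.le_normalizer (h.E_le_cst hv.1 hη.1))
    · exact mem_normalizer_inf (norm_thetaY (h.cent_le_cst hb.1 hc) (h.cent_le_cst' hx hc))
        (Subgroup.le_normalizer (h.cent_le_cst hv.1 hc))
  have hbal : ∀ u ∈ A₀, ∀ v ∈ A₀, v ∉ cen a G E → t u ⊓ cst a G E v ≤ t v := by
    intro u hu v hv hvz
    rcases hA₀dec v hv with hvΦ | ⟨ψ, hψ, rfl⟩
    · rw [htΦ hvΦ]
      rcases hA₀dec u hu with huΦ | ⟨φ, hφ, rfl⟩
      · rw [htΦ huΦ]; exact bal1 u v ⟨hvΦ, hvz⟩ huΦ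
      · rw [htY (hyn hφ)]; exact bal2 φ hφ v ⟨hvΦ, hvz⟩
    · rw [htY (hyn hψ)]
      refine h.le_thetaY hk hl hb (E.mul_mem hy (fx_le hψ)) (hcommY ψ hψ) inf_le_right ((htP u).to_le inf_le_left)
        (hWn hu hv) ((inf_le_inf_right _ inf_le_left).trans ?_)
      rcases hA₀dec u hu with huΦ | ⟨φ, hφ, rfl⟩
      · rw [htΦ huΦ]; exact bal1 u b hb huΦ
      · rw [htY (hyn hφ)]; exact bal2 φ hφ b hb
  -- pass to `G/Z₀`
  set C' := (cen a G E).subgroupOf G with hC'
  haveI : C'.Normal := ⟨fun z hz g => by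
    rw [Subgroup.mem_subgroupOf] at hz ⊢
    have e : (g : X) * z * (g : X)⁻¹ = z := h.cen_conj_eq hz g.2
    simpa [e] using hz⟩
  set π := QuotientGroup.mk' C' with hπ
  have hker : ∀ w : G, π w = 1 ↔ (w : X) ∈ cen a G E := fun w => by
    rw [hπ, QuotientGroup.mk'_apply, QuotientGroup.eq_one_iff, hC', Subgroup.mem_subgroupOf]
  have hA₀G : A₀ ≤ G := hA₀E.trans h.E_le
  set A := (A₀.subgroupOf G).map π with hA
  have hAel : Cfsg.IsElementaryAbelian 2 A := by
    refine ⟨⟨⟨?_⟩⟩, ?_⟩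
    · rintro ⟨_, u, hu, rfl⟩ ⟨_, v, hv, rfl⟩
      refine Subtype.ext ?_
      show π u * π v = π v * π u
      rw [← map_mul, ← map_mul]
      exact congrArg π (Subtype.ext (hab _ hu _ hv))
    · rintro _ ⟨u, hu, rfl⟩
      rw [sq, ← map_mul, hker]
      exact hsq _ hu
  have hcard : 2 ^ 3 ≤ Nat.card A := by
    have h1 : Nat.card A = C'.relIndex (A₀.subgroupOf G) := by
      have h2 : C' = Subgroup.comap π ⊥ := (QuotientGroup.ker_mk' C').symm.trans rfl
      refine Eq.trans ?_ (congrArg (fun D => Subgroup.relIndex D (A₀.subgroupOf G)) h2.symm)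
      rw [Subgroup.relIndex_comap, Subgroup.relIndex_bot_left]
    rw [h1, hC', Subgroup.relIndex_subgroupOf hA₀G,
      ← Subgroup.relIndex_mul_relIndex (cen a G E) (fx E a) A₀ inf_le_left le_sup_left]
    have h3 : (cen a G E).relIndex (fx E a) = 4 := by
      have h4 := Grp.card_mul_relIndex (inf_le_left : cen a G E ≤ fx E a)
      rw [hl, mul_comm 4] at h4
      exact Nat.eq_of_mul_eq_mul_left Nat.card_pos h4
    have h5 : (fx E a).relIndex A₀ ≠ 1 := fun e =>
      hyΦ (Subgroup.relIndex_eq_one.mp e (mem_sup_right (mem_zpowers y)))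
    have h6 : (fx E a).relIndex A₀ ≠ 0 := Subgroup.index_ne_zero_of_finite
    rw [h3]; omega
  let rep : ↥G ⧸ C' → X := fun q => ((Function.surjInv (QuotientGroup.mk'_surjective C') q : ↥G) : X)
  let θ' : ↥G ⧸ C' → Subgroup (↥G ⧸ C') := fun q => ((t (rep q)).subgroupOf G).map π
  have hrep : ∀ w : G, θ' (π w) = ((t w).subgroupOf G).map π := fun w => by
    have h1 := Function.surjInv_eq (QuotientGroup.mk'_surjective C') (π w)
    have h2 : π (w⁻¹ * Function.surjInv (QuotientGroup.mk'_surjective C') (π w)) = 1 := by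
      rw [map_mul, map_inv, hπ, h1, inv_mul_cancel]
    have h3 := (hker _).mp h2
    show ((t (rep (π w))).subgroupOf G).map π = _
    rw [htcongr (w : X) (rep (π w)) w.2 (by simpa [rep] using h3)]
  have hθ : Cfsg.IsSolvableSignalizerFunctor 2 A θ' := by
    refine ⟨⟨?_, ?_, ?_, ?_⟩, ?_⟩
    · rintro _ ⟨u, hu, rfl⟩ -
      rw [hrep]
      rintro _ ⟨w, hw, rfl⟩
      refine Subgroup.mem_centralizer_iff.mpr fun q hq => ?_
      rw [Set.mem_singleton_iff] at hq
      subst hq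
      rw [← map_mul, ← map_mul]
      obtain ⟨k, hk'⟩ := htP u ⟨w, hw⟩
      exact congrArg π (Subtype.ext (h.comm_of_mem_cst u.2 (htle _ hw) (j := k)
        (by simpa using congrArg Subtype.val hk')).symm)
    · rintro _ ⟨u, hu, rfl⟩ -
      rw [hrep]
      exact not_dvd_card_of_isPGroup (((htP u).comap_subtype (K := G)).map _) (Ne.symm h.two_ne)
    · rintro _ ⟨u, hu, rfl⟩ - _ ⟨v, hv, rfl⟩ q hq
      rw [hrep] at hq ⊢
      obtain ⟨w, hw, rfl⟩ := hq
      refine ⟨v * w * v⁻¹, ?_, by rw [map_mul, map_mul, map_inv]⟩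
      exact conj_mem (hA₀n _ hu _ hv) hw
    · rintro _ ⟨u, hu, rfl⟩ - _ ⟨v, hv, rfl⟩ hv1 q hq
      obtain ⟨hq1, hq2⟩ := Subgroup.mem_inf.mp hq
      rw [hrep] at hq1 ⊢
      obtain ⟨w, hw, rfl⟩ := hq1
      refine ⟨w, hbal _ hu _ hv (fun hh => hv1 ((hker v).mpr hh)) ⟨hw, (h.mem_cst v.2).mpr ⟨w.2, ?_⟩⟩, rfl⟩
      refine (hker ⁅w, v⁆).mp ?_
      rw [map_commutatorElement, commutatorElement_eq_one_iff_mul_comm]
      exact (Subgroup.mem_centralizer_singleton_iff.mp hq2)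
    · rintro _ ⟨u, hu, rfl⟩ -
      rw [hrep]
      haveI : Group.IsNilpotent (((t (u : X)).subgroupOf G).map π : Subgroup (↥G ⧸ C')) :=
        (((htP u).comap_subtype (K := G)).map _).isNilpotent
      infer_instance
  obtain ⟨-, hodd, -, -⟩ := Transfer.SFT.closure_complete hAel hcard hθ
  set R := ((Cfsg.signalizerClosure A θ').comap π).map G.subtype with hR
  set Q : Subgroup X := ⨆ f : {f : X // InJ a G E f}, theta p a G E f with hQ
  have hQR : Q ≤ R := iSup_le fun ⟨f, hf⟩ w hw => by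
    have hfA : f ∈ A₀ := mem_sup_left hf.1
    have hf1 : π ⟨f, hA₀G hfA⟩ ≠ 1 := fun e => hf.2 ((hker _).mp e)
    refine ⟨⟨w, h.cst_le (theta_le hw)⟩, ?_, rfl⟩
    rw [SetLike.mem_coe, Subgroup.mem_comap]
    refine le_iSup (fun c : {c : ↥G ⧸ C' // c ∈ A ∧ c ≠ 1} => θ' c) ⟨_, ⟨_, hfA, rfl⟩, hf1⟩ ?_
    show π _ ∈ θ' (π ⟨f, hA₀G hfA⟩)
    rw [hrep]
    exact ⟨_, (htΦ hf.1).symm ▸ hw, rfl⟩
  have hQG : Q ≤ G := iSup_le fun _ => theta_le.trans h.cst_le
  have hQn : ∀ g ∈ normalizer (G : Set X),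
      (∀ f, InJ a G E f → InJ a G E (g * f * g⁻¹) ∧
        MulAut.conj g • theta p a G E f ≤ theta p a G E (g * f * g⁻¹)) → g ∈ normalizer (Q : Set X) := by
    intro g _ hg
    refine Grp.mem_normalizer_iff_smul.mpr (Subgroup.eq_of_le_of_card_ge ?_ (Grp.card_conj_smul g Q).ge)
    show Subgroup.map (MulAut.conj g).toMonoidHom (iSup _) ≤ _
    rw [Subgroup.map_iSup]
    exact iSup_le fun ⟨f, hf⟩ => (hg f hf).2.trans
      (le_iSup (fun c : {c : X // InJ a G E c} => theta p a G E c) ⟨_, (hg f hf).1⟩)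
  refine h.exists_big_of hQG (fun n hn => hQn n (Subgroup.le_normalizer hn.1) fun f hf => ?_)
    (hQn a h.act.norm fun f hf => ?_) (fun e => hodd ?_)
    fun f hf => le_iSup (fun c : {c : X // InJ a G E c} => theta p a G E c) ⟨f, hf⟩
  · exact ⟨h.InJ_conj hf hn.1 (conj_mem (h.norm_fixed' hn.2) hf.1), h.conj_theta_le hn.1 (h.InJ_mem hf)⟩
  · rw [(mem_fx'.mp hf.1).2]
    exact ⟨hf, (Grp.mem_normalizer_iff_smul.mp (h.norm_theta hf.1)).le⟩
  · have htop : A ≤ Cfsg.signalizerClosure A θ' := by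
      rintro _ ⟨u, -, rfl⟩
      obtain ⟨v, hv, e'⟩ := (e.ge.trans hQR) u.2
      rw [← Subtype.ext (e' : (v : X) = u)]
      exact hv
    obtain ⟨k, hk'⟩ := IsPGroup.iff_card.mp (Grp.elemAb_isPGroup hAel)
    have hk0 : k ≠ 0 := fun h0 => by rw [hk', h0] at hcard; norm_num at hcard
    exact (hk' ▸ dvd_pow_self 2 hk0 : 2 ∣ Nat.card A).trans (Subgroup.card_dvd_of_le htop)

end Setup

end Cfsg.Agent.Invol.Shult
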