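import Mathlib
import Cfsg.Agent.Lib.Invol.Shult.UnitLemma

/-!
Basic facts about a form invariant under a fixed-point-free operator of prime order `2 ^ m + 1`.
-/

set_option autoImplicit false

namespace Cfsg.Agent.Invol.Shult

/-- Hypotheses of the singular vector lemma. -/
structure SingHyp {W P : Type*} [AddCommGroup W] [AddCommGroup P] (m l : ℕ) (A : W →+ W) (z : P)
    (q : W → P) (b : W →+ W →+ P) (rad : (P →+ ZMod 2) → AddSubgroup W) (wts : Set (P →+ ZMod 2)) : Prop where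
  hW2 : ∀ x : W, x + x = 0
  hP2 : ∀ x : P, x + x = 0
  hl2 : 2 ≤ l
  hr : (2 ^ m + 1).Prime
  hm : 1 ≤ m
  hA : ∀ x, A^[2 ^ m + 1] x = x
  hfpf : ∀ x, A x = x → x = 0
  hz : z ≠ 0
  hP : Nat.card P = 2 ^ (l + 1)
  hl : ¬ 2 ^ m + 1 ∣ 2 ^ l - 1
  hb : ∀ x y, q (x + y) = q x + q y + b x y
  hqA : ∀ x, q (A x) = q x
  hrad : ∀ (μ : P →+ ZMod 2) x, x ∈ rad μ ↔ ∀ y, μ (b x y) = 0
  hodd : ∀ w ∈ wts, w z = 1
  hrank : ∀ w ∈ wts, Nat.card (rad w) * 2 ^ (2 * m) = Nat.card W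
  hsepW : ∀ x : W, x ≠ 0 → ∃ w ∈ wts, x ∉ rad w
  hsepP : ∀ x : P, x ≠ 0 → ∃ w ∈ wts, w x ≠ 0
  heven : ∀ μ : P →+ ZMod 2, μ ≠ 0 → μ z = 0 → Nat.card (rad μ) * 2 ^ (4 * m) = Nat.card W
  hns : ∀ v : W, v ≠ 0 → ∃ j : ℕ, b v (A^[j] v) ≠ 0

namespace SingHyp

variable {W P : Type*} [AddCommGroup W] [Finite W] [AddCommGroup P] [Finite P] {m l : ℕ} {A : W →+ W} {z : P}
  {q : W → P} {b : W →+ W →+ P} {rad : (P →+ ZMod 2) → AddSubgroup W} {wts : Set (P →+ ZMod 2)}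
  (h : SingHyp m l A z q b rad wts)
include h

omit [Finite W] [Finite P] in
theorem q_zero : q 0 = 0 := by
  have := h.hb 0 0
  simp only [add_zero, map_zero] at this
  exact left_eq_add.mp this

omit [Finite W] [Finite P] in
theorem b_inv (x y : W) : b (A x) (A y) = b x y := by
  have h1 := h.hb (A x) (A y)
  rw [← map_add A x y, h.hqA, h.hqA, h.hqA, h.hb x y] at h1
  exact (add_left_cancel h1).symm

omit [Finite W] [Finite P] in
theorem b_symm (x y : W) : b x y = b y x := by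
  have h1 := h.hb x y
  rw [add_comm x y, h.hb y x, add_comm (q y) (q x)] at h1
  exact (add_left_cancel h1).symm

omit [Finite P] in
theorem A_bij : Function.Bijective A := by
  refine Finite.injective_iff_bijective.mp fun x y e => ?_
  have h1 := h.hA x
  have h2 := h.hA y
  rw [Function.iterate_succ_apply] at h1 h2
  rw [← h1, ← h2, e]

omit [Finite P] in
/-- An invariant subgroup has order `1` modulo `r`. -/
theorem card_mod (S : AddSubgroup W) (hS : ∀ x ∈ S, A x ∈ S) :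
    Nat.card S ≡ 1 [MOD 2 ^ m + 1] := by
  classical
  haveI := Fact.mk h.hr
  haveI := Fintype.ofFinite ↥S
  let σ : Equiv.Perm ↥S := Equiv.ofBijective (fun x => ⟨A x, hS x x.2⟩)
    (Finite.injective_iff_bijective.mp fun x y e => Subtype.ext ((h.A_bij).1 (congrArg Subtype.val e)))
  have hiter : ∀ (n : ℕ) (x : ↥S), (((σ ^ n) x : ↥S) : W) = A^[n] x := by
    intro n
    induction n with
    | zero => intro x; simp
    | succ n ih => intro x; rw [pow_succ', Equiv.Perm.mul_apply, Function.iterate_succ_apply', ← ih]; rfl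
  have hσ : σ ^ (2 ^ m + 1) ^ 1 = 1 := by
    ext x
    rw [pow_one, hiter, h.hA]; rfl
  have h1 := Equiv.Perm.card_fixedPoints_modEq (f := ⇑σ) (p := 2 ^ m + 1) (n := 1)
    (by
      have key : ∀ (g : Function.End ↥S), g = ⇑σ → ∀ n : ℕ, g ^ n = ⇑(σ ^ n) := by
        intro g hg n
        induction n with
        | zero => rfl
        | succ n ih => rw [pow_succ, ih, hg, pow_succ]; rfl
      exact (key _ rfl _).trans (by rw [hσ]; rfl))
  have h2 : Fintype.card (Function.fixedPoints ⇑σ) = 1 := by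
    rw [Fintype.card_eq_one_iff]
    refine ⟨⟨0, Subtype.ext (map_zero A)⟩, fun x => Subtype.ext (Subtype.ext ?_)⟩
    exact h.hfpf _ (congrArg Subtype.val x.2)
  rw [h2, ← Nat.card_eq_fintype_card] at h1
  exact h1

omit [Finite P] in
/-- An invariant subgroup above one of index `2 ^ (2 m)` is that one or everything. -/
theorem eq_or_top {R S : AddSubgroup W} (hR : ∀ x ∈ R, A x ∈ R) (hS : ∀ x ∈ S, A x ∈ S)
    (hc : Nat.card R * 2 ^ (2 * m) = Nat.card W) (hle : R ≤ S) : S = R ∨ S = ⊤ := by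
  obtain ⟨d, hd⟩ := AddSubgroup.card_dvd_of_le hle
  have hdd : d ∣ 2 ^ (2 * m) := by
    have := AddSubgroup.card_addSubgroup_dvd_card S
    rw [hd, ← hc] at this
    exact Nat.dvd_of_mul_dvd_mul_left Nat.card_pos this
  obtain ⟨j, hj, rfl⟩ := (Nat.dvd_prime_pow Nat.prime_two).mp hdd
  have h1 : 2 ^ j ≡ 1 [MOD 2 ^ m + 1] := by
    have h2 := h.card_mod S hS
    rw [hd] at h2
    have h3 := (h.card_mod R hR).mul_right (2 ^ j)
    rw [one_mul] at h3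
    exact h3.symm.trans h2
  rcases two_pow_arith hj ((Nat.modEq_iff_dvd' Nat.one_le_two_pow).mp h1.symm) with rfl | rfl
  · exact Or.inl (AddSubgroup.eq_of_le_of_card_ge hle (by rw [hd, pow_zero, mul_one])).symm
  · exact Or.inr (AddSubgroup.eq_top_of_card_eq _ (by rw [hd, hc]))

omit [Finite P] in
theorem rad_inv (μ : P →+ ZMod 2) : ∀ x ∈ rad μ, A x ∈ rad μ := by
  intro x hx
  rw [h.hrad] at hx ⊢
  intro y
  obtain ⟨y, rfl⟩ := h.A_bij.2 y
  rw [h.b_inv]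
  exact hx y

omit [Finite P] in
theorem rad_maximal {w : P →+ ZMod 2} (hw : w ∈ wts) {S : AddSubgroup W} (hS : ∀ x ∈ S, A x ∈ S)
    (hle : rad w ≤ S) : S = rad w ∨ S = ⊤ :=
  h.eq_or_top (h.rad_inv w) hS (h.hrank w hw) hle

omit [Finite P] in
theorem rad_ne {w w' : P →+ ZMod 2} (hw : w ∈ wts) (hw' : w' ∈ wts) (hne : w ≠ w') : rad w ≠ rad w' := by
  intro e
  have hle : rad w ≤ rad (w + w') := fun x hx => by
    have hx' := e ▸ hx
    rw [h.hrad] at hx hx' ⊢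
    intro y
    rw [AddMonoidHom.add_apply, hx y, hx' y, add_zero]
  have h2 : ∀ f : P →+ ZMod 2, ∀ g : P →+ ZMod 2, f + g = 0 → f = g := fun f g hfg => by
    ext x
    have := DFunLike.congr_fun hfg x
    simp only [AddMonoidHom.add_apply, AddMonoidHom.zero_apply] at this
    exact (CharTwo.add_eq_zero).mp this
  have h1 := h.heven (w + w') (fun e0 => hne (h2 _ _ e0)) (by
    rw [AddMonoidHom.add_apply, h.hodd w hw, h.hodd w' hw']; decide)
  have h3 : Nat.card (rad w) * 2 ^ (4 * m) ≤ Nat.card W :=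
    (Nat.mul_le_mul_right _ (AddSubgroup.card_le_of_le hle)).trans h1.le
  rw [← h.hrank w hw] at h3
  have h4 := Nat.le_of_mul_le_mul_left h3 Nat.card_pos
  have h5 := (Nat.pow_le_pow_iff_right Nat.one_lt_two).mp h4
  have := h.hm
  omega

omit [Finite P] in
theorem inf_inv {R S : AddSubgroup W} (hR : ∀ x ∈ R, A x ∈ R) (hS : ∀ x ∈ S, A x ∈ S) :
    ∀ x ∈ R ⊓ S, A x ∈ R ⊓ S := fun x hx => ⟨hR x hx.1, hS x hx.2⟩

omit [Finite P] in
theorem sup_inv {R S : AddSubgroup W} (hR : ∀ x ∈ R, A x ∈ R) (hS : ∀ x ∈ S, A x ∈ S) :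
    ∀ x ∈ R ⊔ S, A x ∈ R ⊔ S := by
  intro x hx
  obtain ⟨u, hu, v, hv, rfl⟩ := AddSubgroup.mem_sup.mp hx
  rw [map_add]
  exact AddSubgroup.add_mem_sup (hR u hu) (hS v hv)

omit [Finite P] in
/-- A radical not containing an invariant subgroup cuts it in index `2 ^ (2 m)`. -/
theorem card_inf {w : P →+ ZMod 2} (hw : w ∈ wts) {S : AddSubgroup W} (hS : ∀ x ∈ S, A x ∈ S)
    (hne : ¬ S ≤ rad w) : Nat.card ↥(S ⊓ rad w) * 2 ^ (2 * m) = Nat.card S ∧ S ⊔ rad w = ⊤ := by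
  have htop : S ⊔ rad w = ⊤ := (h.rad_maximal hw (h.sup_inv hS (h.rad_inv w)) le_sup_right).resolve_left
    fun e => hne (le_sup_left.trans e.le)
  refine ⟨?_, htop⟩
  let f : ↥S →+ W ⧸ rad w := (QuotientAddGroup.mk' (rad w)).comp S.subtype
  have hf : Function.Surjective f := by
    intro y
    obtain ⟨x, rfl⟩ := QuotientAddGroup.mk'_surjective (rad w) y
    obtain ⟨u, hu, v, hv, rfl⟩ := AddSubgroup.mem_sup.mp (show x ∈ S ⊔ rad w by rw [htop]; trivial)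
    refine ⟨⟨u, hu⟩, ?_⟩
    show QuotientAddGroup.mk' (rad w) u = _
    rw [map_add, show QuotientAddGroup.mk' (rad w) v = 0 from (QuotientAddGroup.eq_zero_iff v).mpr hv, add_zero]
  have hker : f.ker = (rad w).addSubgroupOf S := by
    ext x
    exact QuotientAddGroup.eq_zero_iff (x : W)
  have h1 := AddSubgroup.card_eq_card_quotient_mul_card_addSubgroup f.ker
  have h2 : Nat.card (↥S ⧸ f.ker) = 2 ^ (2 * m) := by
    rw [Nat.card_congr (QuotientAddGroup.quotientKerEquivOfSurjective f hf).toEquiv]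
    have h3 := AddSubgroup.card_eq_card_quotient_mul_card_addSubgroup (rad w)
    have h4 := h.hrank w hw
    rw [h3, mul_comm] at h4
    exact (Nat.eq_of_mul_eq_mul_right Nat.card_pos h4).symm
  rw [h2, hker] at h1
  rw [h1, mul_comm, show S ⊓ rad w = ((rad w).addSubgroupOf S).map S.subtype by
    rw [AddSubgroup.addSubgroupOf_map_subtype, inf_comm],
    AddSubgroup.card_map_of_injective S.subtype_injective]

/-- `W` is generated by two or three weights' quotients. -/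
theorem structure_cases : ∃ w₁ ∈ wts, ∃ w₂ ∈ wts, w₁ ≠ w₂ ∧
    ((rad w₁ ⊓ rad w₂ = ⊥ ∧ Nat.card W = 2 ^ (4 * m)) ∨
      ∃ w₃ ∈ wts, w₁ ≠ w₃ ∧ w₂ ≠ w₃ ∧ rad w₁ ⊓ rad w₂ ⊓ rad w₃ = ⊥ ∧ Nat.card W = 2 ^ (6 * m) ∧
        ¬ rad w₁ ⊓ rad w₂ ≤ rad w₃) := by
  have hP1 : 1 < Nat.card P := by rw [h.hP]; exact Nat.one_lt_two_pow (by omega)
  obtain ⟨w₁, hw₁, -⟩ := h.hsepP z h.hz
  obtain ⟨w₂, hw₂, hne⟩ : ∃ w ∈ wts, w ≠ w₁ := by
    by_contra hno
    push Not at hno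
    have hinj : Function.Injective w₁ := (injective_iff_map_eq_zero w₁).mpr fun x hx => by
      by_contra hx0
      obtain ⟨w, hw, hwx⟩ := h.hsepP x hx0
      exact hwx (hno w hw ▸ hx)
    have h1 := Nat.card_le_card_of_injective _ hinj
    rw [h.hP, Nat.card_zmod] at h1
    have h2 : 2 ^ (2 + 1) ≤ 2 ^ (l + 1) := Nat.pow_le_pow_right (by norm_num) (by have := h.hl2; omega)
    omega
  refine ⟨w₁, hw₁, w₂, hw₂, hne.symm, ?_⟩
  have hne12 : ¬ rad w₁ ≤ rad w₂ := fun hle => h.rad_ne hw₁ hw₂ hne.symm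
    (AddSubgroup.eq_of_le_of_card_ge hle (by
      have e := (h.hrank w₁ hw₁).trans (h.hrank w₂ hw₂).symm
      exact (Nat.eq_of_mul_eq_mul_right (Nat.two_pow_pos _) e).ge))
  have c12 := (h.card_inf hw₂ (h.rad_inv w₁) hne12).1
  have e1 := h.hrank w₁ hw₁
  by_cases h0 : rad w₁ ⊓ rad w₂ = ⊥
  · refine Or.inl ⟨h0, ?_⟩
    rw [h0, AddSubgroup.card_bot, one_mul] at c12
    rw [← e1, ← c12, ← pow_add]
    congr 1; omega
  refine Or.inr ?_
  obtain ⟨x, hx, hx0⟩ : ∃ x ∈ rad w₁ ⊓ rad w₂, x ≠ 0 := by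
    by_contra hno
    push Not at hno
    exact h0 ((AddSubgroup.eq_bot_iff_forall _).mpr hno)
  obtain ⟨w₃, hw₃, hxw⟩ := h.hsepW x hx0
  have hle3 : ¬ rad w₁ ⊓ rad w₂ ≤ rad w₃ := fun hle => hxw (hle hx)
  have hi12 := h.inf_inv (h.rad_inv w₁) (h.rad_inv w₂)
  have c123 := (h.card_inf hw₃ hi12 hle3).1
  refine ⟨w₃, hw₃, fun e => hxw (e ▸ hx.1), fun e => hxw (e ▸ hx.2), ?_⟩
  by_cases h3 : rad w₁ ⊓ rad w₂ ⊓ rad w₃ = ⊥
  · refine ⟨h3, ?_, hle3⟩
    rw [h3, AddSubgroup.card_bot, one_mul] at c123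
    rw [← e1, ← c12, ← c123, ← pow_add, ← pow_add]
    congr 1; omega
  exfalso
  obtain ⟨y, hy, hy0⟩ : ∃ y ∈ rad w₁ ⊓ rad w₂ ⊓ rad w₃, y ≠ 0 := by
    by_contra hno
    push Not at hno
    exact h3 ((AddSubgroup.eq_bot_iff_forall _).mpr hno)
  obtain ⟨w₄, hw₄, hyw⟩ := h.hsepW y hy0
  have hi123 := h.inf_inv hi12 (h.rad_inv w₃)
  have hle4 : ¬ rad w₁ ⊓ rad w₂ ⊓ rad w₃ ≤ rad w₄ := fun hle => hyw (hle hy)
  have c1234 := (h.card_inf hw₄ hi123 hle4).1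
  -- every triple intersection has index at most `2 ^ (6 m)`
  have hidx : ∀ u ∈ wts, ∀ S : AddSubgroup W, (∀ x ∈ S, A x ∈ S) → Nat.card S ≤ Nat.card ↥(S ⊓ rad u) * 2 ^ (2 * m) := by
    intro u hu S hS
    by_cases hle : S ≤ rad u
    · rw [inf_eq_left.mpr hle]; exact Nat.le_mul_of_pos_right _ (Nat.two_pow_pos _)
    · exact (h.card_inf hu hS hle).1.ge
  have hno : ∀ a ∈ wts, ∀ b' ∈ wts, ∀ c ∈ wts, ∀ d ∈ wts,
      rad a ⊓ rad b' ⊓ rad c ⊓ rad d = rad w₁ ⊓ rad w₂ ⊓ rad w₃ ⊓ rad w₄ → rad b' ⊓ rad c ⊓ rad d ⊔ rad a = ⊤ := by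
    intro a ha b' hb' c hc d hd e
    have hi := h.inf_inv (h.inf_inv (h.rad_inv b') (h.rad_inv c)) (h.rad_inv d)
    refine (h.card_inf ha hi fun hle => ?_).2
    have hT : rad b' ⊓ rad c ⊓ rad d = rad w₁ ⊓ rad w₂ ⊓ rad w₃ ⊓ rad w₄ := by
      rw [← e]
      refine le_antisymm (le_inf (le_inf (le_inf hle (inf_le_left.trans inf_le_left)) (inf_le_left.trans inf_le_right)) inf_le_right) ?_
      exact le_inf (le_inf (inf_le_left.trans (inf_le_left.trans inf_le_right)) (inf_le_left.trans inf_le_right)) inf_le_right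
    have i1 := hidx c hc _ (h.rad_inv b')
    have i2 := hidx d hd _ (h.inf_inv (h.rad_inv b') (h.rad_inv c))
    rw [hT] at i2
    have e2 := h.hrank b' hb'
    have i3 : Nat.card W ≤ Nat.card ↥(rad w₁ ⊓ rad w₂ ⊓ rad w₃ ⊓ rad w₄) * 2 ^ (2 * m) * 2 ^ (2 * m) * 2 ^ (2 * m) := by
      rw [← e2]; exact Nat.mul_le_mul_right _ (i1.trans (Nat.mul_le_mul_right _ i2))
    rw [← e1, ← c12, ← c123, ← c1234] at i3
    have hp : 1 < 2 ^ (2 * m) := Nat.one_lt_two_pow (by have := h.hm; omega)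
    have hpos : 0 < Nat.card ↥(rad w₁ ⊓ rad w₂ ⊓ rad w₃ ⊓ rad w₄) * 2 ^ (2 * m) * 2 ^ (2 * m) * 2 ^ (2 * m) :=
      Nat.mul_pos (Nat.mul_pos (Nat.mul_pos Nat.card_pos (Nat.two_pow_pos _)) (Nat.two_pow_pos _)) (Nat.two_pow_pos _)
    have := Nat.le_of_mul_le_mul_left (i3.trans (mul_one _).ge) hpos
    omega
  have hmu : rad (w₁ + w₂ + w₃ + w₄) ≤ rad w₁ ⊓ rad w₂ ⊓ rad w₃ ⊓ rad w₄ := by
    have key : ∀ a ∈ wts, ∀ b' ∈ wts, ∀ c ∈ wts, ∀ d ∈ wts,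
        rad a ⊓ rad b' ⊓ rad c ⊓ rad d = rad w₁ ⊓ rad w₂ ⊓ rad w₃ ⊓ rad w₄ →
        a + b' + c + d = w₁ + w₂ + w₃ + w₄ → rad (w₁ + w₂ + w₃ + w₄) ≤ rad a := by
      intro a ha b' hb' c hc d hd e esum v hv
      rw [h.hrad]
      intro u
      obtain ⟨s, hs, t, ht, rfl⟩ := AddSubgroup.mem_sup.mp (show u ∈ rad b' ⊓ rad c ⊓ rad d ⊔ rad a by rw [hno a ha b' hb' c hc d hd e]; trivial)
      rw [map_add, map_add, h.b_symm v t, (h.hrad a t).mp ht v, add_zero]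
      have h5 := (h.hrad _ v).mp hv s
      rw [← esum] at h5
      simp only [AddMonoidHom.add_apply] at h5
      rw [h.b_symm v s] at h5 ⊢
      rw [(h.hrad b' s).mp hs.1.1 v, (h.hrad c s).mp hs.1.2 v, (h.hrad d s).mp hs.2 v] at h5
      simpa using h5
    exact le_inf (le_inf (le_inf (key w₁ hw₁ w₂ hw₂ w₃ hw₃ w₄ hw₄ rfl rfl)
      (key w₂ hw₂ w₁ hw₁ w₃ hw₃ w₄ hw₄ (by ac_rfl) (by abel)))
      (key w₃ hw₃ w₂ hw₂ w₁ hw₁ w₄ hw₄ (by ac_rfl) (by abel)))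
      (key w₄ hw₄ w₂ hw₂ w₃ hw₃ w₁ hw₁ (by ac_rfl) (by abel))
  have hμz : (w₁ + w₂ + w₃ + w₄) z = 0 := by
    simp only [AddMonoidHom.add_apply, h.hodd w₁ hw₁, h.hodd w₂ hw₂, h.hodd w₃ hw₃, h.hodd w₄ hw₄]; decide
  have hμ0 : w₁ + w₂ + w₃ + w₄ ≠ 0 := by
    intro e
    have htop : rad (w₁ + w₂ + w₃ + w₄) = ⊤ := eq_top_iff.mpr fun v _ => by
      rw [h.hrad, e]; simp
    have : rad w₁ = ⊤ := eq_top_iff.mpr (htop.ge.trans (hmu.trans (inf_le_left.trans (inf_le_left.trans inf_le_left))))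
    have h7 := h.hrank w₁ hw₁
    rw [this, AddSubgroup.card_top] at h7
    have hp : 1 < 2 ^ (2 * m) := Nat.one_lt_two_pow (by have := h.hm; omega)
    have := Nat.lt_of_lt_of_eq (lt_mul_of_one_lt_right Nat.card_pos hp) h7
    omega
  have h8 := h.heven _ hμ0 hμz
  have h9 := Nat.mul_le_mul_right (2 ^ (4 * m)) (AddSubgroup.card_le_of_le hmu)
  rw [h8, ← e1, ← c12, ← c123, ← c1234, show 4 * m = 2 * m + 2 * m by omega, pow_add] at h9
  have hp : 1 < 2 ^ (2 * m) * 2 ^ (2 * m) := by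
    have : 1 < 2 ^ (2 * m) := Nat.one_lt_two_pow (by have := h.hm; omega)
    nlinarith
  have hpos : 0 < Nat.card ↥(rad w₁ ⊓ rad w₂ ⊓ rad w₃ ⊓ rad w₄) * (2 ^ (2 * m) * 2 ^ (2 * m)) :=
    Nat.mul_pos Nat.card_pos (Nat.mul_pos (Nat.two_pow_pos _) (Nat.two_pow_pos _))
  nlinarith

end SingHyp

end Cfsg.Agent.Invol.Shult
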