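import Mathlib
import Cfsg.Agent.Lib.Invol.Shult.SingularBasic

/-!
Counting singular vectors by character sums.
-/

set_option autoImplicit false

namespace Cfsg.Agent.Invol.Shult

open Finset

/-- The nontrivial character of `ZMod 2`. -/
def sgnTwo (a : ZMod 2) : ℤ := if a = 0 then 1 else -1

theorem sgnTwo_add : ∀ a b : ZMod 2, sgnTwo (a + b) = sgnTwo a * sgnTwo b := by decide

theorem sgnTwo_zero : sgnTwo 0 = 1 := rfl

theorem sgnTwo_one : sgnTwo 1 = -1 := by decide

theorem zmod_two_cases : ∀ a : ZMod 2, a = 0 ∨ a = 1 := by decide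

/-- A character sum over a group vanishes for a nontrivial functional. -/
theorem sum_sgnTwo_eq_zero {M : Type*} [AddCommGroup M] [Fintype M] (f : M →+ ZMod 2) {x₀ : M} (hx : f x₀ = 1) :
    ∑ x, sgnTwo (f x) = 0 := by
  have e := Equiv.sum_comp (Equiv.addRight x₀) (fun x => sgnTwo (f x))
  simp only [Equiv.coe_addRight, map_add, sgnTwo_add, hx, sgnTwo_one, mul_neg, mul_one, Finset.sum_neg_distrib] at e
  omega

namespace SingHyp

variable {W P : Type*} [AddCommGroup W] [Finite W] [AddCommGroup P] [Finite P] {m l : ℕ} {A : W →+ W} {z : P}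
  {q : W → P} {b : W →+ W →+ P} {rad : (P →+ ZMod 2) → AddSubgroup W} {wts : Set (P →+ ZMod 2)}
  (h : SingHyp m l A z q b rad wts)
include h

omit [Finite P] in
theorem sum_one_mod [Fintype W] (μ : P →+ ZMod 2) :
    (∑ x : W, sgnTwo (μ (q x))) ≡ 1 [ZMOD ((2 ^ m + 1 : ℕ) : ℤ)] := by
  classical
  haveI := Fact.mk h.hr
  let Z : Finset W := univ.filter fun x => μ (q x) = 0
  have hsum : ∑ x : W, sgnTwo (μ (q x)) = 2 * (Z.card : ℤ) - (Fintype.card W : ℤ) := by
    have h1 : ∀ x : W, sgnTwo (μ (q x)) = 2 * (if μ (q x) = 0 then (1 : ℤ) else 0) - 1 := fun x => by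
      unfold sgnTwo; split <;> norm_num
    rw [Finset.sum_congr rfl fun x _ => h1 x, Finset.sum_sub_distrib, ← Finset.mul_sum, Finset.sum_boole]
    simp [Z]
  have hmod : ∀ T : Finset W, 0 ∈ T → (∀ x ∈ T, A x ∈ T) → T.card ≡ 1 [MOD 2 ^ m + 1] := by
    intro T h0 hT
    let σ : Equiv.Perm ↥T := Equiv.ofBijective (fun x => ⟨A x, hT x x.2⟩)
      (Finite.injective_iff_bijective.mp fun x y e => Subtype.ext ((h.A_bij).1 (congrArg Subtype.val e)))
    have hiter : ∀ (n : ℕ) (x : ↥T), (((σ ^ n) x : ↥T) : W) = A^[n] x := by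
      intro n
      induction n with
      | zero => intro x; simp
      | succ n ih => intro x; rw [pow_succ', Equiv.Perm.mul_apply, Function.iterate_succ_apply', ← ih]; rfl
    have hσ : σ ^ (2 ^ m + 1) ^ 1 = 1 := by
      ext x
      rw [pow_one, hiter, h.hA]; rfl
    have h1 := Equiv.Perm.card_fixedPoints_modEq (f := ⇑σ) (p := 2 ^ m + 1) (n := 1)
      (by
        have key : ∀ (g : Function.End ↥T), g = ⇑σ → ∀ n : ℕ, g ^ n = ⇑(σ ^ n) := by
          intro g hg n
          induction n with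
          | zero => rfl
          | succ n ih => rw [pow_succ, ih, hg, pow_succ]; rfl
        exact (key _ rfl _).trans (by rw [hσ]; rfl))
    have h2 : Fintype.card (Function.fixedPoints ⇑σ) = 1 := by
      rw [Fintype.card_eq_one_iff]
      refine ⟨⟨⟨0, h0⟩, Subtype.ext (map_zero A)⟩, fun x => Subtype.ext (Subtype.ext ?_)⟩
      exact h.hfpf _ (congrArg Subtype.val x.2)
    rwa [h2, Fintype.card_coe] at h1
  have h1 := hmod Z (by simp [Z, h.q_zero]) (fun x hx => by simpa [Z, h.hqA] using hx)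
  have h2 : Fintype.card W ≡ 1 [MOD 2 ^ m + 1] := hmod univ (mem_univ _) (fun x _ => mem_univ _)
  rw [hsum]
  have := ((Int.natCast_modEq_iff.mpr h1).mul_left 2).sub (Int.natCast_modEq_iff.mpr h2)
  simpa using this

omit [Finite P] in
/-- The character sum of a nonzero functional killing `z`. -/
theorem sum_eq [Fintype W] (μ : P →+ ZMod 2) (h0 : μ ≠ 0) (hz : μ z = 0) :
    (∑ x : W, sgnTwo (μ (q x))) * 2 ^ (2 * m) = Fintype.card W := by
  classical
  haveI := Fact.mk h.hr
  have hadd : ∀ x y, μ (q (x + y)) = μ (q x) + μ (q y) + μ (b x y) := fun x y => by rw [h.hb, map_add, map_add]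
  have hrad0 : ∀ d ∈ rad μ, μ (q d) = 0 := by
    intro d hd
    let g : ↥(rad μ) → ↥(rad μ) := fun x => ⟨A x + x, (rad μ).add_mem (h.rad_inv μ x x.2) x.2⟩
    have hg : Function.Injective g := by
      intro x y e
      have e1 : A (x : W) + x = A (y : W) + y := congrArg Subtype.val e
      have e2 : A ((x : W) - y) = (x : W) - y := by
        rw [map_sub]
        calc A (x : W) - A y = (A x + x) - (A y + y) + ((y : W) - x) := by abel
          _ = (y : W) - x := by rw [e1, sub_self, zero_add]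
          _ = (x : W) - y := by rw [← neg_sub, neg_eq_of_add_eq_zero_left (h.hW2 _)]
      exact Subtype.ext (sub_eq_zero.mp (h.hfpf _ e2))
    obtain ⟨u, hu⟩ := (Finite.injective_iff_surjective.mp hg) ⟨d, hd⟩
    have : A (u : W) + u = d := congrArg Subtype.val hu
    rw [← this, hadd, h.hqA, (h.hrad μ _).mp (h.rad_inv μ u u.2) u, add_zero]
    exact CharTwo.add_self_eq_zero _
  have hsq : (∑ x : W, sgnTwo (μ (q x))) * (∑ x : W, sgnTwo (μ (q x))) =
      (Fintype.card W : ℤ) * Nat.card ↥(rad μ) := by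
    rw [Finset.sum_mul_sum]
    calc ∑ x : W, ∑ y : W, sgnTwo (μ (q x)) * sgnTwo (μ (q y))
        = ∑ x : W, ∑ d : W, sgnTwo (μ (q x)) * sgnTwo (μ (q (x + d))) :=
          Finset.sum_congr rfl fun x _ => (Equiv.sum_comp (Equiv.addLeft x)
            (fun y => sgnTwo (μ (q x)) * sgnTwo (μ (q y)))).symm
      _ = ∑ x : W, ∑ d : W, sgnTwo (μ (q d)) * sgnTwo (μ (b x d)) := by
          refine Finset.sum_congr rfl fun x _ => Finset.sum_congr rfl fun d _ => ?_
          rw [← sgnTwo_add, ← sgnTwo_add, hadd]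
          congr 1
          rw [← add_assoc, ← add_assoc, CharTwo.add_self_eq_zero, zero_add]
      _ = ∑ d : W, sgnTwo (μ (q d)) * ∑ x : W, sgnTwo (μ (b x d)) := by
          rw [Finset.sum_comm]; exact Finset.sum_congr rfl fun d _ => (Finset.mul_sum _ _ _).symm
      _ = ∑ d : W, if d ∈ rad μ then (Fintype.card W : ℤ) else 0 := by
          refine Finset.sum_congr rfl fun d _ => ?_
          split_ifs with hd
          · rw [hrad0 d hd, sgnTwo_zero, one_mul, Finset.sum_congr rfl fun x _ => by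
              rw [h.b_symm x d, (h.hrad μ d).mp hd x, sgnTwo_zero]]
            simp
          · obtain ⟨y, hy⟩ : ∃ y, μ (b d y) = 1 := by
              by_contra hno
              push Not at hno
              exact hd ((h.hrad μ d).mpr fun y => (zmod_two_cases _).resolve_right (hno y))
            exact mul_eq_zero_of_right _ (sum_sgnTwo_eq_zero (μ.comp (b.flip d)) (x₀ := y) (by simpa [h.b_symm y d] using hy))
      _ = _ := by
          rw [← Finset.sum_filter, Finset.sum_const, nsmul_eq_mul, mul_comm]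
          congr 2
          rw [Nat.card_eq_fintype_card, Fintype.card_subtype]
  obtain ⟨S, hS⟩ : ∃ S, S = ∑ x : W, sgnTwo (μ (q x)) := ⟨_, rfl⟩
  rw [← hS] at hsq ⊢
  have hev := h.heven μ h0 hz
  rw [Nat.card_eq_fintype_card (α := W)] at hev
  have hev' : (Nat.card ↥(rad μ) : ℤ) * 2 ^ (4 * m) = (Fintype.card W : ℤ) := by exact_mod_cast hev
  have h1 : (S * 2 ^ (2 * m)) * (S * 2 ^ (2 * m)) = (Fintype.card W : ℤ) * Fintype.card W := by
    conv_rhs => arg 2; rw [← hev']
    rw [show 4 * m = 2 * m + 2 * m by omega, pow_add]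
    linear_combination (2 : ℤ) ^ (2 * m) * 2 ^ (2 * m) * hsq
  rcases mul_self_eq_mul_self_iff.mp h1 with h2 | h2
  · exact h2
  exfalso
  have hr' : ((2 : ℤ) ^ (2 * m)) ≡ 1 [ZMOD ((2 ^ m + 1 : ℕ) : ℤ)] := by
    refine (Int.modEq_iff_dvd.mpr ?_).symm
    exact ⟨2 ^ m - 1, by rw [two_mul, pow_add]; push_cast; ring⟩
  have hW1 : (Fintype.card W : ℤ) ≡ 1 [ZMOD ((2 ^ m + 1 : ℕ) : ℤ)] := by
    have e := h.card_mod ⊤ (fun x _ => trivial)
    rw [AddSubgroup.card_top, Nat.card_eq_fintype_card] at e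
    have := Int.natCast_modEq_iff.mpr e
    simpa using this
  have h3 := (hS ▸ h.sum_one_mod μ : S ≡ 1 [ZMOD ((2 ^ m + 1 : ℕ) : ℤ)]).mul hr'
  rw [h2] at h3
  have h4 := h3.add hW1
  rw [neg_add_cancel, mul_one] at h4
  have h5 : ((2 ^ m + 1 : ℕ) : ℤ) ∣ ((2 : ℕ) : ℤ) := by
    have := Int.modEq_iff_dvd.mp h4
    simpa [one_add_one_eq_two] using this
  have h6 := Nat.le_of_dvd (by norm_num) (Int.natCast_dvd_natCast.mp h5)
  have : 2 ^ 1 ≤ 2 ^ m := Nat.pow_le_pow_right (by norm_num) h.hm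
  omega

omit [Finite W] in
theorem card_even_char : Nat.card {μ : P →+ ZMod 2 // μ z = 0} = 2 ^ l := by
  letI : Module (ZMod 2) P := AddCommGroup.zmodModule (n := 2) fun x => by rw [two_nsmul]; exact h.hP2 x
  haveI : Finite (P →+ ZMod 2) := Finite.of_injective _ DFunLike.coe_injective
  haveI : Fact (Nat.Prime 2) := ⟨Nat.prime_two⟩
  haveI : Module.Finite (ZMod 2) P := Module.Finite.of_finite
  have hall : Nat.card (P →+ ZMod 2) = 2 ^ (l + 1) := by
    let e : (P →+ ZMod 2) ≃ (Module.Dual (ZMod 2) P) :=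
      ⟨fun f => f.toZModLinearMap 2, fun f => f.toAddMonoidHom, fun f => rfl, fun f => rfl⟩
    rw [Nat.card_congr e, ← h.hP, Module.natCard_eq_pow_finrank (K := ZMod 2), Subspace.dual_finrank_eq,
      ← Module.natCard_eq_pow_finrank]
  let ev : (P →+ ZMod 2) →+ ZMod 2 := AddMonoidHom.eval z
  have hsurj : Function.Surjective ev := by
    obtain ⟨w, hw, -⟩ := h.hsepP z h.hz
    intro a
    rcases zmod_two_cases a with rfl | rfl
    · exact ⟨0, rfl⟩
    · exact ⟨w, h.hodd w hw⟩
  have h1 := AddSubgroup.card_eq_card_quotient_mul_card_addSubgroup ev.ker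
  rw [Nat.card_congr (QuotientAddGroup.quotientKerEquivOfSurjective ev hsurj).toEquiv, Nat.card_zmod, hall, pow_succ'] at h1
  exact (Nat.eq_of_mul_eq_mul_left (by norm_num) h1).symm

/-- The number of singular vectors. -/
theorem count :
    2 ^ l * Nat.card {x : W // q x = 0 ∨ q x = z} * 2 ^ (2 * m) = Nat.card W * 2 ^ (2 * m) + (2 ^ l - 1) * Nat.card W := by
  classical
  haveI := Fintype.ofFinite W
  haveI : Finite (P →+ ZMod 2) := Finite.of_injective _ DFunLike.coe_injective
  haveI := Fintype.ofFinite (P →+ ZMod 2)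
  haveI : Fintype {μ : P →+ ZMod 2 // μ z = 0} := Fintype.ofFinite _
  have hK := h.card_even_char
  rw [Nat.card_eq_fintype_card] at hK
  have hinner : ∀ p : P, ∑ μ : {μ : P →+ ZMod 2 // μ z = 0}, sgnTwo (μ.1 p) =
      if p = 0 ∨ p = z then ((2 ^ l : ℕ) : ℤ) else 0 := by
    intro p
    split_ifs with hp
    · rw [Finset.sum_congr rfl fun μ _ => by
        rw [show μ.1 p = 0 by rcases hp with rfl | rfl <;> simp [μ.2], sgnTwo_zero]]
      simp [hK]
    · push Not at hp
      obtain ⟨w, hw, hwp⟩ := h.hsepP p hp.1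
      obtain ⟨w', hw', hwp'⟩ := h.hsepP (p + z) (fun e => hp.2 ((eq_neg_of_add_eq_zero_left e).trans (neg_eq_of_add_eq_zero_left (h.hP2 z))))
      have e1 := (zmod_two_cases _).resolve_left hwp
      have e2 := (zmod_two_cases _).resolve_left hwp'
      rw [map_add, h.hodd w' hw'] at e2
      let K : AddSubgroup (P →+ ZMod 2) := (AddMonoidHom.eval z).ker
      have := sum_sgnTwo_eq_zero (M := ↥K) ((AddMonoidHom.eval p).comp K.subtype)
        (x₀ := ⟨w + w', by show (w + w') z = 0; rw [AddMonoidHom.add_apply, h.hodd w hw, h.hodd w' hw']; decide⟩)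
        (by show (w + w') p = 1; rw [AddMonoidHom.add_apply, e1, add_eq_right.mp e2, add_zero])
      let eK : {μ : P →+ ZMod 2 // μ z = 0} ≃ ↥K := Equiv.subtypeEquivRight fun μ => Iff.rfl
      exact (Fintype.sum_equiv eK (fun μ => sgnTwo (μ.1 p)) (fun k => sgnTwo (((AddMonoidHom.eval p).comp K.subtype) k)) fun μ => rfl).trans this
  have e : ∑ μ : {μ : P →+ ZMod 2 // μ z = 0}, (∑ x : W, sgnTwo (μ.1 (q x))) * 2 ^ (2 * m) =
      ((2 ^ l * Nat.card {x : W // q x = 0 ∨ q x = z} * 2 ^ (2 * m) : ℕ) : ℤ) := by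
    rw [← Finset.sum_mul, Finset.sum_comm, Finset.sum_congr rfl fun x _ => hinner (q x), ← Finset.sum_filter,
      Finset.sum_const, nsmul_eq_mul, Nat.card_eq_fintype_card, Fintype.card_subtype]
    push_cast; ring
  rw [← Finset.add_sum_erase univ _ (mem_univ ⟨0, by simp⟩), Finset.sum_congr rfl (fun μ hμ => h.sum_eq μ.1
    (fun e => (Finset.mem_erase.mp hμ).1 (Subtype.ext e)) μ.2)] at e
  simp only [AddMonoidHom.zero_apply, sgnTwo_zero, Finset.sum_const, Finset.card_erase_of_mem (mem_univ _),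
    Finset.card_univ, hK, nsmul_eq_mul, mul_one] at e
  rw [Nat.card_eq_fintype_card (α := W)]
  exact_mod_cast e.symm

end SingHyp

end Cfsg.Agent.Invol.Shult
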