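import Mathlib
import Cfsg.Agent.Lib.Invol.Shult.UnitLemma

/-!
Elements of norm one in a finite field of characteristic two with affine relations.
-/

set_option autoImplicit false

namespace Cfsg.Agent.Invol.Shult

section Dom

variable {K : Type*} [CommRing K] [IsDomain K] [Finite K]

open Polynomial in
theorem card_pow_eq_one (r : ℕ) (hr : 0 < r) : Nat.card {x : K // x ^ r = 1} ≤ r := by
  classical
  haveI := Fintype.ofFinite K
  rw [Nat.card_eq_fintype_card, Fintype.card_subtype]
  refine le_trans ?_ (Polynomial.card_nthRoots r (1 : K))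
  refine le_trans (Finset.card_le_card fun x hx => ?_) (Multiset.toFinset_card_le _)
  rw [Multiset.mem_toFinset, mem_nthRoots hr]
  exact (Finset.mem_filter.mp hx).2

open Polynomial in
theorem card_quadratic (a b c : K) (ha : a ≠ 0) :
    Nat.card {x : K // a * x ^ 2 + b * x + c = 0} ≤ 2 := by
  classical
  haveI := Fintype.ofFinite K
  rw [Nat.card_eq_fintype_card, Fintype.card_subtype]
  let f : K[X] := C a * X ^ 2 + C b * X + C c
  have hf : f.natDegree ≤ 2 := natDegree_quadratic_le
  have hf0 : f ≠ 0 := fun e => ha (by simpa [f, coeff_X, coeff_C] using congrArg (fun g : K[X] => g.coeff 2) e)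
  refine le_trans (Finset.card_le_card fun x hx => ?_) ((Multiset.toFinset_card_le _).trans ((card_roots' f).trans hf))
  rw [Multiset.mem_toFinset, mem_roots hf0, IsRoot.def]
  simpa [f] using (Finset.mem_filter.mp hx).2

variable [CharP K 2] (m : ℕ)

/-- At most two elements of norm one have a given affine image of norm one. -/
theorem card_unit_affine {a b : K} (ha : a ≠ 0) (hb : b ≠ 0) :
    Nat.card {x : K // x ^ (2 ^ m + 1) = 1 ∧ (a + b * x) ^ (2 ^ m + 1) = 1} ≤ 2 := by
  haveI : Fact (Nat.Prime 2) := ⟨Nat.prime_two⟩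
  have ha' : a ^ 2 ^ m ≠ 0 := pow_ne_zero _ ha
  refine le_trans (Nat.card_le_card_of_injective (fun x => (⟨x.1, ?_⟩ : {x : K //
    (b * a ^ 2 ^ m) * x ^ 2 + (a * a ^ 2 ^ m + b * b ^ 2 ^ m - 1) * x + a * b ^ 2 ^ m = 0})) ?_)
    (card_quadratic _ _ _ (mul_ne_zero hb ha'))
  · obtain ⟨x, hx, he⟩ := x
    show (b * a ^ 2 ^ m) * x ^ 2 + (a * a ^ 2 ^ m + b * b ^ 2 ^ m - 1) * x + a * b ^ 2 ^ m = 0
    rw [pow_succ, add_pow_char_pow, mul_pow] at he
    rw [pow_succ] at hx
    linear_combination x * he - (b ^ 2 ^ m * (a + b * x)) * hx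
  · intro x y e
    exact Subtype.ext (Subtype.mk.injEq _ _ _ _ ▸ e)

/-- At most `3 r` pairs of elements of norm one have a given affine image of norm one. -/
theorem card_unit_affine₂ {a b c : K} (hb : b ≠ 0) (hac : a ≠ 0 ∨ c ≠ 0) :
    Nat.card {x : K × K // x.1 ^ (2 ^ m + 1) = 1 ∧ x.2 ^ (2 ^ m + 1) = 1 ∧
      (a + b * x.1 + c * x.2) ^ (2 ^ m + 1) = 1} ≤ 3 * (2 ^ m + 1) := by
  classical
  haveI := Fintype.ofFinite K
  let U : Finset K := Finset.univ.filter fun x => x ^ (2 ^ m + 1) = 1
  have hU : U.card ≤ 2 ^ m + 1 := by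
    have := card_pow_eq_one (K := K) (2 ^ m + 1) (Nat.succ_pos _)
    rwa [Nat.card_eq_fintype_card, Fintype.card_subtype] at this
  let F : K → Finset K := fun y => U.filter fun x => (a + b * x + c * y) ^ (2 ^ m + 1) = 1
  have hF : ∀ y, a + c * y ≠ 0 → (F y).card ≤ 2 := by
    intro y hy
    have := card_unit_affine m hy hb
    rw [Nat.card_eq_fintype_card, Fintype.card_subtype] at this
    refine le_trans (Finset.card_le_card fun x hx => ?_) this
    simp only [F, U, Finset.mem_filter] at hx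
    refine Finset.mem_filter.mpr ⟨Finset.mem_univ _, hx.1.2, ?_⟩
    rw [add_right_comm]
    exact hx.2
  rw [Nat.card_eq_fintype_card, Fintype.card_subtype]
  refine le_trans (Finset.card_le_card (t := U.biUnion fun y => (F y).image fun x => (x, y)) ?_) ?_
  · rintro ⟨x, y⟩ hxy
    simp only [Finset.mem_filter] at hxy
    simp only [Finset.mem_biUnion, Finset.mem_image, F, U, Finset.mem_filter]
    exact ⟨y, ⟨Finset.mem_univ _, hxy.2.2.1⟩, x, ⟨⟨Finset.mem_univ _, hxy.2.1⟩, hxy.2.2.2⟩, rfl⟩
  refine (Finset.card_biUnion_le).trans ?_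
  refine le_trans (Finset.sum_le_sum fun y _ => Finset.card_image_le) ?_
  by_cases h0 : ∃ y ∈ U, a + c * y = 0
  · obtain ⟨y, hy, hy0⟩ := h0
    rw [← Finset.add_sum_erase U _ hy]
    have h1 : ∑ y' ∈ U.erase y, (F y').card ≤ (U.erase y).card * 2 := by
      refine Finset.sum_le_card_nsmul _ _ _ (fun y' hy' => hF y' fun e => ?_) |>.trans (by rw [smul_eq_mul])
      obtain ⟨hne, hyU⟩ := Finset.mem_erase.mp hy'
      rcases eq_or_ne c 0 with rfl | hc
      · exact hac.elim (fun ha => ha (by simpa using hy0)) (fun hc => hc rfl)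
      · exact hne (mul_left_cancel₀ hc (add_left_cancel (e.trans hy0.symm)))
    have h2 : (F y).card ≤ U.card := Finset.card_filter_le _ _
    have h3 : (U.erase y).card ≤ U.card := Finset.card_erase_le
    omega
  · push Not at h0
    have h1 : ∑ y ∈ U, (F y).card ≤ U.card * 2 :=
      (Finset.sum_le_card_nsmul _ _ _ fun y hy => hF y (h0 y hy)).trans (by rw [smul_eq_mul])
    omega

end Dom

end Cfsg.Agent.Invol.Shult
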