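import Mathlib
import Cfsg.Agent.Lib.Invol.Shult.SingularBasic
import Cfsg.Agent.Lib.Invol.Shult.SingularField

/-!
Invariant subgroups on which the form takes values in `{0, z}`: bounds for their number.
-/

set_option autoImplicit false

namespace Cfsg.Agent.Invol.Shult

/-- An invariant subgroup on which `b` takes values in `{0, z}`. -/
structure IsNull {W P : Type*} [AddCommGroup W] [AddCommGroup P] (A : W →+ W) (z : P) (b : W →+ W →+ P)
    (U : AddSubgroup W) : Prop where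
  inv : ∀ x ∈ U, A x ∈ U
  ne : U ≠ ⊥
  val : ∀ x ∈ U, ∀ y ∈ U, b x y = 0 ∨ b x y = z

namespace SingHyp

variable {W P : Type*} [AddCommGroup W] [Finite W] [AddCommGroup P] [Finite P] {m l : ℕ} {A : W →+ W} {z : P}
  {q : W → P} {b : W →+ W →+ P} {rad : (P →+ ZMod 2) → AddSubgroup W} {wts : Set (P →+ ZMod 2)}
  (h : SingHyp m l A z q b rad wts)
include h

omit [Finite W] [Finite P] in
theorem iter_mem {U : AddSubgroup W} (hU : ∀ x ∈ U, A x ∈ U) {x : W} (hx : x ∈ U) : ∀ j : ℕ, A^[j] x ∈ U := by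
  intro j
  induction j with
  | zero => exact hx
  | succ j ih => rw [Function.iterate_succ_apply']; exact hU _ ih

omit [Finite W] [Finite P] in
theorem weight_val {U : AddSubgroup W} (hU : IsNull A z b U) {w w' : P →+ ZMod 2} (hw : w ∈ wts) (hw' : w' ∈ wts)
    {x y : W} (hx : x ∈ U) (hy : y ∈ U) : w (b x y) = w' (b x y) := by
  rcases hU.val x hx y hy with e | e
  · rw [e, map_zero, map_zero]
  · rw [e, h.hodd w hw, h.hodd w' hw']

omit [Finite W] [Finite P] in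
theorem null_inf {U : AddSubgroup W} (hU : IsNull A z b U) {w : P →+ ZMod 2} (hw : w ∈ wts) : U ⊓ rad w = ⊥ := by
  refine (AddSubgroup.eq_bot_iff_forall _).mpr fun x hx => ?_
  by_contra hx0
  obtain ⟨j, hj⟩ := h.hns x hx0
  have h1 := (hU.val x hx.1 _ (h.iter_mem hU.inv hx.1 j)).resolve_left hj
  have h2 := (h.hrad w x).mp hx.2 (A^[j] x)
  rw [h1, h.hodd w hw] at h2
  exact one_ne_zero h2

omit [Finite P] in
theorem null_card {U : AddSubgroup W} (hU : IsNull A z b U) {w : P →+ ZMod 2} (hw : w ∈ wts) :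
    Nat.card U = 2 ^ (2 * m) := by
  have hne : ¬ U ≤ rad w := fun hle => hU.ne (by rw [← h.null_inf hU hw, inf_eq_left.mpr hle])
  have h1 := (h.card_inf hw hU.inv hne).1
  rw [h.null_inf hU hw, AddSubgroup.card_bot, one_mul] at h1
  exact h1.symm

omit [Finite P] in
theorem null_eq {U U' : AddSubgroup W} (hU : IsNull A z b U) (hU' : IsNull A z b U') (hle : U ≤ U') : U = U' := by
  obtain ⟨w, hw, -⟩ := h.hsepP z h.hz
  exact AddSubgroup.eq_of_le_of_card_ge hle (by rw [h.null_card hU hw, h.null_card hU' hw])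

omit [Finite P] in
/-- A singular vector all whose translates pair to `0` or `z` lies in a null subgroup. -/
theorem exists_null {v : W} (hv : v ≠ 0) (hj : ∀ j : ℕ, b v (A^[j] v) = 0 ∨ b v (A^[j] v) = z) :
    ∃ U, IsNull A z b U ∧ v ∈ U := by
  let Z2 : AddSubgroup P :=
    { carrier := {x | x = 0 ∨ x = z}
      zero_mem' := Or.inl rfl
      add_mem' := by
        rintro x y (rfl | rfl) (rfl | rfl)
        · exact Or.inl (add_zero _)
        · exact Or.inr (zero_add _)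
        · exact Or.inr (add_zero _)
        · exact Or.inl (h.hP2 _)
      neg_mem' := by
        rintro x (rfl | rfl)
        · exact Or.inl neg_zero
        · exact Or.inr (neg_eq_of_add_eq_zero_left (h.hP2 _)) }
  have hinv : ∀ (i : ℕ) (x y : W), b (A^[i] x) (A^[i] y) = b x y := by
    intro i
    induction i with
    | zero => intro x y; rfl
    | succ i ih => intro x y; rw [Function.iterate_succ_apply', Function.iterate_succ_apply', h.b_inv]; exact ih x y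
  have hgen : ∀ i k : ℕ, b (A^[i] v) (A^[k] v) ∈ Z2 := by
    intro i k
    rcases Nat.le_total i k with hle | hle
    · obtain ⟨d, rfl⟩ := Nat.exists_eq_add_of_le hle
      rw [Function.iterate_add_apply, hinv]; exact hj d
    · obtain ⟨d, rfl⟩ := Nat.exists_eq_add_of_le hle
      rw [Function.iterate_add_apply, hinv, h.b_symm]; exact hj d
  refine ⟨AddSubgroup.closure (Set.range fun i : ℕ => A^[i] v), ⟨?_, ?_, ?_⟩, AddSubgroup.subset_closure ⟨0, rfl⟩⟩
  · intro x hx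
    refine (AddSubgroup.closure_le ((AddSubgroup.closure (Set.range fun i : ℕ => A^[i] v)).comap A)).mpr ?_ hx
    rintro _ ⟨i, rfl⟩
    exact AddSubgroup.subset_closure ⟨i + 1, Function.iterate_succ_apply' A i v⟩
  · intro e
    have : v ∈ AddSubgroup.closure (Set.range fun i : ℕ => A^[i] v) := AddSubgroup.subset_closure ⟨0, rfl⟩
    rw [e, AddSubgroup.mem_bot] at this
    exact hv this
  · intro x hx y hy
    suffices b x y ∈ Z2 from this
    induction hx, hy using AddSubgroup.closure_induction₂ with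
    | mem x y hx hy => obtain ⟨i, rfl⟩ := hx; obtain ⟨k, rfl⟩ := hy; exact hgen i k
    | zero_left y hy => rw [map_zero, AddMonoidHom.zero_apply]; exact Z2.zero_mem
    | zero_right x hx => rw [map_zero]; exact Z2.zero_mem
    | add_left x y w _ _ _ h1 h2 => rw [map_add, AddMonoidHom.add_apply]; exact Z2.add_mem h1 h2
    | add_right y w x _ _ _ h1 h2 => rw [map_add]; exact Z2.add_mem h1 h2
    | neg_left x y _ _ h1 => rw [map_neg, AddMonoidHom.neg_apply]; exact Z2.neg_mem h1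
    | neg_right x y _ _ h1 => rw [map_neg]; exact Z2.neg_mem h1

omit [Finite P] in
/-- Projection on a null subgroup along a radical. -/
theorem exists_proj {V₀ : AddSubgroup W} (hV : IsNull A z b V₀) {w : P →+ ZMod 2} (hw : w ∈ wts) :
    ∃ p : W →+ ↥V₀, (∀ x, x - (p x : W) ∈ rad w) ∧ (∀ x, p x = 0 ↔ x ∈ rad w) ∧
      ∀ x, (p (A x) : W) = A (p x : W) := by
  have hinf := h.null_inf hV hw
  have hne : ¬ V₀ ≤ rad w := fun hle => hV.ne (by rw [← hinf, inf_eq_left.mpr hle])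
  have htop := (h.card_inf hw hV.inv hne).2
  let f : ↥V₀ →+ W ⧸ rad w := (QuotientAddGroup.mk' (rad w)).comp V₀.subtype
  have hf : Function.Bijective f := by
    refine ⟨(injective_iff_map_eq_zero f).mpr fun v hv => Subtype.ext ?_, fun y => ?_⟩
    · have : (v : W) ∈ V₀ ⊓ rad w := ⟨v.2, (QuotientAddGroup.eq_zero_iff _).mp hv⟩
      rwa [hinf, AddSubgroup.mem_bot] at this
    · obtain ⟨x, rfl⟩ := QuotientAddGroup.mk'_surjective (rad w) y
      obtain ⟨u, hu, v, hv, rfl⟩ := AddSubgroup.mem_sup.mp (show x ∈ V₀ ⊔ rad w by rw [htop]; trivial)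
      refine ⟨⟨u, hu⟩, ?_⟩
      show QuotientAddGroup.mk' (rad w) u = _
      rw [map_add, show QuotientAddGroup.mk' (rad w) v = 0 from (QuotientAddGroup.eq_zero_iff v).mpr hv, add_zero]
  let p : W →+ ↥V₀ := (AddEquiv.ofBijective f hf).symm.toAddMonoidHom.comp (QuotientAddGroup.mk' (rad w))
  have hp : ∀ x, x - (p x : W) ∈ rad w := fun x => by
    rw [← QuotientAddGroup.eq_zero_iff, QuotientAddGroup.mk_sub, sub_eq_zero]
    exact ((AddEquiv.ofBijective f hf).apply_symm_apply (QuotientAddGroup.mk' (rad w) x)).symm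
  refine ⟨p, hp, fun x => ⟨fun e => by simpa [e] using hp x, fun hx => Subtype.ext ?_⟩, fun x => ?_⟩
  · have h1 : (p x : W) ∈ V₀ ⊓ rad w := ⟨(p x).2, by simpa using (rad w).sub_mem hx (hp x)⟩
    rwa [hinf, AddSubgroup.mem_bot] at h1
  · have h1 := h.rad_inv w _ (hp x)
    rw [map_sub] at h1
    have h2 := (rad w).sub_mem h1 (hp (A x))
    rw [sub_sub_sub_cancel_left] at h2
    have h3 : (p (A x) : W) - A (p x : W) ∈ V₀ ⊓ rad w := ⟨V₀.sub_mem (p (A x)).2 (hV.inv _ (p x).2), h2⟩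
    rw [hinf, AddSubgroup.mem_bot] at h3
    exact sub_eq_zero.mp h3

/-- Bounds for the number of null subgroups. -/
theorem null_bounds {V₀ : AddSubgroup W} (hV : IsNull A z b V₀) {w₁ w₂ : P →+ ZMod 2} (hw₁ : w₁ ∈ wts)
    (hw₂ : w₂ ∈ wts) :
    (∀ w ∈ wts, w₁ ≠ w₂ → w ≠ w₁ → w ≠ w₂ → rad w₁ ⊓ rad w₂ = ⊥ → Nat.card W = 2 ^ (4 * m) →
        Nat.card {U // IsNull A z b U} ≤ 2) ∧
    (∀ w₃ ∈ wts, rad w₁ ⊓ rad w₂ ⊓ rad w₃ = ⊥ → Nat.card {U // IsNull A z b U} ≤ (2 ^ m + 1) * (2 ^ m + 1)) ∧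
    (∀ w₃ ∈ wts, ∀ w ∈ wts, w ≠ w₁ → w ≠ w₂ → w ≠ w₃ → rad w₁ ⊓ rad w₂ ⊓ rad w₃ = ⊥ →
        Nat.card W = 2 ^ (6 * m) → Nat.card {U // IsNull A z b U} ≤ 3 * (2 ^ m + 1)) := by
  classical
  have hV2 : ∀ v : ↥V₀, v + v = 0 := fun v => Subtype.ext (h.hW2 _)
  haveI : Nontrivial ↥V₀ := by
    by_contra hn
    rw [not_nontrivial_iff_subsingleton] at hn
    exact hV.ne ((AddSubgroup.eq_bot_iff_forall _).mpr fun x hx => congrArg Subtype.val (Subsingleton.elim (⟨x, hx⟩ : ↥V₀) 0))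
  let A₀ : AddMonoid.End ↥V₀ :=
    { toFun := fun v => ⟨A v, hV.inv _ v.2⟩
      map_zero' := Subtype.ext (map_zero A)
      map_add' := fun x y => Subtype.ext (map_add A (x : W) (y : W)) }
  haveI : Finite (AddMonoid.End ↥V₀) := Finite.of_injective _ (DFunLike.coe_injective (F := AddMonoid.End ↥V₀))
  have hirr : ∀ S : AddSubgroup ↥V₀, (∀ x ∈ S, A₀ x ∈ S) → S = ⊥ ∨ S = ⊤ := by
    intro S hS
    by_cases hb0 : S = ⊥
    · exact Or.inl hb0
    refine Or.inr ?_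
    have hnull : IsNull A z b (S.map V₀.subtype) := by
      refine ⟨?_, fun e => hb0 ((AddSubgroup.map_eq_bot_iff_of_injective _ V₀.subtype_injective).mp e), ?_⟩
      · rintro _ ⟨x, hx, rfl⟩; exact ⟨_, hS x hx, rfl⟩
      · rintro _ ⟨x, _, rfl⟩ _ ⟨y, _, rfl⟩; exact hV.val _ x.2 _ y.2
    have e := h.null_eq hnull hV (by rintro _ ⟨x, _, rfl⟩; exact x.2)
    refine (AddSubgroup.eq_top_iff' S).mpr fun x => ?_
    obtain ⟨y, hy, e'⟩ := e.ge x.2
    rwa [Subtype.ext e'] at hy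
  let K := ↥(Subring.centralizer ({A₀} : Set (AddMonoid.End ↥V₀)))
  have hdiv : ∀ f g : K, f * g = 0 → f = 0 ∨ g = 0 := by
    intro f g hfg
    by_cases hf : f = 0
    · exact Or.inl hf
    refine Or.inr (Subtype.ext (AddMonoidHom.ext fun x => ?_))
    let S : AddSubgroup ↥V₀ := (f.1 : ↥V₀ →+ ↥V₀).ker
    have hS : ∀ y ∈ S, A₀ y ∈ S := fun y hy => by
      show f.1 (A₀ y) = 0
      have e : (f.1 * A₀) y = (A₀ * f.1) y :=
        congrArg (fun u : AddMonoid.End ↥V₀ => u y) (Subring.mem_centralizer_iff.mp f.2 A₀ rfl).symm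
      exact e.trans ((congrArg A₀ hy).trans (map_zero _))
    rcases hirr S hS with e | e
    · have h1 : g.1 x ∈ S := congrArg (fun u : K => (u.1 : AddMonoid.End ↥V₀) x) hfg
      rw [e, AddSubgroup.mem_bot] at h1
      exact h1
    · refine absurd (Subtype.ext (AddMonoidHom.ext fun y => ?_)) hf
      have hy : y ∈ (f.1 : ↥V₀ →+ ↥V₀).ker := e.ge (AddSubgroup.mem_top y)
      exact hy
  haveI : Nontrivial K := ⟨0, 1, fun e => by
    obtain ⟨v, hv⟩ := exists_ne (0 : ↥V₀)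
    exact hv (congrArg (fun u : K => (u.1 : AddMonoid.End ↥V₀) v) e).symm⟩
  haveI : NoZeroDivisors K := ⟨fun {f g} => hdiv f g⟩
  haveI : IsDomain K := NoZeroDivisors.to_isDomain K
  have hcomm : ∀ f g : K, f * g = g * f := (Finite.isDomain_to_isField K).mul_comm
  letI : CommRing K := { (inferInstance : Ring K) with mul_comm := hcomm }
  haveI : IsDomain K := NoZeroDivisors.to_isDomain K
  haveI : Fact (Nat.Prime 2) := ⟨Nat.prime_two⟩
  haveI : CharP K 2 := CharTwo.of_one_ne_zero_of_two_eq_zero one_ne_zero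
    (Subtype.ext (AddMonoidHom.ext fun v => by
      rw [← one_add_one_eq_two]; exact hV2 v))
  -- the projections
  choose! p hp hpk hpA using fun w (hw : w ∈ wts) => h.exists_proj hV hw
  have hpwb : ∀ w ∈ wts, ∀ x y, w (b x y) = w (b (p w x : W) (p w y : W)) := by
    intro w hw x y
    have h1 := (h.hrad w _).mp (hp w hw x) y
    have h2 := (h.hrad w _).mp (hp w hw y) (p w x : W)
    rw [map_sub, AddMonoidHom.sub_apply, map_sub, sub_eq_zero] at h1
    rw [h.b_symm, map_sub, map_sub, sub_eq_zero] at h2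
    rw [h1, h2]
  have hA₀ : A₀ ^ (2 ^ m + 1) = 1 := by
    have key : ∀ (n : ℕ) (v : ↥V₀), (((A₀ ^ n) v : ↥V₀) : W) = A^[n] v := by
      intro n
      induction n with
      | zero => intro v; simp
      | succ n ih => intro v; rw [pow_succ', Function.iterate_succ_apply', ← ih]; rfl
    exact AddMonoidHom.ext fun v => Subtype.ext ((key _ v).trans (h.hA _))
  have exg : ∀ U : {U // IsNull A z b U}, ∀ w : {w // w ∈ wts},
      ∃ g : K, g ^ (2 ^ m + 1) = 1 ∧ ∀ u ∈ U.1, g.1 (p w₁ u) = p w.1 u := by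
    rintro ⟨U, hU⟩ ⟨w, hw⟩
    let f : ↥U →+ ↥V₀ := (p w₁).comp U.subtype
    have hf : Function.Bijective f := by
      refine (Nat.bijective_iff_injective_and_card f).mpr ⟨(injective_iff_map_eq_zero f).mpr fun u hu => Subtype.ext ?_, by rw [h.null_card hU hw, h.null_card hV hw]⟩
      have h1 : (u : W) ∈ U ⊓ rad w₁ := ⟨u.2, (hpk w₁ hw₁ u).mp hu⟩
      rwa [h.null_inf hU hw₁, AddSubgroup.mem_bot] at h1
    let g : AddMonoid.End ↥V₀ := ((p w).comp U.subtype).comp (AddEquiv.ofBijective f hf).symm.toAddMonoidHom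
    have hg : ∀ u : ↥U, g (f u) = p w u := fun u => congrArg (fun t : ↥U => p w t) ((AddEquiv.ofBijective f hf).symm_apply_apply u)
    have hgA : A₀ * g = g * A₀ := by
      refine AddMonoidHom.ext fun v => ?_
      obtain ⟨u, rfl⟩ := hf.2 v
      show A₀ (g (f u)) = g (A₀ (f u))
      rw [hg, show A₀ (f u) = f ⟨A u, hU.inv _ u.2⟩ from Subtype.ext (hpA w₁ hw₁ u).symm, hg]
      exact Subtype.ext (hpA w hw u).symm
    have hpow := pow_eq_one_of_form hV2 m A₀ g hgA hA₀ (fun x y => w₁ (b (x : W) (y : W)))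
      (fun x y t => by simp) (fun x y t => by simp)
      (fun y hy => Subtype.ext <| by
        by_contra hy0
        obtain ⟨j, hj⟩ := h.hns _ hy0
        have h1 := hy ⟨A^[j] y, h.iter_mem hV.inv y.2 j⟩
        rw [h.b_symm, (hV.val _ y.2 _ (h.iter_mem hV.inv y.2 j)).resolve_left hj, h.hodd w₁ hw₁] at h1
        exact one_ne_zero h1)
      (fun x y => congrArg w₁ (h.b_inv (x : W) (y : W)))
      (fun x y => by
        obtain ⟨u, rfl⟩ := hf.2 x
        obtain ⟨u', rfl⟩ := hf.2 y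
        rw [hg, hg, h.weight_val hV hw₁ hw (p w u).2 (p w u').2, ← hpwb w hw, h.weight_val hU hw hw₁ u.2 u'.2,
          hpwb w₁ hw₁]
        rfl)
      hirr
    exact ⟨⟨g, Subring.mem_centralizer_iff.mpr fun a ha => by rw [Set.mem_singleton_iff.mp ha]; exact hgA⟩,
      Subtype.ext hpow, fun u hu => hg ⟨u, hu⟩⟩
  choose g hg1 hg using exg
  -- a null subgroup is determined by its maps
  have hdet : ∀ {U U' : {U // IsNull A z b U}} (T : Set (P →+ ZMod 2)) (hT : T ⊆ wts),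
      (∀ x, (∀ t ∈ T, x ∈ rad t) → x ∈ rad w₁ → x = 0) → (∀ t (ht : t ∈ T), g U ⟨t, hT ht⟩ = g U' ⟨t, hT ht⟩) → U = U' := by
    intro U U' T hT hbot heq
    refine Subtype.ext (h.null_eq U.2 U'.2 fun u hu => ?_)
    have hfs : ∃ u' ∈ U'.1, p w₁ u' = p w₁ u := by
      let f : ↥U'.1 →+ ↥V₀ := (p w₁).comp U'.1.subtype
      have hf : Function.Bijective f := by
        refine (Nat.bijective_iff_injective_and_card f).mpr ⟨(injective_iff_map_eq_zero f).mpr fun u hu => Subtype.ext ?_, by rw [h.null_card U'.2 hw₁, h.null_card hV hw₁]⟩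
        have h1 : (u : W) ∈ U'.1 ⊓ rad w₁ := ⟨u.2, (hpk w₁ hw₁ u).mp hu⟩
        rwa [h.null_inf U'.2 hw₁, AddSubgroup.mem_bot] at h1
      obtain ⟨u', hu'⟩ := hf.2 (p w₁ u)
      exact ⟨u', u'.2, hu'⟩
    obtain ⟨u', hu', e⟩ := hfs
    have : u - u' = 0 := hbot _ (fun t ht => (hpk t (hT ht) _).mp (by
      rw [map_sub, ← hg U ⟨t, hT ht⟩ u hu, ← hg U' ⟨t, hT ht⟩ u' hu', heq t ht, e, sub_self]))
      ((hpk w₁ hw₁ _).mp (by rw [map_sub, e, sub_self]))
    rw [sub_eq_zero.mp this]; exact hu'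
  refine ⟨fun w hw hne12 hn1 hn2 hbot hW4 => ?_, fun w₃ hw₃ hbot => ?_, fun w₃ hw₃ w hw hn1 hn2 hn3 hbot hW6 => ?_⟩
  · let Φ : W →+ ↥V₀ × ↥V₀ := (p w₁).prod (p w₂)
    have hΦ : Function.Bijective Φ := by
      refine (Nat.bijective_iff_injective_and_card Φ).mpr ⟨(injective_iff_map_eq_zero Φ).mpr fun x hx => ?_, by
        rw [Nat.card_prod, h.null_card hV hw₁, hW4, ← pow_add]; congr 1; omega⟩
      have h1 : x ∈ rad w₁ ⊓ rad w₂ := ⟨(hpk w₁ hw₁ x).mp (congrArg Prod.fst hx), (hpk w₂ hw₂ x).mp (congrArg Prod.snd hx)⟩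
      rwa [hbot, AddSubgroup.mem_bot] at h1
    let e := AddEquiv.ofBijective Φ hΦ
    have hΦA : ∀ x, Φ (A x) = (A₀ (Φ x).1, A₀ (Φ x).2) := fun x =>
      Prod.ext (Subtype.ext (hpA w₁ hw₁ x)) (Subtype.ext (hpA w₂ hw₂ x))
    have hesymm : ∀ t : ↥V₀ × ↥V₀, e.symm (A₀ t.1, A₀ t.2) = A (e.symm t) := fun t => by
      apply e.injective
      rw [e.apply_symm_apply]
      exact ((hΦA _).trans (by rw [show Φ (e.symm t) = t from e.apply_symm_apply t])).symm
    let α : (↥V₀ →+ ↥V₀ × ↥V₀) → AddMonoid.End ↥V₀ := fun i => ((p w).comp e.symm.toAddMonoidHom).comp i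
    have hαA : ∀ i : ↥V₀ →+ ↥V₀ × ↥V₀, (∀ v, i (A₀ v) = (A₀ (i v).1, A₀ (i v).2)) → A₀ * α i = α i * A₀ := fun i hi => by
      refine AddMonoidHom.ext fun v => ?_
      show A₀ (p w (e.symm (i v))) = p w (e.symm (i (A₀ v)))
      rw [hi, hesymm]
      exact Subtype.ext (hpA w hw _).symm
    let α1 : K := ⟨α (AddMonoidHom.inl _ _), Subring.mem_centralizer_iff.mpr fun a ha => by
      rw [Set.mem_singleton_iff.mp ha]; exact hαA _ fun v => Prod.ext rfl (map_zero A₀).symm⟩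
    let α2 : K := ⟨α (AddMonoidHom.inr _ _), Subring.mem_centralizer_iff.mpr fun a ha => by
      rw [Set.mem_singleton_iff.mp ha]; exact hαA _ fun v => Prod.ext (map_zero A₀).symm rfl⟩
    have hrel : ∀ x, p w x = α1.1 (p w₁ x) + α2.1 (p w₂ x) := fun x => by
      show _ = p w (e.symm (p w₁ x, 0)) + p w (e.symm (0, p w₂ x))
      rw [← map_add, ← map_add, Prod.mk_add_mk, add_zero, zero_add]
      exact congrArg (p w) (e.symm_apply_apply x).symm
    have hle : ∀ t ∈ wts, w ≠ t → ¬ rad t ≤ rad w := fun t ht hne hle => h.rad_ne ht hw hne.symm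
      (AddSubgroup.eq_of_le_of_card_ge hle (Nat.eq_of_mul_eq_mul_right (Nat.two_pow_pos _) ((h.hrank w hw).trans (h.hrank t ht).symm)).le)
    have ha : α1 ≠ 0 := fun e0 => hle w₂ hw₂ hn2 fun x hx => (hpk w hw x).mp (by
      rw [hrel, (hpk w₂ hw₂ x).mpr hx, e0, map_zero, add_zero]; rfl)
    have hb : α2 ≠ 0 := fun e0 => hle w₁ hw₁ hn1 fun x hx => (hpk w hw x).mp (by
      rw [hrel, (hpk w₁ hw₁ x).mpr hx, e0, map_zero, zero_add]; rfl)
    refine le_trans (Nat.card_le_card_of_injective (fun U => (⟨g U ⟨w₂, hw₂⟩, hg1 U _, ?_⟩ :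
      {x : K // x ^ (2 ^ m + 1) = 1 ∧ (α1 + α2 * x) ^ (2 ^ m + 1) = 1})) ?_) (card_unit_affine m ha hb)
    · have e1 : g U ⟨w, hw⟩ = α1 + α2 * g U ⟨w₂, hw₂⟩ := by
        refine Subtype.ext (AddMonoidHom.ext fun v => ?_)
        have hex : ∃ u ∈ U.1, p w₁ u = v := by
          let f : ↥U.1 →+ ↥V₀ := (p w₁).comp U.1.subtype
          have hf : Function.Bijective f := by
            refine (Nat.bijective_iff_injective_and_card f).mpr ⟨(injective_iff_map_eq_zero f).mpr fun u hu => Subtype.ext ?_, by rw [h.null_card U.2 hw₁, h.null_card hV hw₁]⟩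
            have h1 : (u : W) ∈ U.1 ⊓ rad w₁ := ⟨u.2, (hpk w₁ hw₁ u).mp hu⟩
            rwa [h.null_inf U.2 hw₁, AddSubgroup.mem_bot] at h1
          obtain ⟨u, hu⟩ := hf.2 v
          exact ⟨u, u.2, hu⟩
        obtain ⟨u, hu, rfl⟩ := hex
        show (g U ⟨w, hw⟩).1 (p w₁ u) = α1.1 (p w₁ u) + α2.1 ((g U ⟨w₂, hw₂⟩).1 (p w₁ u))
        rw [hg U ⟨w, hw⟩ u hu, hg U ⟨w₂, hw₂⟩ u hu]
        exact hrel u
      rw [← e1]; exact hg1 U _
    · intro U U' e1
      refine hdet {w₂} (Set.singleton_subset_iff.mpr hw₂) (fun x hx hx1 => ?_) (fun t ht => ?_)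
      · have h1 : x ∈ rad w₁ ⊓ rad w₂ := ⟨hx1, hx w₂ rfl⟩
        rwa [hbot, AddSubgroup.mem_bot] at h1
      · obtain rfl := Set.mem_singleton_iff.mp ht
        exact congrArg Subtype.val e1
  · refine le_trans (Nat.card_le_card_of_injective (fun U => ((⟨g U ⟨w₂, hw₂⟩, hg1 U _⟩ : {x : K // x ^ (2 ^ m + 1) = 1}),
      (⟨g U ⟨w₃, hw₃⟩, hg1 U _⟩ : {x : K // x ^ (2 ^ m + 1) = 1}))) ?_) ?_
    · intro U U' e1
      refine hdet {w₂, w₃} (Set.insert_subset hw₂ (Set.singleton_subset_iff.mpr hw₃)) (fun x hx hx1 => ?_) (fun t ht => ?_)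
      · have h1 : x ∈ rad w₁ ⊓ rad w₂ ⊓ rad w₃ := ⟨⟨hx1, hx w₂ (Or.inl rfl)⟩, hx w₃ (Or.inr rfl)⟩
        rwa [hbot, AddSubgroup.mem_bot] at h1
      · rcases ht with rfl | rfl
        · exact congrArg Subtype.val (congrArg Prod.fst e1)
        · exact congrArg Subtype.val (congrArg Prod.snd e1)
    · rw [Nat.card_prod]
      exact Nat.mul_le_mul (card_pow_eq_one _ (Nat.succ_pos _)) (card_pow_eq_one _ (Nat.succ_pos _))
  · let Φ : W →+ ↥V₀ × ↥V₀ × ↥V₀ := (p w₁).prod ((p w₂).prod (p w₃))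
    have hΦ : Function.Bijective Φ := by
      refine (Nat.bijective_iff_injective_and_card Φ).mpr ⟨(injective_iff_map_eq_zero Φ).mpr fun x hx => ?_, by
        rw [Nat.card_prod, Nat.card_prod, h.null_card hV hw₁, hW6, ← pow_add, ← pow_add]; congr 1; omega⟩
      have h1 : x ∈ rad w₁ ⊓ rad w₂ ⊓ rad w₃ := ⟨⟨(hpk w₁ hw₁ x).mp (congrArg Prod.fst hx),
        (hpk w₂ hw₂ x).mp (congrArg (fun t : ↥V₀ × ↥V₀ × ↥V₀ => t.2.1) hx)⟩,
        (hpk w₃ hw₃ x).mp (congrArg (fun t : ↥V₀ × ↥V₀ × ↥V₀ => t.2.2) hx)⟩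
      rwa [hbot, AddSubgroup.mem_bot] at h1
    let e := AddEquiv.ofBijective Φ hΦ
    have hΦA : ∀ x, Φ (A x) = (A₀ (Φ x).1, A₀ (Φ x).2.1, A₀ (Φ x).2.2) := fun x =>
      Prod.ext (Subtype.ext (hpA w₁ hw₁ x)) (Prod.ext (Subtype.ext (hpA w₂ hw₂ x)) (Subtype.ext (hpA w₃ hw₃ x)))
    have hesymm : ∀ t : ↥V₀ × ↥V₀ × ↥V₀, e.symm (A₀ t.1, A₀ t.2.1, A₀ t.2.2) = A (e.symm t) := fun t => by
      apply e.injective
      rw [e.apply_symm_apply]
      exact ((hΦA _).trans (by rw [show Φ (e.symm t) = t from e.apply_symm_apply t])).symm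
    let α : (↥V₀ →+ ↥V₀ × ↥V₀ × ↥V₀) → AddMonoid.End ↥V₀ := fun i => ((p w).comp e.symm.toAddMonoidHom).comp i
    have hαA : ∀ i : ↥V₀ →+ ↥V₀ × ↥V₀ × ↥V₀, (∀ v, i (A₀ v) = (A₀ (i v).1, A₀ (i v).2.1, A₀ (i v).2.2)) →
        A₀ * α i = α i * A₀ := fun i hi => by
      refine AddMonoidHom.ext fun v => ?_
      show A₀ (p w (e.symm (i v))) = p w (e.symm (i (A₀ v)))
      rw [hi, hesymm]
      exact Subtype.ext (hpA w hw _).symm
    let α1 : K := ⟨α (AddMonoidHom.inl _ _), Subring.mem_centralizer_iff.mpr fun a ha => by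
      rw [Set.mem_singleton_iff.mp ha]
      exact hαA _ fun v => Prod.ext rfl (Prod.ext (map_zero A₀).symm (map_zero A₀).symm)⟩
    let α2 : K := ⟨α ((AddMonoidHom.inr _ _).comp (AddMonoidHom.inl _ _)), Subring.mem_centralizer_iff.mpr fun a ha => by
      rw [Set.mem_singleton_iff.mp ha]
      exact hαA _ fun v => Prod.ext (map_zero A₀).symm (Prod.ext rfl (map_zero A₀).symm)⟩
    let α3 : K := ⟨α ((AddMonoidHom.inr _ _).comp (AddMonoidHom.inr _ _)), Subring.mem_centralizer_iff.mpr fun a ha => by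
      rw [Set.mem_singleton_iff.mp ha]
      exact hαA _ fun v => Prod.ext (map_zero A₀).symm (Prod.ext (map_zero A₀).symm rfl)⟩
    have hrel : ∀ x, p w x = α1.1 (p w₁ x) + α2.1 (p w₂ x) + α3.1 (p w₃ x) := fun x => by
      show _ = p w (e.symm (p w₁ x, 0, 0)) + p w (e.symm (0, p w₂ x, 0)) + p w (e.symm (0, 0, p w₃ x))
      rw [← map_add, ← map_add, ← map_add, ← map_add]
      simp only [Prod.mk_add_mk, add_zero, zero_add]
      exact congrArg (p w) (e.symm_apply_apply x).symm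
    have hle : ∀ t ∈ wts, w ≠ t → ¬ rad t ≤ rad w := fun t ht hne hle => h.rad_ne ht hw hne.symm
      (AddSubgroup.eq_of_le_of_card_ge hle (Nat.eq_of_mul_eq_mul_right (Nat.two_pow_pos _) ((h.hrank w hw).trans (h.hrank t ht).symm)).le)
    have h23 : ¬ (α2 = 0 ∧ α3 = 0) := fun e0 => hle w₁ hw₁ hn1 fun x hx => (hpk w hw x).mp (by
      rw [hrel, (hpk w₁ hw₁ x).mpr hx, e0.1, e0.2, map_zero]
      show (0 : ↥V₀) + 0 + 0 = 0
      simp)
    have h13 : ¬ (α1 = 0 ∧ α3 = 0) := fun e0 => hle w₂ hw₂ hn2 fun x hx => (hpk w hw x).mp (by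
      rw [hrel, (hpk w₂ hw₂ x).mpr hx, e0.1, e0.2, map_zero]
      show (0 : ↥V₀) + 0 + 0 = 0
      simp)
    have h12 : ¬ (α1 = 0 ∧ α2 = 0) := fun e0 => hle w₃ hw₃ hn3 fun x hx => (hpk w hw x).mp (by
      rw [hrel, (hpk w₃ hw₃ x).mpr hx, e0.1, e0.2, map_zero]
      show (0 : ↥V₀) + 0 + 0 = 0
      simp)
    have e1 : ∀ U, g U ⟨w, hw⟩ = α1 + α2 * g U ⟨w₂, hw₂⟩ + α3 * g U ⟨w₃, hw₃⟩ := by
      intro U
      refine Subtype.ext (AddMonoidHom.ext fun v => ?_)
      have hex : ∃ u ∈ U.1, p w₁ u = v := by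
        let f : ↥U.1 →+ ↥V₀ := (p w₁).comp U.1.subtype
        have hf : Function.Bijective f := by
          refine (Nat.bijective_iff_injective_and_card f).mpr ⟨(injective_iff_map_eq_zero f).mpr fun u hu => Subtype.ext ?_, by rw [h.null_card U.2 hw₁, h.null_card hV hw₁]⟩
          have h1 : (u : W) ∈ U.1 ⊓ rad w₁ := ⟨u.2, (hpk w₁ hw₁ u).mp hu⟩
          rwa [h.null_inf U.2 hw₁, AddSubgroup.mem_bot] at h1
        obtain ⟨u, hu⟩ := hf.2 v
        exact ⟨u, u.2, hu⟩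
      obtain ⟨u, hu, rfl⟩ := hex
      show (g U ⟨w, hw⟩).1 (p w₁ u) = α1.1 (p w₁ u) + α2.1 ((g U ⟨w₂, hw₂⟩).1 (p w₁ u)) + α3.1 ((g U ⟨w₃, hw₃⟩).1 (p w₁ u))
      rw [hg U ⟨w, hw⟩ u hu, hg U ⟨w₂, hw₂⟩ u hu, hg U ⟨w₃, hw₃⟩ u hu]
      exact hrel u
    have hinj : ∀ U U', g U ⟨w₂, hw₂⟩ = g U' ⟨w₂, hw₂⟩ → g U ⟨w₃, hw₃⟩ = g U' ⟨w₃, hw₃⟩ → U = U' := by
      intro U U' e2 e3
      refine hdet {w₂, w₃} (Set.insert_subset hw₂ (Set.singleton_subset_iff.mpr hw₃)) (fun x hx hx1 => ?_) (fun t ht => ?_)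
      · have h1 : x ∈ rad w₁ ⊓ rad w₂ ⊓ rad w₃ := ⟨⟨hx1, hx w₂ (Or.inl rfl)⟩, hx w₃ (Or.inr rfl)⟩
        rwa [hbot, AddSubgroup.mem_bot] at h1
      · rcases ht with rfl | rfl
        · exact e2
        · exact e3
    by_cases hb2 : α2 = 0
    · refine le_trans (Nat.card_le_card_of_injective (fun U => (⟨(g U ⟨w₃, hw₃⟩, g U ⟨w₂, hw₂⟩), hg1 U _, hg1 U _, by
        have := hg1 U ⟨w, hw⟩
        rw [e1] at this
        rwa [add_right_comm]⟩ : {x : K × K // x.1 ^ (2 ^ m + 1) = 1 ∧ x.2 ^ (2 ^ m + 1) = 1 ∧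
          (α1 + α3 * x.1 + α2 * x.2) ^ (2 ^ m + 1) = 1})) (fun U U' e2 => ?_))
        (card_unit_affine₂ m (fun e3 => h23 ⟨hb2, e3⟩) (Or.inl fun e0 => h12 ⟨e0, hb2⟩))
      exact hinj U U' (congrArg (fun x => (Subtype.val x).2) e2) (congrArg (fun x => (Subtype.val x).1) e2)
    · refine le_trans (Nat.card_le_card_of_injective (fun U => (⟨(g U ⟨w₂, hw₂⟩, g U ⟨w₃, hw₃⟩), hg1 U _, hg1 U _, by
        have := hg1 U ⟨w, hw⟩
        rw [e1] at this
        exact this⟩ : {x : K × K // x.1 ^ (2 ^ m + 1) = 1 ∧ x.2 ^ (2 ^ m + 1) = 1 ∧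
          (α1 + α2 * x.1 + α3 * x.2) ^ (2 ^ m + 1) = 1})) (fun U U' e2 => ?_))
        (card_unit_affine₂ m hb2 (by
          by_contra hno
          push Not at hno
          exact h13 hno))
      exact hinj U U' (congrArg (fun x => (Subtype.val x).1) e2) (congrArg (fun x => (Subtype.val x).2) e2)

end SingHyp

end Cfsg.Agent.Invol.Shult
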