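import Mathlib
import Cfsg.Agent.Lib.Invol.Shult.SingularCount
import Cfsg.Agent.Lib.Invol.Shult.SingularNull

/-!
A singular vector outside the null subgroups.
-/

set_option autoImplicit false

namespace Cfsg.Agent.Invol.Shult

theorem pow_two_le_of_dvd {l s t : ℕ} (ht : Odd t) (h : 2 ^ l ∣ 2 ^ s * t) : l ≤ s :=
  (Nat.pow_dvd_pow_iff_le_right Nat.one_lt_two).mp
    (((Nat.coprime_two_left.mpr ht).pow_left l).dvd_of_dvd_mul_right h)

theorem dvd_two_pow_two_mul (m : ℕ) : 2 ^ m + 1 ∣ 2 ^ (2 * m) - 1 := by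
  refine ⟨2 ^ m - 1, ?_⟩
  rw [two_mul, pow_add]
  have := Nat.one_le_two_pow (n := m)
  zify [this, Nat.one_le_iff_ne_zero.mpr (Nat.mul_ne_zero (Nat.two_pow_pos m).ne' (Nat.two_pow_pos m).ne')]
  ring

namespace SingHyp

variable {W P : Type*} [AddCommGroup W] [Finite W] [AddCommGroup P] [Finite P] {m l : ℕ} {A : W →+ W} {z : P}
  {q : W → P} {b : W →+ W →+ P} {rad : (P →+ ZMod 2) → AddSubgroup W} {wts : Set (P →+ ZMod 2)}
  (h : SingHyp m l A z q b rad wts)
include h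

omit [Finite W] in
theorem l_le_of_separated {n : ℕ} (F : Fin n → (P →+ ZMod 2)) (hF : ∀ w ∈ wts, ∃ i, w = F i) : l + 1 ≤ n := by
  let f : P →+ (Fin n → ZMod 2) := AddMonoidHom.mk' (fun x i => F i x) (fun x y => funext fun i => map_add _ _ _)
  have hf : Function.Injective f := (injective_iff_map_eq_zero f).mpr fun x hx => by
    by_contra hx0
    obtain ⟨w, hw, hwx⟩ := h.hsepP x hx0
    obtain ⟨i, rfl⟩ := hF w hw
    exact hwx (congrFun hx i)
  have h1 := Nat.card_le_card_of_injective _ hf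
  rw [h.hP, Nat.card_fun, Nat.card_zmod, Nat.card_fin] at h1
  exact (Nat.pow_le_pow_iff_right Nat.one_lt_two).mp h1

/-- A singular vector whose orbit is not null, or the exceptional case. -/
theorem exists_singular_of_hyp :
    ∃ v : W, v ≠ 0 ∧ (q v = 0 ∨ q v = z) ∧
      ((∃ j : ℕ, b v (A^[j] v) ≠ 0 ∧ b v (A^[j] v) ≠ z) ∨
        (m = 1 ∧ Nat.card W = 2 ^ 6 ∧ Nat.card P = 2 ^ 4)) := by
  classical
  haveI := Fintype.ofFinite W
  by_contra hcon
  have hex : ∀ v : W, v ≠ 0 → (q v = 0 ∨ q v = z) →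
      (∀ j : ℕ, b v (A^[j] v) = 0 ∨ b v (A^[j] v) = z) ∧ ¬ (m = 1 ∧ Nat.card W = 2 ^ 6 ∧ Nat.card P = 2 ^ 4) := by
    intro v hv hs
    refine ⟨fun j => ?_, fun he => hcon ⟨v, hv, hs, Or.inr he⟩⟩
    by_contra hno
    push Not at hno
    exact hcon ⟨v, hv, hs, Or.inl ⟨j, hno⟩⟩
  obtain ⟨w₁, hw₁, -⟩ := h.hsepP z h.hz
  obtain ⟨C, hC⟩ : ∃ C, C = Nat.card {x : W // q x = 0 ∨ q x = z} := ⟨_, rfl⟩
  obtain ⟨n, hn⟩ : ∃ n, n = Nat.card {U // IsNull A z b U} := ⟨_, rfl⟩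
  obtain ⟨d, hd⟩ : ∃ d, d = 2 ^ (2 * m) := ⟨_, rfl⟩
  -- the null subgroups cover the singular vectors
  have hcover : C ≤ 1 + n * (d - 1) := by
    haveI : Fintype {U // IsNull A z b U} := Fintype.ofFinite _
    rw [hC, hn, Nat.card_eq_fintype_card, Fintype.card_subtype, Nat.card_eq_fintype_card]
    let F : {U // IsNull A z b U} → Finset W := fun U => Finset.univ.filter fun x => x ∈ U.1 ∧ x ≠ 0
    refine le_trans (Finset.card_le_card (t := {0} ∪ Finset.univ.biUnion F) fun x hx => ?_) ?_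
    · rcases eq_or_ne x 0 with rfl | hx0
      · simp
      · obtain ⟨U, hU, hxU⟩ := h.exists_null hx0 (hex x hx0 (Finset.mem_filter.mp hx).2).1
        exact Finset.mem_union_right _ (Finset.mem_biUnion.mpr ⟨⟨U, hU⟩, Finset.mem_univ _, Finset.mem_filter.mpr ⟨Finset.mem_univ _, hxU, hx0⟩⟩)
    · refine (Finset.card_union_le _ _).trans (Nat.add_le_add (Finset.card_singleton _).le ?_)
      refine Finset.card_biUnion_le.trans ((Finset.sum_le_card_nsmul _ _ (d - 1) fun U _ => ?_).trans (le_of_eq (by rw [Finset.card_univ, smul_eq_mul])))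
      have h1 : F U = (Finset.univ.filter fun x => x ∈ U.1).erase 0 := by
        ext x; simp [F, and_comm]
      rw [h1, Finset.card_erase_of_mem (by simp [U.1.zero_mem])]
      refine Nat.sub_le_sub_right (le_of_eq ?_) 1
      rw [hd, ← h.null_card U.2 hw₁, Nat.card_eq_fintype_card, Fintype.card_subtype]
  have hcount := h.count
  rw [← hC, ← hd] at hcount
  have hd4 : 4 ≤ d := hd ▸ (Nat.pow_le_pow_right (by norm_num) (by have := h.hm; omega) : 2 ^ 2 ≤ 2 ^ (2 * m))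
  obtain ⟨L, hL⟩ : ∃ L, L = 2 ^ l := ⟨_, rfl⟩
  rw [← hL] at hcount
  have hL4 : 4 ≤ L := hL ▸ (Nat.pow_le_pow_right (by norm_num) h.hl2 : 2 ^ 2 ≤ 2 ^ l)
  -- there is a nonzero singular vector, hence a null subgroup
  have hC1 : 2 ≤ C := by
    by_contra hlt
    have hW1 : 1 ≤ Nat.card W := Nat.card_pos
    have hWd : d ≤ Nat.card W := by
      rw [hd, ← h.hrank w₁ hw₁]; exact Nat.le_mul_of_pos_left _ Nat.card_pos
    have h1 : L * C * d ≤ L * d := Nat.mul_le_mul_right _ (by nlinarith)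
    obtain ⟨L', rfl⟩ : ∃ L', L = L' + 1 := ⟨L - 1, by omega⟩
    rw [hcount, Nat.add_sub_cancel] at h1
    nlinarith
  obtain ⟨V₀, hV₀⟩ : ∃ U, IsNull A z b U := by
    obtain ⟨⟨v, hv⟩, hv0⟩ : ∃ v : {x : W // q x = 0 ∨ q x = z}, v.1 ≠ 0 := by
      by_contra hno
      push Not at hno
      haveI : Subsingleton {x : W // q x = 0 ∨ q x = z} := ⟨fun x y => Subtype.ext ((hno x).trans (hno y).symm)⟩
      have := (Finite.card_le_one_iff_subsingleton (α := {x : W // q x = 0 ∨ q x = z})).mpr inferInstance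
      omega
    obtain ⟨U, hU, -⟩ := h.exists_null hv0 (hex v hv0 hv).1
    exact ⟨U, hU⟩
  have hmc : m = 1 ∨ 4 ≤ 2 ^ m := by
    rcases Nat.lt_or_ge m 2 with h1 | h1
    · exact Or.inl (by have := h.hm; omega)
    · exact Or.inr ((Nat.pow_le_pow_right (by norm_num) h1).trans' (by norm_num))
  obtain ⟨u₁, hu₁, u₂, hu₂, h12, hcase⟩ := h.structure_cases
  obtain ⟨b2, b9, b3⟩ := h.null_bounds hV₀ hu₁ hu₂
  have hdl : l ≠ 2 * m := fun e => h.hl (e ▸ dvd_two_pow_two_mul m)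
  rcases hcase with ⟨hbot, hW4⟩ | ⟨u₃, hu₃, -, -, hbot, hW6, -⟩
  · obtain ⟨w, hw, hn1, hn2⟩ : ∃ w ∈ wts, w ≠ u₁ ∧ w ≠ u₂ := by
      by_contra hno
      push Not at hno
      have := h.l_le_of_separated ![u₁, u₂] fun w hw => by
        by_cases e : w = u₁
        · exact ⟨0, e⟩
        · exact ⟨1, hno w hw e⟩
      have := h.hl2; omega
    have hn2' : n ≤ 2 := hn ▸ b2 w hw h12 hn1 hn2 hbot hW4
    have hWd : Nat.card W = d * d := by rw [hW4, hd, ← pow_add]; congr 1; omega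
    rw [hWd] at hcount
    have hcount' : L * C = d * (d + L - 1) := by
      refine Nat.eq_of_mul_eq_mul_right (by omega : 0 < d) ?_
      rw [hcount, show d + L - 1 = d + (L - 1) by omega]; ring
    have hle : l ≤ 2 * m := by
      refine pow_two_le_of_dvd (t := d + L - 1) ?_ ⟨C, by rw [← hd, ← hL]; exact hcount'.symm⟩
      have e1 : Even (d + L) := by
        rw [hd, hL]
        exact ((Nat.even_pow' (by have := h.hm; omega)).mpr even_two).add ((Nat.even_pow' (by have := h.hl2; omega)).mpr even_two)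
      exact Nat.Even.sub_odd (by omega) e1 odd_one
    have hlt : L < d := by rw [hL, hd]; exact Nat.pow_lt_pow_right (by norm_num) (lt_of_le_of_ne hle hdl)
    have h1 : C ≤ 1 + 2 * (d - 1) := hcover.trans (Nat.add_le_add_left (Nat.mul_le_mul_right _ hn2') 1)
    obtain ⟨d', rfl⟩ : ∃ d', d = d' + 1 := ⟨d - 1, by omega⟩
    obtain ⟨L', rfl⟩ : ∃ L', L = L' + 1 := ⟨L - 1, by omega⟩
    rw [Nat.add_sub_cancel] at h1
    rw [show d' + 1 + (L' + 1) - 1 = d' + 1 + L' by omega] at hcount'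
    nlinarith [Nat.mul_le_mul_left (L' + 1) h1]
  · have hWd : Nat.card W = d * d * d := by rw [hW6, hd, ← pow_add, ← pow_add]; congr 1; omega
    rw [hWd] at hcount
    have hcount' : L * C = d * d * (d + L - 1) := by
      refine Nat.eq_of_mul_eq_mul_right (by omega : 0 < d) ?_
      rw [hcount, show d + L - 1 = d + (L - 1) by omega]; ring
    have hle : l ≤ 4 * m := by
      refine pow_two_le_of_dvd (t := d + L - 1) ?_ ⟨C, ?_⟩
      · have e1 : Even (d + L) := by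
          rw [hd, hL]
          exact ((Nat.even_pow' (by have := h.hm; omega)).mpr even_two).add ((Nat.even_pow' (by have := h.hl2; omega)).mpr even_two)
        exact Nat.Even.sub_odd (by omega) e1 odd_one
      · rw [show 4 * m = 2 * m + 2 * m by omega, pow_add, ← hd, ← hL]; exact hcount'.symm
    have hdt : d = 2 ^ m * 2 ^ m := by rw [hd, ← pow_add]; congr 1; omega
    obtain ⟨d', rfl⟩ : ∃ d', d = d' + 1 := ⟨d - 1, by omega⟩
    obtain ⟨L', rfl⟩ : ∃ L', L = L' + 1 := ⟨L - 1, by omega⟩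
    rw [show d' + 1 + (L' + 1) - 1 = d' + 1 + L' by omega] at hcount'
    rw [Nat.add_sub_cancel] at hcover
    by_cases hfour : ∃ w ∈ wts, w ≠ u₁ ∧ w ≠ u₂ ∧ w ≠ u₃
    · obtain ⟨w, hw, e1, e2, e3⟩ := hfour
      rcases hmc with rfl | hm2
      · -- the exceptional case
        obtain ⟨⟨v, hv⟩, hv0⟩ : ∃ v : {x : W // q x = 0 ∨ q x = z}, v.1 ≠ 0 := by
          by_contra hno
          push Not at hno
          haveI : Subsingleton {x : W // q x = 0 ∨ q x = z} := ⟨fun x y => Subtype.ext ((hno x).trans (hno y).symm)⟩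
          have := (Finite.card_le_one_iff_subsingleton (α := {x : W // q x = 0 ∨ q x = z})).mpr inferInstance
          omega
        refine (hex v hv0 hv).2 ⟨rfl, hW6, ?_⟩
        rw [h.hP]
        have := h.hl2
        have hl' := h.hl
        interval_cases l <;> simp_all
      · have hb := hn ▸ b3 u₃ hu₃ w hw e1 e2 e3 hbot hW6
        have h1 : C ≤ 1 + 3 * (2 ^ m + 1) * d' := hcover.trans (Nat.add_le_add_left (Nat.mul_le_mul_right _ hb) 1)
        have h15 : 3 * (2 ^ m + 1) < d' + 1 + 1 := by nlinarith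
        have h2 := Nat.mul_le_mul_left (L' + 1) h1
        rw [hcount'] at h2
        nlinarith [Nat.mul_le_mul_left ((L' + 1) * d') h15.le]
    · push Not at hfour
      have := h.l_le_of_separated ![u₁, u₂, u₃] fun w hw => by
        by_cases e : w = u₁
        · exact ⟨0, e⟩
        by_cases e' : w = u₂
        · exact ⟨1, e'⟩
        exact ⟨2, hfour w hw e e'⟩
      have hl2 : l = 2 := by have := h.hl2; omega
      rcases hmc with rfl | hm2
      · exact hdl hl2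
      · subst hl2
        obtain rfl : L' = 3 := by omega
        have hb := hn ▸ b9 u₃ hu₃ hbot
        have h1 : C ≤ 1 + (2 ^ m + 1) * (2 ^ m + 1) * d' := hcover.trans (Nat.add_le_add_left (Nat.mul_le_mul_right _ hb) 1)
        obtain ⟨t, ht⟩ : ∃ t, t = 2 ^ m := ⟨_, rfl⟩
        rw [← ht] at hdt hm2 h1
        have h2 := Nat.mul_le_mul_left (3 + 1) h1
        rw [hcount'] at h2
        nlinarith [Nat.mul_le_mul_left (d' * d') hm2, Nat.mul_le_mul hm2 hm2, Nat.mul_le_mul_left d' (Nat.mul_le_mul hm2 hm2)]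

end SingHyp

/-- Singular vectors for a family of rank one weights with all even forms of rank two. -/
theorem exists_singular {W P : Type*} [AddCommGroup W] [Finite W] [AddCommGroup P] [Finite P]
    (hW2 : ∀ x : W, x + x = 0) (hP2 : ∀ x : P, x + x = 0)
    (m l : ℕ) (hl2 : 2 ≤ l) (hr : (2 ^ m + 1).Prime) (hm : 1 ≤ m)
    (A : W →+ W) (hA : ∀ x, A^[2 ^ m + 1] x = x) (hfpf : ∀ x, A x = x → x = 0)
    (z : P) (hz : z ≠ 0) (hP : Nat.card P = 2 ^ (l + 1)) (hl : ¬ 2 ^ m + 1 ∣ 2 ^ l - 1)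
    (q : W → P) (b : W →+ W →+ P) (hb : ∀ x y, q (x + y) = q x + q y + b x y)
    (hqA : ∀ x, q (A x) = q x)
    (rad : (P →+ ZMod 2) → AddSubgroup W) (hrad : ∀ (μ : P →+ ZMod 2) x, x ∈ rad μ ↔ ∀ y, μ (b x y) = 0)
    (wts : Set (P →+ ZMod 2)) (hodd : ∀ w ∈ wts, w z = 1)
    (hrank : ∀ w ∈ wts, Nat.card (rad w) * 2 ^ (2 * m) = Nat.card W)
    (hsepW : ∀ x : W, x ≠ 0 → ∃ w ∈ wts, x ∉ rad w)
    (hsepP : ∀ x : P, x ≠ 0 → ∃ w ∈ wts, w x ≠ 0)
    (heven : ∀ μ : P →+ ZMod 2, μ ≠ 0 → μ z = 0 → Nat.card (rad μ) * 2 ^ (4 * m) = Nat.card W)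
    (hns : ∀ v : W, v ≠ 0 → ∃ j : ℕ, b v (A^[j] v) ≠ 0) :
    ∃ v : W, v ≠ 0 ∧ (q v = 0 ∨ q v = z) ∧
      ((∃ j : ℕ, b v (A^[j] v) ≠ 0 ∧ b v (A^[j] v) ≠ z) ∨
        (m = 1 ∧ Nat.card W = 2 ^ 6 ∧ Nat.card P = 2 ^ 4)) :=
  (show SingHyp m l A z q b rad wts from
    ⟨hW2, hP2, hl2, hr, hm, hA, hfpf, hz, hP, hl, hb, hqA, hrad, hodd, hrank, hsepW, hsepP, heven, hns⟩).exists_singular_of_hyp

end Cfsg.Agent.Invol.Shult
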