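import Mathlib
import Cfsg.Agent.Lib.Invol.Shult.Good

/-!
An additive model of `E/E'` and `E'` and the action of `N(E)` on the characters of `E'`.
-/

set_option autoImplicit false

namespace Cfsg.Agent.Invol.Shult

open Subgroup
open scoped Pointwise commutatorElement

universe u

/-- A set of characters stable under a group transitive outside `K` and containing one nonzero character
trivial on `K` contains all of them. -/
theorem dual_full {P : Type*} [AddCommGroup P] [Finite P] (K : Set P) (O : Set (P →+ ZMod 2))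
    (hK : ∀ ν ∈ O, ∀ k ∈ K, ν k = 0) {μ : P →+ ZMod 2} (hμO : μ ∈ O) (hμ : μ ≠ 0)
    (htr : ∀ u v, u ∉ K → v ∉ K → ∃ σ : P →+ P, Function.Surjective σ ∧ (∀ ν ∈ O, ν.comp σ ∈ O) ∧ σ u - v ∈ K)
    {lam : P →+ ZMod 2} (h0 : lam ≠ 0) (hlK : ∀ k ∈ K, lam k = 0) : lam ∈ O := by
  classical
  haveI := Fintype.ofFinite P
  haveI : Finite (P →+ ZMod 2) := Finite.of_injective _ DFunLike.coe_injective
  haveI := Fintype.ofFinite (P →+ ZMod 2)
  let s : ZMod 2 → ℤ := fun x => if x = 0 then 1 else -1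
  have hs : ∀ x y : ZMod 2, s (x + y) = s x * s y := by decide
  have hself : ∀ x : ZMod 2, x + x = 0 := by decide
  have horth : ∀ η : P →+ ZMod 2, ∑ v, s (η v) = if η = 0 then (Fintype.card P : ℤ) else 0 := by
    intro η
    split_ifs with e
    · simp [e, s]
    · obtain ⟨v₀, hv₀⟩ : ∃ v, η v ≠ 0 := by
        by_contra hc
        push Not at hc
        exact e (AddMonoidHom.ext hc)
      have hv1 : η v₀ = 1 := by
        revert hv₀; generalize η v₀ = t; revert t; decide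
      have h1 : ∑ v, s (η (v + v₀)) = ∑ v, s (η v) :=
        Fintype.sum_equiv (Equiv.addRight v₀) _ _ fun v => rfl
      simp only [map_add, hs, hv1, ← Finset.sum_mul] at h1
      have h2 : s 1 = -1 := by decide
      rw [h2] at h1
      linarith
  let F : P → ℤ := fun v => ∑ ν ∈ O.toFinset, s (ν v)
  have hconst : ∀ u v, u ∉ K → v ∉ K → F u = F v := by
    intro u v hu hv
    obtain ⟨σ, hσ, hO, huv⟩ := htr u v hu hv
    have hinj : Set.InjOn (fun ν : P →+ ZMod 2 => ν.comp σ) O.toFinset := by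
      intro x _ y _ e
      ext w
      obtain ⟨w', rfl⟩ := hσ w
      exact DFunLike.congr_fun e w'
    have himg : O.toFinset.image (fun ν => ν.comp σ) = O.toFinset := by
      refine Finset.eq_of_subset_of_card_le (fun x hx => ?_) (Finset.card_image_of_injOn hinj).ge
      obtain ⟨ν, hν, rfl⟩ := Finset.mem_image.mp hx
      exact Set.mem_toFinset.mpr (hO ν (Set.mem_toFinset.mp hν))
    calc F u = ∑ ν ∈ O.toFinset.image (fun ν => ν.comp σ), s (ν u) := by rw [himg]
      _ = ∑ ν ∈ O.toFinset, s (ν (σ u)) := Finset.sum_image hinj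
      _ = F v := Finset.sum_congr rfl fun ν hν => by
          have h1 := hK ν (Set.mem_toFinset.mp hν) _ huv
          rw [map_sub, sub_eq_zero] at h1
          rw [h1]
  obtain ⟨c, hc⟩ : ∃ c, ∀ v, v ∉ K → F v = c := by
    by_cases h : ∃ v, v ∉ K
    · obtain ⟨v₀, hv₀⟩ := h; exact ⟨F v₀, fun v hv => hconst v v₀ hv hv₀⟩
    · exact ⟨0, fun v hv => absurd ⟨v, hv⟩ h⟩
  have hleft : ∀ η : P →+ ZMod 2, ∑ v, F v * s (η v) = if η ∈ O then (Fintype.card P : ℤ) else 0 := by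
    intro η
    simp only [F, Finset.sum_mul]
    rw [Finset.sum_comm]
    simp only [← hs, ← AddMonoidHom.add_apply, horth]
    have : ∀ ν : P →+ ZMod 2, ν + η = 0 ↔ ν = η := fun ν => by
      refine ⟨fun e => AddMonoidHom.ext fun v => ?_, fun e => ?_⟩
      · have h1 := DFunLike.congr_fun e v
        simp only [AddMonoidHom.add_apply, AddMonoidHom.zero_apply] at h1
        exact CharTwo.add_eq_zero.mp h1
      · ext v; simp [e, hself]
    simp only [this, Finset.sum_ite_eq', Set.mem_toFinset]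
  have hright : ∀ η : P →+ ZMod 2, η ≠ 0 → (∀ k ∈ K, η k = 0) →
      ∑ v, F v * s (η v) = ∑ v, if v ∈ K then (O.toFinset.card : ℤ) - c else 0 := by
    intro η hη hηK
    calc ∑ v, F v * s (η v) = ∑ v, (c * s (η v) + if v ∈ K then (O.toFinset.card : ℤ) - c else 0) := by
          refine Finset.sum_congr rfl fun v _ => ?_
          by_cases hv : v ∈ K
          · have hF : F v = O.toFinset.card := by
              simp only [F]
              rw [Finset.sum_congr rfl fun ν hν => show s (ν v) = 1 by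
                rw [hK ν (Set.mem_toFinset.mp hν) v hv]; simp [s]]
              simp
            rw [if_pos hv, hF, hηK v hv]
            simp [s]
          · rw [if_neg hv, hc v hv, add_zero]
      _ = _ := by rw [Finset.sum_add_distrib, ← Finset.mul_sum, horth, if_neg hη, mul_zero, zero_add]
  have h1 := (hleft lam).symm.trans ((hright lam h0 hlK).trans ((hright μ hμ (hK μ hμO)).symm.trans (hleft μ)))
  rw [if_pos hμO] at h1
  by_contra hc'
  rw [if_neg hc'] at h1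
  exact Fintype.card_ne_zero (α := P) (by exact_mod_cast h1.symm)

/-- Additive versions of `E/E'` and `E'`. -/
structure Model {X : Type*} [Group X] (a : X) (E : Subgroup X) (W P : Type*) [AddCommGroup W]
    [AddCommGroup P] where
  π : X → W
  ι : X → P
  π_mul : ∀ x ∈ E, ∀ y ∈ E, π (x * y) = π x + π y
  π_eq : ∀ x ∈ E, π x = 0 ↔ x ∈ fx E a
  π_surj : ∀ w, ∃ x ∈ E, π x = w
  ι_mul : ∀ x ∈ fx E a, ∀ y ∈ fx E a, ι (x * y) = ι x + ι y
  ι_eq : ∀ x ∈ fx E a, ι x = 0 ↔ x = 1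
  ι_surj : ∀ u, ∃ x ∈ fx E a, ι x = u

namespace Model

variable {X : Type*} [Group X] {a : X} {E : Subgroup X} {W P : Type*} [AddCommGroup W] [AddCommGroup P]
  (M : Model a E W P)

theorem π_one : M.π 1 = 0 := (M.π_eq 1 E.one_mem).mpr (one_mem _)

theorem π_inv {x : X} (hx : x ∈ E) : M.π x⁻¹ = -M.π x :=
  eq_neg_of_add_eq_zero_left (by rw [← M.π_mul _ (E.inv_mem hx) _ hx, inv_mul_cancel, M.π_one])

theorem π_eq_iff {x y : X} (hx : x ∈ E) (hy : y ∈ E) : M.π x = M.π y ↔ x⁻¹ * y ∈ fx E a := by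
  rw [← M.π_eq _ (E.mul_mem (E.inv_mem hx) hy), M.π_mul _ (E.inv_mem hx) _ hy, M.π_inv hx, neg_add_eq_zero]

theorem ι_one : M.ι 1 = 0 := (M.ι_eq 1 (one_mem _)).mpr rfl

theorem ι_inv {x : X} (hx : x ∈ fx E a) : M.ι x⁻¹ = -M.ι x :=
  eq_neg_of_add_eq_zero_left (by rw [← M.ι_mul _ (inv_mem hx) _ hx, inv_mul_cancel, M.ι_one])

theorem ι_inj {x y : X} (hx : x ∈ fx E a) (hy : y ∈ fx E a) (e : M.ι x = M.ι y) : x = y := by
  refine inv_mul_eq_one.mp ((M.ι_eq _ (mul_mem (inv_mem hx) hy)).mp ?_)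
  rw [M.ι_mul _ (inv_mem hx) _ hy, M.ι_inv hx, e, neg_add_cancel]

/-- The kernel of a character inside `E'`. -/
def kerX (μ : P →+ ZMod 2) : Subgroup X where
  carrier := {x | x ∈ fx E a ∧ μ (M.ι x) = 0}
  one_mem' := ⟨one_mem _, by rw [M.ι_one, map_zero]⟩
  mul_mem' := fun {x y} hx hy => ⟨mul_mem hx.1 hy.1, by rw [M.ι_mul _ hx.1 _ hy.1, map_add, hx.2, hy.2, add_zero]⟩
  inv_mem' := fun {x} hx => ⟨inv_mem hx.1, by rw [M.ι_inv hx.1, map_neg, hx.2, neg_zero]⟩

theorem mem_kerX {μ : P →+ ZMod 2} {x : X} : x ∈ M.kerX μ ↔ x ∈ fx E a ∧ μ (M.ι x) = 0 := Iff.rfl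

theorem kerX_le {μ : P →+ ZMod 2} : M.kerX μ ≤ fx E a := fun _ hx => hx.1

include M in
theorem finite [Finite X] : Finite W ∧ Finite P :=
  ⟨Finite.of_surjective M.π fun w => ⟨_, (M.π_surj w).choose_spec.2⟩,
    Finite.of_surjective M.ι fun u => ⟨_, (M.ι_surj u).choose_spec.2⟩⟩

include M in
theorem card_P : Nat.card P = Nat.card (fx E a) := by
  refine (Nat.card_congr (Equiv.ofBijective (fun x : ↥(fx E a) => M.ι x) ⟨fun x y e => ?_, fun u => ?_⟩)).symm
  · exact Subtype.ext (M.ι_inj x.2 y.2 e)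
  · obtain ⟨x, hx, rfl⟩ := M.ι_surj u; exact ⟨⟨x, hx⟩, rfl⟩

theorem card_preimage [Finite X] (S : AddSubgroup W) (R : Subgroup X) (hR : R ≤ E)
    (hmem : ∀ x ∈ E, x ∈ R ↔ M.π x ∈ S) : Nat.card R = Nat.card S * Nat.card (fx E a) := by
  let f : ↥R →* Multiplicative ↥S :=
    { toFun := fun x => Multiplicative.ofAdd ⟨M.π x, (hmem _ (hR x.2)).mp x.2⟩
      map_one' := congrArg Multiplicative.ofAdd (Subtype.ext M.π_one)
      map_mul' := fun x y => congrArg Multiplicative.ofAdd (Subtype.ext (M.π_mul _ (hR x.2) _ (hR y.2))) }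
  have hf : Function.Surjective f := fun w => by
    obtain ⟨x, hx, e⟩ := M.π_surj (Multiplicative.toAdd w : ↥S)
    exact ⟨⟨x, (hmem x hx).mpr (e ▸ (Multiplicative.toAdd w).2)⟩, congrArg Multiplicative.ofAdd (Subtype.ext e)⟩
  have hker : f.ker = (fx E a).subgroupOf R := by
    ext x
    rw [MonoidHom.mem_ker, Subgroup.mem_subgroupOf, ← M.π_eq _ (hR x.2)]
    exact ⟨fun e => congrArg Subtype.val (congrArg Multiplicative.toAdd e),
      fun e => congrArg Multiplicative.ofAdd (Subtype.ext e)⟩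
  have hle : fx E a ≤ R := fun x hx => (hmem x (fx_le hx)).mpr (by rw [(M.π_eq x (fx_le hx)).mpr hx]; exact S.zero_mem)
  rw [← f.ker.card_mul_index, Subgroup.index_ker, MonoidHom.range_eq_top.mpr hf, Subgroup.card_top,
    Nat.card_congr Multiplicative.toAdd, hker, Nat.card_congr (Subgroup.subgroupOfEquivOfLe hle).toEquiv, mul_comm]

include M in
theorem card_E [Finite X] : Nat.card E = Nat.card W * Nat.card (fx E a) := by
  rw [M.card_preimage ⊤ E le_rfl fun x hx => ⟨fun _ => trivial, fun _ => hx⟩, AddSubgroup.card_top]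

/-- A map on `E` constant on cosets of `E'` descends. -/
theorem exists_lift {C : Sort*} (g : X → C) (hg : ∀ x ∈ E, ∀ z ∈ fx E a, g (x * z) = g x) :
    ∃ f : W → C, ∀ x ∈ E, f (M.π x) = g x := by
  choose s hs hπ using M.π_surj
  refine ⟨fun w => g (s w), fun x hx => ?_⟩
  have h1 := (M.π_eq_iff hx (hs (M.π x))).mp (hπ _).symm
  have h2 := hg x hx _ h1
  rwa [mul_inv_cancel_left] at h2

end Model

namespace Setup

variable {X : Type u} [Group X] [Finite X] {a : X} {p r m : ℕ} [Fact p.Prime] {G V E : Subgroup X}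
  (h : Setup p r m a G V E)
include h

theorem exists_model : ∃ (W P : Type u) (_ : AddCommGroup W) (_ : AddCommGroup P), Nonempty (Model a E W P) := by
  classical
  haveI hN : ((fx E a).subgroupOf E).Normal := ⟨fun x hx g => by
    have e : ((g * x * g⁻¹ : ↥E) : X) = x := by
      simp only [Subgroup.coe_mul, Subgroup.coe_inv]
      rw [← h.qgrp.fixed_central (show (x : X) ∈ fx E a from hx) g.2, mul_inv_cancel_right]
    rw [Subgroup.mem_subgroupOf, e]; exact hx⟩
  let _ : CommGroup (↥E ⧸ (fx E a).subgroupOf E) :=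
    { (inferInstance : Group (↥E ⧸ (fx E a).subgroupOf E)) with
      mul_comm := fun x y => by
        induction x using QuotientGroup.induction_on with
        | H x =>
          induction y using QuotientGroup.induction_on with
          | H y =>
            refine QuotientGroup.eq.mpr (Subgroup.mem_subgroupOf.mpr ?_)
            have h1 := h.qgrp.comm_mem (E.inv_mem y.2) (E.inv_mem x.2)
            simpa [commutatorElement_def, mul_assoc] using h1 }
  let _ : CommGroup ↥(fx E a) :=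
    { (inferInstance : Group ↥(fx E a)) with
      mul_comm := fun x y => Subtype.ext (h.qgrp.fixed_central x.2 (fx_le y.2)) }
  refine ⟨Additive (↥E ⧸ (fx E a).subgroupOf E), Additive ↥(fx E a), inferInstance, inferInstance, ⟨{
    π := fun x => if hx : x ∈ E then Additive.ofMul (QuotientGroup.mk ⟨x, hx⟩) else 0
    ι := fun x => if hx : x ∈ fx E a then Additive.ofMul ⟨x, hx⟩ else 0
    π_mul := ?_, π_eq := ?_, π_surj := ?_, ι_mul := ?_, ι_eq := ?_, ι_surj := ?_ }⟩⟩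
  · intro x hx y hy
    simp only [dif_pos hx, dif_pos hy, dif_pos (E.mul_mem hx hy)]
    rfl
  · intro x hx
    simp only [dif_pos hx]
    rw [show (0 : Additive (↥E ⧸ (fx E a).subgroupOf E)) = Additive.ofMul 1 from rfl, Equiv.apply_eq_iff_eq,
      QuotientGroup.eq_one_iff, Subgroup.mem_subgroupOf]
  · intro w
    induction (Additive.toMul w) using QuotientGroup.induction_on generalizing w
    exact ⟨_, (Quotient.out (Additive.toMul w)).2, by
      simp only [dif_pos (Quotient.out (Additive.toMul w)).2]; exact congrArg Additive.ofMul (Quotient.out_eq _)⟩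
  · intro x hx y hy
    simp only [dif_pos hx, dif_pos hy, dif_pos (mul_mem hx hy)]
    rfl
  · intro x hx
    simp only [dif_pos hx]
    rw [show (0 : Additive ↥(fx E a)) = Additive.ofMul 1 from rfl, Equiv.apply_eq_iff_eq]
    exact ⟨congrArg Subtype.val, fun e => Subtype.ext e⟩
  · intro u
    exact ⟨_, (Additive.toMul u).2, by simp only [dif_pos (Additive.toMul u).2]; rfl⟩

theorem IsWeight.smul {D : Subgroup X} (hD : IsWeight a V E D) {n : X} (hn : n ∈ G ⊓ normalizer (E : Set X)) :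
    IsWeight a V E (MulAut.conj n • D) := by
  have hΦ := smul_eq_of_le_norm (h.norm_fixed' hn.2)
  refine ⟨hΦ ▸ Subgroup.pointwise_smul_le_pointwise_smul_iff.mpr hD.1, ?_, ?_⟩
  · conv_lhs => rw [← hΦ]
    rw [← hD.2.1]
    exact Subgroup.relIndex_pointwise_smul _ _ _
  · intro hle
    refine hD.2.2 fun v hv => Subgroup.mem_centralizer_iff.mpr fun x hx => ?_
    have hm : n * v * n⁻¹ ∈ V ⊓ centralizer ((MulAut.conj n • D : Subgroup X) : Set X) := by
      refine ⟨conj_mem (h.cfg.normG hn.1) hv.1, Subgroup.mem_centralizer_iff.mpr fun y hy => ?_⟩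
      have h1 := Subgroup.mem_centralizer_iff.mp hv.2 _ (mem_smul_iff'.mp hy)
      calc y * (n * v * n⁻¹) = n * ((n⁻¹ * y * n) * v) * n⁻¹ := by group
        _ = n * (v * (n⁻¹ * y * n)) * n⁻¹ := by rw [h1]
        _ = n * v * n⁻¹ * y := by group
    have h2 := Subgroup.mem_centralizer_iff.mp (hle hm) _ (conj_mem (h.norm_fixed' hn.2) hx)
    calc x * v = n⁻¹ * ((n * x * n⁻¹) * (n * v * n⁻¹)) * n := by group
      _ = n⁻¹ * ((n * v * n⁻¹) * (n * x * n⁻¹)) * n := by rw [h2]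
      _ = v * x := by group

theorem rad_smul {D : Subgroup X} {n : X} (hn : n ∈ normalizer (E : Set X)) :
    rad E (MulAut.conj n • D) = MulAut.conj n • rad E D := by
  ext x
  rw [mem_smul_iff', h.qgrp.mem_rad, h.qgrp.mem_rad]
  refine and_congr ?_ ⟨fun hx y hy => ?_, fun hx y hy => ?_⟩
  · exact Subgroup.mem_normalizer_iff''.mp hn x
  · have h1 := mem_smul_iff'.mp (hx _ (conj_mem hn hy))
    rw [show n⁻¹ * ⁅x, n * y * n⁻¹⁆ * n = ⁅n⁻¹ * x * n, y⁆ by simp only [commutatorElement_def]; group] at h1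
    exact h1
  · rw [mem_smul_iff', show n⁻¹ * ⁅x, y⁆ * n = ⁅n⁻¹ * x * n, n⁻¹ * y * n⁆ by
      simp only [commutatorElement_def]; group]
    exact hx _ (conj_le_of_norm hn hy)

/-- Two weights with different radicals. -/
theorem two_weights (hk : Nat.card E ≠ 2 ^ (2 * m) * Nat.card (fx E a)) :
    ∃ D₁ D₂, IsWeight a V E D₁ ∧ IsWeight a V E D₂ ∧ rad E D₁ ≠ rad E D₂ := by
  by_contra hno
  push Not at hno
  obtain ⟨D, hD⟩ := h.exists_isWeight
  refine hk ?_
  rw [h.weight_card hD, le_antisymm (fun x hx => h.mem_fixed_of_rad (h.qgrp.rad_le hx) fun D' hD' =>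
    hno D D' hD hD' ▸ hx) h.qgrp.fixed_le_rad]

theorem rad_norm {D : Subgroup X} (hD : IsWeight a V E D) : a ∈ normalizer ((rad E D : Subgroup X) : Set X) := by
  refine mem_normalizer_of_conj_le fun x hx => ?_
  rw [h.qgrp.mem_rad] at hx ⊢
  refine ⟨conj_mem h.norm_E hx.1, fun y hy => ?_⟩
  have hy' : a⁻¹ * y * a ∈ E := conj_le_of_norm h.norm_E hy
  have e : ⁅a * x * a⁻¹, y⁆ = a * ⁅x, a⁻¹ * y * a⁆ * a⁻¹ := by simp only [commutatorElement_def]; group
  rw [e, (mem_fx'.mp (hD.1 (hx.2 _ hy'))).2]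
  exact hx.2 _ hy'

/-- The radical of the sum of two weights with different radicals. -/
theorem rad_add {W P : Type*} [AddCommGroup W] [AddCommGroup P] (M : Model a E W P) {w₁ w₂ : P →+ ZMod 2}
    (h₁ : IsWeight a V E (M.kerX w₁)) (h₂ : IsWeight a V E (M.kerX w₂))
    (hne : rad E (M.kerX w₁) ≠ rad E (M.kerX w₂)) :
    Nat.card E = 2 ^ (4 * m) * Nat.card (rad E (M.kerX (w₁ + w₂))) := by
  set R₁ := rad E (M.kerX w₁) with hR₁
  set R₂ := rad E (M.kerX w₂) with hR₂
  have hn : R₁ ≤ normalizer (R₂ : Set X) := h.qgrp.rad_le.trans h.rad_normal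
  have c1 := h.weight_card h₁
  have c2 := h.weight_card h₂
  have hsup : R₁ ⊔ R₂ = E := by
    refine (h.qgrp.eq_of_rad_le h.hrm c2 le_sup_right (sup_le h.qgrp.rad_le h.qgrp.rad_le)
      (mem_normalizer_sup (h.rad_norm h₁) (h.rad_norm h₂))).resolve_left fun e => hne ?_
    refine Subgroup.eq_of_le_of_card_ge (le_sup_left.trans e.le) ?_
    exact (Nat.eq_of_mul_eq_mul_left (Nat.two_pow_pos _) (c2.symm.trans c1)).le
  have hrad : rad E (M.kerX (w₁ + w₂)) = R₁ ⊓ R₂ := by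
    refine le_antisymm (fun x hx => ?_) fun x hx => ?_
    · obtain ⟨hxE, hx'⟩ := h.qgrp.mem_rad.mp hx
      have key : ∀ y ∈ E, w₁ (M.ι ⁅x, y⁆) = 0 := by
        intro y hy
        rw [← hsup, sup_comm] at hy
        obtain ⟨t, ht, s, hs, rfl⟩ := mem_sup_of_normalizes hn hy
        obtain ⟨hsE, hs'⟩ := h.qgrp.mem_rad.mp hs
        obtain ⟨htE, ht'⟩ := h.qgrp.mem_rad.mp ht
        have a1 := (hs' x hxE).2
        have a2 := (ht' x hxE).2
        have a3 := (hx' t htE).2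
        rw [AddMonoidHom.add_apply] at a3
        have e : ∀ y ∈ E, ⁅x, y⁆ = ⁅y, x⁆⁻¹ := fun y _ => (commutatorElement_inv y x).symm
        rw [e t htE, M.ι_inv (h.qgrp.comm_mem htE hxE), map_neg, map_neg, a2, neg_zero, add_zero] at a3
        rw [h.qgrp.comm_mul_right hxE htE hsE, M.ι_mul _ (h.qgrp.comm_mem hxE htE) _ (h.qgrp.comm_mem hxE hsE),
          map_add, e t htE, e s hsE, M.ι_inv (h.qgrp.comm_mem htE hxE), M.ι_inv (h.qgrp.comm_mem hsE hxE),
          map_neg, map_neg, a1, neg_zero, add_zero]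
        exact a3
      refine ⟨h.qgrp.mem_rad.mpr ⟨hxE, fun y hy => ⟨(hx' y hy).1, key y hy⟩⟩,
        h.qgrp.mem_rad.mpr ⟨hxE, fun y hy => ⟨(hx' y hy).1, ?_⟩⟩⟩
      have := (hx' y hy).2
      rwa [AddMonoidHom.add_apply, key y hy, zero_add] at this
    · refine h.qgrp.mem_rad.mpr ⟨h.qgrp.rad_le hx.1, fun y hy => ?_⟩
      have a1 := (h.qgrp.mem_rad.mp hx.1).2 y hy
      have a2 := (h.qgrp.mem_rad.mp hx.2).2 y hy
      exact ⟨a1.1, by rw [AddMonoidHom.add_apply, a1.2, a2.2, add_zero]⟩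
  have hc := Grp.card_sup_mul_card_inf hn
  rw [hsup, ← hrad] at hc
  have h3 : Nat.card E * Nat.card (rad E (M.kerX (w₁ + w₂))) * 2 ^ (4 * m) = Nat.card E * Nat.card E := by
    rw [hc]
    nth_rw 1 [c1]
    nth_rw 1 [c2]
    rw [show 4 * m = 2 * m + 2 * m by omega, pow_add]; ring
  rw [mul_assoc] at h3
  rw [← Nat.eq_of_mul_eq_mul_left Nat.card_pos h3, mul_comm]

/-- Every hyperplane of `E'` is the kernel of a character. -/
theorem exists_char {W P : Type*} [AddCommGroup W] [AddCommGroup P] (M : Model a E W P) {D : Subgroup X}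
    (hD : D ≤ fx E a) (hi : D.relIndex (fx E a) = 2) : ∃ μ : P →+ ZMod 2, M.kerX μ = D := by
  classical
  choose s hs hι using M.ι_surj
  have hadd : ∀ u v, s (u + v) = s u * s v := fun u v =>
    M.ι_inj (hs _) (mul_mem (hs u) (hs v)) (by rw [hι, M.ι_mul _ (hs u) _ (hs v), hι, hι])
  refine ⟨AddMonoidHom.mk' (fun u => if s u ∈ D then 0 else 1) fun u v => ?_, ?_⟩
  · have h2 := Subgroup.mul_mem_iff_of_index_two hi (a := ⟨s u, hs u⟩) (b := ⟨s v, hs v⟩)
    simp only [Subgroup.mem_subgroupOf, Subgroup.coe_mul] at h2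
    rw [hadd]
    by_cases hu : s u ∈ D <;> by_cases hv : s v ∈ D <;> simp [h2, hu, hv] <;> decide
  · ext x
    rw [M.mem_kerX]
    simp only [AddMonoidHom.mk'_apply]
    refine ⟨fun ⟨hx, e⟩ => ?_, fun hx => ⟨hD hx, ?_⟩⟩
    · rw [M.ι_inj (hs _) hx (hι _)] at e
      by_contra hc
      rw [if_neg hc] at e
      exact one_ne_zero e
    · rw [M.ι_inj (hs _) (hD hx) (hι _), if_pos hx]

/-- Transitivity on `E'/Z₀` carries over to its characters. -/
theorem even_full {W P : Type*} [AddCommGroup W] [AddCommGroup P] (M : Model a E W P)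
    (htr : ∀ f f', InJ a G E f → InJ a G E f' →
      ∃ n ∈ G ⊓ normalizer (E : Set X), f'⁻¹ * (n * f * n⁻¹) ∈ cen a G E)
    (Q : Subgroup X → Prop) (hQ : ∀ n ∈ G ⊓ normalizer (E : Set X), ∀ D, Q D → Q (MulAut.conj n • D))
    {μ : P →+ ZMod 2} (hμ : μ ≠ 0) (hμz : ∀ z ∈ cen a G E, μ (M.ι z) = 0) (hμQ : Q (M.kerX μ))
    {lam : P →+ ZMod 2} (h0 : lam ≠ 0) (hlz : ∀ z ∈ cen a G E, lam (M.ι z) = 0) : Q (M.kerX lam) := by
  haveI : Finite P := M.finite.2
  refine (dual_full (P := P) {u | ∃ z ∈ cen a G E, M.ι z = u}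
    {ν | (∀ z ∈ cen a G E, ν (M.ι z) = 0) ∧ Q (M.kerX ν)} ?_ ⟨hμz, hμQ⟩ hμ ?_ h0 ?_).2
  · rintro ν ⟨hν, -⟩ _ ⟨z, hz, rfl⟩; exact hν z hz
  · intro u v hu hv
    obtain ⟨f, hf, rfl⟩ := M.ι_surj u
    obtain ⟨f', hf', rfl⟩ := M.ι_surj v
    obtain ⟨n, hn, hz⟩ := htr f f' ⟨hf, fun hc => hu ⟨f, hc, rfl⟩⟩ ⟨hf', fun hc => hv ⟨f', hc, rfl⟩⟩
    have hnΦ := h.norm_fixed' hn.2
    choose s hs hι using M.ι_surj
    have hσ : ∀ x ∈ fx E a, M.ι (n * s (M.ι x) * n⁻¹) = M.ι (n * x * n⁻¹) := fun x hx => by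
      rw [M.ι_inj (hs _) hx (hι _)]
    let σ : P →+ P := AddMonoidHom.mk' (fun w => M.ι (n * s w * n⁻¹)) fun w w' => by
      rw [← M.ι_mul _ (conj_mem hnΦ (hs w)) _ (conj_mem hnΦ (hs w')),
        show n * s w * n⁻¹ * (n * s w' * n⁻¹) = n * (s w * s w') * n⁻¹ by group,
        ← hσ _ (mul_mem (hs w) (hs w')), M.ι_mul _ (hs w) _ (hs w'), hι, hι]
    have hσ' : ∀ x ∈ fx E a, σ (M.ι x) = M.ι (n * x * n⁻¹) := hσ
    refine ⟨σ, fun w => ?_, ?_, ?_⟩
    · obtain ⟨x, hx, rfl⟩ := M.ι_surj w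
      refine ⟨M.ι (n⁻¹ * x * n), ?_⟩
      rw [hσ' _ (conj_le_of_norm hnΦ hx)]
      congr 1; group
    · rintro ν ⟨hν, hνQ⟩
      refine ⟨fun z hz' => ?_, ?_⟩
      · rw [AddMonoidHom.comp_apply, hσ' _ hz'.1, h.cen_conj_eq hz' hn.1]; exact hν z hz'
      · have e : M.kerX (ν.comp σ) = MulAut.conj n⁻¹ • M.kerX ν := by
          ext x
          rw [mem_smul_iff', inv_inv, M.mem_kerX, M.mem_kerX]
          constructor
          · rintro ⟨hx, e⟩
            rw [AddMonoidHom.comp_apply, hσ' _ hx] at e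
            exact ⟨conj_mem hnΦ hx, e⟩
          · rintro ⟨hx, e⟩
            have hx' : x ∈ fx E a := (Subgroup.mem_normalizer_iff.mp hnΦ x).mpr hx
            exact ⟨hx', by rw [AddMonoidHom.comp_apply, hσ' _ hx']; exact e⟩
        rw [e]
        exact hQ _ (inv_mem hn) _ hνQ
    · refine ⟨f'⁻¹ * (n * f * n⁻¹), hz, ?_⟩
      rw [hσ' _ hf, M.ι_mul _ (inv_mem hf') _ (conj_mem hnΦ hf), M.ι_inv hf', sub_eq_neg_add]
  · rintro _ ⟨z, hz, rfl⟩; exact hlz z hz

/-- Elements of order a power of an odd prime dividing the number of noncentral elements. -/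
theorem exists_qelem {H : Subgroup X} (hH : H ≤ G ⊓ normalizer (E : Set X)) {q : ℕ} [Fact q.Prime] (hq2 : q ≠ 2)
    (hdvd : q ∣ Nat.card (fx E a) - Nat.card (cen a G E)) {f : X} (hf : InJ a G E f)
    (htr : ∀ f', InJ a G E f' → ∃ n ∈ H, f'⁻¹ * (n * f * n⁻¹) ∈ cen a G E) :
    ∃ n ∈ H, (∃ k, n ^ q ^ k = 1) ∧ n * f ≠ f * n := by
  classical
  let C := ↥H × ↥(cen a G E)
  let _ : MulAction C X :=
    { smul := fun g x => (g.1 : X) * x * (g.1 : X)⁻¹ * g.2
      one_smul := fun x => by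
        show ((1 : ↥H) : X) * x * ((1 : ↥H) : X)⁻¹ * ((1 : ↥(cen a G E)) : X) = x
        simp
      mul_smul := fun g g' x => by
        show ((g.1 * g'.1 : ↥H) : X) * x * ((g.1 * g'.1 : ↥H) : X)⁻¹ * ((g.2 * g'.2 : ↥(cen a G E)) : X) =
          (g.1 : X) * ((g'.1 : X) * x * (g'.1 : X)⁻¹ * g'.2) * (g.1 : X)⁻¹ * g.2
        have h1 := h.cen_conj_eq g'.2.2 (hH g.1.2).1
        have h2 := h.cen_central g.2.2 (h.fx_le_G g'.2.2.1)
        simp only [Subgroup.coe_mul, mul_inv_rev]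
        calc (g.1 : X) * g'.1 * x * ((g'.1 : X)⁻¹ * (g.1 : X)⁻¹) * ((g.2 : X) * g'.2)
            = (g.1 : X) * g'.1 * x * ((g'.1 : X)⁻¹ * (g.1 : X)⁻¹) * ((g'.2 : X) * g.2) := by rw [h2]
          _ = (g.1 : X) * g'.1 * x * ((g'.1 : X)⁻¹ * (g.1 : X)⁻¹) *
              (((g.1 : X) * g'.2 * (g.1 : X)⁻¹) * g.2) := by rw [h1]
          _ = _ := by group }
  have horb : MulAction.orbit C f = (fx E a : Set X) \ (cen a G E : Set X) := by
    ext u
    constructor
    · rintro ⟨g, rfl⟩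
      show (g.1 : X) * f * (g.1 : X)⁻¹ * g.2 ∈ _
      refine ⟨mul_mem (conj_mem (h.norm_fixed' (hH g.1.2).2) hf.1) g.2.2.1, fun hc => hf.2 ?_⟩
      have h1 := (mul_mem_cancel_right g.2.2).mp hc
      have h2 := h.cen_conj_eq h1 (G.inv_mem (hH g.1.2).1)
      rw [← h2] at h1
      simpa [mul_assoc] using h1
    · intro hu
      obtain ⟨n, hn, hz⟩ := htr u ⟨hu.1, hu.2⟩
      refine ⟨(⟨n, hn⟩, ⟨_, inv_mem hz⟩), ?_⟩
      show n * f * n⁻¹ * (u⁻¹ * (n * f * n⁻¹))⁻¹ = u
      group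
  have hcard : q ∣ (MulAction.stabilizer C f).index := by
    rw [MulAction.index_stabilizer, horb,
      Set.ncard_diff (show (cen a G E : Set X) ⊆ (fx E a : Set X) from fun x hx => hx.1)]
    exact hdvd
  obtain ⟨P⟩ := (inferInstance : Nonempty (Sylow q C))
  by_contra hno
  push Not at hno
  refine P.not_dvd_index (hcard.trans (Subgroup.index_dvd_of_le fun g hg => ?_))
  obtain ⟨k, hk⟩ := P.2 ⟨g, hg⟩
  have hk' : g ^ q ^ k = 1 := congrArg Subtype.val hk
  have hz1 : (g.2 : X) = 1 := by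
    have e2 : (g.2 : X) ^ 2 = 1 := by rw [sq]; exact h.fixed_invol g.2.2.1
    have e3 : (g.2 : X) ^ q ^ k = 1 := congrArg (fun c : C => (c.2 : X)) hk'
    have h5 := pow_gcd_eq_one.mpr ⟨e2, e3⟩
    rwa [((Nat.coprime_primes Nat.prime_two (Fact.out : q.Prime)).mpr (Ne.symm hq2)).pow_right k |>.gcd_eq_one,
      pow_one] at h5
  have h1 := hno _ g.1.2 ⟨k, congrArg (fun c : C => (c.1 : X)) hk'⟩
  rw [MulAction.mem_stabilizer_iff]
  show (g.1 : X) * f * (g.1 : X)⁻¹ * g.2 = f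
  rw [hz1, mul_one, h1, mul_inv_cancel_right]

end Setup

end Cfsg.Agent.Invol.Shult
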