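import Mathlib
import Cfsg.Agent.Lib.Invol.Shult.Singular
import Cfsg.Agent.Lib.Invol.Shult.SingularModel

/-!
A singular vector of `E/E'` when `N(E)` is transitive on `E'/Z₀`.
-/

set_option autoImplicit false

namespace Cfsg.Agent.Invol.Shult

open Subgroup
open scoped Pointwise commutatorElement

theorem zmod_two_eq_one : ∀ {t : ZMod 2}, t ≠ 0 → t = 1 := by decide

theorem zmod_two_one_add_one : (1 : ZMod 2) + 1 = 0 := by decide

namespace Setup

variable {X : Type*} [Group X] [Finite X] {a : X} {p r m : ℕ} [Fact p.Prime] {G V E : Subgroup X}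
  (h : Setup p r m a G V E)
include h

theorem card_cen_le {z : X} (hz : z ∈ cen a G E) (hz1 : z ≠ 1) : Nat.card (cen a G E) = 2 := by
  have e : (cen a G E : Set X) = {1, z} := by
    ext w
    simp only [SetLike.mem_coe, Set.mem_insert_iff, Set.mem_singleton_iff]
    refine ⟨fun hw => or_iff_not_imp_left.mpr fun hw1 => h.cen_eq_of_ne_one hw hw1 hz hz1, ?_⟩
    rintro (rfl | rfl)
    · exact one_mem _
    · exact hz
  rw [← SetLike.coe_sort_coe, Nat.card_coe_set_eq, e, Set.ncard_pair (Ne.symm hz1)]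

theorem kerX_ne_zero {W P : Type*} [AddCommGroup W] [AddCommGroup P] (M : Model a E W P) {w : P →+ ZMod 2}
    (hw : IsWeight a V E (M.kerX w)) : w ≠ 0 := by
  intro e
  have h1 := hw.2.1
  rw [le_antisymm M.kerX_le (fun x hx => ⟨hx, by rw [e]; rfl⟩), Subgroup.relIndex_self] at h1
  omega

/-- A singular vector outside `E'`, not generating a null subgroup unless in the exceptional case. -/
theorem exists_singular_vector (hk : Nat.card E ≠ 2 ^ (2 * m) * Nat.card (fx E a))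
    (hl : 4 * Nat.card (cen a G E) ≤ Nat.card (fx E a))
    (htr : ∀ f f', InJ a G E f → InJ a G E f' →
      ∃ n ∈ G ⊓ normalizer (E : Set X), f'⁻¹ * (n * f * n⁻¹) ∈ cen a G E) :
    ∃ y ∈ E, y ∉ fx E a ∧ y ^ 2 ∈ cen a G E ∧
      ((∃ j : ℕ, ⁅a ^ j * y * (a ^ j)⁻¹, y⁆ ∉ cen a G E) ∨
        (8 * Nat.card (cen a G E) ≤ Nat.card (fx E a) ∧ ∃ f f', InJ a G E f ∧ InJ a G E f' ∧
          ∀ n ∈ G ⊓ normalizer (E : Set X), y⁻¹ * (n * y * n⁻¹) ∈ fx E a →
            f'⁻¹ * (n * f * n⁻¹) ∉ cen a G E)) := by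
  classical
  haveI := Fact.mk Nat.prime_two
  haveI := Fact.mk h.act.prime
  obtain ⟨W, P, iW, iP, ⟨M⟩⟩ := h.exists_model
  haveI : Finite W := M.finite.1
  haveI : Finite P := M.finite.2
  have hmp := h.m_pos
  obtain ⟨D₁, D₂, hD₁, hD₂, hne⟩ := h.two_weights hk
  obtain ⟨w₁, rfl⟩ := h.exists_char M hD₁.1 hD₁.2.1
  obtain ⟨w₂, rfl⟩ := h.exists_char M hD₂.1 hD₂.2.1
  have hsum0 : w₁ + w₂ ≠ 0 := fun e => hne (by
    have : w₁ = w₂ := AddMonoidHom.ext fun v => by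
      have h1 := DFunLike.congr_fun e v
      simp only [AddMonoidHom.add_apply, AddMonoidHom.zero_apply] at h1
      exact CharTwo.add_eq_zero.mp h1
    rw [this])
  have hadd := h.rad_add M hD₁ hD₂ hne
  -- the central element
  obtain ⟨z₀, hz₀, hz₀1⟩ : ∃ z ∈ cen a G E, z ≠ 1 := by
    by_contra hno
    push Not at hno
    have hev : ∀ μ : P →+ ZMod 2, ∀ z ∈ cen a G E, μ (M.ι z) = 0 := fun μ z hz => by
      rw [hno z hz, M.ι_one, map_zero]
    have h3 := h.weight_card (h.even_full M htr (IsWeight a V E) (fun n hn D hD => IsWeight.smul h hD hn)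
      (h.kerX_ne_zero M hD₁) (hev w₁) hD₁ hsum0 (hev _))
    rw [hadd] at h3
    have h4 := Nat.pow_right_injective le_rfl (Nat.eq_of_mul_eq_mul_right Nat.card_pos h3)
    omega
  have hc2 := h.card_cen_le hz₀ hz₀1
  have hcen : ∀ w ∈ cen a G E, w = 1 ∨ w = z₀ := fun w hw =>
    or_iff_not_imp_left.mpr fun hw1 => h.cen_eq_of_ne_one hw hw1 hz₀ hz₀1
  obtain ⟨k, hk2⟩ := IsPGroup.iff_card.mp (h.isTwo_E.to_le (fx_le (H := E) (a := a)))
  have hk3 : 3 ≤ k := by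
    rw [hc2, hk2] at hl
    exact (Nat.pow_le_pow_iff_right Nat.one_lt_two).mp (show 2 ^ 3 ≤ 2 ^ k from hl)
  obtain ⟨l, rfl⟩ : ∃ l, k = l + 1 := ⟨k - 1, by omega⟩
  obtain ⟨f₀, hf₀⟩ : ∃ f, InJ a G E f := by
    by_contra hno
    have : Nat.card (fx E a) ≤ Nat.card (cen a G E) := Subgroup.card_le_of_le fun x hx => by
      by_contra hx'; exact hno ⟨x, hx, hx'⟩
    omega
  -- commutators and squares modulo `E'`
  have hcf : ∀ x ∈ E, ∀ y ∈ E, ∀ φ ∈ fx E a, ∀ ψ ∈ fx E a, ⁅x * φ, y * ψ⁆ = ⁅x, y⁆ := by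
    intro x hx y hy φ hφ ψ hψ
    rw [h.qgrp.comm_mul_right (E.mul_mem hx (fx_le hφ)) hy (fx_le hψ), h.qgrp.comm_mul_left hx (fx_le hφ) hy,
      commutatorElement_eq_one_iff_mul_comm.mpr (h.qgrp.fixed_central hφ hy),
      commutatorElement_eq_one_iff_mul_comm.mpr (h.qgrp.fixed_central hψ (E.mul_mem hx (fx_le hφ))).symm,
      mul_one, mul_one]
  choose s hs hπs using M.π_surj
  let b0 : W → W → P := fun u v => M.ι ⁅s u, s v⁆
  have hb0 : ∀ x ∈ E, ∀ y ∈ E, b0 (M.π x) (M.π y) = M.ι ⁅x, y⁆ := fun x hx y hy => by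
    have h1 := (M.π_eq_iff hx (hs _)).mp (hπs _).symm
    have h2 := (M.π_eq_iff hy (hs _)).mp (hπs _).symm
    have h3 := hcf x hx y hy _ h1 _ h2
    rw [mul_inv_cancel_left, mul_inv_cancel_left] at h3
    simp only [b0, h3]
  let b : W →+ W →+ P := AddMonoidHom.mk' (fun u => AddMonoidHom.mk' (b0 u) fun v v' => by
      rw [← hπs u, ← hπs v, ← hπs v', ← M.π_mul _ (hs v) _ (hs v'), hb0 _ (hs u) _ (E.mul_mem (hs v) (hs v')),
        hb0 _ (hs u) _ (hs v), hb0 _ (hs u) _ (hs v'), h.qgrp.comm_mul_right (hs u) (hs v) (hs v'),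
        M.ι_mul _ (h.qgrp.comm_mem (hs u) (hs v)) _ (h.qgrp.comm_mem (hs u) (hs v'))])
    fun u u' => AddMonoidHom.ext fun v => by
      simp only [AddMonoidHom.add_apply, AddMonoidHom.mk'_apply]
      rw [← hπs u, ← hπs u', ← hπs v, ← M.π_mul _ (hs u) _ (hs u'), hb0 _ (E.mul_mem (hs u) (hs u')) _ (hs v),
        hb0 _ (hs u) _ (hs v), hb0 _ (hs u') _ (hs v), h.qgrp.comm_mul_left (hs u) (hs u') (hs v),
        M.ι_mul _ (h.qgrp.comm_mem (hs u) (hs v)) _ (h.qgrp.comm_mem (hs u') (hs v))]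
  have hbπ : ∀ x ∈ E, ∀ y ∈ E, b (M.π x) (M.π y) = M.ι ⁅x, y⁆ := hb0
  obtain ⟨q, hq⟩ := M.exists_lift (fun x => M.ι (x ^ 2)) fun x hx z hz => by
    congr 1
    calc (x * z) ^ 2 = x * (z * x) * z := by rw [sq]; group
      _ = x * (x * z) * z := by rw [h.qgrp.fixed_central hz hx]
      _ = x ^ 2 * (z * z) := by simp only [sq, mul_assoc]
      _ = x ^ 2 := by rw [h.fixed_invol hz, mul_one]
  obtain ⟨A0, hA0⟩ := M.exists_lift (fun x => M.π (a * x * a⁻¹)) fun x hx z hz => by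
    rw [show a * (x * z) * a⁻¹ = (a * x * a⁻¹) * (a * z * a⁻¹) by group, (mem_fx'.mp hz).2,
      M.π_mul _ (conj_mem h.norm_E hx) _ (fx_le hz), (M.π_eq _ (fx_le hz)).mpr hz, add_zero]
  let A : W →+ W := AddMonoidHom.mk' A0 fun u v => by
    rw [← hπs u, ← hπs v, ← M.π_mul _ (hs u) _ (hs v), hA0 _ (E.mul_mem (hs u) (hs v)), hA0 _ (hs u),
      hA0 _ (hs v), ← M.π_mul _ (conj_mem h.norm_E (hs u)) _ (conj_mem h.norm_E (hs v))]
    congr 1; group
  have hAπ : ∀ x ∈ E, A (M.π x) = M.π (a * x * a⁻¹) := hA0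
  have hAj : ∀ j : ℕ, ∀ x ∈ E, A^[j] (M.π x) = M.π (a ^ j * x * (a ^ j)⁻¹) := by
    intro j
    induction j with
    | zero => intro x _; simp
    | succ j ih =>
      intro x hx
      rw [Function.iterate_succ_apply', ih x hx, hAπ _ (conj_mem (h.pow_norm_E j) hx)]
      congr 1; rw [pow_succ']; group
  let rad' : (P →+ ZMod 2) → AddSubgroup W := fun μ => ((AddMonoidHom.compHom μ).comp b).ker
  have hrad : ∀ (μ : P →+ ZMod 2) v, v ∈ rad' μ ↔ ∀ u, μ (b v u) = 0 := fun μ v => DFunLike.ext_iff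
  have hradπ : ∀ (μ : P →+ ZMod 2), ∀ x ∈ E, x ∈ rad E (M.kerX μ) ↔ M.π x ∈ rad' μ := by
    intro μ x hx
    rw [hrad, h.qgrp.mem_rad]
    refine ⟨fun hx' u => ?_, fun hx' => ⟨hx, fun y hy => ⟨h.qgrp.comm_mem hx hy, ?_⟩⟩⟩
    · rw [← hπs u, hbπ x hx _ (hs u)]; exact (hx'.2 _ (hs u)).2
    · rw [← hbπ x hx y hy]; exact hx' _
  have hcard : ∀ (μ : P →+ ZMod 2) (j : ℕ), Nat.card E = 2 ^ j * Nat.card (rad E (M.kerX μ)) →
      Nat.card (rad' μ) * 2 ^ j = Nat.card W := by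
    intro μ j e
    rw [M.card_E, M.card_preimage _ _ h.qgrp.rad_le (hradπ μ), ← mul_assoc] at e
    rw [mul_comm, ← Nat.eq_of_mul_eq_mul_right Nat.card_pos e]
  let wts : Set (P →+ ZMod 2) := {μ | IsWeight a V E (M.kerX μ)}
  have hodd : ∀ w ∈ wts, w (M.ι z₀) = 1 := fun w hw => by
    have h1 : w (M.ι z₀) ≠ 0 := fun e => hz₀1 (h.cen_notMem_weight hw hz₀ ⟨hz₀.1, e⟩)
    exact zmod_two_eq_one h1
  have heven : ∀ μ : P →+ ZMod 2, μ ≠ 0 → μ (M.ι z₀) = 0 → Nat.card E = 2 ^ (4 * m) * Nat.card (rad E (M.kerX μ)) := by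
    intro μ hμ hμz
    have hev : ∀ ν : P →+ ZMod 2, ν (M.ι z₀) = 0 → ∀ z ∈ cen a G E, ν (M.ι z) = 0 := fun ν hν z hz => by
      rcases hcen z hz with rfl | rfl
      · rw [M.ι_one, map_zero]
      · exact hν
    refine h.even_full M htr (fun D => Nat.card E = 2 ^ (4 * m) * Nat.card (rad E D)) (fun n hn D hD => ?_) hsum0
      (hev _ ?_) hadd hμ (hev μ hμz)
    · rw [h.rad_smul hn.2, Grp.card_conj_smul]; exact hD
    · rw [AddMonoidHom.add_apply, hodd w₁ hD₁, hodd w₂ hD₂]; exact zmod_two_one_add_one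
  have hnr : ¬ r ∣ 2 ^ l - 1 := by
    intro hd
    have hr2 : r ≠ 2 := by
      rw [h.hrm]
      have : 2 ^ 1 ≤ 2 ^ m := Nat.pow_le_pow_right (by norm_num) hmp
      omega
    obtain ⟨n, hn, ⟨j, hj⟩, hne'⟩ := h.exists_qelem le_rfl hr2
      (by rw [hk2, hc2, pow_succ]; exact hd.trans ⟨2, by omega⟩) hf₀ fun f' hf' => htr f₀ f' hf₀ hf'
    have hn1 : orderOf n ≠ 1 := fun e => hne' (by rw [orderOf_eq_one_iff.mp e, one_mul, mul_one])
    obtain ⟨i, -, hi⟩ := (Nat.dvd_prime_pow h.act.prime).mp (orderOf_dvd_of_pow_eq_one hj)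
    have hrn : r ∣ orderOf n := hi ▸ dvd_pow_self r fun e => hn1 (by rw [hi, e, pow_zero])
    exact h.act.cop (hrn.trans (Subgroup.orderOf_dvd_natCard G hn.1))
  have hns : ∀ v : W, v ≠ 0 → ∃ j : ℕ, b v (A^[j] v) ≠ 0 := by
    intro v hv
    obtain ⟨e, he, rfl⟩ := M.π_surj v
    by_contra hno
    push Not at hno
    have hc : ∀ j : ℕ, ⁅a ^ j * e * (a ^ j)⁻¹, e⁆ = 1 := fun j => by
      have h1 := hno j
      rw [hAj j e he, hbπ _ he _ (conj_mem (h.pow_norm_E j) he),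
        M.ι_eq _ (h.qgrp.comm_mem he (conj_mem (h.pow_norm_E j) he))] at h1
      rw [← commutatorElement_inv, h1, inv_one]
    obtain ⟨hN, hmem⟩ := h.null_orb he fun j => by rw [hc j]; exact one_mem _
    have hsub : ((fx E a : Set X) ∪ Set.range fun n : ℕ => a ^ n * e * (a ^ n)⁻¹) ⊆ (E : Set X) := by
      rintro x (hx | ⟨n, rfl⟩)
      · exact fx_le hx
      · exact conj_mem (h.pow_norm_E n) he
    have key : ∀ i j : ℕ, i ≤ j → ⁅a ^ j * e * (a ^ j)⁻¹, a ^ i * e * (a ^ i)⁻¹⁆ = 1 := by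
      intro i j hij
      obtain ⟨c, rfl⟩ := Nat.exists_eq_add_of_le hij
      have e1 : ⁅a ^ (i + c) * e * (a ^ (i + c))⁻¹, a ^ i * e * (a ^ i)⁻¹⁆ =
          a ^ i * ⁅a ^ c * e * (a ^ c)⁻¹, e⁆ * (a ^ i)⁻¹ := by
        simp only [commutatorElement_def, pow_add]; group
      rw [e1, hc c, mul_one, mul_inv_cancel]
    have hab : ∀ x ∈ orb a E e, ∀ y ∈ orb a E e, x * y = y * x := fun x hx y hy =>
      commutatorElement_eq_one_iff_mul_comm.mp (Subgroup.mem_bot.mp (h.comm_closure hsub (C := ⊥) (by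
        rintro x hx y hy
        rw [Subgroup.mem_bot]
        rcases hx with hx | ⟨i, rfl⟩
        · exact commutatorElement_eq_one_iff_mul_comm.mpr (h.qgrp.fixed_central hx (hsub hy))
        rcases hy with hy | ⟨j, rfl⟩
        · exact commutatorElement_eq_one_iff_mul_comm.mpr (h.qgrp.fixed_central hy (hsub (Or.inr ⟨i, rfl⟩))).symm
        · rcases Nat.le_total j i with hji | hij
          · exact key j i hji
          · rw [← commutatorElement_inv, key i j hij, inv_one]) x hx y hy))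
    exact hv ((M.π_eq e he).mpr (mem_fx.mpr ⟨he, h.cfg.abelian_fixed h.faith (hN.le.trans h.E_le) hN.norm hab
      (not_dvd_card_of_isPGroup (h.isTwo_E.to_le hN.le) h.two_ne) e hmem⟩))
  have hz : M.ι z₀ ≠ 0 := fun e => hz₀1 ((M.ι_eq _ hz₀.1).mp e)
  have hs2 : ∀ x : W, x + x = 0 := fun x => by
    obtain ⟨e, he, rfl⟩ := M.π_surj x
    rw [← M.π_mul _ he _ he, M.π_eq _ (E.mul_mem he he), ← sq]
    exact h.qgrp.pow_q_mem he
  have hP2 : ∀ x : P, x + x = 0 := fun x => by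
    obtain ⟨e, he, rfl⟩ := M.ι_surj x
    rw [← M.ι_mul _ he _ he, h.fixed_invol he, M.ι_one]
  have hyp : SingHyp m l A (M.ι z₀) q b rad' wts := by
    refine ⟨hs2, hP2, by omega, h.hrm ▸ h.act.prime, hmp, fun v => ?_, fun v e => ?_, hz, by rw [M.card_P, hk2],
      h.hrm ▸ hnr, fun v u => ?_, fun v => ?_, hrad, hodd, fun w hw => hcard w _ (h.weight_card hw),
      fun v hv => ?_, fun u hu => ?_, fun μ hμ hμz => hcard μ _ (heven μ hμ hμz), hns⟩
    · obtain ⟨x, hx, rfl⟩ := M.π_surj v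
      rw [hAj _ x hx, ← h.hrm, h.act.pow_r, one_mul, inv_one, mul_one]
    · obtain ⟨x, hx, rfl⟩ := M.π_surj v
      rw [hAπ x hx] at e
      obtain ⟨c, hc, hfix⟩ := h.qgrp.act.exists_fixed_coset (N := fx E a) fx_le
        (mem_normalizer_of_centralizes fun y hy => (mem_fx.mp hy).2) hx
        ((M.π_eq_iff hx (conj_mem h.norm_E hx)).mp e.symm)
      exact (M.π_eq x hx).mpr ((mul_mem_cancel_right hc).mp (mem_fx.mpr ⟨E.mul_mem hx (fx_le hc), hfix⟩))
    · obtain ⟨x, hx, rfl⟩ := M.π_surj v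
      obtain ⟨y, hy, rfl⟩ := M.π_surj u
      have hk1 := h.qgrp.comm_mem hx hy
      have hx2 := h.qgrp.pow_q_mem hx
      have hy2 := h.qgrp.pow_q_mem hy
      rw [← M.π_mul _ hx _ hy, hq _ (E.mul_mem hx hy), hq x hx, hq y hy, hbπ x hx y hy,
        ← M.ι_mul _ hx2 _ hy2, ← M.ι_mul _ (mul_mem hx2 hy2) _ hk1]
      congr 1
      calc (x * y) ^ 2 = x * (⁅x, y⁆⁻¹ * (x * y)) * y := by rw [sq, commutatorElement_def]; group
        _ = x * (⁅x, y⁆ * (x * y)) * y := by rw [inv_eq_of_mul_eq_one_right (h.fixed_invol hk1)]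
        _ = x * ((x * y) * ⁅x, y⁆) * y := by rw [h.qgrp.fixed_central hk1 (E.mul_mem hx hy)]
        _ = x * x * y * (⁅x, y⁆ * y) := by group
        _ = x * x * y * (y * ⁅x, y⁆) := by rw [h.qgrp.fixed_central hk1 hy]
        _ = x ^ 2 * y ^ 2 * ⁅x, y⁆ := by rw [sq, sq]; group
    · obtain ⟨x, hx, rfl⟩ := M.π_surj v
      rw [hAπ x hx, hq _ (conj_mem h.norm_E hx), hq x hx, conj_pow, (mem_fx'.mp (h.qgrp.pow_q_mem hx)).2]
    · obtain ⟨x, hx, rfl⟩ := M.π_surj v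
      have hxΦ : x ∉ fx E a := fun hc => hv ((M.π_eq x hx).mpr hc)
      obtain ⟨D, hD, hxD⟩ : ∃ D, IsWeight a V E D ∧ x ∉ rad E D := by
        by_contra hno
        push Not at hno
        exact hxΦ (h.mem_fixed_of_rad hx hno)
      obtain ⟨μ, rfl⟩ := h.exists_char M hD.1 hD.2.1
      exact ⟨μ, hD, fun hc => hxD ((hradπ μ x hx).mpr hc)⟩
    · obtain ⟨x, hx, rfl⟩ := M.ι_surj u
      obtain ⟨D, hD, hxD⟩ : ∃ D, IsWeight a V E D ∧ x ∉ D := by
        by_contra hno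
        push Not at hno
        exact hu ((M.ι_eq x hx).mpr (h.weights_sep hx hno))
      obtain ⟨μ, rfl⟩ := h.exists_char M hD.1 hD.2.1
      exact ⟨μ, hD, fun hc => hxD ⟨hx, hc⟩⟩
  obtain ⟨v, hv, hsing, hcase⟩ := hyp.exists_singular_of_hyp
  obtain ⟨y, hy, rfl⟩ := M.π_surj v
  have hyΦ : y ∉ fx E a := fun hc => hv ((M.π_eq y hy).mpr hc)
  refine ⟨y, hy, hyΦ, ?_, ?_⟩
  · rw [hq y hy] at hsing
    rcases hsing with e | e
    · rw [(M.ι_eq _ (h.qgrp.pow_q_mem hy)).mp e]; exact one_mem _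
    · rw [M.ι_inj (h.qgrp.pow_q_mem hy) hz₀.1 e]; exact hz₀
  rcases hcase with ⟨j, hj0, hjz⟩ | ⟨hm1, hW, hP⟩
  · left
    refine ⟨j, fun hc => ?_⟩
    rw [hAj j y hy, hbπ _ hy _ (conj_mem (h.pow_norm_E j) hy)] at hj0 hjz
    have hc' := inv_mem hc
    rw [commutatorElement_inv] at hc'
    rcases hcen _ hc' with e | e
    · exact hj0 (by rw [e, M.ι_one])
    · exact hjz (by rw [e])
  right
  have hP' : Nat.card (fx E a) = 2 ^ 4 := by rw [← M.card_P]; exact hP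
  refine ⟨by rw [hc2, hP']; norm_num, ?_⟩
  by_contra hno
  push Not at hno
  let H : Subgroup X := G ⊓ normalizer (E : Set X) ⊓ normalizer ({x : X | y⁻¹ * x ∈ fx E a} : Set X)
  have hmemH : ∀ n ∈ G ⊓ normalizer (E : Set X), y⁻¹ * (n * y * n⁻¹) ∈ fx E a → n ∈ H := by
    intro n hn hny
    refine ⟨hn, Subgroup.mem_set_normalizer_iff.mpr fun x => ?_⟩
    simp only [Set.mem_ofPred_eq]
    rw [show y⁻¹ * (n * x * n⁻¹) = y⁻¹ * (n * y * n⁻¹) * (n * (y⁻¹ * x) * n⁻¹) by group,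
      mul_mem_cancel_left hny]
    exact Subgroup.mem_normalizer_iff.mp (h.norm_fixed' hn.2) _
  haveI := Fact.mk (by norm_num : Nat.Prime 7)
  obtain ⟨n, hn, ⟨j, hj⟩, hnf⟩ := h.exists_qelem (H := H) inf_le_left (q := 7) (by norm_num)
    (by rw [hc2, hP']; norm_num) hf₀ fun f' hf' => by
      obtain ⟨n, hn, h1, h2⟩ := hno f₀ f' hf₀ hf'
      exact ⟨n, hmemH n hn h1, h2⟩
  have hnE : n ∈ normalizer (E : Set X) := hn.1.2
  have hnΦ := h.norm_fixed' hnE
  have hny : y⁻¹ * (n * y * n⁻¹) ∈ fx E a := (Subgroup.mem_set_normalizer_iff.mp hn.2 y).mp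
    (show y⁻¹ * y ∈ fx E a by rw [inv_mul_cancel]; exact one_mem _)
  -- the map induced by `n`
  obtain ⟨τ0, hτ0⟩ := M.exists_lift (fun x => M.π (n * x * n⁻¹)) fun x hx z hz' => by
    rw [show n * (x * z) * n⁻¹ = (n * x * n⁻¹) * (n * z * n⁻¹) by group,
      M.π_mul _ (conj_mem hnE hx) _ (fx_le (conj_mem hnΦ hz')), (M.π_eq _ (fx_le (conj_mem hnΦ hz'))).mpr
        (conj_mem hnΦ hz'), add_zero]
  let τ : W →+ W := AddMonoidHom.mk' τ0 fun u v => by
    rw [← hπs u, ← hπs v, ← M.π_mul _ (hs u) _ (hs v), hτ0 _ (E.mul_mem (hs u) (hs v)), hτ0 _ (hs u),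
      hτ0 _ (hs v), ← M.π_mul _ (conj_mem hnE (hs u)) _ (conj_mem hnE (hs v))]
    congr 1; group
  have hτ : ∀ x ∈ E, τ (M.π x) = M.π (n * x * n⁻¹) := hτ0
  let F : AddSubgroup W := τ.eqLocus (AddMonoidHom.id W)
  have hF : ∀ w ∈ F, A w ∈ F := by
    intro w hw
    obtain ⟨x, hx, rfl⟩ := M.π_surj w
    have hw' : τ (M.π x) = M.π x := hw
    show τ (A (M.π x)) = A (M.π x)
    conv_rhs => rw [← hw', hτ x hx, hAπ _ (conj_mem hnE hx)]
    rw [hAπ x hx, hτ _ (conj_mem h.norm_E hx)]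
    refine ((M.π_eq_iff (conj_mem h.norm_E (conj_mem hnE hx)) (conj_mem hnE (conj_mem h.norm_E hx))).mpr ?_).symm
    have h1 := h.conj_image hn.1 hx
    convert h1 using 1
    group
  have hτs : Function.Surjective τ := fun w => by
    obtain ⟨x, hx, rfl⟩ := M.π_surj w
    refine ⟨M.π (n⁻¹ * x * n), ?_⟩
    rw [hτ _ (conj_le_of_norm hnE hx)]
    congr 1; group
  let σ : Equiv.Perm W := Equiv.ofBijective τ (Finite.surjective_iff_bijective.mp hτs)
  have hiter : ∀ i : ℕ, ∀ x ∈ E, (σ ^ i) (M.π x) = M.π (n ^ i * x * (n ^ i)⁻¹) := by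
    intro i
    induction i with
    | zero => intro x _; simp
    | succ i ih =>
      intro x hx
      rw [pow_succ', Equiv.Perm.mul_apply, ih x hx]
      show τ _ = _
      rw [hτ _ (conj_mem (Subgroup.pow_mem _ hnE i) hx)]
      congr 1; rw [pow_succ']; group
  have hσ : σ ^ 7 ^ j = 1 := by
    ext w
    obtain ⟨x, hx, rfl⟩ := M.π_surj w
    rw [hiter _ x hx, hj]; simp
  haveI := Fintype.ofFinite W
  have h7 := Equiv.Perm.card_fixedPoints_modEq (f := ⇑σ) (p := 7) (n := j) (by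
    have key : ∀ (g : Function.End W), g = ⇑σ → ∀ i : ℕ, g ^ i = ⇑(σ ^ i) := by
      intro g hg i
      induction i with
      | zero => rfl
      | succ i ih => rw [pow_succ, ih, hg, pow_succ]; rfl
    exact (key _ rfl _).trans (by rw [hσ]; rfl))
  rw [← Nat.card_eq_fintype_card, ← Nat.card_eq_fintype_card, hW,
    show Nat.card (Function.fixedPoints ⇑σ) = Nat.card F from Nat.card_congr (Equiv.refl _)] at h7
  have h3 := hyp.card_mod F hF
  rw [hm1] at h3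
  have hFd : Nat.card F ∣ 2 ^ 6 := hW ▸ AddSubgroup.card_addSubgroup_dvd_card F
  have hF1 : 1 < Nat.card F := by
    rw [Finite.one_lt_card_iff_nontrivial]
    refine ⟨⟨⟨M.π y, ?_⟩, 0, fun e => hv (congrArg Subtype.val e)⟩⟩
    show τ (M.π y) = M.π y
    rw [hτ y hy]
    exact ((M.π_eq_iff hy (conj_mem hnE hy)).mpr hny).symm
  have hFW : Nat.card F = 2 ^ 6 := by
    obtain ⟨i, hi, e⟩ := (Nat.dvd_prime_pow Nat.prime_two).mp hFd
    rw [e] at h3 h7 hF1 ⊢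
    interval_cases i <;> simp [Nat.ModEq] at h3 h7 hF1 ⊢
  have htop : F = ⊤ := AddSubgroup.eq_top_of_card_eq _ (by rw [hFW, hW])
  have htriv : ∀ x ∈ E, x⁻¹ * (n * x * n⁻¹) ∈ fx E a := fun x hx => by
    have h1 : τ (M.π x) = M.π x := show M.π x ∈ F from htop ▸ trivial
    rw [hτ x hx] at h1
    exact (M.π_eq_iff hx (conj_mem hnE hx)).mp h1.symm
  have hcent : fx E a ≤ centralizer ({n} : Set X) := by
    rw [h.qgrp.fixed_eq_comm, Subgroup.commutator_le]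
    intro x hx u hu
    have h2 := hcf x hx u hu _ (htriv x hx) _ (htriv u hu)
    rw [mul_inv_cancel_left, mul_inv_cancel_left] at h2
    rw [Subgroup.mem_centralizer_singleton_iff, eq_comm, ← mul_inv_eq_iff_eq_mul]
    conv_rhs => rw [← h2]
    simp only [commutatorElement_def]; group
  exact hnf (Subgroup.mem_centralizer_singleton_iff.mp (hcent hf₀.1)).symm

end Setup

end Cfsg.Agent.Invol.Shult
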