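import Mathlib
import Cfsg.Agent.Lib.Invol.Shult.CaseK1
import Cfsg.Agent.Lib.Invol.Shult.RankThree
import Cfsg.Agent.Lib.Invol.Shult.SingularVector

/-!
No minimal configuration exists.
-/

set_option autoImplicit false

namespace Cfsg.Agent.Invol.Shult

open Subgroup
open scoped Pointwise commutatorElement

universe u

variable {X : Type u} [Group X] [Finite X] {a : X} {p r m : ℕ} [Fact p.Prime] {G V E : Subgroup X}

namespace Setup

variable (h : Setup p r m a G V E)
include h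

theorem comm_fx {u v : X} (hu : u ∈ fx E a) (hv : v ∈ fx E a) : u * v = v * u := h.qgrp.fixed_central hu (fx_le hv)

/-- Four cosets of `Z₀` cover `E'`. -/
theorem cover_of_card (hl : Nat.card (fx E a) ≤ 4 * Nat.card (cen a G E)) {f f' : X} (hf : InJ a G E f)
    (hf' : InJ a G E f') (hne : f⁻¹ * f' ∉ cen a G E) {w : X} (hw : InJ a G E w) :
    f⁻¹ * w ∈ cen a G E ∨ f'⁻¹ * w ∈ cen a G E ∨ (f * f')⁻¹ * w ∈ cen a G E := by
  set C := (cen a G E).subgroupOf (fx E a) with hC
  have hcard : Nat.card (↥(fx E a) ⧸ C) ≤ 4 := by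
    have h1 : Nat.card (cen a G E) * (cen a G E).relIndex (fx E a) = Nat.card (fx E a) :=
      Grp.card_mul_relIndex (inf_le_left : cen a G E ≤ fx E a)
    have h2 : Nat.card (cen a G E) * (cen a G E).relIndex (fx E a) ≤ Nat.card (cen a G E) * 4 := by
      rw [h1, mul_comm _ 4]; exact hl
    exact Nat.le_of_mul_le_mul_left h2 Nat.card_pos
  by_contra hc
  push Not at hc
  obtain ⟨h1, h2, h3⟩ := hc
  have hne' : ∀ u v : X, ∀ (hu : u ∈ fx E a) (hv : v ∈ fx E a), u⁻¹ * v ∉ cen a G E →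
      (QuotientGroup.mk (⟨u, hu⟩ : ↥(fx E a)) : ↥(fx E a) ⧸ C) ≠ QuotientGroup.mk ⟨v, hv⟩ :=
    fun u v hu hv hn e => hn (by
      have := QuotientGroup.eq.mp e
      rwa [hC, Subgroup.mem_subgroupOf] at this)
  have hff : f * f' ∈ fx E a := mul_mem hf.1 hf'.1
  have hinv : ∀ {u : X}, u ∈ fx E a → u⁻¹ = u := fun hu => inv_eq_of_mul_eq_one_right (h.fixed_invol hu)
  have a1 := hne' 1 f (one_mem _) hf.1 (by simpa using hf.2)
  have a2 := hne' 1 f' (one_mem _) hf'.1 (by simpa using hf'.2)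
  have a3 := hne' 1 (f * f') (one_mem _) hff (by rw [inv_one, one_mul, ← congrArg (· * f') (hinv hf.1)]; exact hne)
  have a4 := hne' 1 w (one_mem _) hw.1 (by simpa using hw.2)
  have a5 := hne' f f' hf.1 hf'.1 hne
  have a6 := hne' f (f * f') hf.1 hff (by simpa using hf'.2)
  have a7 := hne' f w hf.1 hw.1 h1
  have a8 := hne' f' (f * f') hf'.1 hff (by rw [h.comm_fx hf.1 hf'.1]; simpa using hf.2)
  have a9 := hne' f' w hf'.1 hw.1 h2
  have a10 := hne' (f * f') w hff hw.1 h3
  have hinj : Function.Injective (![QuotientGroup.mk 1, QuotientGroup.mk ⟨f, hf.1⟩, QuotientGroup.mk ⟨f', hf'.1⟩,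
      QuotientGroup.mk ⟨f * f', hff⟩, QuotientGroup.mk ⟨w, hw.1⟩] : Fin 5 → ↥(fx E a) ⧸ C) := by
    intro i j hij
    fin_cases i <;> fin_cases j <;> first
      | rfl
      | (exfalso; first
          | exact a1 hij | exact a1 hij.symm | exact a2 hij | exact a2 hij.symm | exact a3 hij | exact a3 hij.symm
          | exact a4 hij | exact a4 hij.symm | exact a5 hij | exact a5 hij.symm | exact a6 hij | exact a6 hij.symm
          | exact a7 hij | exact a7 hij.symm | exact a8 hij | exact a8 hij.symm | exact a9 hij | exact a9 hij.symm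
          | exact a10 hij | exact a10 hij.symm)
  have := Nat.card_le_card_of_injective _ hinj
  rw [Nat.card_fin] at this
  omega

end Setup

/-- **No minimal configuration exists.** -/
theorem no_setup (h : Setup p r m a G V E) : False := by
  by_cases hk : Nat.card E = 2 ^ (2 * m) * Nat.card (fx E a)
  · exact h.false_of_k_one hk
  obtain ⟨f₀, hf₀⟩ := h.exists_InJ' hk
  by_cases htr : ∀ f f', InJ a G E f → InJ a G E f' →
      ∃ n ∈ G ⊓ normalizer (E : Set X), f'⁻¹ * (n * f * n⁻¹) ∈ cen a G E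
  · by_cases hl : 4 * Nat.card (cen a G E) ≤ Nat.card (fx E a)
    · obtain ⟨y, hy, hyΦ, hyy, hcase⟩ := h.exists_singular_vector hk hl htr
      rcases hcase with ⟨j, hj⟩ | ⟨hl8, f, f', hf, hf', hno⟩
      · obtain ⟨g, g', hg, hg', hno⟩ := h.intransitive_of_nonnull hl hy hj
        by_cases hl8 : 8 * Nat.card (cen a G E) ≤ Nat.card (fx E a)
        · obtain ⟨M, hM⟩ := h.exists_big hl8
          exact h.false_of_singular hk hM hy hyΦ hyy hg hg' hno
        · have heq : Nat.card (fx E a) = 4 * Nat.card (cen a G E) := by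
            have h1 : Nat.card (cen a G E) * (cen a G E).relIndex (fx E a) = Nat.card (fx E a) :=
              Grp.card_mul_relIndex (inf_le_left : cen a G E ≤ fx E a)
            obtain ⟨k, hk'⟩ := IsPGroup.iff_card.mp (h.isTwo_E.to_le (fx_le : fx E a ≤ E))
            obtain ⟨i, -, hi⟩ := (Nat.dvd_prime_pow Nat.prime_two).mp (hk' ▸ Dvd.intro_left _ h1 :
              (cen a G E).relIndex (fx E a) ∣ 2 ^ k)
            rw [hi] at h1
            rw [← h1, mul_comm] at hl hl8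
            have hlo := Nat.le_of_mul_le_mul_left hl Nat.card_pos
            have hhi : 2 ^ i < 2 ^ 3 := Nat.lt_of_not_le fun hle =>
              hl8 ((Nat.mul_le_mul_left _ hle).trans (le_of_eq rfl))
            have hi2 : i = 2 := by
              have := (Nat.pow_le_pow_iff_right one_lt_two).mp (show 2 ^ 2 ≤ 2 ^ i by simpa using hlo)
              have := (Nat.pow_lt_pow_iff_right one_lt_two).mp hhi
              omega
            rw [← h1, hi2]; ring
          obtain ⟨M, hM⟩ := h.exists_big_of_singular hk heq hy hyy hj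
          exact h.false_of_singular hk hM hy hyΦ hyy hg hg' hno
      · obtain ⟨M, hM⟩ := h.exists_big hl8
        exact h.false_of_singular hk hM hy hyΦ hyy hf' hf hno
    · refine h.false_of_isolated hk hf₀ fun g hg hgΦ => ?_
      by_contra hne
      set w := g * f₀ * g⁻¹
      have hw : InJ a G E w := h.InJ_conj hf₀ hg hgΦ
      set C := (cen a G E).subgroupOf (fx E a) with hC
      have hcard : Nat.card (↥(fx E a) ⧸ C) ≤ 2 := by
        have h1 : Nat.card (cen a G E) * (cen a G E).relIndex (fx E a) = Nat.card (fx E a) :=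
          Grp.card_mul_relIndex (inf_le_left : cen a G E ≤ fx E a)
        obtain ⟨k, hk'⟩ := IsPGroup.iff_card.mp (h.isTwo_E.to_le (fx_le : fx E a ≤ E))
        obtain ⟨i, -, hi⟩ := (Nat.dvd_prime_pow Nat.prime_two).mp (hk' ▸ Dvd.intro_left _ h1 :
          (cen a G E).relIndex (fx E a) ∣ 2 ^ k)
        show (cen a G E).relIndex (fx E a) ≤ 2
        rw [hi]
        rw [hi] at h1
        rw [← h1, mul_comm 4] at hl
        have h3 : 2 ^ i < 2 ^ 2 := by
          by_contra h4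
          exact hl (Nat.mul_le_mul_left _ (not_lt.mp h4))
        have := (Nat.pow_lt_pow_iff_right one_lt_two).mp h3
        calc 2 ^ i ≤ 2 ^ 1 := Nat.pow_le_pow_right two_pos (by omega)
          _ = 2 := pow_one 2
      have key : ∀ u v : ↥(fx E a), (u : X)⁻¹ * v ∉ cen a G E →
          (QuotientGroup.mk u : ↥(fx E a) ⧸ C) ≠ QuotientGroup.mk v := fun u v hn e => hn (by
        have := QuotientGroup.eq.mp e
        rwa [hC, Subgroup.mem_subgroupOf] at this)
      have hinj : Function.Injective (![QuotientGroup.mk 1, QuotientGroup.mk ⟨f₀, hf₀.1⟩,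
          QuotientGroup.mk ⟨w, hw.1⟩] : Fin 3 → ↥(fx E a) ⧸ C) := by
        have b1 := key 1 ⟨f₀, hf₀.1⟩ (by simpa using hf₀.2)
        have b2 := key 1 ⟨w, hw.1⟩ (by simpa using hw.2)
        have b3 := key ⟨f₀, hf₀.1⟩ ⟨w, hw.1⟩ hne
        intro i j hij
        fin_cases i <;> fin_cases j <;> first
          | rfl
          | (exfalso; first
              | exact b1 hij | exact b1 hij.symm | exact b2 hij | exact b2 hij.symm | exact b3 hij | exact b3 hij.symm)
      have := Nat.card_le_card_of_injective _ hinj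
      rw [Nat.card_fin] at this
      omega
  push Not at htr
  obtain ⟨f, f', hf, hf', hno⟩ := htr
  -- fusion in `G` is achieved in `N(E)`
  have hG : ∀ u v, InJ a G E u → InJ a G E v → ∀ g ∈ G, v⁻¹ * (g * u * g⁻¹) ∈ cen a G E →
      ∃ n ∈ G ⊓ normalizer (E : Set X), v⁻¹ * (n * u * n⁻¹) ∈ cen a G E := by
    intro u v hu hv g hg hc
    have hgΦ : g * u * g⁻¹ ∈ fx E a := by
      have := mul_mem hv.1 hc.1
      rwa [mul_inv_cancel_left] at this
    obtain ⟨x, n, -, hxf, hn, e, -⟩ := h.exists_fusion (h.InJ_conj hu hg hgΦ) hg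
      (by rw [show g⁻¹ * (g * u * g⁻¹) * g = u by group]; exact hu.1)
    refine ⟨n, hn, ?_⟩
    rwa [show n * u * n⁻¹ = x⁻¹ * (g * u * g⁻¹) * x by rw [e]; group, mul_assoc, ← hxf, inv_mul_cancel_left]
  have hno' : ∀ g ∈ G, f'⁻¹ * (g * f * g⁻¹) ∉ cen a G E := fun g hg hc => by
    obtain ⟨n, hn, hn'⟩ := hG f f' hf hf' g hg hc
    exact hno n hn hn'
  by_cases hl8 : 8 * Nat.card (cen a G E) ≤ Nat.card (fx E a)
  · obtain ⟨M, hM⟩ := h.exists_big hl8
    exact h.false_of_intransitive hk hM hf' hf hno'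
  have hl : Nat.card (fx E a) ≤ 4 * Nat.card (cen a G E) := by
    have h1 : Nat.card (cen a G E) * (cen a G E).relIndex (fx E a) = Nat.card (fx E a) :=
      Grp.card_mul_relIndex (inf_le_left : cen a G E ≤ fx E a)
    obtain ⟨k, hk'⟩ := IsPGroup.iff_card.mp (h.isTwo_E.to_le (fx_le : fx E a ≤ E))
    obtain ⟨i, -, hi⟩ := (Nat.dvd_prime_pow Nat.prime_two).mp (hk' ▸ Dvd.intro_left _ h1 :
      (cen a G E).relIndex (fx E a) ∣ 2 ^ k)
    rw [hi] at h1
    rw [← h1, mul_comm 4]
    refine Nat.mul_le_mul_left _ ?_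
    have h3 : 2 ^ i < 2 ^ 3 := by
      by_contra h4
      apply hl8
      rw [← h1, mul_comm 8]
      exact Nat.mul_le_mul_left _ (not_lt.mp h4)
    have := (Nat.pow_lt_pow_iff_right one_lt_two).mp h3
    calc 2 ^ i ≤ 2 ^ 2 := Nat.pow_le_pow_right two_pos (by omega)
      _ = 4 := rfl
  have hne : f⁻¹ * f' ∉ cen a G E := fun hc => hno' 1 G.one_mem (by
    have := inv_mem hc
    simpa [mul_assoc] using this)
  have hcanc : ∀ {u v : X}, u ∈ G → u⁻¹ * v ∈ cen a G E → ∀ g ∈ G,
      (g * u * g⁻¹)⁻¹ * (g * v * g⁻¹) ∈ cen a G E := fun {u v} hu hc g hg => by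
    rw [show (g * u * g⁻¹)⁻¹ * (g * v * g⁻¹) = g * (u⁻¹ * v) * g⁻¹ by group, h.cen_conj_eq hc hg]
    exact hc
  by_cases h1 : ∀ g ∈ G, g * f * g⁻¹ ∈ fx E a → f⁻¹ * (g * f * g⁻¹) ∈ cen a G E
  · exact h.false_of_isolated hk hf h1
  by_cases h2 : ∀ g ∈ G, g * f' * g⁻¹ ∈ fx E a → f'⁻¹ * (g * f' * g⁻¹) ∈ cen a G E
  · exact h.false_of_isolated hk hf' h2
  push Not at h1 h2
  obtain ⟨g, hg, hgΦ, hgne⟩ := h1
  obtain ⟨g', hg', hgΦ', hgne'⟩ := h2
  have hA : (f * f')⁻¹ * (g * f * g⁻¹) ∈ cen a G E := by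
    rcases h.cover_of_card hl hf hf' hne (h.InJ_conj hf hg hgΦ) with e | e | e
    · exact absurd e hgne
    · exact absurd e (hno' g hg)
    · exact e
  have hB : (f * f')⁻¹ * (g' * f' * g'⁻¹) ∈ cen a G E := by
    rcases h.cover_of_card hl hf hf' hne (h.InJ_conj hf' hg' hgΦ') with e | e | e
    · refine absurd ?_ (hno' g'⁻¹ (G.inv_mem hg'))
      have h3 := hcanc (h.InJ_mem hf) e g'⁻¹ (G.inv_mem hg')
      rw [show g'⁻¹ * (g' * f' * g'⁻¹) * g'⁻¹⁻¹ = f' by group] at h3
      have := inv_mem h3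
      rwa [mul_inv_rev, inv_inv] at this
    · exact absurd e hgne'
    · exact e
  refine hno' (g'⁻¹ * g) (G.mul_mem (G.inv_mem hg') hg) ?_
  have h4 : (g' * f' * g'⁻¹)⁻¹ * (g * f * g⁻¹) ∈ cen a G E := by
    have := mul_mem (inv_mem hB) hA
    rwa [mul_inv_rev, inv_inv, mul_assoc, mul_inv_cancel_left] at this
  have h5 := hcanc (h.JG_mem_G (h.JG_conj hg' (h.JG_of_InJ hf'))) h4 g'⁻¹ (G.inv_mem hg')
  rwa [show g'⁻¹ * (g' * f' * g'⁻¹) * g'⁻¹⁻¹ = f' by group,
    show g'⁻¹ * (g * f * g⁻¹) * g'⁻¹⁻¹ = g'⁻¹ * g * f * (g'⁻¹ * g)⁻¹ by group] at h5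

end Cfsg.Agent.Invol.Shult
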