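import Mathlib
import Cfsg.Prelude.Def_Solvable
import Cfsg.Agent.Lib.Grp.Cores
import Cfsg.Agent.Lib.Invol.Shult.Setup

/-!
General lemmas for the reduction to a minimal configuration: fixed points of `p`-groups, the
largest normal `p`-subgroup of a subgroup, and factorisations `G = H C_G(a)`.
-/

set_option autoImplicit false

namespace Cfsg.Agent.Invol.Shult.Red

open Subgroup
open scoped Pointwise commutatorElement
open Cfsg.Agent.Grp (IsSylowIn)

variable {X : Type*} [Group X] {a : X} {p r : ℕ} {G H K N V : Subgroup X}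

/-- The largest normal `p`-subgroup of a subgroup. -/
def core (p : ℕ) (H : Subgroup X) : Subgroup X := (Cfsg.pCore p ↥H).map H.subtype

theorem core_le : core p H ≤ H := Subgroup.map_subtype_le _

theorem core_isPGroup [Finite X] : IsPGroup p (core p H) := Grp.pCore_isPGroup.map _

/-- Conjugation by an element of the normalizer, as an automorphism. -/
theorem core_norm [Finite X] {g : X} (hg : g ∈ normalizer (H : Set X)) :
    g ∈ normalizer ((core p H : Subgroup X) : Set X) := by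
  haveI : (Cfsg.pCore p ↥H).Characteristic := Grp.instCharPCore
  let σ : MulAut ↥H := H.normalizerMonoidHom ⟨g, hg⟩
  have hσ := Subgroup.characteristic_iff_comap_eq.mp (inferInstance : (Cfsg.pCore p ↥H).Characteristic) σ
  refine Subgroup.mem_normalizer_iff.mpr fun x => ?_
  constructor
  · rintro ⟨⟨x, hx⟩, hx', rfl⟩
    exact ⟨σ ⟨x, hx⟩, (SetLike.ext_iff.mp hσ ⟨x, hx⟩).mpr hx', rfl⟩
  · rintro ⟨⟨y, hy⟩, hy', e⟩
    have hx : x ∈ H := (Subgroup.mem_normalizer_iff.mp hg x).mpr (by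
      rw [← show (y : X) = g * x * g⁻¹ from e]; exact hy)
    refine ⟨⟨x, hx⟩, (SetLike.ext_iff.mp hσ ⟨x, hx⟩).mp ?_, rfl⟩
    have : σ ⟨x, hx⟩ = ⟨y, hy⟩ := Subtype.ext (show (y : X) = g * x * g⁻¹ from e).symm
    rw [Subgroup.mem_comap]
    show σ ⟨x, hx⟩ ∈ Cfsg.pCore p ↥H
    rw [this]; exact hy'

theorem le_norm_core [Finite X] : H ≤ normalizer ((core p H : Subgroup X) : Set X) :=
  fun _ hg => core_norm (Subgroup.le_normalizer hg)

theorem le_core (hN : N ≤ H) (hn : H ≤ normalizer (N : Set X)) (hp : IsPGroup p N) : N ≤ core p H := by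
  haveI : (N.subgroupOf H).Normal :=
    ⟨fun x hx g => (Subgroup.mem_normalizer_iff.mp (hn g.2) x).mp hx⟩
  intro x hx
  exact ⟨⟨x, hN hx⟩,
    Grp.le_pCore (N := N.subgroupOf H) inferInstance
      (hp.of_equiv (Subgroup.subgroupOfEquivOfLe hN).symm) hx, rfl⟩

/-- A `p`-group normalizing a nontrivial `p`-group fixes a nontrivial element of it. -/
theorem inf_centralizer_ne_bot [Finite X] [hp : Fact p.Prime] (hN : IsPGroup p N)
    (hNV : N ≤ normalizer (V : Set X)) (hV : IsPGroup p V) (hV1 : V ≠ ⊥) :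
    V ⊓ centralizer (N : Set X) ≠ ⊥ := by
  intro e
  letI : MulAction ↥N ↥V := MulAction.compHom ↥V (V.normalizerMonoidHom.comp (Subgroup.inclusion hNV))
  have hsmul : ∀ (n : ↥N) (v : ↥V), ((n • v : ↥V) : X) = n * v * (n : X)⁻¹ := fun n v => rfl
  have hd : p ∣ Nat.card ↥V := by
    obtain ⟨k, hk⟩ := IsPGroup.iff_card.mp hV
    rcases k with _ | k
    · exact absurd (Subgroup.card_eq_one.mp (by rw [hk, pow_zero])) hV1
    · exact hk ▸ dvd_pow_self p k.succ_ne_zero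
  have h1 : (1 : ↥V) ∈ MulAction.fixedPoints ↥N ↥V := fun n => Subtype.ext (by simp [hsmul])
  obtain ⟨b, hb, hb1⟩ := hN.exists_fixed_point_of_prime_dvd_card_of_fixed_point ↥V hd h1
  refine hb1 (Subtype.ext ?_).symm
  show (b : X) = 1
  have hbc : (b : X) ∈ V ⊓ centralizer (N : Set X) := ⟨b.2, Subgroup.mem_centralizer_iff.mpr fun n hn =>
    mul_inv_eq_iff_eq_mul.mp ((hsmul ⟨n, hn⟩ b).symm.trans (congrArg Subtype.val (hb ⟨n, hn⟩)))⟩
  rwa [e] at hbc

/-- Commutators with `a` only see the first factor of `H C(a)`. -/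
theorem br_le_br_of_mul (h : ∀ g ∈ G, ∃ x ∈ H, ∃ c : X, a * c = c * a ∧ g = x * c) :
    br G a ≤ br H a := by
  rw [br, Subgroup.commutator_le]
  intro g hg y hy
  obtain ⟨x, hx, c, hc, rfl⟩ := h g hg
  obtain ⟨i, rfl⟩ := mem_zpowers_iff.mp hy
  have hcc : c * a ^ i * c⁻¹ = a ^ i := by
    rw [← ((show Commute a c from hc).zpow_left i).eq, mul_inv_cancel_right]
  have e : ⁅x * c, a ^ i⁆ = ⁅x, a ^ i⁆ := by
    rw [commutatorElement_def, commutatorElement_def]
    calc x * c * a ^ i * (x * c)⁻¹ * (a ^ i)⁻¹ = x * (c * a ^ i * c⁻¹) * x⁻¹ * (a ^ i)⁻¹ := by group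
      _ = x * a ^ i * x⁻¹ * (a ^ i)⁻¹ := by rw [hcc]
  rw [e]
  exact Subgroup.commutator_mem_commutator hx (mem_zpowers_iff.mpr ⟨i, rfl⟩)

/-- If `a` centralizes its invariant Sylow subgroups for all primes but `q₀` then `G = H C_G(a)` for an
invariant Sylow `q₀`-subgroup `H`. -/
theorem exists_mul_fixed_of_sylow [Finite X] (h : Act a r G) {q₀ : ℕ} [hq₀ : Fact q₀.Prime]
    (hH : IsSylowIn q₀ H G)
    (hfix : ∀ (q : ℕ) [Fact q.Prime], q ≠ q₀ → ∀ S : Subgroup X, IsSylowIn q S G →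
      a ∈ normalizer (S : Set X) → ∀ x ∈ S, a * x = x * a) :
    ∀ g ∈ G, ∃ x ∈ H, ∃ c : X, a * c = c * a ∧ g = x * c := by
  classical
  set C := fx G a with hC
  set f : ↥C → ↥G ⧸ H.subgroupOf G := fun c => QuotientGroup.mk (⟨c, fx_le c.2⟩ : ↥G) with hf
  let F : ↥C ⧸ H.subgroupOf C → ↥G ⧸ H.subgroupOf G := Quotient.lift f (fun c d hcd => by
    have h1 := QuotientGroup.leftRel_apply.mp hcd
    exact QuotientGroup.eq.mpr h1)
  have hFinj : Function.Injective F := by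
    rintro ⟨c⟩ ⟨d⟩ e
    have h1 : (⟨c, fx_le c.2⟩ : ↥G)⁻¹ * ⟨d, fx_le d.2⟩ ∈ H.subgroupOf G := QuotientGroup.eq.mp e
    exact Quotient.sound (QuotientGroup.leftRel_apply.mpr h1)
  have hcard : Nat.card (↥G ⧸ H.subgroupOf G) ≤ Nat.card (↥C ⧸ H.subgroupOf C) := by
    refine Nat.le_of_dvd Nat.card_pos ((Nat.dvd_iff_prime_pow_dvd_dvd _ _).mpr fun q k hq hk => ?_)
    rcases Nat.eq_zero_or_pos k with rfl | hk0
    · simp
    haveI := Fact.mk hq
    have hne : q ≠ q₀ := by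
      rintro rfl
      exact hH.2.2 ((dvd_pow_self q hk0.ne').trans hk)
    obtain ⟨S, hS, hSa, -⟩ := h.exists_sylow (q := q) (U := ⊥) bot_le IsPGroup.of_bot
      (mem_normalizer_of_centralizes fun x hx => by rw [Subgroup.mem_bot.mp hx]; simp)
    have hSC : S ≤ C := fun x hx => mem_fx.mpr ⟨hS.1 hx, hfix q hne S hS hSa x hx⟩
    have h1 : q ^ k ∣ Nat.card ↥C := by
      refine dvd_trans ?_ (Subgroup.card_dvd_of_le hSC)
      rw [hS.card]
      refine pow_dvd_pow q ((hq.pow_dvd_iff_le_factorization Nat.card_pos.ne').mp (hk.trans ?_))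
      exact Subgroup.index_dvd_card _
    rw [← Subgroup.card_mul_index (H.subgroupOf C)] at h1
    refine Nat.Coprime.dvd_of_dvd_mul_left ?_ h1
    obtain ⟨j, hj⟩ := IsPGroup.iff_card.mp (hH.2.1.comap_subtype (K := C))
    rw [Subgroup.subgroupOf, hj]
    exact Nat.Coprime.pow k j ((Nat.coprime_primes hq hq₀.out).mpr hne)
  have hsurj : Function.Surjective F :=
    ((Nat.bijective_iff_injective_and_card F).mpr
      ⟨hFinj, le_antisymm (Nat.card_le_card_of_injective F hFinj) hcard⟩).2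
  intro g hg
  obtain ⟨⟨c⟩, hc⟩ := hsurj (QuotientGroup.mk (⟨g⁻¹, G.inv_mem hg⟩ : ↥G))
  have h1 : (⟨c, fx_le c.2⟩ : ↥G)⁻¹ * ⟨g⁻¹, G.inv_mem hg⟩ ∈ H.subgroupOf G := QuotientGroup.eq.mp hc
  have h2 : (c : X)⁻¹ * g⁻¹ ∈ H := h1
  refine ⟨g * c, by simpa using H.inv_mem h2, (c : X)⁻¹, ?_, by group⟩
  exact ((show Commute a (c : X) from (mem_fx.mp c.2).2).inv_right).eq

end Cfsg.Agent.Invol.Shult.Red
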