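import Mathlib
import Cfsg.Agent.Lib.Transfer.PrimeDim
import Cfsg.Agent.Lib.Invol.Shult.ReduceBasic

/-!
An elementary abelian `2`-section moved by an abelian group of odd order, which an element of prime
order `r` normalizes without fixed points, has rank divisible by `r`.
-/

set_option autoImplicit false
set_option maxHeartbeats 800000

namespace Cfsg.Agent.Invol.Shult.Red

open Subgroup
open scoped Pointwise commutatorElement

variable {X : Type*} [Group X] {a : X} {r : ℕ} {T Z P : Subgroup X}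

theorem dvd_rank [Finite X] (hr : r.Prime) (ha : orderOf a = r) (hZT : Z ≤ T)
    (hTZ : T ≤ normalizer (Z : Set X)) (hPT : P ≤ normalizer (T : Set X)) (haT : a ∈ normalizer (T : Set X))
    (hPZ : P ≤ normalizer (Z : Set X)) (haZ : a ∈ normalizer (Z : Set X)) (haP : a ∈ normalizer (P : Set X))
    (hcomm : ∀ x ∈ T, ∀ y ∈ T, ⁅x, y⁆ ∈ Z) (hsq : ∀ x ∈ T, x ^ 2 ∈ Z)
    (hPab : ∀ x ∈ P, ∀ y ∈ P, x * y = y * x) (hPodd : ¬ 2 ∣ Nat.card P)
    (hPfix : ∀ x ∈ P, a * x = x * a → x = 1)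
    (hU : ∀ t ∈ T, (∀ g ∈ P, t⁻¹ * (g * t * g⁻¹) ∈ Z) → t ∈ Z) :
    ∃ n : ℕ, r ∣ n ∧ Z.relIndex T = 2 ^ n := by
  classical
  haveI : Fact (Nat.Prime 2) := ⟨Nat.prime_two⟩
  haveI := Fact.mk hr
  let Z' : Subgroup ↥T := Z.subgroupOf T
  haveI : Z'.Normal := ⟨fun x hx g => (Subgroup.mem_normalizer_iff.mp (hTZ g.2) x).mp hx⟩
  letI : CommGroup (↥T ⧸ Z') :=
    { (inferInstance : Group (↥T ⧸ Z')) with
      mul_comm := by
        rintro ⟨u⟩ ⟨w⟩
        refine commutatorElement_eq_one_iff_mul_comm.mp ?_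
        show ⁅QuotientGroup.mk' Z' u, QuotientGroup.mk' Z' w⁆ = 1
        rw [← map_commutatorElement]
        exact (QuotientGroup.eq_one_iff _).mpr (hcomm u u.2 w w.2) }
  letI : Module (ZMod 2) (Additive (↥T ⧸ Z')) := AddCommGroup.zmodModule (n := 2) (fun y => by
    obtain ⟨u, hu⟩ := QuotientGroup.mk'_surjective Z' y.toMul
    rw [show y = Additive.ofMul (QuotientGroup.mk' Z' u) from hu.symm, ← ofMul_pow, ← map_pow]
    exact congrArg Additive.ofMul ((QuotientGroup.eq_one_iff _).mpr (hsq u u.2)))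
  let A : Subgroup X := P ⊔ zpowers a
  have hAT : A ≤ normalizer (T : Set X) := sup_le hPT (zpowers_le.mpr haT)
  have hAZ : A ≤ normalizer (Z : Set X) := sup_le hPZ (zpowers_le.mpr haZ)
  have hAP : A ≤ normalizer (P : Set X) := sup_le Subgroup.le_normalizer (zpowers_le.mpr haP)
  let σ : ↥A →* MulAut ↥T := T.normalizerMonoidHom.comp (Subgroup.inclusion hAT)
  have σval : ∀ (g : ↥A) (t : ↥T), ((σ g t : ↥T) : X) = g * t * (g : X)⁻¹ := fun g t => rfl
  have hσZ : ∀ g : ↥A, Z' ≤ Z'.comap (σ g).toMonoidHom := fun g t ht =>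
    (Subgroup.mem_normalizer_iff.mp (hAZ g.2) t).mp ht
  let f : ↥A → Module.End (ZMod 2) (Additive (↥T ⧸ Z')) := fun g =>
    (MonoidHom.toAdditive (QuotientGroup.map Z' Z' (σ g).toMonoidHom (hσZ g))).toZModLinearMap 2
  have f_apply : ∀ (g : ↥A) (t : ↥T),
      f g (Additive.ofMul (QuotientGroup.mk' Z' t)) = Additive.ofMul (QuotientGroup.mk' Z' (σ g t)) :=
    fun g t => rfl
  have hsurj : ∀ y : Additive (↥T ⧸ Z'), ∃ t : ↥T, Additive.ofMul (QuotientGroup.mk' Z' t) = y := fun y =>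
    (QuotientGroup.mk'_surjective Z' y.toMul).imp fun t ht => ht
  let ρ : Representation (ZMod 2) ↥A (Additive (↥T ⧸ Z')) :=
    { toFun := f
      map_one' := LinearMap.ext fun y => by
        obtain ⟨t, rfl⟩ := hsurj y
        rw [f_apply, map_one]; rfl
      map_mul' := fun g g' => LinearMap.ext fun y => by
        obtain ⟨t, rfl⟩ := hsurj y
        show _ = f g (f g' _)
        rw [f_apply, f_apply, f_apply, map_mul]; rfl }
  have ρ_apply : ∀ (g : ↥A) (t : ↥T),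
      ρ g (Additive.ofMul (QuotientGroup.mk' Z' t)) = Additive.ofMul (QuotientGroup.mk' Z' (σ g t)) := f_apply
  let N : Subgroup ↥A := P.subgroupOf A
  haveI : N.Normal := ⟨fun x hx g => (Subgroup.mem_normalizer_iff.mp (hAP g.2) x).mp hx⟩
  let H : Subgroup ↥A := (zpowers a).subgroupOf A
  letI := Fintype.ofFinite ↥H
  letI := Fintype.ofFinite ↥N
  have hfpf : Cfsg.Agent.Transfer.ActsFPF H N := by
    intro h hh h1 n hn e
    have hgen : a ∈ zpowers (h : X) := by
      obtain ⟨i, hi⟩ : ∃ i : ℕ, a ^ i = (h : X) := mem_powers_iff_mem_zpowers.mpr hh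
      have hz : zpowers (h : X) = zpowers a := by
        rw [← hi]
        refine Subgroup.eq_of_le_of_card_ge (zpowers_le.mpr (Subgroup.pow_mem _ (mem_zpowers a) i)) ?_
        rw [Nat.card_zpowers, Nat.card_zpowers, orderOf_pow, ha]
        have hnd : ¬ r ∣ i := fun hd => h1 (Subtype.ext (by
          rw [Subgroup.coe_one, ← hi, orderOf_dvd_iff_pow_eq_one.mp (ha ▸ hd)]))
        rw [(hr.coprime_iff_not_dvd.mpr hnd).gcd_eq_one, Nat.div_one]
      exact hz ▸ mem_zpowers a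
    obtain ⟨i, hi⟩ := mem_zpowers_iff.mp hgen
    refine Subtype.ext (hPfix n hn ?_)
    rw [← hi]
    exact ((show Commute (h : X) (n : X) from congrArg Subtype.val e).zpow_left i).eq
  have hcomm' : ∀ x ∈ N, ∀ y ∈ N, ρ x * ρ y = ρ y * ρ x := fun x hx y hy => by
    rw [← map_mul, ← map_mul, show x * y = y * x from Subtype.ext (hPab x hx y hy)]
  have hcardN : ((Fintype.card ↥N : ℕ) : ZMod 2) ≠ 0 := by
    rw [ne_eq, ZMod.natCast_eq_zero_iff_even, even_iff_two_dvd, ← Nat.card_eq_fintype_card,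
      Nat.card_congr (Subgroup.subgroupOfEquivOfLe (le_sup_left : P ≤ A)).toEquiv]
    exact hPodd
  have hsum : ∀ v, ∑ n : ↥N, ρ (n : ↥A) v = 0 := by
    intro v
    obtain ⟨t, ht⟩ := hsurj (∑ n : ↥N, ρ (n : ↥A) v)
    rw [← ht]
    refine congrArg Additive.ofMul ((QuotientGroup.eq_one_iff _).mpr (hU t t.2 fun g hg => ?_))
    let g' : ↥N := ⟨⟨g, (le_sup_left : P ≤ A) hg⟩, hg⟩
    have h1 : ρ (g' : ↥A) (∑ n : ↥N, ρ (n : ↥A) v) = ∑ n : ↥N, ρ (n : ↥A) v := by
      rw [map_sum]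
      refine Fintype.sum_equiv (Equiv.mulLeft g') _ _ fun n => ?_
      rw [Equiv.coe_mulLeft, Subgroup.coe_mul, map_mul]; rfl
    rw [← ht, ρ_apply] at h1
    have h2 : (t : ↥T ⧸ Z') = ((σ (g' : ↥A) t : ↥T) : ↥T ⧸ Z') := (Additive.ofMul.injective h1).symm
    have h3 : t⁻¹ * σ (g' : ↥A) t ∈ Z' := QuotientGroup.eq.mp h2
    exact h3
  haveI : Module.Finite (ZMod 2) (Additive (↥T ⧸ Z')) := Module.Finite.of_finite
  have hfree := Cfsg.Agent.Transfer.isFreeOver_of_commute ρ H N hfpf hcomm' hcardN hsum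
  refine ⟨Module.finrank (ZMod 2) (Additive (↥T ⧸ Z')), ?_, ?_⟩
  · have hH : Fintype.card ↥H = r := by
      rw [← Nat.card_eq_fintype_card, Nat.card_congr (Subgroup.subgroupOfEquivOfLe (le_sup_right : zpowers a ≤ A)).toEquiv,
        Nat.card_zpowers, ha]
    exact hH ▸ Cfsg.Agent.Transfer.finrank_dvd_of_isFreeOver hfree
  · have := Module.natCard_eq_pow_finrank (K := ZMod 2) (V := Additive (↥T ⧸ Z'))
    rw [Nat.card_zmod] at this
    rw [← this]
    rfl

end Cfsg.Agent.Invol.Shult.Red
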