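import Mathlib
import Cfsg.Agent.Lib.Invol.Shult.ReduceBasic

/-!
First properties of a faithful irreducible minimal configuration `G = [G, a]` that is not a `2`-group:
odd Sylow subgroups away from `p` are fixed, and the largest normal `2`-subgroup has class two.
-/

set_option autoImplicit false

namespace Cfsg.Agent.Invol.Shult.Red

open Subgroup
open scoped Pointwise commutatorElement
open Cfsg.Agent.Grp (IsSylowIn)

variable {X : Type*} [Group X] {a : X} {p r : ℕ} {G H K N V : Subgroup X}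

/-- A faithful irreducible configuration `G = [G, a]`, not a `2`-group, whose proper subgroups satisfy
the theorem. -/
structure Min (p r : ℕ) (a : X) (G V : Subgroup X) : Prop where
  cfg : Cfg p r a G V
  faith : G ⊓ centralizer (V : Set X) = ⊥
  irred : ∀ W : Subgroup X, W ≤ V → G ≤ normalizer (W : Set X) → a ∈ normalizer (W : Set X) → W = ⊥ ∨ W = V
  brG : br G a = G
  ind : ∀ H : Subgroup X, H ≤ G → a ∈ normalizer (H : Set X) → H ≠ G →
    ∃ N : Subgroup X, N ≤ br H a ∧ br H a ≤ normalizer (N : Set X) ∧ IsPGroup p N ∧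
      ∀ d ∈ br H a, ∃ k : ℕ, d ^ 2 ^ k ∈ N
  ntwo : ¬ IsPGroup 2 G

theorem cc {z g : X} (hz : z ∈ centralizer (G : Set X)) (hg : g ∈ G) : z * g = g * z :=
  (Subgroup.mem_centralizer_iff.mp hz g hg).symm

theorem eq_one_of_two_and_p [hp : Fact p.Prime] (hne : p ≠ 2) {x : X} {i j : ℕ} (h2 : x ^ 2 ^ i = 1)
    (hq : x ^ p ^ j = 1) : x = 1 := by
  have h := pow_gcd_eq_one.mpr ⟨h2, hq⟩
  rwa [(Nat.Coprime.pow i j ((Nat.coprime_primes Nat.prime_two hp.out).mpr hne.symm)).gcd_eq_one, pow_one] at h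

theorem exists_pow_two (hT : IsPGroup 2 H) {x : X} (hx : x ∈ H) : ∃ i : ℕ, x ^ 2 ^ i = 1 :=
  (hT ⟨x, hx⟩).imp fun i hi => by simpa using congrArg Subtype.val hi

theorem exists_pow_p (hT : IsPGroup p H) {x : X} (hx : x ∈ H) : ∃ i : ℕ, x ^ p ^ i = 1 :=
  (hT ⟨x, hx⟩).imp fun i hi => by simpa using congrArg Subtype.val hi

theorem mem_normalizer_of_mem_centralizer {g : X} (hg : g ∈ centralizer (H : Set X)) :
    g ∈ normalizer (H : Set X) :=
  mem_normalizer_of_centralizes fun x hx => (Subgroup.mem_centralizer_iff.mp hg x hx).symm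

/-- Images of characteristic subgroups are normalized by the normalizer. -/
theorem char_norm {K : Subgroup ↥H} [hK : K.Characteristic] {g : X} (hg : g ∈ normalizer (H : Set X)) :
    g ∈ normalizer ((K.map H.subtype : Subgroup X) : Set X) := by
  let σ : MulAut ↥H := H.normalizerMonoidHom ⟨g, hg⟩
  have hσ := Subgroup.characteristic_iff_comap_eq.mp hK σ
  refine Subgroup.mem_normalizer_iff.mpr fun x => ?_
  constructor
  · rintro ⟨⟨x, hx⟩, hx', rfl⟩
    exact ⟨σ ⟨x, hx⟩, (SetLike.ext_iff.mp hσ ⟨x, hx⟩).mpr hx', rfl⟩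
  · rintro ⟨⟨y, hy⟩, hy', e⟩
    have hx : x ∈ H := (Subgroup.mem_normalizer_iff.mp hg x).mpr (by
      rw [← show (y : X) = g * x * g⁻¹ from e]; exact hy)
    refine ⟨⟨x, hx⟩, (SetLike.ext_iff.mp hσ ⟨x, hx⟩).mp ?_, rfl⟩
    have : σ ⟨x, hx⟩ = ⟨y, hy⟩ := Subtype.ext (show (y : X) = g * x * g⁻¹ from e).symm
    rw [Subgroup.mem_comap]
    show σ ⟨x, hx⟩ ∈ K
    rw [this]; exact hy'

namespace Min

variable (h : Min p r a G V)
include h

/-- `G` has no nontrivial invariant normal `p`-subgroup. -/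
theorem pnorm_bot [Finite X] [Fact p.Prime] (hN : N ≤ G) (hn : G ≤ normalizer (N : Set X))
    (ha : a ∈ normalizer (N : Set X)) (hNp : IsPGroup p N) : N = ⊥ := by
  rcases eq_or_ne V ⊥ with hV | hV
  · refine le_bot_iff.mp fun x hx => ?_
    have hmem : x ∈ G ⊓ centralizer (V : Set X) := ⟨hN hx, Subgroup.mem_centralizer_iff.mpr fun v hv => by
      rw [hV] at hv
      rw [Subgroup.mem_bot.mp hv]; simp⟩
    rwa [h.faith] at hmem
  · have hW := h.irred (V ⊓ centralizer (N : Set X)) inf_le_left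
      (fun g hg => mem_normalizer_inf (h.cfg.normG hg) (mem_normalizer_centralizer (hn hg)))
      (mem_normalizer_inf h.cfg.norma (mem_normalizer_centralizer ha))
    rcases hW with hW | hW
    · exact absurd hW (inf_centralizer_ne_bot hNp (hN.trans h.cfg.normG) h.cfg.isPGroup hV)
    · refine le_bot_iff.mp (h.faith ▸ le_inf hN ?_)
      exact Subgroup.le_centralizer_iff.mp (inf_eq_left.mp hW)

theorem core_p_eq_bot [Finite X] [Fact p.Prime] (hN : N ≤ G) (hn : G ≤ normalizer (N : Set X))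
    (ha : a ∈ normalizer (N : Set X)) : core p N = ⊥ :=
  h.pnorm_bot (core_le.trans hN) (fun _ hg => core_norm (hn hg)) (core_norm ha) core_isPGroup

theorem V_ne : V ≠ ⊥ := by
  intro hV
  refine h.ntwo ?_
  have hG : G = ⊥ := le_bot_iff.mp fun x hx => by
    have hmem : x ∈ G ⊓ centralizer (V : Set X) := ⟨hx, Subgroup.mem_centralizer_iff.mpr fun v hv => by
      rw [hV] at hv
      rw [Subgroup.mem_bot.mp hv]; simp⟩
    rwa [h.faith] at hmem
  rw [hG]; exact IsPGroup.of_bot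

theorem r_ne_p [Finite X] [Fact p.Prime] : r ≠ p := h.cfg.r_ne_p h.V_ne

theorem qgrp [Finite X] {q : ℕ} {Y : Subgroup X} (hY : Y ≤ G) (hYa : a ∈ normalizer (Y : Set X))
    (hYq : IsPGroup q Y) (hne : q ≠ p) : QGrp p q r a G V (br Y a) :=
  ⟨h.cfg, h.faith, (br_le hYa).trans hY, norm_br, hYq.to_le (br_le hYa), hne,
    (h.cfg.act.mono hY hYa).br_br⟩

/-- Invariant subgroups of odd prime power order prime to `p` are fixed. -/
theorem odd_fixed [Finite X] [Fact p.Prime] {q : ℕ} [Fact q.Prime] {Y : Subgroup X} (hY : Y ≤ G)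
    (hYa : a ∈ normalizer (Y : Set X)) (hYq : IsPGroup q Y) (hne : q ≠ p) (h2 : q ≠ 2) :
    ∀ x ∈ Y, a * x = x * a := by
  refine br_eq_bot.mp ?_
  by_contra hb
  exact h2 ((h.qgrp hY hYa hYq hne).exists_m hb).1

theorem sylow_fixed_of_one [Finite X] {q : ℕ} [Fact q.Prime] {P S : Subgroup X} (hP : IsSylowIn q P G)
    (hPa : a ∈ normalizer (P : Set X)) (hb : br P a = ⊥) (hS : IsSylowIn q S G)
    (hSa : a ∈ normalizer (S : Set X)) : ∀ x ∈ S, a * x = x * a := by
  obtain ⟨c, hc, e⟩ := h.cfg.act.sylow_conj hP hS hPa hSa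
  refine br_eq_bot.mp ?_
  rw [← e, ← br_smul_of_fixed (mem_fx.mp hc).2, hb]
  exact Subgroup.map_bot _

theorem le_of_others_fixed [Finite X] {q₀ : ℕ} [Fact q₀.Prime] (hH : IsSylowIn q₀ H G)
    (hHa : a ∈ normalizer (H : Set X))
    (hfix : ∀ (q : ℕ) [Fact q.Prime], q ≠ q₀ → ∀ S : Subgroup X, IsSylowIn q S G →
      a ∈ normalizer (S : Set X) → ∀ x ∈ S, a * x = x * a) : G ≤ H := by
  rw [← h.brG]
  exact (br_le_br_of_mul (exists_mul_fixed_of_sylow h.cfg.act hH hfix)).trans (br_le hHa)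

omit h in
theorem a_norm_bot : a ∈ normalizer ((⊥ : Subgroup X) : Set X) :=
  mem_normalizer_of_centralizes fun x hx => by rw [Subgroup.mem_bot.mp hx]; simp

theorem podd [Finite X] [Fact p.Prime] : p ≠ 2 := by
  intro e
  haveI : Fact (Nat.Prime 2) := ⟨Nat.prime_two⟩
  obtain ⟨S, hS, hSa, -⟩ := h.cfg.act.exists_sylow (q := 2) bot_le IsPGroup.of_bot a_norm_bot
  have hGS := h.le_of_others_fixed hS hSa fun q _ hq Y hY hYa =>
    h.odd_fixed hY.1 hYa hY.2.1 (fun e' => hq (e'.trans e)) hq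
  exact h.ntwo (hS.2.1.to_le hGS)

theorem exists_P [Finite X] [Fact p.Prime] :
    ∃ P : Subgroup X, IsSylowIn p P G ∧ a ∈ normalizer (P : Set X) ∧ br P a ≠ ⊥ := by
  haveI : Fact (Nat.Prime 2) := ⟨Nat.prime_two⟩
  obtain ⟨P, hP, hPa, -⟩ := h.cfg.act.exists_sylow (q := p) bot_le IsPGroup.of_bot a_norm_bot
  obtain ⟨S, hS, hSa, -⟩ := h.cfg.act.exists_sylow (q := 2) bot_le IsPGroup.of_bot a_norm_bot
  refine ⟨P, hP, hPa, fun hb => h.ntwo (hS.2.1.to_le (h.le_of_others_fixed hS hSa ?_))⟩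
  intro q _ hq Y hY hYa
  rcases eq_or_ne q p with rfl | hne
  · exact h.sylow_fixed_of_one hP hPa hb hY hYa
  · exact h.odd_fixed hY.1 hYa hY.2.1 hne hq

theorem exists_E [Finite X] [Fact p.Prime] :
    ∃ S : Subgroup X, IsSylowIn 2 S G ∧ a ∈ normalizer (S : Set X) ∧ br S a ≠ ⊥ := by
  haveI : Fact (Nat.Prime 2) := ⟨Nat.prime_two⟩
  obtain ⟨P, hP, hPa, -⟩ := h.cfg.act.exists_sylow (q := p) bot_le IsPGroup.of_bot a_norm_bot
  obtain ⟨S, hS, hSa, -⟩ := h.cfg.act.exists_sylow (q := 2) bot_le IsPGroup.of_bot a_norm_bot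
  refine ⟨S, hS, hSa, fun hb => ?_⟩
  have hGP : G ≤ P := by
    refine h.le_of_others_fixed hP hPa ?_
    intro q _ hq Y hY hYa
    rcases eq_or_ne q 2 with rfl | hne
    · exact h.sylow_fixed_of_one hS hSa hb hY hYa
    · exact h.odd_fixed hY.1 hYa hY.2.1 hq hne
  have := h.pnorm_bot le_rfl Subgroup.le_normalizer h.cfg.act.norm (hP.2.1.to_le hGP)
  exact h.ntwo (by rw [this]; exact IsPGroup.of_bot)

theorem exists_hrm [Finite X] [Fact p.Prime] : ∃ m : ℕ, m ≠ 0 ∧ r = 2 ^ m + 1 := by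
  haveI : Fact (Nat.Prime 2) := ⟨Nat.prime_two⟩
  obtain ⟨S, hS, hSa, hE⟩ := h.exists_E
  obtain ⟨-, m, hm⟩ := (h.qgrp hS.1 hSa hS.2.1 h.podd.symm).exists_m hE
  refine ⟨m, ?_, hm⟩
  rintro rfl
  simp only [pow_zero] at hm
  have hS1 : S ≠ ⊥ := fun e => hE (le_bot_iff.mp ((br_le hSa).trans e.le))
  obtain ⟨k, hk⟩ := IsPGroup.iff_card.mp hS.2.1
  rcases k with _ | k
  · exact hS1 (Subgroup.card_eq_one.mp (by rw [hk, pow_zero]))
  · refine h.cfg.act.cop ((dvd_trans ?_ (Subgroup.card_dvd_of_le hS.1)))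
    rw [hk, hm]
    exact dvd_pow_self 2 k.succ_ne_zero

/-- A fixed normal subgroup is central. -/
theorem fixed_central (hn : G ≤ normalizer (N : Set X)) (hfix : ∀ x ∈ N, a * x = x * a) :
    N ≤ centralizer (G : Set X) := by
  have h1 : G ≤ centralizer (N : Set X) := h.brG.ge.trans (br_le_centralizer hn hfix)
  exact Subgroup.le_centralizer_iff.mp h1

/-- Proper invariant normal subgroups have `[N, a]` in the `2`-core. -/
theorem br_le_core [Finite X] [Fact p.Prime] (hN : N ≤ G) (hn : G ≤ normalizer (N : Set X))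
    (ha : a ∈ normalizer (N : Set X)) (hne : N ≠ G) : br N a ≤ core 2 G := by
  obtain ⟨M, hM1, hM2, hMp, hM3⟩ := h.ind N hN ha hne
  haveI : Fact (Nat.Prime 2) := ⟨Nat.prime_two⟩
  have hbot : core p (br N a) = ⊥ := by
    refine le_bot_iff.mp ((le_core (core_le.trans (br_le ha)) (fun g hg => core_norm (le_norm_br hg))
      core_isPGroup).trans (h.core_p_eq_bot hN hn ha).le)
  have hMbot : M = ⊥ := le_bot_iff.mp (hbot ▸ le_core hM1 hM2 hMp)
  have h2 : IsPGroup 2 (br N a) := fun d => by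
    obtain ⟨k, hk⟩ := hM3 d d.2
    rw [hMbot] at hk
    exact ⟨k, Subtype.ext (by simpa using hk)⟩
  exact (le_core (br_le ha) le_norm_br h2).trans
    (le_core (core_le.trans hN) (fun g hg => core_norm (hn hg)) core_isPGroup)

/-- Normal invariant abelian `2`-subgroups are central. -/
theorem abelian_two_central [Finite X] [Fact p.Prime] (hN : N ≤ G) (hn : G ≤ normalizer (N : Set X))
    (ha : a ∈ normalizer (N : Set X)) (hab : ∀ x ∈ N, ∀ y ∈ N, x * y = y * x) (h2 : IsPGroup 2 N) :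
    N ≤ centralizer (G : Set X) := by
  haveI : Fact (Nat.Prime 2) := ⟨Nat.prime_two⟩
  exact h.fixed_central hn (h.cfg.abelian_fixed h.faith hN ha hab (not_dvd_card_of_isPGroup h2 h.podd.symm))

omit h in
theorem core_normG [Finite X] {q : ℕ} : G ≤ normalizer ((core q G : Subgroup X) : Set X) := le_norm_core

theorem core_norma [Finite X] {q : ℕ} : a ∈ normalizer ((core q G : Subgroup X) : Set X) :=
  core_norm h.cfg.act.norm

/-- Commutators of the `2`-core are central in `G`. -/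
theorem core_comm [Finite X] [Fact p.Prime] {x y : X} (hx : x ∈ core 2 G) (hy : y ∈ core 2 G) :
    ⁅x, y⁆ ∈ centralizer (G : Set X) := by
  haveI : Fact (Nat.Prime 2) := ⟨Nat.prime_two⟩
  set T := core 2 G with hT
  have hT2 : IsPGroup 2 T := core_isPGroup
  haveI : Group.IsNilpotent ↥T := hT2.isNilpotent
  have hcen : ∀ z : ↥T, z ∈ Subgroup.center ↥T → (z : X) ∈ centralizer (G : Set X) := by
    intro z hz
    refine h.abelian_two_central (N := (Subgroup.center ↥T).map T.subtype)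
      ((Subgroup.map_subtype_le _).trans core_le) (fun g hg => char_norm (core_normG hg))
      (char_norm h.core_norma) ?_ (hT2.to_le (Subgroup.map_subtype_le _)) ⟨z, hz, rfl⟩
    rintro _ ⟨u, hu, rfl⟩ _ ⟨w, -, rfl⟩
    exact congrArg Subtype.val (Subgroup.mem_center_iff.mp hu w).symm
  set M : Subgroup ↥T := _root_.commutator ↥T ⊓ Subgroup.upperCentralSeries ↥T 2 with hMdef
  haveI : M.Characteristic := Subgroup.characteristic_inf
  have hz2 : ⁅Subgroup.upperCentralSeries ↥T 2, (⊤ : Subgroup ↥T)⁆ ≤ Subgroup.center ↥T :=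
    Subgroup.upperCentralSeries_one ↥T ▸ Subgroup.commutator_upperCentralSeries_top_le ↥T 1
  have h1 : ⁅⁅Subgroup.upperCentralSeries ↥T 2, (⊤ : Subgroup ↥T)⁆, (⊤ : Subgroup ↥T)⁆ = ⊥ :=
    le_bot_iff.mp ((Subgroup.commutator_mono hz2 le_rfl).trans
      (Subgroup.commutator_eq_bot_iff_le_centralizer.mpr (fun u hu =>
        Subgroup.mem_centralizer_iff.mpr fun w _ => Subgroup.mem_center_iff.mp hu w)).le)
  have h3 : ⁅_root_.commutator ↥T, Subgroup.upperCentralSeries ↥T 2⁆ = ⊥ := by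
    rw [_root_.commutator_def]
    exact Subgroup.commutator_commutator_eq_bot_of_rotate (by rw [Subgroup.commutator_comm (⊤ : Subgroup ↥T)]; exact h1) h1
  have hMcen : M ≤ Subgroup.center ↥T := by
    intro u hu
    have hu' : (u : X) ∈ centralizer (G : Set X) := h.abelian_two_central (N := M.map T.subtype)
      ((Subgroup.map_subtype_le _).trans core_le) (fun g hg => char_norm (core_normG hg))
      (char_norm h.core_norma) (by
        rintro _ ⟨v, hv, rfl⟩ _ ⟨w, hw, rfl⟩
        exact congrArg Subtype.val (Subgroup.mem_centralizer_iff.mp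
          (Subgroup.commutator_eq_bot_iff_le_centralizer.mp h3 hv.1) w hw.2).symm)
      (hT2.to_le (Subgroup.map_subtype_le _)) ⟨u, hu, rfl⟩
    exact Subgroup.mem_center_iff.mpr fun w => Subtype.ext (Subgroup.mem_centralizer_iff.mp hu' w (core_le w.2))
  have hD : _root_.commutator ↥T ≤ Subgroup.center ↥T := by
    by_contra hne
    haveI : ((_root_.commutator ↥T).map (QuotientGroup.mk' (Subgroup.center ↥T))).Normal :=
      Subgroup.Normal.map inferInstance _ (QuotientGroup.mk'_surjective _)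
    have hne' : (_root_.commutator ↥T).map (QuotientGroup.mk' (Subgroup.center ↥T)) ≠ ⊥ := by
      rwa [ne_eq, Subgroup.map_eq_bot_iff, QuotientGroup.ker_mk']
    obtain ⟨_, ⟨⟨u, hu, rfl⟩, huc⟩, hu1⟩ := Subgroup.bot_or_exists_ne_one _ |>.resolve_left
      (Grp.inf_center_ne_bot _ hne')
    refine hu1 ((QuotientGroup.eq_one_iff _).mpr (hMcen ⟨hu,
      Subgroup.mem_upperCentralSeries_succ_iff.mpr fun w => ?_⟩))
    rw [Subgroup.upperCentralSeries_one, ← QuotientGroup.eq_one_iff]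
    show QuotientGroup.mk' _ ⁅u, w⁆ = 1
    rw [map_commutatorElement, commutatorElement_eq_one_iff_mul_comm]
    exact (Subgroup.mem_center_iff.mp huc _).symm
  exact hcen ⁅(⟨x, hx⟩ : ↥T), ⟨y, hy⟩⁆
    (hD (Subgroup.commutator_mem_commutator (Subgroup.mem_top _) (Subgroup.mem_top _)))

theorem core_comm_mul_left [Finite X] [Fact p.Prime] {x y z : X} (hx : x ∈ core 2 G) (hy : y ∈ core 2 G)
    (hz : z ∈ core 2 G) : ⁅x * y, z⁆ = ⁅x, z⁆ * ⁅y, z⁆ := by
  rw [comm_mul_left_of_central (cc (h.core_comm hy hz) (core_le hx))]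
  exact cc (h.core_comm hy hz)
    (core_le (Subgroup.commutator_le_self _ (Subgroup.commutator_mem_commutator hx hz)))

theorem core_comm_mul_right [Finite X] [Fact p.Prime] {x y z : X} (hx : x ∈ core 2 G) (hy : y ∈ core 2 G)
    (hz : z ∈ core 2 G) : ⁅x, y * z⁆ = ⁅x, y⁆ * ⁅x, z⁆ :=
  comm_mul_right_of_central (cc (h.core_comm hx hz) (core_le hy))

theorem core_comm_pow_left [Finite X] [Fact p.Prime] {x y : X} (hx : x ∈ core 2 G) (hy : y ∈ core 2 G) (n : ℕ) :
    ⁅x ^ n, y⁆ = ⁅x, y⁆ ^ n := by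
  induction n with
  | zero => simp
  | succ n ih => rw [pow_succ, h.core_comm_mul_left ((core 2 G).pow_mem hx n) hx hy, ih, pow_succ]

theorem core_comm_pow_right [Finite X] [Fact p.Prime] {x y : X} (hx : x ∈ core 2 G) (hy : y ∈ core 2 G) (n : ℕ) :
    ⁅x, y ^ n⁆ = ⁅x, y⁆ ^ n := by
  induction n with
  | zero => simp
  | succ n ih => rw [pow_succ, h.core_comm_mul_right hx ((core 2 G).pow_mem hy n) hy, ih, pow_succ]

/-- The `n`-th powers are central as soon as they commute. -/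
theorem core_pow_central [Finite X] [Fact p.Prime] {n : ℕ}
    (hn : ∀ x ∈ core 2 G, ∀ y ∈ core 2 G, ⁅x, y⁆ ^ (n * n) = 1) {x : X} (hx : x ∈ core 2 G) :
    x ^ n ∈ centralizer (G : Set X) := by
  set M : Subgroup X := closure ((fun w => w ^ n) '' (core 2 G : Set X)) with hMdef
  have hMT : M ≤ core 2 G :=
    (Subgroup.closure_le _).mpr (by rintro _ ⟨w, hw, rfl⟩; exact (core 2 G).pow_mem hw n)
  have hnorm : ∀ g : X, g ∈ normalizer ((core 2 G : Subgroup X) : Set X) → g ∈ normalizer (M : Set X) := by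
    intro g hg
    rw [hMdef]
    refine Subgroup.normalizer_le_normalizer_closure _ (Subgroup.mem_set_normalizer_iff.mpr fun w => ?_)
    constructor
    · rintro ⟨v, hv, rfl⟩
      exact ⟨g * v * g⁻¹, (Subgroup.mem_normalizer_iff.mp hg v).mp hv, by simp⟩
    · rintro ⟨v, hv, e⟩
      refine ⟨g⁻¹ * v * g, (Subgroup.mem_normalizer_iff.mp hg _).mpr (by simpa [mul_assoc] using hv), ?_⟩
      have : (g⁻¹ * v * g) ^ n = g⁻¹ * v ^ n * g := by simpa using conj_pow (i := n) (a := g⁻¹) (b := v)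
      show (g⁻¹ * v * g) ^ n = w
      rw [this, show v ^ n = g * w * g⁻¹ from e]; group
  have hab : M ≤ centralizer (M : Set X) := by
    rw [hMdef, Subgroup.centralizer_closure, Subgroup.closure_le]
    rintro _ ⟨v, hv, rfl⟩
    refine Subgroup.mem_centralizer_iff.mpr ?_
    rintro _ ⟨v', hv', rfl⟩
    refine commutatorElement_eq_one_iff_mul_comm.mp ?_
    rw [h.core_comm_pow_left hv' ((core 2 G).pow_mem hv n), h.core_comm_pow_right hv' hv, ← pow_mul, hn v' hv' v hv]
  exact h.abelian_two_central (hMT.trans core_le) (fun g hg => hnorm g (core_normG hg))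
    (hnorm a h.core_norma) (fun u hu w hw => (Subgroup.mem_centralizer_iff.mp (hab hu) w hw).symm)
    (core_isPGroup.to_le hMT) (Subgroup.subset_closure ⟨x, hx, rfl⟩)

theorem core_comm_sq [Finite X] [Fact p.Prime] :
    ∀ x ∈ core 2 G, ∀ y ∈ core 2 G, ⁅x, y⁆ ^ 2 = 1 := by
  haveI : Fact (Nat.Prime 2) := ⟨Nat.prime_two⟩
  have key : ∀ s : ℕ, (∀ x ∈ core 2 G, ∀ y ∈ core 2 G, ⁅x, y⁆ ^ (2 ^ s) = 1) →
      ∀ x ∈ core 2 G, ∀ y ∈ core 2 G, ⁅x, y⁆ ^ 2 = 1 := by
    intro s
    induction s using Nat.strong_induction_on with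
    | _ s ih =>
    intro hs
    rcases Nat.lt_or_ge s 2 with h2 | h2
    · intro x hx y hy
      interval_cases s
      · have := hs x hx y hy
        rw [pow_zero, pow_one] at this
        rw [this, one_pow]
      · simpa using hs x hx y hy
    · refine ih ((s + 1) / 2) (by omega) fun x hx y hy => ?_
      rw [← h.core_comm_pow_left hx hy, commutatorElement_eq_one_iff_mul_comm]
      refine cc (h.core_pow_central (fun u hu w hw => ?_) hx) (core_le hy)
      rw [← pow_add]
      obtain ⟨d, hd⟩ : ∃ d, (s + 1) / 2 + (s + 1) / 2 = s + d := ⟨(s + 1) / 2 + (s + 1) / 2 - s, by omega⟩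
      rw [hd, pow_add, pow_mul, hs u hu w hw, one_pow]
  obtain ⟨N, hN⟩ := IsPGroup.iff_card.mp (core_isPGroup (X := X) (p := 2) (H := G))
  refine key N fun x hx y hy => ?_
  have hm : ⁅x, y⁆ ∈ core 2 G :=
    Subgroup.commutator_le_self _ (Subgroup.commutator_mem_commutator hx hy)
  have := pow_card_eq_one' (x := (⟨⁅x, y⁆, hm⟩ : ↥(core 2 G)))
  rw [hN] at this
  simpa using congrArg Subtype.val this

theorem core_sq_central [Finite X] [Fact p.Prime] {x : X} (hx : x ∈ core 2 G) :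
    x ^ 2 ∈ centralizer (G : Set X) :=
  h.core_pow_central (fun u hu w hw => by rw [pow_mul, h.core_comm_sq u hu w hw, one_pow]) hx

/-- `G` has at most one central involution. -/
theorem invol_unique [Finite X] [Fact p.Prime] {z w : X} (hz : z ∈ G) (hzc : z ∈ centralizer (G : Set X))
    (hzf : a * z = z * a) (hz2 : z ^ 2 = 1) (hz1 : z ≠ 1) (hw : w ∈ G) (hwc : w ∈ centralizer (G : Set X))
    (hwf : a * w = w * a) (hw2 : w ^ 2 = 1) (hw1 : w ≠ 1) : z = w := by
  have key : ∀ u ∈ G, u ∈ centralizer (G : Set X) → a * u = u * a → u ^ 2 = 1 → u ≠ 1 →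
      ∀ v ∈ V, u * v * u⁻¹ = v⁻¹ := by
    intro u hu huc huf hu2 hu1 v hv
    have hW := h.irred (V ⊓ centralizer ({u} : Set X)) inf_le_left
      (fun g hg => mem_normalizer_inf (h.cfg.normG hg) (by
        rw [← Subgroup.centralizer_closure ({u} : Set X)]
        refine mem_normalizer_centralizer (mem_normalizer_of_centralizes fun x hx => ?_)
        rw [← Subgroup.zpowers_eq_closure] at hx
        obtain ⟨i, rfl⟩ := mem_zpowers_iff.mp hx
        exact ((show Commute g u from (cc huc hg).symm).zpow_right i).eq))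
      (mem_normalizer_inf h.cfg.norma (by
        rw [← Subgroup.centralizer_closure ({u} : Set X)]
        refine mem_normalizer_centralizer (mem_normalizer_of_centralizes fun x hx => ?_)
        rw [← Subgroup.zpowers_eq_closure] at hx
        obtain ⟨i, rfl⟩ := mem_zpowers_iff.mp hx
        exact ((show Commute a u from huf).zpow_right i).eq))
    have huu : u * u = 1 := by rw [← sq]; exact hu2
    rcases hW with hW | hW
    · have huv : u * v * u⁻¹ ∈ V := conj_mem (h.cfg.normG hu) hv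
      have hfix : v * (u * v * u⁻¹) ∈ V ⊓ centralizer ({u} : Set X) := by
        refine ⟨V.mul_mem hv huv, Subgroup.mem_centralizer_singleton_iff.mpr ?_⟩
        have hui : u⁻¹ = u := inv_eq_of_mul_eq_one_right huu
        symm
        calc u * (v * (u * v * u⁻¹)) = (u * v * u⁻¹) * (u * (u * v * u⁻¹)) := by group
          _ = (u * v * u⁻¹) * (u * u * v * u⁻¹) := by group
          _ = (u * v * u⁻¹) * (v * u) := by rw [huu, one_mul, hui]
          _ = _ := by rw [← mul_assoc, h.cfg.comm huv hv]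
      rw [hW, Subgroup.mem_bot] at hfix
      exact eq_inv_of_mul_eq_one_right hfix
    · refine absurd ?_ hu1
      have hmem : u ∈ G ⊓ centralizer (V : Set X) := ⟨hu, Subgroup.mem_centralizer_iff.mpr fun v hv =>
        Subgroup.mem_centralizer_singleton_iff.mp (inf_eq_left.mp hW hv)⟩
      rwa [h.faith] at hmem
  have hmem : z * w ∈ G ⊓ centralizer (V : Set X) := ⟨G.mul_mem hz hw, Subgroup.mem_centralizer_iff.mpr fun v hv => by
    have e : z * w * v * (z * w)⁻¹ = v := by
      calc z * w * v * (z * w)⁻¹ = z * (w * v * w⁻¹) * z⁻¹ := by group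
        _ = z * v⁻¹ * z⁻¹ := by rw [key w hw hwc hwf hw2 hw1 v hv]
        _ = (z * v * z⁻¹)⁻¹ := by group
        _ = v := by rw [key z hz hzc hzf hz2 hz1 v hv, inv_inv]
    exact (mul_inv_eq_iff_eq_mul.mp e).symm⟩
  rw [h.faith, Subgroup.mem_bot] at hmem
  rw [eq_inv_of_mul_eq_one_left hmem]
  exact inv_eq_of_mul_eq_one_right (by rw [← sq]; exact hw2)

end Min

end Cfsg.Agent.Invol.Shult.Red
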