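import Mathlib
import Cfsg.Agent.Lib.Invol.Shult.ReduceFree
import Cfsg.Agent.Lib.Invol.Shult.ReduceMin

/-!
In a minimal configuration the largest normal `2`-subgroup of `G` is central.
-/

set_option autoImplicit false
set_option maxHeartbeats 800000

namespace Cfsg.Agent.Invol.Shult.Red

open Subgroup
open scoped Pointwise commutatorElement
open Cfsg.Agent.Grp (IsSylowIn)

variable {X : Type*} [Group X] {a : X} {p r : ℕ} {G V P T K : Subgroup X}

theorem mem_sup_mul (hK : K ≤ normalizer (T : Set X)) {x : X} (hx : x ∈ T ⊔ K) :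
    ∃ t ∈ T, ∃ k ∈ K, x = t * k := by
  rw [← SetLike.mem_coe, Subgroup.coe_mul_of_right_le_normalizer_left T K hK, Set.mem_mul] at hx
  obtain ⟨t, ht, k, hk, e⟩ := hx
  exact ⟨t, ht, k, hk, e.symm⟩

/-- The equations for the rank of a moved `2`-section are impossible. -/
theorem rank_arith {m r n f : ℕ} (hm : m ≠ 0) (hr : r.Prime) (hrm : r = 2 ^ m + 1) (hd : r ∣ n) (hn : n ≠ 0)
    (hle : n ≤ 4 * m) (hf : n = 2 * m + f) (hf1 : f ≠ 1) : False := by
  have hrn : r ≤ n := Nat.le_of_dvd (Nat.pos_of_ne_zero hn) hd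
  have hbig : ∀ k, 4 ≤ k → 4 * k < 2 ^ k + 1 := by
    intro k hk
    induction k, hk using Nat.le_induction with
    | base => norm_num
    | succ k hk ih =>
      have : 2 ^ (k + 1) = 2 ^ k + 2 ^ k := by ring
      omega
  rcases Nat.lt_or_ge m 4 with h4 | h4
  · obtain ⟨q, rfl⟩ := hd
    interval_cases m
    · exact hm rfl
    · norm_num at hrm
      subst hrm
      omega
    · norm_num at hrm
      subst hrm
      omega
    · norm_num at hrm
      subst hrm
      norm_num at hr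
  · have := hbig m h4
    omega

theorem relIndex_eq_card_quot (H K : Subgroup X) : H.relIndex K = Nat.card (↥K ⧸ H.subgroupOf K) := rfl

namespace Min

variable (h : Min p r a G V)
include h

/-- If `G ≠ T P₁` for an invariant `p`-subgroup `P₁`, then `a` centralizes `P₁`. -/
theorem br_eq_bot_of_sup_ne [Finite X] [hp : Fact p.Prime]
    (hM : ∀ x ∈ G ⊓ centralizer ((core 2 G : Subgroup X) : Set X), ∀ j : ℕ, x ^ p ^ j = 1 → x = 1)
    {P₁ : Subgroup X} (hP₁ : P₁ ≤ G) (ha : a ∈ normalizer (P₁ : Set X)) (hp₁ : IsPGroup p P₁)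
    (hne : core 2 G ⊔ P₁ ≠ G) : br P₁ a = ⊥ := by
  set T := core 2 G with hT
  have hH : T ⊔ P₁ ≤ G := sup_le core_le hP₁
  have hHa : a ∈ normalizer ((T ⊔ P₁ : Subgroup X) : Set X) :=
    Grp.le_normalizer_sup' (zpowers_le.mpr h.core_norma) (zpowers_le.mpr ha) (mem_zpowers a)
  obtain ⟨N, hN1, hN2, hNp, hN3⟩ := h.ind _ hH hHa hne
  have hmemN : ∀ y ∈ br (T ⊔ P₁) a, ∀ j : ℕ, y ^ p ^ j = 1 → y ∈ N := by
    intro y hy j hj
    obtain ⟨k, hk⟩ := hN3 y hy
    have hcop : (2 ^ k).Coprime (orderOf y) := Nat.Coprime.coprime_dvd_right (orderOf_dvd_of_pow_eq_one hj)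
      (Nat.Coprime.pow k j ((Nat.coprime_primes Nat.prime_two hp.out).mpr h.podd.symm))
    obtain ⟨u, hu⟩ := exists_pow_eq_self_of_coprime hcop
    rw [← hu]; exact N.pow_mem hk u
  have hNM : ∀ n ∈ N, n = 1 := by
    intro n hn
    obtain ⟨j, hj⟩ := exists_pow_p hNp hn
    refine hM n ⟨hH (br_le hHa (hN1 hn)), Subgroup.mem_centralizer_iff.mpr fun t ht => ?_⟩ j hj
    refine commutatorElement_eq_one_iff_mul_comm.mp ?_
    have h1 : t * n * t⁻¹ ∈ br (T ⊔ P₁) a := conj_mem (le_norm_br (le_sup_left (b := P₁) ht)) (hN1 hn)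
    have h2 : t * n * t⁻¹ ∈ N := hmemN _ h1 j (by rw [conj_pow, hj, mul_one, mul_inv_cancel])
    have h3 : ⁅t, n⁆ ∈ N := by rw [commutatorElement_def]; exact N.mul_mem h2 (N.inv_mem hn)
    have h4 : ⁅t, n⁆ ∈ T := by
      rw [commutatorElement_def, show t * n * t⁻¹ * n⁻¹ = t * (n * t⁻¹ * n⁻¹) by group]
      exact T.mul_mem ht (conj_mem (core_normG (hH (br_le hHa (hN1 hn)))) (T.inv_mem ht))
    obtain ⟨i, hi⟩ := exists_pow_two core_isPGroup h4
    obtain ⟨j', hj'⟩ := exists_pow_p hNp h3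
    exact eq_one_of_two_and_p h.podd hi hj'
  refine le_bot_iff.mp fun y hy => Subgroup.mem_bot.mpr ?_
  obtain ⟨j, hj⟩ := exists_pow_p hp₁ (br_le ha hy)
  exact hNM y (hmemN y (br_mono le_sup_right hy) j hj)

/-- The `2`-core is central. -/
theorem core_two_central [Finite X] [hp : Fact p.Prime] : core 2 G ≤ centralizer (G : Set X) := by
  classical
  haveI h2 : Fact (Nat.Prime 2) := ⟨Nat.prime_two⟩
  set T := core 2 G with hTdef
  by_contra hT
  have hT2 : IsPGroup 2 T := core_isPGroup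
  have hTG : T ≤ G := core_le
  have hGT : G ≤ normalizer (T : Set X) := core_normG
  have haT : a ∈ normalizer (T : Set X) := h.core_norma
  -- the centralizer of the core
  set M := G ⊓ centralizer (T : Set X) with hMdef
  have hMn : G ≤ normalizer (M : Set X) := fun g hg =>
    mem_normalizer_inf (Subgroup.le_normalizer hg) (mem_normalizer_centralizer (hGT hg))
  have hMa : a ∈ normalizer (M : Set X) :=
    mem_normalizer_inf h.cfg.act.norm (mem_normalizer_centralizer haT)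
  have hMne : M ≠ G := fun e => hT (Subgroup.le_centralizer_iff.mp (inf_eq_left.mp e))
  have hMT : br M a ≤ T := h.br_le_core inf_le_left hMn hMa hMne
  have hMfix : br M a = ⊥ := by
    refine (h.cfg.act.mono inf_le_left hMa).br_eq_bot_of_series le_rfl
      (h.cfg.abelian_fixed h.faith ((br_le hMa).trans inf_le_left) norm_br ?_ ?_)
    · exact fun x hx y hy =>
        (Subgroup.mem_centralizer_iff.mp (br_le hMa hx).2 y (hMT hy)).symm
    · exact not_dvd_card_of_isPGroup (hT2.to_le hMT) h.podd.symm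
  have hMc : M ≤ centralizer (G : Set X) := h.fixed_central hMn (br_eq_bot.mp hMfix)
  have hM : ∀ x ∈ M, ∀ j : ℕ, x ^ p ^ j = 1 → x = 1 := by
    intro x hx j hj
    have hz : zpowers x = ⊥ := h.pnorm_bot (zpowers_le.mpr hx.1)
      (fun g hg => mem_normalizer_of_centralizes fun y hy => by
        obtain ⟨i, rfl⟩ := mem_zpowers_iff.mp hy
        exact ((show Commute g x from (cc (hMc hx) hg).symm).zpow_right i).eq)
      (mem_normalizer_of_centralizes fun y hy => by
        obtain ⟨i, rfl⟩ := mem_zpowers_iff.mp hy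
        exact ((show Commute a x from br_eq_bot.mp hMfix x hx).zpow_right i).eq)
      (fun y => ⟨j, Subtype.ext (by
        obtain ⟨i, hi⟩ := mem_zpowers_iff.mp y.2
        rw [Subgroup.coe_pow, ← hi, ← zpow_natCast, ← zpow_mul, mul_comm, zpow_mul, zpow_natCast, hj,
          one_zpow, Subgroup.coe_one])⟩)
    exact Subgroup.zpowers_eq_bot.mp hz
  -- a moved Sylow `p`-subgroup
  obtain ⟨P, hP, hPa, hPne⟩ := h.exists_P
  have hPG : P ≤ G := hP.1
  have hPT : P ≤ normalizer (T : Set X) := hPG.trans hGT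
  have hbrbr : br (br P a) a = br P a := (h.cfg.act.mono hPG hPa).br_br
  have hGP : T ⊔ P = G := by
    by_contra hne
    exact hPne (h.br_eq_bot_of_sup_ne hM hPG hPa hP.2.1 hne)
  have hPT1 : ∀ x ∈ P, x ∈ T → x = 1 := fun x hx hxT => by
    obtain ⟨i, hi⟩ := exists_pow_two hT2 hxT
    obtain ⟨j, hj⟩ := exists_pow_p hP.2.1 hx
    exact eq_one_of_two_and_p h.podd hi hj
  have hPeq : ∀ P₁ : Subgroup X, P₁ ≤ P → a ∈ normalizer (P₁ : Set X) → br P₁ a ≠ ⊥ → P₁ = P := by
    intro P₁ h1 h2 h3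
    refine le_antisymm h1 fun x hx => ?_
    have hG1 : T ⊔ P₁ = G := by
      by_contra hne
      exact h3 (h.br_eq_bot_of_sup_ne hM (h1.trans hPG) h2 (hP.2.1.to_le h1) hne)
    obtain ⟨t, ht, k, hk, e⟩ := mem_sup_mul (h1.trans hPT) (hG1.ge (hPG hx))
    have : t = 1 := hPT1 t (by
      rw [show t = x * k⁻¹ by rw [e, mul_inv_cancel_right]]
      exact P.mul_mem hx (P.inv_mem (h1 hk))) ht
    rw [e, this, one_mul]; exact hk
  have hPbr : br P a = P := hPeq _ (br_le hPa) norm_br (hbrbr.symm ▸ hPne)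
  have hPfixed : ∀ P₁ : Subgroup X, P₁ ≤ P → a ∈ normalizer (P₁ : Set X) → P₁ ≠ P →
      ∀ x ∈ P₁, a * x = x * a := by
    intro P₁ h1 h2 h3
    refine br_eq_bot.mp ?_
    by_contra hb
    exact h3 (hPeq P₁ h1 h2 hb)
  have hPC : ∀ x ∈ P, (∀ t ∈ T, t * x = x * t) → x = 1 := fun x hx hc => by
    obtain ⟨j, hj⟩ := exists_pow_p hP.2.1 hx
    exact hM x ⟨hPG hx, Subgroup.mem_centralizer_iff.mpr hc⟩ j hj
  -- the centre of the core
  set Z := T ⊓ centralizer (G : Set X) with hZdef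
  have hZT : Z ≤ T := inf_le_left
  have hGZ : G ≤ normalizer (Z : Set X) := fun g hg => mem_normalizer_of_centralizes fun z hz =>
    (cc hz.2 hg).symm
  have haZ : a ∈ normalizer (Z : Set X) :=
    mem_normalizer_inf haT (mem_normalizer_centralizer h.cfg.act.norm)
  have hZfix : ∀ z ∈ Z, a * z = z * a := h.cfg.abelian_fixed h.faith (hZT.trans hTG) haZ
    (fun x hx y hy => cc hx.2 (hTG hy.1)) (not_dvd_card_of_isPGroup (hT2.to_le hZT) h.podd.symm)
  have hcomm : ∀ x ∈ T, ∀ y ∈ T, ⁅x, y⁆ ∈ Z := fun x hx y hy =>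
    ⟨Subgroup.commutator_le_self _ (Subgroup.commutator_mem_commutator hx hy), h.core_comm hx hy⟩
  have hsq : ∀ x ∈ T, x ^ 2 ∈ Z := fun x hx => ⟨T.pow_mem hx 2, h.core_sq_central hx⟩
  obtain ⟨x₀, hx₀, y₀, hy₀, hz₀⟩ : ∃ x ∈ T, ∃ y ∈ T, ⁅x, y⁆ ≠ 1 := by
    by_contra hc
    push Not at hc
    exact hT (h.abelian_two_central hTG hGT haT
      (fun x hx y hy => commutatorElement_eq_one_iff_mul_comm.mp (hc x hx y hy)) hT2)
  set z₀ := ⁅x₀, y₀⁆ with hz₀def
  have hz₀Z : z₀ ∈ Z := hcomm x₀ hx₀ y₀ hy₀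
  have hval : ∀ x ∈ T, ∀ y ∈ T, ⁅x, y⁆ ∈ zpowers z₀ := by
    intro x hx y hy
    by_cases h1 : ⁅x, y⁆ = 1
    · rw [h1]; exact one_mem _
    · rw [h.invol_unique (hTG (hcomm x hx y hy).1) (hcomm x hx y hy).2 (hZfix _ (hcomm x hx y hy))
        (h.core_comm_sq x hx y hy) h1 (hTG hz₀Z.1) hz₀Z.2 (hZfix _ hz₀Z) (h.core_comm_sq x₀ hx₀ y₀ hy₀) hz₀]
      exact mem_zpowers _
  have hcardz : Nat.card (zpowers z₀) = 2 := by
    rw [Nat.card_zpowers]
    exact orderOf_eq_prime (h.core_comm_sq x₀ hx₀ y₀ hy₀) hz₀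
  -- the moved part of the core
  set E := br T a with hEdef
  have hET : E ≤ T := br_le haT
  have hTE : T ≤ normalizer (E : Set X) := le_norm_br
  have hactT : Act a r T := h.cfg.act.mono hTG haT
  have hq : QGrp p 2 r a G V E := h.qgrp hTG haT hT2 h.podd.symm
  have hE : E ≠ ⊥ := fun e => hT (h.fixed_central hGT (br_eq_bot.mp e))
  have hΦle : fx E a ≤ zpowers z₀ := by
    rw [hq.fixed_eq_comm, Subgroup.commutator_le]
    exact fun x hx y hy => hval x (hET hx) y (hET hy)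
  have hΦne : fx E a ≠ ⊥ := fun e => hE (hq.eq_bot_of_abelian fun x hx y hy =>
    commutatorElement_eq_one_iff_mul_comm.mp (Subgroup.mem_bot.mp (e ▸ hq.comm_mem hx hy)))
  have hΦcard : Nat.card (fx E a) = 2 := by
    rcases Nat.prime_two.eq_one_or_self_of_dvd _ (hcardz ▸ Subgroup.card_dvd_of_le hΦle) with h1 | h1
    · exact absurd (Subgroup.card_eq_one.mp h1) hΦne
    · exact h1
  have hz₀Φ : z₀ ∈ fx E a := by
    rw [Subgroup.eq_of_le_of_card_ge hΦle (by rw [hΦcard, hcardz])]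
    exact mem_zpowers _
  have hzpΦ : zpowers z₀ ≤ fx E a := zpowers_le.mpr hz₀Φ
  have hDi : (⊥ : Subgroup X).relIndex (fx E a) = 2 := by rw [Subgroup.relIndex_bot_left, hΦcard]
  obtain ⟨-, m, hrm, hcard⟩ := hq.weight_facts (D := ⊥) bot_le hDi (by
    intro hle
    refine hΦne (le_bot_iff.mp fun z hz => ?_)
    have hmem : z ∈ G ⊓ centralizer (V : Set X) := ⟨hTG (hET (fx_le hz)),
      Subgroup.mem_centralizer_iff.mpr fun v hv => by
        have hv' : v ∈ V ⊓ centralizer ((⊥ : Subgroup X) : Set X) :=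
          ⟨hv, Subgroup.mem_centralizer_iff.mpr fun w hw => by rw [Subgroup.mem_bot.mp hw]; simp⟩
        exact (Subgroup.mem_centralizer_iff.mp (hle hv') z hz).symm⟩
    rwa [h.faith] at hmem)
  have hm : m ≠ 0 := by
    rintro rfl
    simp only [pow_zero] at hrm
    exact h.cfg.act.cop (dvd_trans (by rw [hrm, hΦcard]) (Subgroup.card_dvd_of_le (fx_le.trans (hET.trans hTG))))
  have hrad : rad E ⊥ = fx E a := by
    refine le_antisymm (fun x hx => ?_) hq.fixed_le_rad
    obtain ⟨hxE, hxc⟩ := hq.mem_rad.mp hx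
    exact hq.center_le_fixed ⟨hxE, Subgroup.mem_centralizer_iff.mpr fun y hy =>
      (commutatorElement_eq_one_iff_mul_comm.mp (Subgroup.mem_bot.mp (hxc y hy))).symm⟩
  -- the fixed part of the core
  set C := fx T a with hCdef
  have hZC : Z ≤ C := fun z hz => mem_fx.mpr ⟨hz.1, hZfix z hz⟩
  have hCE : ∀ c ∈ C, ∀ e ∈ E, c * e = e * c := by
    intro c hc e he
    refine hq.centralizes_br (W := E) le_rfl hq.norm (mem_fx.mp hc).2 (fun x hx => ?_) e (hq.brE.ge he)
    have h1 : ⁅x⁻¹, c⁆ ∈ fx E a := hzpΦ (hval _ (T.inv_mem (hET hx)) _ (fx_le hc))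
    rw [commutatorElement_def, inv_inv] at h1
    convert h1 using 1
    group
  have hCindex : C.relIndex T = 2 ^ (2 * m) := by
    have h1 : (fx E a).relIndex E = 2 ^ (2 * m) := by
      refine Nat.eq_of_mul_eq_mul_left (n := Nat.card ((fx E a).subgroupOf E)) Nat.card_pos ?_
      rw [Subgroup.relIndex, Subgroup.card_mul_index,
        Nat.card_congr (Subgroup.subgroupOfEquivOfLe (fx_le (H := E) (a := a))).toEquiv, hcard, hrad, mul_comm]
    have h2 : C.relIndex E = (fx E a).relIndex E := by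
      rw [← Subgroup.inf_relIndex_right C E]
      congr 1
      refine le_antisymm (fun x hx => mem_fx.mpr ⟨hx.2, (mem_fx.mp hx.1).2⟩)
        (fun x hx => ⟨mem_fx.mpr ⟨hET (fx_le hx), (mem_fx.mp hx).2⟩, fx_le hx⟩)
    rw [← h1, ← h2]
    let F : ↥E ⧸ C.subgroupOf E → ↥T ⧸ C.subgroupOf T :=
      Quotient.lift (fun e : ↥E => (QuotientGroup.mk (⟨e, hET e.2⟩ : ↥T) : ↥T ⧸ C.subgroupOf T)) (fun c d hcd => by
        have h3 := QuotientGroup.leftRel_apply.mp hcd
        exact QuotientGroup.eq.mpr h3)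
    rw [relIndex_eq_card_quot, relIndex_eq_card_quot]
    refine (Nat.card_eq_of_bijective F ⟨?_, ?_⟩).symm
    · rintro ⟨c⟩ ⟨d⟩ e
      have h3 : (⟨c, hET c.2⟩ : ↥T)⁻¹ * ⟨d, hET d.2⟩ ∈ C.subgroupOf T := QuotientGroup.eq.mp e
      exact Quotient.sound (QuotientGroup.leftRel_apply.mpr h3)
    · rintro ⟨t⟩
      obtain ⟨e, he, c, hc, htc⟩ := hactT.exists_br_mul_fx t.2
      refine ⟨QuotientGroup.mk (⟨e, he⟩ : ↥E), QuotientGroup.eq.mpr ?_⟩
      show e⁻¹ * (t : X) ∈ C
      rw [htc, inv_mul_cancel_left]; exact hc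
  -- `T = [T, P]`
  set T₁ : Subgroup X := ⁅T, P⁆ with hT₁def
  have hT₁T : T₁ ≤ T := Grp.commutator_le_left_of_le_normalizer hPT
  have haT₁ : a ∈ normalizer (T₁ : Set X) := normalizer_commutator_of haT hPa
  have hT₁eq : T ≤ T₁ := by
    have hH : T₁ ⊔ P ≤ G := sup_le (hT₁T.trans hTG) hPG
    have hHa : a ∈ normalizer ((T₁ ⊔ P : Subgroup X) : Set X) :=
      Grp.le_normalizer_sup' (zpowers_le.mpr haT₁) (zpowers_le.mpr hPa) (mem_zpowers a)
    have hTH : T ≤ normalizer ((T₁ ⊔ P : Subgroup X) : Set X) := by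
      intro t ht
      rw [Grp.mem_normalizer_iff_smul]
      refine Subgroup.eq_of_le_of_card_ge ?_ (Grp.card_conj_smul _ _).ge
      rw [← Grp.map_conj_eq_smul, Subgroup.map_sup]
      refine sup_le ?_ ?_
      · rw [Grp.map_conj_eq_smul, Grp.mem_normalizer_iff_smul.mp (Grp.left_le_normalizer_commutator P T ht)]
        exact le_sup_left
      · rintro _ ⟨g, hg, rfl⟩
        show t * g * t⁻¹ ∈ T₁ ⊔ P
        rw [show t * g * t⁻¹ = ⁅t, g⁆ * g by rw [commutatorElement_def]; group]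
        exact Subgroup.mul_mem_sup (Subgroup.commutator_mem_commutator ht hg) hg
    have hHn : G ≤ normalizer ((T₁ ⊔ P : Subgroup X) : Set X) :=
      hGP.ge.trans (sup_le hTH (le_sup_right.trans Subgroup.le_normalizer))
    by_cases hne : T₁ ⊔ P = G
    · intro t ht
      obtain ⟨t₁, ht₁, k, hk, e⟩ := mem_sup_mul (T := T₁) (K := P)
        (Grp.right_le_normalizer_commutator P T) (hne.ge (hTG ht))
      have : k = 1 := hPT1 k hk (by
        rw [show k = t₁⁻¹ * t by rw [e, inv_mul_cancel_left]]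
        exact T.mul_mem (T.inv_mem (hT₁T ht₁)) ht)
      rw [e, this, mul_one]; exact ht₁
    · exfalso
      refine hPne (le_bot_iff.mp fun x hx => Subgroup.mem_bot.mpr ?_)
      exact hPT1 x (br_le hPa hx) (h.br_le_core hH hHn hHa hne (br_mono le_sup_right hx))
  -- only central elements are fixed by `P` modulo the centre
  have hU : ∀ t ∈ T, (∀ g ∈ P, t⁻¹ * (g * t * g⁻¹) ∈ Z) → t ∈ Z := by
    intro t ht hg
    have hle : T₁ ≤ centralizer ({t} : Set X) := by
      rw [hT₁def, Subgroup.commutator_le]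
      intro y hy g hgP
      refine Subgroup.mem_centralizer_singleton_iff.mpr (commutatorElement_eq_one_iff_mul_comm.mp ?_)
      have hy' : g * y⁻¹ * g⁻¹ ∈ T := conj_mem (hPT hgP) (T.inv_mem hy)
      have hw : t⁻¹ * (g⁻¹ * t * g) ∈ Z := by simpa using hg g⁻¹ (P.inv_mem hgP)
      rw [show ⁅y, g⁆ = y * (g * y⁻¹ * g⁻¹) by rw [commutatorElement_def]; group, h.core_comm_mul_left hy hy' ht]
      have e1 : ⁅g * y⁻¹ * g⁻¹, t⁆ = g * ⁅y⁻¹, g⁻¹ * t * g⁆ * g⁻¹ := by
        simp only [commutatorElement_def]; group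
      have e2 : ⁅y⁻¹, g⁻¹ * t * g⁆ = ⁅y⁻¹, t⁆ := by
        rw [show g⁻¹ * t * g = t * (t⁻¹ * (g⁻¹ * t * g)) by group,
          h.core_comm_mul_right (T.inv_mem hy) ht hw.1,
          commutatorElement_eq_one_iff_mul_comm.mpr (cc hw.2 (hTG (T.inv_mem hy))).symm, mul_one]
      rw [e1, e2, ← cc (h.core_comm (T.inv_mem hy) ht) (hPG hgP), mul_inv_cancel_right,
        ← h.core_comm_mul_left hy (T.inv_mem hy) ht, mul_inv_cancel, commutatorElement_one_left]
    have hc : t ∈ centralizer (T : Set X) := Subgroup.mem_centralizer_iff.mpr fun y hy =>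
      (Subgroup.mem_centralizer_singleton_iff.mp (hle (hT₁eq hy)))
    exact ⟨ht, hMc ⟨hTG ht, hc⟩⟩
  -- conjugate fixed parts meet in the centre
  obtain ⟨x₁, hx₁, hx₁f⟩ : ∃ x ∈ P, a * x ≠ x * a := by
    by_contra hc
    push Not at hc
    exact hPne (br_eq_bot.mpr hc)
  have hrp : r ≠ p := h.r_ne_p
  have hD2 : C ⊓ MulAut.conj x₁ • C ≤ Z := by
    intro t ht
    set y := a * x₁ * a⁻¹ * x₁⁻¹ with hy
    have hyP : y ∈ P := P.mul_mem (conj_mem hPa hx₁) (P.inv_mem hx₁)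
    set D := C ⊓ MulAut.conj x₁ • C with hD
    have hyD : y ∈ centralizer (D : Set X) := by
      refine Subgroup.mem_centralizer_iff.mpr fun s hs => ?_
      obtain ⟨c, hc, e⟩ := hs.2
      have e' : x₁ * c * x₁⁻¹ = s := e
      have hsa := (mem_fx'.mp hs.1).2
      have hca := (mem_fx'.mp hc).2
      symm
      refine mul_inv_eq_iff_eq_mul.mp ?_
      calc y * s * y⁻¹ = (a * x₁ * a⁻¹) * (x₁⁻¹ * s * x₁) * (a * x₁ * a⁻¹)⁻¹ := by rw [hy]; group
        _ = (a * x₁ * a⁻¹) * (a * c * a⁻¹) * (a * x₁ * a⁻¹)⁻¹ := by rw [hca, ← e']; group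
        _ = a * (x₁ * c * x₁⁻¹) * a⁻¹ := by group
        _ = s := by rw [e', hsa]
    set P₁ := P ⊓ centralizer (D : Set X) with hP₁
    have hP₁a : a ∈ normalizer (P₁ : Set X) := mem_normalizer_inf hPa
      (mem_normalizer_centralizer (mem_normalizer_of_centralizes fun s hs => (mem_fx.mp hs.1).2))
    have hP₁P : P₁ = P := by
      by_contra hne
      have hyf := hPfixed P₁ inf_le_left hP₁a hne y ⟨hyP, hyD⟩
      have hpow : ∀ i : ℕ, a ^ i * x₁ * (a ^ i)⁻¹ = y ^ i * x₁ := by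
        intro i
        induction i with
        | zero => simp
        | succ i ih =>
          calc a ^ (i + 1) * x₁ * (a ^ (i + 1))⁻¹ = a * (a ^ i * x₁ * (a ^ i)⁻¹) * a⁻¹ := by
                rw [pow_succ']; group
            _ = a * y ^ i * a⁻¹ * (a * x₁ * a⁻¹) := by rw [ih]; group
            _ = y ^ i * (y * x₁) := by
                rw [((show Commute a y from hyf).pow_right i).eq, mul_inv_cancel_right, hy]; group
            _ = y ^ (i + 1) * x₁ := by rw [pow_succ]; group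
      have hyr : y ^ r = 1 := by
        have := hpow r
        rw [h.cfg.act.pow_r] at this
        simpa using this.symm
      obtain ⟨j, hj⟩ := exists_pow_p hP.2.1 hyP
      have hy1 : y = 1 := by
        have h' := pow_gcd_eq_one.mpr ⟨hyr, hj⟩
        rwa [(((Nat.coprime_primes h.cfg.act.prime hp.out).mpr hrp).pow_right j).gcd_eq_one, pow_one] at h'
      rw [hy, mul_inv_eq_one, mul_inv_eq_iff_eq_mul] at hy1
      exact hx₁f hy1
    refine hU t (fx_le ht.1) fun g hg => ?_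
    have hgD : g ∈ centralizer (D : Set X) := (hP₁P.ge hg).2
    rw [← Subgroup.mem_centralizer_iff.mp hgD t ht, mul_inv_cancel_right, inv_mul_cancel]
    exact Z.one_mem
  -- `P` is abelian
  have hPab : ∀ x ∈ P, ∀ y ∈ P, x * y = y * x := by
    haveI : Group.IsNilpotent ↥P := hP.2.1.isNilpotent
    by_contra hc
    push Not at hc
    obtain ⟨u, hu, w, hw, huw⟩ := hc
    have hD : _root_.commutator ↥P ≠ ⊥ := fun e => huw (by
      have hm : ⁅(⟨u, hu⟩ : ↥P), ⟨w, hw⟩⁆ ∈ _root_.commutator ↥P :=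
        Subgroup.commutator_mem_commutator (Subgroup.mem_top _) (Subgroup.mem_top _)
      rw [e, Subgroup.mem_bot] at hm
      exact congrArg Subtype.val (commutatorElement_eq_one_iff_mul_comm.mp hm))
    obtain ⟨⟨c, hcP⟩, ⟨hcD, hcZ⟩, hc1⟩ := Subgroup.bot_or_exists_ne_one _ |>.resolve_left
      (Grp.inf_center_ne_bot _ hD)
    have hcp : ∀ y ∈ P, y * c = c * y := fun y hy =>
      congrArg Subtype.val (Subgroup.mem_center_iff.mp hcZ ⟨y, hy⟩)
    have hne : (_root_.commutator ↥P).map P.subtype ≠ P := by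
      intro e
      haveI : Nontrivial ↥P :=
        (Subgroup.nontrivial_iff_ne_bot P).mpr fun e' => hPne (le_bot_iff.mp ((br_le hPa).trans e'.le))
      refine (Group.IsSolvable.commutator_lt_top_of_nontrivial (G := ↥P)).ne (Subgroup.map_injective P.subtype_injective ?_)
      rw [e, ← MonoidHom.range_eq_map, Subgroup.range_subtype]
    have hca : a * c = c * a := hPfixed _ (Subgroup.map_subtype_le _) (char_norm hPa) hne c ⟨⟨c, hcP⟩, hcD, rfl⟩
    have hcT : c ∈ normalizer (T : Set X) := hPT hcP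
    have hca' : c ∈ normalizer ((zpowers a : Subgroup X) : Set X) := mem_normalizer_of_centralizes fun y hy => by
      obtain ⟨i, rfl⟩ := mem_zpowers_iff.mp hy
      exact ((show Commute c a from hca.symm).zpow_right i).eq
    have hcE : c ∈ normalizer (E : Set X) := normalizer_commutator_of hcT hca'
    have hcbot : c ∈ normalizer ((⊥ : Subgroup X) : Set X) :=
      mem_normalizer_of_centralizes fun y hy => by rw [Subgroup.mem_bot.mp hy]; simp
    have hcEc : ∀ e ∈ E, c * e = e * c := fun e he =>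
      hq.centralizes_br (W := E) le_rfl hq.norm hca
        (fun x hx => hrad ▸ hq.unit_lemma (D := ⊥) bot_le hDi hrm hcard (hPG hcP) hca hcE hcbot hx) e (hq.brE.ge he)
    have hδC : ∀ t ∈ T, t⁻¹ * (c * t * c⁻¹) ∈ C := by
      intro t ht
      obtain ⟨e, he, f, hf, rfl⟩ := hactT.exists_br_mul_fx ht
      have hcf : c * f * c⁻¹ ∈ C := by
        refine mem_fx'.mpr ⟨conj_mem hcT (fx_le hf), ?_⟩
        calc a * (c * f * c⁻¹) * a⁻¹ = (a * c) * f * (a * c)⁻¹ := by group
          _ = (c * a) * f * (c * a)⁻¹ := by rw [hca]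
          _ = c * (a * f * a⁻¹) * c⁻¹ := by group
          _ = c * f * c⁻¹ := by rw [(mem_fx'.mp hf).2]
      have : (e * f)⁻¹ * (c * (e * f) * c⁻¹) = f⁻¹ * (c * f * c⁻¹) := by
        calc (e * f)⁻¹ * (c * (e * f) * c⁻¹) = f⁻¹ * e⁻¹ * (c * e) * f * c⁻¹ := by group
          _ = f⁻¹ * e⁻¹ * (e * c) * f * c⁻¹ := by rw [hcEc e he]
          _ = _ := by group
      rw [this]
      exact C.mul_mem (C.inv_mem hf) hcf
    have hδZ : ∀ t ∈ T, t⁻¹ * (c * t * c⁻¹) ∈ Z := by
      intro t ht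
      refine hD2 ⟨hδC t ht, ?_⟩
      have ht' : x₁⁻¹ * t * x₁ ∈ T := by simpa using conj_mem (hPT (P.inv_mem hx₁)) ht
      refine ⟨_, hδC _ ht', ?_⟩
      show x₁ * ((x₁⁻¹ * t * x₁)⁻¹ * (c * (x₁⁻¹ * t * x₁) * c⁻¹)) * x₁⁻¹ = _
      calc x₁ * ((x₁⁻¹ * t * x₁)⁻¹ * (c * (x₁⁻¹ * t * x₁) * c⁻¹)) * x₁⁻¹
          = t⁻¹ * ((x₁ * c * x₁⁻¹) * t * (x₁ * c * x₁⁻¹)⁻¹) := by group
        _ = _ := by rw [hcp x₁ hx₁, mul_inv_cancel_right]
    refine hc1 (Subtype.ext (hPC c hcP fun t ht => ?_))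
    set z := t⁻¹ * (c * t * c⁻¹) with hz
    have hzm := hδZ t ht
    have hzc : c * z = z * c := (cc hzm.2 (hPG hcP)).symm
    have hpow : ∀ i : ℕ, c ^ i * t * (c ^ i)⁻¹ = t * z ^ i := by
      intro i
      induction i with
      | zero => simp
      | succ i ih =>
        calc c ^ (i + 1) * t * (c ^ (i + 1))⁻¹ = c * (c ^ i * t * (c ^ i)⁻¹) * c⁻¹ := by
              rw [pow_succ']; group
          _ = (c * t * c⁻¹) * (c * z ^ i * c⁻¹) := by rw [ih]; group
          _ = (t * z) * z ^ i := by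
              rw [((show Commute c z from hzc).pow_right i).eq, mul_inv_cancel_right, hz]; group
          _ = t * z ^ (i + 1) := by rw [pow_succ']; group
    obtain ⟨j, hj⟩ := exists_pow_p hP.2.1 hcP
    have hzp : z ^ p ^ j = 1 := by
      have := hpow (p ^ j)
      rw [hj] at this
      simpa using this.symm
    obtain ⟨i, hi⟩ := exists_pow_two hT2 hzm.1
    have hz1 : z = 1 := eq_one_of_two_and_p h.podd hi hzp
    rw [hz, inv_mul_eq_one] at hz1
    exact mul_inv_eq_iff_eq_mul.mp hz1.symm |>.symm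
  have hPfix : ∀ x ∈ P, a * x = x * a → x = 1 := by
    intro x hx hxa
    haveI : IsMulCommutative P := ⟨⟨fun u w => Subtype.ext (hPab u u.2 w w.2)⟩⟩
    have hbot := Grp.abelian_commutator_inf_fixed (zpowers a) P (zpowers_le_norm hPa)
      (by rw [h.cfg.act.card_zpowers]; exact h.cfg.act.prime.coprime_iff_not_dvd.mpr (h.cfg.act.not_dvd_card hPG))
    have hmem : x ∈ (P ⊓ centralizer ((zpowers a : Subgroup X) : Set X)) ⊓ br P a :=
      ⟨fx_centralizer_eq (H := P) ▸ mem_fx.mpr ⟨hx, hxa⟩, hPbr.ge hx⟩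
    rw [show br P a = ⁅P, zpowers a⁆ from rfl, hbot] at hmem
    exact hmem
  -- the rank of `T / Z`
  have hPodd : ¬ 2 ∣ Nat.card P := not_dvd_card_of_isPGroup hP.2.1 h.podd
  obtain ⟨n, hrn, hn⟩ := dvd_rank h.cfg.act.prime h.cfg.act.ord hZT (hTG.trans hGZ) hPT haT (hPG.trans hGZ)
    haZ hPa hcomm hsq hPab hPodd hPfix hU
  have hn0 : n ≠ 0 := by
    rintro rfl
    rw [pow_zero, Subgroup.relIndex_eq_one] at hn
    exact hz₀ (commutatorElement_eq_one_iff_mul_comm.mpr (cc (hn hx₀).2 (hTG hy₀)))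
  have hle : 2 ^ n ≤ 2 ^ (4 * m) := by
    rw [← hn]
    have h1 : (C ⊓ MulAut.conj x₁ • C).relIndex T ≤ C.relIndex T * (MulAut.conj x₁ • C).relIndex T :=
      Subgroup.relIndex_inf_le
    have h3 : (MulAut.conj x₁ • C).relIndex T = C.relIndex T := by
      nth_rewrite 1 [← Grp.mem_normalizer_iff_smul.mp (hPT hx₁)]
      rw [Grp.relIndex_smul]
    have h4 : (C ⊓ MulAut.conj x₁ • C).relIndex T ≠ 0 := (Subgroup.index_ne_zero_of_finite)
    refine (Nat.le_of_dvd (Nat.pos_of_ne_zero h4) (Subgroup.relIndex_dvd_of_le_left T hD2)).trans (h1.trans ?_)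
    rw [h3, hCindex, ← pow_add]
    exact le_of_eq (by ring_nf)
  have hnm : n ≤ 4 * m := (Nat.pow_le_pow_iff_right (by norm_num)).mp hle
  have hfix : 2 ^ n = Z.relIndex C * 2 ^ (2 * m) := by
    rw [← hn, ← hCindex, Subgroup.relIndex_mul_relIndex Z C T hZC fx_le]
  obtain ⟨f, hf, hfC⟩ : ∃ f, n = 2 * m + f ∧ Z.relIndex C = 2 ^ f := by
    obtain ⟨f, -, hf⟩ := (Nat.dvd_prime_pow Nat.prime_two).mp ⟨_, hfix⟩
    refine ⟨f, ?_, hf⟩
    rw [hf, ← pow_add] at hfix
    have := Nat.pow_right_injective (le_refl 2) hfix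
    omega
  refine rank_arith hm h.cfg.act.prime hrm hrn hn0 hnm hf ?_
  rintro rfl
  -- otherwise the fixed part would be central
  have hCC : ∀ c ∈ C, ∀ d ∈ C, c * d = d * c := by
    intro c hc d hd
    have hidx : (Z.subgroupOf C).index = 2 := by rw [pow_one] at hfC; exact hfC
    by_cases h1 : c ∈ Z
    · exact cc h1.2 (hTG (fx_le hd))
    by_cases h2 : d ∈ Z
    · exact (cc h2.2 (hTG (fx_le hc))).symm
    have h3 : c * d ∈ Z := (Subgroup.mul_mem_iff_of_index_two (H := Z.subgroupOf C) hidx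
      (a := ⟨c, hc⟩) (b := ⟨d, hd⟩)).mpr (iff_of_false h1 h2)
    have e := cc h3.2 (hTG (fx_le hc))
    exact mul_left_cancel (e.symm.trans (mul_assoc c d c))
  have hCZ : C ≤ Z := fun c hc => by
    refine ⟨fx_le hc, hMc ⟨hTG (fx_le hc), Subgroup.mem_centralizer_iff.mpr fun t ht => ?_⟩⟩
    obtain ⟨e, he, d, hd, rfl⟩ := hactT.exists_br_mul_fx ht
    calc e * d * c = e * (d * c) := mul_assoc _ _ _
      _ = e * (c * d) := by rw [hCC d hd c hc]
      _ = (e * c) * d := (mul_assoc _ _ _).symm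
      _ = (c * e) * d := by rw [hCE c hc e he]
      _ = c * (e * d) := mul_assoc _ _ _
  rw [Subgroup.relIndex_eq_one.mpr hCZ] at hfC
  norm_num at hfC

end Min

end Cfsg.Agent.Invol.Shult.Red
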