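import Mathlib
import Cfsg.Agent.Lib.Invol.Shult.Setup
import Cfsg.Agent.Lib.Invol.Shult.ReduceCentral

/-!
Reduction of the fixed-point-free module theorem to the minimal configuration: if no `Setup` exists
then every configuration is `Good`.
-/

set_option autoImplicit false
set_option maxHeartbeats 800000

namespace Cfsg.Agent.Invol.Shult

open Subgroup
open scoped Pointwise commutatorElement
open Cfsg.Agent.Grp (IsSylowIn)

namespace Red

/-- The theorem for a homomorphic image acting on a smaller module, pulled back to `G`. -/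
theorem transfer.{u} {p r : ℕ} [Fact p.Prime] {X : Type u} [Group X] [Finite X] {a : X} {G : Subgroup X}
    (hact : Act a r G) (n : ℕ)
    (IH : ∀ (X : Type u) [Group X] [Finite X] (a : X) (G V : Subgroup X), Cfg p r a G V →
      Nat.card G + Nat.card V < n → Good p a G V)
    {M : Subgroup X} (hGM : G ≤ M) (haM : a ∈ M) (W : Type u) [CommGroup W] [Finite W]
    (hexp : ∀ w : W, w ^ p = 1) (φ : ↥M →* MulAut W) (hfpf : ∀ w : W, φ ⟨a, haM⟩ w = w → w = 1)
    (hcard : Nat.card ((G.subgroupOf M).map φ) + Nat.card W < n) :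
    ∃ N : Subgroup X, N ≤ br G a ∧ br G a ≤ normalizer (N : Set X) ∧
      (∀ x ∈ N, ∃ hx : x ∈ M, ∃ j : ℕ, φ ((⟨x, hx⟩ : ↥M) ^ p ^ j) = 1) ∧
      ∀ d ∈ br G a, ∃ k : ℕ, d ^ 2 ^ k ∈ N := by
  classical
  have hbrM : br G a ≤ M := (br_le hact.norm).trans hGM
  rcases subsingleton_or_nontrivial W with hW | hW
  · exact ⟨br G a, le_rfl, Subgroup.le_normalizer,
      fun x hx => ⟨hbrM hx, 0, MulEquiv.ext fun w => Subsingleton.elim _ _⟩,
      fun d hd => ⟨0, by simpa using hd⟩⟩
  let Γ := W ⋊[MonoidHom.id (MulAut W)] MulAut W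
  haveI : Finite Γ := Finite.of_equiv _ SemidirectProduct.equivProd.symm
  let ι : ↥M →* Γ := SemidirectProduct.inr.comp φ
  let α : Γ := ι ⟨a, haM⟩
  let G' : Subgroup Γ := (G.subgroupOf M).map ι
  let VΓ : Subgroup Γ := (SemidirectProduct.inl : W →* Γ).range
  have hinr : Function.Injective (SemidirectProduct.inr : MulAut W →* Γ) := SemidirectProduct.inr_injective
  have hinl : Function.Injective (SemidirectProduct.inl : W →* Γ) := SemidirectProduct.inl_injective
  have hconj : ∀ (g : MulAut W) (v : W), (SemidirectProduct.inr g : Γ) * SemidirectProduct.inl v *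
      (SemidirectProduct.inr g)⁻¹ = SemidirectProduct.inl (g v) := fun g v => by
    rw [← map_inv]
    exact (SemidirectProduct.inl_aut (φ := MonoidHom.id (MulAut W)) g v).symm
  have hnormV : ∀ g : MulAut W, (SemidirectProduct.inr g : Γ) ∈ normalizer (VΓ : Set Γ) := by
    intro g
    refine Subgroup.mem_normalizer_iff.mpr fun x => ⟨?_, ?_⟩
    · rintro ⟨v, rfl⟩; exact ⟨g v, (hconj g v).symm⟩
    · rintro ⟨v, e⟩
      refine ⟨g⁻¹ v, ?_⟩
      have := hconj g (g⁻¹ v)
      rw [MulAut.apply_inv_self, e] at this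
      exact mul_left_cancel (mul_right_cancel this)
  have hfpfV : ∀ v ∈ VΓ, α * v = v * α → v = 1 := by
    rintro _ ⟨v, rfl⟩ e
    rw [← mul_inv_eq_iff_eq_mul] at e
    have e' : φ ⟨a, haM⟩ v = v := hinl ((hconj _ v).symm.trans e)
    rw [hfpf v e', map_one]
  haveI := Fact.mk hact.prime
  have hαne : α ≠ 1 := by
    intro e
    obtain ⟨w, hw⟩ := exists_ne (1 : W)
    refine hw (hfpf w ?_)
    rw [(map_eq_one_iff _ hinr).mp e]; rfl
  have hαr : α ^ r = 1 := by
    show (ι ⟨a, haM⟩) ^ r = 1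
    rw [← map_pow, show (⟨a, haM⟩ : ↥M) ^ r = 1 from Subtype.ext (by simpa using hact.pow_r), map_one]
  have hαG : α ∈ normalizer (G' : Set Γ) :=
    Subgroup.le_normalizer_map ι ⟨⟨a, haM⟩, Subgroup.mem_normalizer_iff.mpr fun x =>
      Subgroup.mem_normalizer_iff.mp hact.norm (x : X), rfl⟩
  have hcop : ¬ r ∣ Nat.card G' := fun hd => hact.cop (hd.trans ((Subgroup.card_map_dvd _ _).trans
    (dvd_of_eq (Nat.card_congr (Subgroup.subgroupOfEquivOfLe hGM).toEquiv))))
  have helem : Cfsg.IsElementaryAbelian p VΓ := by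
    refine ⟨⟨⟨?_⟩⟩, ?_⟩
    · rintro ⟨_, u, rfl⟩ ⟨_, w, rfl⟩
      exact Subtype.ext (by
        show SemidirectProduct.inl u * SemidirectProduct.inl w = SemidirectProduct.inl w * SemidirectProduct.inl u
        rw [← map_mul, ← map_mul, mul_comm u w])
    · rintro _ ⟨u, rfl⟩
      rw [← map_pow, hexp, map_one]
  have hcfg : Cfg p r α G' VΓ := ⟨⟨hact.prime, orderOf_eq_prime hαr hαne, hαG, hcop⟩, helem,
    (by rintro _ ⟨x, -, rfl⟩; exact hnormV _), hnormV _, hfpfV⟩
  have hcardΓ : Nat.card G' + Nat.card VΓ < n := by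
    rw [show G' = ((G.subgroupOf M).map φ).map SemidirectProduct.inr from (Subgroup.map_map _ _ _).symm,
      Subgroup.card_map_of_injective hinr,
      ← Nat.card_congr (MonoidHom.ofInjective hinl).toEquiv]
    exact hcard
  obtain ⟨N', hN1, hN2, hN3, hN4⟩ := IH Γ α G' VΓ hcfg hcardΓ
  have hbr : br G a ≤ ((br G' α).comap ι).map M.subtype := by
    rw [br, Subgroup.commutator_le]
    intro g hg y hy
    obtain ⟨i, rfl⟩ := mem_zpowers_iff.mp hy
    refine ⟨⁅(⟨g, hGM hg⟩ : ↥M), (⟨a, haM⟩ : ↥M) ^ i⁆, ?_, ?_⟩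
    · rw [SetLike.mem_coe, Subgroup.mem_comap, map_commutatorElement, map_zpow]
      exact Subgroup.commutator_mem_commutator ⟨_, hg, rfl⟩ (mem_zpowers_iff.mpr ⟨i, rfl⟩)
    · simp [commutatorElement_def]
  have hmem : ∀ d ∈ br G a, ∀ hd : d ∈ M, ι ⟨d, hd⟩ ∈ br G' α := by
    intro d hd hdM
    obtain ⟨x, hx, e⟩ := hbr hd
    rwa [show (⟨d, hdM⟩ : ↥M) = x from Subtype.ext e.symm]
  refine ⟨br G a ⊓ (N'.comap ι).map M.subtype, inf_le_left, fun d hd => ?_, ?_, ?_⟩
  · have key : ∀ d ∈ br G a, ∀ x ∈ br G a ⊓ (N'.comap ι).map M.subtype,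
        d * x * d⁻¹ ∈ br G a ⊓ (N'.comap ι).map M.subtype := by
      rintro d hd x ⟨hx, y, hy, rfl⟩
      refine ⟨(br G a).mul_mem ((br G a).mul_mem hd hx) ((br G a).inv_mem hd),
        ⟨d, hbrM hd⟩ * y * (⟨d, hbrM hd⟩ : ↥M)⁻¹, ?_, by simp⟩
      rw [SetLike.mem_coe, Subgroup.mem_comap, map_mul, map_mul, map_inv]
      exact conj_mem (hN2 (hmem d hd _)) hy
    refine Subgroup.mem_normalizer_iff.mpr fun x => ⟨key d hd x, fun hx => ?_⟩
    simpa [mul_assoc] using key d⁻¹ ((br G a).inv_mem hd) _ hx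
  · rintro x ⟨-, y, hy, rfl⟩
    obtain ⟨j, hj⟩ := hN3 (ι y) hy
    refine ⟨y.2, j, MulEquiv.ext fun w => hinl ?_⟩
    rw [← map_pow, Subgroup.mem_centralizer_iff] at hj
    have h1 : (SemidirectProduct.inr (φ (y ^ p ^ j)) : Γ) * SemidirectProduct.inl w *
        (SemidirectProduct.inr (φ (y ^ p ^ j)))⁻¹ = SemidirectProduct.inl w :=
      mul_inv_eq_iff_eq_mul.mpr (hj _ ⟨w, rfl⟩).symm
    exact (hconj _ w).symm.trans h1
  · intro d hd
    obtain ⟨k, hk⟩ := hN4 _ (hmem d hd (hbrM hd))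
    refine ⟨k, (br G a).pow_mem hd _, (⟨d, hbrM hd⟩ : ↥M) ^ 2 ^ k, ?_, by simp⟩
    rw [SetLike.mem_coe, Subgroup.mem_comap, map_pow]
    exact hk

variable {X : Type*} [Group X] {a : X} {p r : ℕ} {G V N : Subgroup X}

namespace Min

variable (h : Min p r a G V)
include h

/-- Proper invariant normal subgroups are fixed. -/
theorem proper_fixed [Finite X] [Fact p.Prime] (hN : N ≤ G) (hn : G ≤ normalizer (N : Set X))
    (ha : a ∈ normalizer (N : Set X)) (hne : N ≠ G) : ∀ x ∈ N, a * x = x * a := by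
  haveI : Fact (Nat.Prime 2) := ⟨Nat.prime_two⟩
  have hT := h.br_le_core hN hn ha hne
  refine br_eq_bot.mp ((h.cfg.act.mono hN ha).br_eq_bot_of_series le_rfl
    (h.cfg.abelian_fixed h.faith ((br_le ha).trans hN) norm_br (fun x hx y hy => ?_) ?_))
  · exact cc (h.core_two_central (hT hx)) (core_le (hT hy))
  · exact not_dvd_card_of_isPGroup (core_isPGroup.to_le hT) h.podd.symm

theorem perfect [Finite X] [hp : Fact p.Prime] : ⁅G, G⁆ = G := by
  by_contra hne
  have hle : ⁅G, G⁆ ≤ G := Subgroup.commutator_le_self G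
  have hn : G ≤ normalizer ((⁅G, G⁆ : Subgroup X) : Set X) := fun g hg =>
    normalizer_commutator_of (Subgroup.le_normalizer hg) (Subgroup.le_normalizer hg)
  have ha : a ∈ normalizer ((⁅G, G⁆ : Subgroup X) : Set X) := normalizer_commutator_of h.cfg.act.norm h.cfg.act.norm
  have hfix := h.proper_fixed hle hn ha hne
  have hc := h.fixed_central hn hfix
  obtain ⟨P, hP, hPa, hPne⟩ := h.exists_P
  have hPc : ∀ x ∈ P, ∀ g ∈ G, x * g = g * x := by
    intro x hx g hg
    set z := ⁅g, x⁆ with hz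
    have hzm : z ∈ ⁅G, G⁆ := Subgroup.commutator_mem_commutator hg (hP.1 hx)
    have hpow : ∀ i : ℕ, ⁅g, x ^ i⁆ = z ^ i := by
      intro i
      induction i with
      | zero => simp
      | succ i ih =>
        rw [pow_succ, comm_mul_right_of_central (cc (hc hzm) (G.pow_mem (hP.1 hx) i)), ih, pow_succ]
    obtain ⟨j, hj⟩ := exists_pow_p hP.2.1 hx
    have hzj : z ^ p ^ j = 1 := by rw [← hpow, hj, commutatorElement_one_right]
    have hbot : zpowers z = ⊥ := h.pnorm_bot (zpowers_le.mpr (hle hzm))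
      (fun u hu => mem_normalizer_of_centralizes fun y hy => by
        obtain ⟨i, rfl⟩ := mem_zpowers_iff.mp hy
        exact ((show Commute u z from (cc (hc hzm) hu).symm).zpow_right i).eq)
      (mem_normalizer_of_centralizes fun y hy => by
        obtain ⟨i, rfl⟩ := mem_zpowers_iff.mp hy
        exact ((show Commute a z from hfix z hzm).zpow_right i).eq)
      (fun y => ⟨j, Subtype.ext (by
        obtain ⟨i, hi⟩ := mem_zpowers_iff.mp y.2
        rw [Subgroup.coe_pow, ← hi, ← zpow_natCast, ← zpow_mul, mul_comm, zpow_mul, zpow_natCast, hzj,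
          one_zpow, Subgroup.coe_one])⟩)
    exact (commutatorElement_eq_one_iff_mul_comm.mp (Subgroup.zpowers_eq_bot.mp hbot)).symm
  refine hPne ?_
  have := h.pnorm_bot hP.1 (fun g hg => mem_normalizer_of_centralizes fun x hx => (hPc x hx g hg).symm) hPa hP.2.1
  exact le_bot_iff.mp ((br_le hPa).trans this.le)

theorem setup [Finite X] [Fact p.Prime] : ∃ (m : ℕ) (E : Subgroup X), Setup p r m a G V E := by
  obtain ⟨m, -, hrm⟩ := h.exists_hrm
  obtain ⟨S, hS, hSa, hE⟩ := h.exists_E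
  exact ⟨m, br S a, h.cfg, h.faith, h.podd, h.irred, h.brG, h.perfect, hrm,
    fun N hN hn ha hne => h.fixed_central hn (h.proper_fixed hN hn ha hne), ⟨S, hS, hSa, rfl⟩, hE, h.ind⟩

end Min

/-- An element fixing a subgroup and the factor of an elementary abelian group has `p`-th power
centralizing it. -/
theorem pow_p_centralizes {V₁ : Subgroup X} {u : X}
    (h1 : ∀ w ∈ V₁, u * w * u⁻¹ = w) (h2 : ∀ v ∈ V, ∃ w ∈ V₁, u * v * u⁻¹ = v * w)
    (hp : ∀ w ∈ V₁, w ^ p = 1) : u ^ p ∈ centralizer (V : Set X) := by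
  refine Subgroup.mem_centralizer_iff.mpr fun v hv => ?_
  obtain ⟨w, hw, e⟩ := h2 v hv
  have key : ∀ i : ℕ, u ^ i * v * (u ^ i)⁻¹ = v * w ^ i := by
    intro i
    induction i with
    | zero => simp
    | succ i ih =>
      calc u ^ (i + 1) * v * (u ^ (i + 1))⁻¹ = u * (u ^ i * v * (u ^ i)⁻¹) * u⁻¹ := by rw [pow_succ']; group
        _ = (u * v * u⁻¹) * (u * w ^ i * u⁻¹) := by rw [ih]; group
        _ = v * w ^ (i + 1) := by rw [e, h1 _ (V₁.pow_mem hw i), mul_assoc, pow_succ']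
  have := key p
  rw [hp w hw, mul_one] at this
  exact (mul_inv_eq_iff_eq_mul.mp this).symm

theorem good_of_two (hG : IsPGroup 2 G) (hle : br G a ≤ G) : Good p a G V := by
  refine ⟨⊥, bot_le, fun d _ => mem_normalizer_of_centralizes fun x hx => by rw [Subgroup.mem_bot.mp hx]; simp,
    fun x hx => ⟨0, ?_⟩, fun d hd => ?_⟩
  · rw [Subgroup.mem_bot.mp hx]; simp
  · obtain ⟨k, hk⟩ := exists_pow_two hG (hle hd)
    exact ⟨k, by rw [hk]; exact one_mem _⟩

end Red

open Red in
/-- If no minimal configuration exists, `[G, a]` is a `2`-group modulo a normal subgroup inducing a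
`p`-group on the module. -/
theorem good_of_no_setup.{u} {p r : ℕ} [Fact p.Prime]
    (hno : ∀ (X : Type u) [Group X] [Finite X] (m : ℕ) (a : X) (G V E : Subgroup X), Setup p r m a G V E → False)
    (X : Type u) [Group X] [Finite X] (a : X) (G V : Subgroup X) (h : Cfg p r a G V) : Good p a G V := by
  classical
  suffices key : ∀ (n : ℕ) (X : Type u) [Group X] [Finite X] (a : X) (G V : Subgroup X), Cfg p r a G V →
      Nat.card G + Nat.card V = n → Good p a G V from key _ X a G V h rfl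
  clear h V G a
  intro n
  induction n using Nat.strong_induction_on with
  | _ n ih =>
  intro X _ _ a G V h hn
  have IH : ∀ (X : Type u) [Group X] [Finite X] (a : X) (G V : Subgroup X), Cfg p r a G V →
      Nat.card G + Nat.card V < n → Good p a G V := fun X _ _ a G V h hlt => ih _ hlt X a G V h rfl
  have hbrG : br G a ≤ G := br_le h.act.norm
  -- a proper submodule
  by_cases hred : ∃ V₁ : Subgroup X, V₁ ≤ V ∧ V₁ ≠ ⊥ ∧ V₁ ≠ V ∧ G ≤ normalizer (V₁ : Set X) ∧
      a ∈ normalizer (V₁ : Set X)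
  · obtain ⟨V₁, h1, hne, hne', hGV₁, haV₁⟩ := hred
    have hlt : Nat.card V₁ < Nat.card V := by
      by_contra hc
      exact hne' (Subgroup.eq_of_le_of_card_ge h1 (not_lt.mp hc))
    obtain ⟨N₁, hN₁, hN₁n, hN₁p, hN₁2⟩ := IH X a G V₁ (h.restrictV h1 hGV₁ haV₁) (by omega)
    let M : Subgroup X := normalizer (V : Set X) ⊓ normalizer (V₁ : Set X)
    have hGM : G ≤ M := le_inf h.normG hGV₁
    have haM : a ∈ M := ⟨h.norma, haV₁⟩
    let V₁' : Subgroup ↥V := V₁.subgroupOf V
    haveI : V₁'.Normal := ⟨fun x hx g => by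
      show ((g * x * g⁻¹ : ↥V) : X) ∈ V₁
      rw [Subgroup.coe_mul, Subgroup.coe_mul, Subgroup.coe_inv, h.comm g.2 x.2, mul_inv_cancel_right]
      exact hx⟩
    letI : CommGroup (↥V ⧸ V₁') :=
      { (inferInstance : Group (↥V ⧸ V₁')) with
        mul_comm := by
          rintro ⟨u⟩ ⟨w⟩
          exact congrArg (QuotientGroup.mk' V₁') (Subtype.ext (h.comm u.2 w.2)) }
    let σ : ↥M →* MulAut ↥V := V.normalizerMonoidHom.comp (Subgroup.inclusion inf_le_left)
    have hσ : ∀ g : ↥M, V₁' ≤ V₁'.comap (σ g).toMonoidHom := fun g v hv =>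
      (Subgroup.mem_normalizer_iff.mp g.2.2 v).mp hv
    let f : ↥M → (↥V ⧸ V₁') →* (↥V ⧸ V₁') := fun g => QuotientGroup.map V₁' V₁' (σ g).toMonoidHom (hσ g)
    have f_apply : ∀ (g : ↥M) (v : ↥V), f g (QuotientGroup.mk v) = QuotientGroup.mk (σ g v) := fun g v => rfl
    have f_mul : ∀ g g' : ↥M, ∀ x, f (g * g') x = f g (f g' x) := by
      rintro g g' ⟨v⟩
      show f (g * g') (QuotientGroup.mk v) = f g (f g' (QuotientGroup.mk v))
      rw [f_apply, f_apply, f_apply, map_mul]; rfl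
    have f_one : ∀ x, f 1 x = x := by
      rintro ⟨v⟩
      show f 1 (QuotientGroup.mk v) = QuotientGroup.mk v
      rw [f_apply, map_one]; rfl
    let φ : ↥M →* MulAut (↥V ⧸ V₁') :=
      { toFun := fun g =>
          { toFun := f g
            invFun := f g⁻¹
            left_inv := fun x => by rw [← f_mul, inv_mul_cancel, f_one]
            right_inv := fun x => by rw [← f_mul, mul_inv_cancel, f_one]
            map_mul' := (f g).map_mul }
        map_one' := MulEquiv.ext f_one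
        map_mul' := fun g g' => MulEquiv.ext (f_mul g g') }
    have φ_apply : ∀ (g : ↥M) (v : ↥V), φ g (QuotientGroup.mk v) = QuotientGroup.mk (σ g v) := f_apply
    have hrp : r ≠ p := h.r_ne_p (fun e => hne (le_bot_iff.mp (e ▸ h1)))
    have hactV : Act a r V := by
      refine ⟨h.act.prime, h.act.ord, h.norma, fun hd => ?_⟩
      obtain ⟨k, hk⟩ := IsPGroup.iff_card.mp h.isPGroup
      rw [hk] at hd
      exact hrp ((Nat.prime_dvd_prime_iff_eq h.act.prime Fact.out).mp (h.act.prime.dvd_of_dvd_pow hd))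
    obtain ⟨N₂, hN₂, hN₂n, hN₂p, hN₂2⟩ := transfer h.act n IH hGM haM (↥V ⧸ V₁')
      (by
        rintro ⟨v⟩
        show (QuotientGroup.mk' V₁' v) ^ p = 1
        rw [← map_pow, show v ^ p = 1 from Subtype.ext (by simpa using h.pow_p v.2), map_one])
      φ
      (by
        rintro ⟨v⟩ e
        have e' : (QuotientGroup.mk (σ ⟨a, haM⟩ v) : ↥V ⧸ V₁') = QuotientGroup.mk v := e
        have h3 : v⁻¹ * σ ⟨a, haM⟩ v ∈ V₁' := QuotientGroup.eq.mp e'.symm
        obtain ⟨w, hw, hwf⟩ := hactV.exists_fixed_coset h1 haV₁ v.2 h3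
        have hvw := h.fpf _ (V.mul_mem v.2 (h1 hw)) hwf
        refine (QuotientGroup.eq_one_iff v).mpr ?_
        show (v : X) ∈ V₁
        rw [eq_inv_of_mul_eq_one_left hvw]; exact V₁.inv_mem hw)
      (by
        have e1 : Nat.card ((G.subgroupOf M).map φ) ≤ Nat.card G :=
          (Nat.le_of_dvd Nat.card_pos (Subgroup.card_map_dvd _ _)).trans_eq
            (Nat.card_congr (Subgroup.subgroupOfEquivOfLe hGM).toEquiv)
        have e2 : Nat.card V₁' * Nat.card (↥V ⧸ V₁') = Nat.card ↥V := Subgroup.card_mul_index V₁'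
        have e3 : 2 ≤ Nat.card V₁' := by
          rw [Nat.card_congr (Subgroup.subgroupOfEquivOfLe h1).toEquiv]
          exact (Subgroup.one_lt_card_iff_ne_bot V₁).mpr hne
        have e4 : 0 < Nat.card (↥V ⧸ V₁') := Nat.card_pos
        have e5 : 2 * Nat.card (↥V ⧸ V₁') ≤ Nat.card ↥V := e2 ▸ Nat.mul_le_mul_right _ e3
        omega)
    refine ⟨N₁ ⊓ N₂, inf_le_left.trans hN₁, fun d hd => mem_normalizer_inf (hN₁n hd) (hN₂n hd), ?_, ?_⟩
    · rintro x ⟨hx1, hx2⟩
      obtain ⟨j₁, hj₁⟩ := hN₁p x hx1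
      obtain ⟨hxM, j₂, hj₂⟩ := hN₂p (x ^ p ^ j₁) (N₂.pow_mem hx2 _)
      refine ⟨j₁ + j₂ + 1, ?_⟩
      rw [pow_succ, pow_add, pow_mul, pow_mul]
      refine pow_p_centralizes (V₁ := V₁) (fun w hw => ?_) (fun v hv => ?_) (fun w hw => h.pow_p (h1 hw))
      · have hc := Subgroup.mem_centralizer_iff.mp ((centralizer (V₁ : Set X)).pow_mem hj₁ (p ^ j₂)) w hw
        exact mul_inv_eq_iff_eq_mul.mpr hc.symm
      · have e := congrArg (fun F : MulAut (↥V ⧸ V₁') => F (QuotientGroup.mk (⟨v, hv⟩ : ↥V))) hj₂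
        have e' : (QuotientGroup.mk (σ ((⟨x ^ p ^ j₁, hxM⟩ : ↥M) ^ p ^ j₂) ⟨v, hv⟩) : ↥V ⧸ V₁') =
            QuotientGroup.mk (⟨v, hv⟩ : ↥V) := e
        have h3 := QuotientGroup.eq.mp e'.symm
        exact ⟨_, h3, (mul_inv_cancel_left v _).symm⟩
    · intro d hd
      obtain ⟨k₁, hk₁⟩ := hN₁2 d hd
      obtain ⟨k₂, hk₂⟩ := hN₂2 _ ((br G a).pow_mem hd (2 ^ k₁))
      refine ⟨k₁ + k₂, ?_⟩
      rw [pow_add, pow_mul]
      exact ⟨N₁.pow_mem hk₁ _, hk₂⟩
  -- a nontrivial kernel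
  by_cases hker : G ⊓ centralizer (V : Set X) = ⊥
  swap
  · letI : CommGroup ↥V := { (inferInstance : Group ↥V) with mul_comm := fun x y => Subtype.ext (h.comm x.2 y.2) }
    obtain ⟨N, hN, hNn, hNp, hN2⟩ := transfer h.act n IH h.normG h.norma ↥V
      (fun w => Subtype.ext (by simpa using h.pow_p w.2)) V.normalizerMonoidHom
      (fun w e => Subtype.ext (h.fpf w w.2 (mul_inv_eq_iff_eq_mul.mp (congrArg Subtype.val e))))
      (by
        let ψ : ↥G →* MulAut ↥V := V.normalizerMonoidHom.comp (Subgroup.inclusion h.normG)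
        have hmap : (G.subgroupOf (normalizer (V : Set X))).map V.normalizerMonoidHom = ψ.range := by
          ext f
          constructor
          · rintro ⟨x, hx, rfl⟩; exact ⟨⟨x, hx⟩, rfl⟩
          · rintro ⟨x, rfl⟩; exact ⟨Subgroup.inclusion h.normG x, x.2, rfl⟩
        rw [hmap]
        have e1 : Nat.card ψ.ker * Nat.card ψ.range = Nat.card ↥G := by
          rw [← Subgroup.index_ker, Subgroup.card_mul_index]
        have e2 : 2 ≤ Nat.card ψ.ker := by
          refine (Subgroup.one_lt_card_iff_ne_bot _).mpr fun e => hker (le_bot_iff.mp fun x hx => ?_)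
          have hxk : (⟨x, hx.1⟩ : ↥G) ∈ ψ.ker := by
            refine MonoidHom.mem_ker.mpr (MulEquiv.ext fun v => Subtype.ext ?_)
            exact mul_inv_eq_iff_eq_mul.mpr (Subgroup.mem_centralizer_iff.mp hx.2 v v.2).symm
          rw [e, Subgroup.mem_bot] at hxk
          exact congrArg Subtype.val hxk
        have e3 : 2 * Nat.card ψ.range ≤ Nat.card ↥G := e1 ▸ Nat.mul_le_mul_right _ e2
        have e4 : 0 < Nat.card ψ.range := Nat.card_pos
        omega)
    refine ⟨N, hN, hNn, fun x hx => ?_, hN2⟩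
    obtain ⟨hxM, j, hj⟩ := hNp x hx
    refine ⟨j, Subgroup.mem_centralizer_iff.mpr fun v hv => ?_⟩
    have e := congrArg (fun F : MulAut ↥V => ((F ⟨v, hv⟩ : ↥V) : X)) hj
    exact (mul_inv_eq_iff_eq_mul.mp e).symm
  -- `[G, a] < G`
  by_cases hbr : br G a = G
  swap
  · have hlt : Nat.card (br G a) < Nat.card G := by
      by_contra hc
      exact hbr (Subgroup.eq_of_le_of_card_ge hbrG (not_lt.mp hc))
    obtain ⟨N, hN, hNn, hNp, hN2⟩ := IH X a (br G a) V (h.restrictG hbrG norm_br) (by omega)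
    rw [h.act.br_br] at hN hNn hN2
    exact ⟨N, hN, hNn, hNp, hN2⟩
  -- the minimal configuration
  by_cases h2 : IsPGroup 2 G
  · exact good_of_two h2 hbrG
  exfalso
  have hmin : Min p r a G V := ⟨h, hker, (fun W hW hGW haW => by
      by_contra hc
      push Not at hc
      exact hred ⟨W, hW, hc.1, hc.2, hGW, haW⟩), hbr, (fun H hH haH hne => by
      have hlt : Nat.card H < Nat.card G := by
        by_contra hc
        exact hne (Subgroup.eq_of_le_of_card_ge hH (not_lt.mp hc))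
      obtain ⟨N, hN, hNn, hNp, hN2⟩ := IH X a H V (h.restrictG hH haH) (by omega)
      refine ⟨N, hN, hNn, fun x => ?_, hN2⟩
      obtain ⟨j, hj⟩ := hNp x x.2
      have hx : (x : X) ^ p ^ j ∈ G ⊓ centralizer (V : Set X) :=
        ⟨G.pow_mem (hH (br_le haH (hN x.2))) _, hj⟩
      rw [hker, Subgroup.mem_bot] at hx
      exact ⟨j, Subtype.ext (by simpa using hx)⟩), h2⟩
  obtain ⟨m, E, hS⟩ := hmin.setup
  exact hno X m a G V E hS

end Cfsg.Agent.Invol.Shult
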