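import Mathlib
import Cfsg.Prelude.Def_Transfer
import Cfsg.Agent.Lib.Grp.Frattini
import Cfsg.Agent.Lib.Invol.Shult.Reduce

/-!
The fixed-point-free module theorem for representations, granted that no minimal configuration exists.
-/

set_option autoImplicit false
set_option maxHeartbeats 800000

namespace Cfsg.Agent.Invol.Shult

open Subgroup
open scoped Pointwise commutatorElement

/-- A `2`-group `[G, a]` in a faithful irreducible situation is trivial or nonabelian special. -/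
theorem special_of_qgrp {Γ X : Type*} [Group Γ] [Finite Γ] [Group X] [Finite X] {p r : ℕ} [Fact p.Prime]
    {α : Γ} {G V E : Subgroup Γ} (h : QGrp p 2 r α G V E) (ι : X →* Γ) (hι : Function.Injective ι)
    {E₀ : Subgroup X} (hE : E₀.map ι = E) (hne : E₀ ≠ ⊥) :
    (∃ m : ℕ, r = 2 ^ m + 1) ∧ ¬ IsMulCommutative ↥E₀ ∧ Cfsg.IsSpecial 2 ↥E₀ := by
  haveI : Fact (Nat.Prime 2) := ⟨Nat.prime_two⟩
  have hmem : ∀ x : ↥E₀, ι x ∈ E := fun x => hE ▸ ⟨x, x.2, rfl⟩
  have hEne : E ≠ ⊥ := fun e =>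
    hne ((Subgroup.map_eq_bot_iff_of_injective E₀ hι).mp (hE.trans e))
  have hp : IsPGroup 2 ↥E₀ := h.isQ.of_injective ((ι.comp E₀.subtype).codRestrict E hmem)
    (fun x y e => Subtype.ext (hι (congrArg Subtype.val e)))
  obtain ⟨-, hm⟩ := h.exists_m hEne
  refine ⟨hm, fun hc => hEne (h.eq_bot_of_abelian fun x hx y hy => ?_), hp, ?_⟩
  · rw [← hE] at hx hy
    obtain ⟨x, hx, rfl⟩ := hx
    obtain ⟨y, hy, rfl⟩ := hy
    rw [← map_mul, ← map_mul, show x * y = y * x from congrArg Subtype.val (hc.is_comm.comm ⟨x, hx⟩ ⟨y, hy⟩)]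
  have hcomm : (_root_.commutator ↥E₀).map (ι.comp E₀.subtype) = ⁅E, E⁆ := by
    rw [← Subgroup.map_map, Subgroup.map_subtype_commutator, Subgroup.map_commutator, hE]
  have hle : _root_.commutator ↥E₀ ≤ Subgroup.center ↥E₀ := by
    intro x hx
    refine Subgroup.mem_center_iff.mpr fun y => Subtype.ext (hι ?_)
    have h1 : ι x ∈ E ⊓ centralizer (E : Set Γ) := h.comm_central (hcomm ▸ ⟨x, hx, rfl⟩)
    simp only [Subgroup.coe_mul, map_mul]
    exact Subgroup.mem_centralizer_iff.mp h1.2 _ (hmem y)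
  have hge : Subgroup.center ↥E₀ ≤ _root_.commutator ↥E₀ := by
    intro x hx
    have h1 : ι x ∈ fx E α := h.center_le_fixed ⟨hmem x, Subgroup.mem_centralizer_iff.mpr fun y hy => by
      rw [← hE] at hy
      obtain ⟨y, hy, rfl⟩ := hy
      rw [← map_mul, ← map_mul]
      exact congrArg ι (congrArg Subtype.val (Subgroup.mem_center_iff.mp hx ⟨y, hy⟩))⟩
    rw [h.fixed_eq_comm, ← hcomm] at h1
    obtain ⟨y, hy, e⟩ := h1
    rwa [← Subtype.ext (hι e)]
  have hcz : _root_.commutator ↥E₀ = Subgroup.center ↥E₀ := le_antisymm hle hge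
  refine ⟨le_antisymm (Grp.frattini_le_of_elementary Nat.prime_two hle fun x => ?_)
    (hcz ▸ Grp.pGroup_commutator_le_frattini hp), hcz⟩
  refine hle ?_
  have h1 : ι (x : X) ^ 2 ∈ fx E α := h.pow_q_mem (hmem x)
  rw [h.fixed_eq_comm, ← hcomm] at h1
  obtain ⟨y, hy, e⟩ := h1
  have : x ^ 2 = y := Subtype.ext (hι (by rw [Subgroup.coe_pow, map_pow]; exact e.symm))
  rwa [this]

/-- The statement about representations, granted that no minimal configuration exists. -/
theorem template_of_no_setup.{u, v, w} {X : Type u} [Group X] [Finite X] (G R : Subgroup X) [G.Normal]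
    (hX : G ⊔ R = ⊤) (r : ℕ) (hr : r.Prime) (hR : Nat.card R = r) (hcop : ¬ r ∣ Nat.card G)
    {k : Type v} [Field k] {p : ℕ} [Fact p.Prime] [CharP k p] {V : Type w} [AddCommGroup V] [Module k V]
    [FiniteDimensional k V] [Nontrivial V]
    (ρ : Representation k X V) (hfaith : Function.Injective ρ)
    (hirr : ∀ W : Submodule k V, (∀ x : X, W.map (ρ x) ≤ W) → W = ⊥ ∨ W = ⊤)
    (hfix : ∀ v : V, (∀ x ∈ R, ρ x v = v) → v = 0)
    (hno : ∀ (Y : Type (max u w)) [Group Y] [Finite Y] (m : ℕ) (a : Y) (G V E : Subgroup Y),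
      Setup p r m a G V E → False) :
    ⁅G, R⁆ = ⊥ ∨ ((∃ m : ℕ, r = 2 ^ m + 1) ∧ ¬ IsMulCommutative ↥⁅G, R⁆ ∧ Cfsg.IsSpecial 2 ↥⁅G, R⁆) := by
  classical
  haveI := Fact.mk hr
  obtain ⟨x₀, hx₀⟩ : ∃ x₀ : X, zpowers x₀ = R := by
    obtain ⟨x, hx, hx1⟩ := R.bot_or_exists_ne_one.resolve_left (fun e => by
      rw [e, Subgroup.card_bot] at hR
      exact hr.one_lt.ne hR)
    refine ⟨x, Subgroup.eq_of_le_of_card_ge (zpowers_le.mpr hx) (le_of_eq ?_)⟩
    have hd : orderOf x ∣ r := hR ▸ Subgroup.orderOf_dvd_natCard R hx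
    rw [Nat.card_zpowers, hR, ((Nat.dvd_prime hr).mp hd).resolve_left (by simpa using hx1)]
  -- the orbit of a nonzero vector over the prime field
  obtain ⟨v₀, hv₀⟩ := exists_ne (0 : V)
  have hpV : ∀ x : V, p • x = 0 := fun x => by
    rw [← Nat.cast_smul_eq_nsmul k, CharP.cast_eq_zero, zero_smul]
  let U : AddSubgroup V := AddSubgroup.closure (Set.range fun x : X => (ρ x v₀ : V))
  haveI : Finite ↥U := by
    haveI : AddGroup.FG ↥U := AddGroup.closure_finite_fg _
    refine AddCommGroup.finite_of_fg_torsion ↥U fun u => isOfFinAddOrder_iff_nsmul_eq_zero.mpr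
      ⟨p, (Fact.out : p.Prime).pos, Subtype.ext (hpV u)⟩
  have hUinv : ∀ (x : X), ∀ u ∈ U, ρ x u ∈ U := by
    intro x u hu
    induction hu using AddSubgroup.closure_induction with
    | mem u hu =>
      obtain ⟨y, rfl⟩ := hu
      exact AddSubgroup.subset_closure ⟨x * y, by simp [map_mul]⟩
    | zero => simp
    | add u u' _ _ hu hu' => rw [map_add]; exact U.add_mem hu hu'
    | neg u _ hu => rw [map_neg]; exact U.neg_mem hu
  have ρmul : ∀ (x y : X) (u : V), ρ (x * y) u = ρ x (ρ y u) := fun x y u => by rw [map_mul]; rfl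
  have ρone : ∀ u : V, ρ 1 u = u := fun u => by rw [map_one]; rfl
  let φ : X →* MulAut (Multiplicative U) :=
    { toFun := fun x =>
        { toFun := fun u => Multiplicative.ofAdd ⟨ρ x u.toAdd, hUinv x _ u.toAdd.2⟩
          invFun := fun u => Multiplicative.ofAdd ⟨ρ x⁻¹ u.toAdd, hUinv x⁻¹ _ u.toAdd.2⟩
          left_inv := fun u => Subtype.ext (by
            show ρ x⁻¹ (ρ x (u.toAdd : V)) = _
            rw [← ρmul, inv_mul_cancel, ρone]; rfl)
          right_inv := fun u => Subtype.ext (by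
            show ρ x (ρ x⁻¹ (u.toAdd : V)) = _
            rw [← ρmul, mul_inv_cancel, ρone]; rfl)
          map_mul' := fun u u' => Subtype.ext (map_add (ρ x) _ _) }
      map_one' := MulEquiv.ext fun u => Subtype.ext (ρone _)
      map_mul' := fun x y => MulEquiv.ext fun u => Subtype.ext (ρmul x y _) }
  have φval : ∀ (x : X) (u : Multiplicative U), ((φ x u).toAdd : V) = ρ x u.toAdd := fun x u => rfl
  -- a subgroup normal in `X` fixing a nonzero vector is trivial
  have hfixbot : ∀ (K : Subgroup X) [K.Normal], (∃ u : V, u ≠ 0 ∧ ∀ y ∈ K, ρ y u = u) → K = ⊥ := by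
    intro K _ ⟨u₀, hu₀, hK⟩
    let W : Submodule k V :=
      { carrier := {u | ∀ y ∈ K, ρ y u = u}
        add_mem' := fun {u u'} hu hu' y hy => by rw [map_add, hu y hy, hu' y hy]
        zero_mem' := fun y _ => map_zero _
        smul_mem' := fun c u hu y hy => by rw [map_smul, hu y hy] }
    rcases hirr W (fun x => by
      rintro _ ⟨u, hu, rfl⟩ y hy
      rw [← ρmul, show y * x = x * (x⁻¹ * y * x) by group, ρmul, hu _ (by
        simpa using ‹K.Normal›.conj_mem y hy x⁻¹)]) with h1 | h1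
    · refine absurd ?_ hu₀
      have : u₀ ∈ W := hK
      rwa [h1, Submodule.mem_bot] at this
    · refine (Subgroup.eq_bot_iff_forall K).mpr fun y hy => hfaith (LinearMap.ext fun u => ?_)
      have : u ∈ W := h1 ▸ Submodule.mem_top
      rw [this y hy, ρone]
  have hφ : Function.Injective φ := by
    refine (MonoidHom.ker_eq_bot_iff φ).mp (hfixbot φ.ker ⟨v₀, hv₀, fun y hy => ?_⟩)
    have hv₀U : v₀ ∈ U := AddSubgroup.subset_closure ⟨1, ρone v₀⟩
    have h1 := congrArg (fun F : MulAut (Multiplicative U) => ((F (Multiplicative.ofAdd ⟨v₀, hv₀U⟩)).toAdd : V))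
      (MonoidHom.mem_ker.mp hy)
    exact h1
  -- the ambient group
  let Γ := Multiplicative U ⋊[φ] X
  haveI : Finite Γ := Finite.of_equiv _ SemidirectProduct.equivProd.symm
  let ι : X →* Γ := SemidirectProduct.inr
  have hι : Function.Injective ι := SemidirectProduct.inr_injective
  let VΓ : Subgroup Γ := (SemidirectProduct.inl : Multiplicative U →* Γ).range
  have hinl : Function.Injective (SemidirectProduct.inl : Multiplicative U →* Γ) := SemidirectProduct.inl_injective
  have hconj : ∀ (g : X) (u : Multiplicative U), ι g * SemidirectProduct.inl u * (ι g)⁻¹ =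
      SemidirectProduct.inl (φ g u) := fun g u => by
    show SemidirectProduct.inr g * _ * (SemidirectProduct.inr g)⁻¹ = _
    rw [← map_inv]
    exact (SemidirectProduct.inl_aut (φ := φ) g u).symm
  have hnormV : ∀ g : X, ι g ∈ normalizer (VΓ : Set Γ) := by
    intro g
    refine Subgroup.mem_normalizer_iff.mpr fun x => ⟨?_, ?_⟩
    · rintro ⟨u, rfl⟩; exact ⟨φ g u, (hconj g u).symm⟩
    · rintro ⟨u, e⟩
      refine ⟨φ g⁻¹ u, ?_⟩
      have := hconj g (φ g⁻¹ u)
      rw [map_inv, MulAut.apply_inv_self, e] at this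
      rw [map_inv]
      exact mul_left_cancel (mul_right_cancel this)
  have helem : Cfsg.IsElementaryAbelian p VΓ := by
    refine ⟨⟨⟨?_⟩⟩, ?_⟩
    · rintro ⟨_, u, rfl⟩ ⟨_, u', rfl⟩
      exact Subtype.ext (by
        show SemidirectProduct.inl u * SemidirectProduct.inl u' = SemidirectProduct.inl u' * SemidirectProduct.inl u
        rw [← map_mul, ← map_mul, mul_comm u u'])
    · rintro _ ⟨u, rfl⟩
      rw [← map_pow, show u ^ p = 1 from Subtype.ext (by
        show p • (u.toAdd : V) = 0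
        exact hpV _), map_one]
  have hfixR : ∀ u : V, ρ x₀ u = u → ∀ x ∈ R, ρ x u = u := by
    intro u hu x hx
    let S : Subgroup X :=
      { carrier := {x | ρ x u = u}
        one_mem' := ρone u
        mul_mem' := fun {x y} hx hy => by
          show ρ (x * y) u = u
          rw [ρmul, show ρ y u = u from hy, show ρ x u = u from hx]
        inv_mem' := fun {x} hx => by
          show ρ x⁻¹ u = u
          conv_lhs => rw [← show ρ x u = u from hx, ← ρmul, inv_mul_cancel, ρone] }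
    exact (zpowers_le (H := S)).mpr hu (hx₀.ge hx)
  have hord : orderOf (ι x₀) = r := by
    rw [orderOf_injective ι hι, ← Nat.card_zpowers, hx₀, hR]
  have hcfg : Cfg p r (ι x₀) (G.map ι) VΓ := by
    refine ⟨⟨hr, hord, Subgroup.le_normalizer_map ι ⟨x₀, ?_, rfl⟩, ?_⟩, helem, ?_, hnormV _, ?_⟩
    · rw [SetLike.mem_coe, Subgroup.normalizer_eq_top]; exact Subgroup.mem_top _
    · rwa [Subgroup.card_map_of_injective hι]
    · rintro _ ⟨g, -, rfl⟩; exact hnormV g
    · rintro _ ⟨u, rfl⟩ e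
      rw [← mul_inv_eq_iff_eq_mul, hconj] at e
      have e' : φ x₀ u = u := hinl e
      rw [show u = 1 from Subtype.ext (hfix _ (hfixR _ (congrArg (fun t : Multiplicative U => (t.toAdd : V)) e'))), map_one]
  have hrange : ∀ K : Subgroup Γ, G.map ι ≤ normalizer (K : Set Γ) → ι x₀ ∈ normalizer (K : Set Γ) →
      ι.range ≤ normalizer (K : Set Γ) := by
    intro K h1 h2
    rw [MonoidHom.range_eq_map, ← hX, Subgroup.map_sup, ← hx₀, MonoidHom.map_zpowers]
    exact sup_le h1 (zpowers_le.mpr h2)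
  have hfaithΓ : ι.range ⊓ centralizer (VΓ : Set Γ) = ⊥ := by
    refine (Subgroup.eq_bot_iff_forall _).mpr ?_
    rintro _ ⟨⟨g, rfl⟩, hg⟩
    rw [show g = 1 from hφ (by
      refine MulEquiv.ext fun u => hinl ?_
      rw [map_one, MulAut.one_apply]
      exact (hconj g u).symm.trans
        (mul_inv_eq_iff_eq_mul.mpr (Subgroup.mem_centralizer_iff.mp hg _ ⟨u, rfl⟩).symm)), map_one]
  -- normal `p`-subgroups are trivial
  have hpbot : ∀ K : Subgroup Γ, K ≤ ι.range → ι.range ≤ normalizer (K : Set Γ) → IsPGroup p K → K = ⊥ := by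
    intro K hK hKn hKp
    have hVne : VΓ ≠ ⊥ := by
      intro e
      have hv₀U : v₀ ∈ U := AddSubgroup.subset_closure ⟨1, ρone v₀⟩
      have hm : SemidirectProduct.inl (Multiplicative.ofAdd (⟨v₀, hv₀U⟩ : U)) ∈ VΓ := ⟨_, rfl⟩
      rw [e, Subgroup.mem_bot, ← map_one (SemidirectProduct.inl : Multiplicative U →* Γ)] at hm
      exact hv₀ (congrArg (fun t : Multiplicative U => (t.toAdd : V)) (hinl hm))
    have hne := Red.inf_centralizer_ne_bot hKp (fun x hx => by obtain ⟨g, rfl⟩ := hK hx; exact hnormV g)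
      (fun u => ⟨1, Subtype.ext (by rw [pow_one, Subgroup.coe_pow]; exact helem.2 _ u.2)⟩) hVne
    obtain ⟨_, ⟨⟨u, rfl⟩, huc⟩, hu1⟩ := Subgroup.bot_or_exists_ne_one _ |>.resolve_left hne
    haveI : (K.comap ι).Normal :=
      ⟨fun y hy x => by
        rw [Subgroup.mem_comap] at hy ⊢
        rw [map_mul, map_mul, map_inv]
        exact conj_mem (hKn ⟨x, rfl⟩) hy⟩
    have hbot : K.comap ι = ⊥ := hfixbot _ ⟨(u.toAdd : V), fun e => hu1 (by
        rw [show u = 1 from Subtype.ext e, map_one]), fun y hy => by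
      have h1 := (hconj y u).symm.trans
        (mul_inv_eq_iff_eq_mul.mpr (Subgroup.mem_centralizer_iff.mp huc _ hy))
      exact congrArg (fun t : Multiplicative U => (t.toAdd : V)) (hinl h1)⟩
    rw [← Subgroup.map_comap_eq_self hK, hbot, Subgroup.map_bot]
  -- the conclusion of the group theorem
  obtain ⟨N, hN1, hN2, hN3, hN4⟩ := good_of_no_setup hno Γ (ι x₀) (G.map ι) VΓ hcfg
  set E := br (G.map ι) (ι x₀) with hEdef
  have hEG : E ≤ G.map ι := br_le hcfg.act.norm
  have hGr : G.map ι ≤ ι.range := Subgroup.map_le_range ι G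
  have hNp : IsPGroup p N := fun x => by
    obtain ⟨j, hj⟩ := hN3 x x.2
    have hx : (x : Γ) ^ p ^ j ∈ ι.range ⊓ centralizer (VΓ : Set Γ) :=
      ⟨ι.range.pow_mem (hGr (hEG (hN1 x.2))) _, hj⟩
    rw [hfaithΓ, Subgroup.mem_bot] at hx
    exact ⟨j, Subtype.ext (by simpa using hx)⟩
  have hEn : ι.range ≤ normalizer (E : Set Γ) := hrange E le_norm_br norm_br
  have hNbot : N = ⊥ := le_bot_iff.mp ((Red.le_core hN1 hN2 hNp).trans
    (hpbot _ ((Red.core_le.trans hEG).trans hGr) (fun _ hx => Red.core_norm (hEn hx)) Red.core_isPGroup).le)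
  have hE2 : IsPGroup 2 E := fun d => by
    obtain ⟨j, hj⟩ := hN4 d d.2
    rw [hNbot, Subgroup.mem_bot] at hj
    exact ⟨j, Subtype.ext (by simpa using hj)⟩
  have hmap : (⁅G, R⁆ : Subgroup X).map ι = E := by
    rw [Subgroup.map_commutator, ← hx₀, MonoidHom.map_zpowers]
    rfl
  by_cases hne : (⁅G, R⁆ : Subgroup X) = ⊥
  · exact Or.inl hne
  refine Or.inr ?_
  by_cases hp2 : p = 2
  · refine absurd ((Subgroup.map_eq_bot_iff_of_injective _ hι).mp ?_) hne
    rw [hmap]
    exact hpbot E (hEG.trans hGr) hEn (hp2 ▸ hE2)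
  have hq : QGrp p 2 r (ι x₀) (G.map ι) VΓ E :=
    ⟨hcfg, le_bot_iff.mp ((inf_le_inf_right _ hGr).trans hfaithΓ.le), hEG, norm_br, hE2, Ne.symm hp2,
      hcfg.act.br_br⟩
  exact special_of_qgrp hq ι hι hmap hne

end Cfsg.Agent.Invol.Shult
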